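import Mathlib
import Groth.Agent.Lib.Helper2.Serre6
import Groth.Agent.Lib.Helper6.GrAvoid

/-! The degree of the Hilbert polynomial is less than the dimension of the support. -/

universe u
open DirectSum GrLC Groth.Agent.H6 Groth.Agent.H6.Gr
open scoped Pointwise
set_option linter.unusedSectionVars false

namespace Groth.Agent.H2.Serre

section Poly

open Polynomial

/-- the coefficient just below the top of `Q(X) - Q(X - e)` -/
theorem coeff_sub_comp (Q : ℚ[X]) (e : ℚ) (N : ℕ) (hN : Q.natDegree = N + 1) :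
    (Q - Q.comp (X - C e)).coeff N = ((N : ℚ) + 1) * Q.coeff (N + 1) * e := by
  have h1 : Q.comp (X - C e) = taylor (-e) Q := by
    rw [taylor_apply, C_neg, sub_eq_add_neg]
  rw [coeff_sub, h1, taylor_coeff]
  have hdeg : (hasseDeriv N Q).natDegree ≤ 1 := by
    refine le_trans (natDegree_hasseDeriv_le Q N) ?_
    omega
  rw [eq_X_add_C_of_natDegree_le_one hdeg, eval_add, eval_mul, eval_C, eval_X, eval_C,
    hasseDeriv_coeff, hasseDeriv_coeff]
  have h2 : (0 + N).choose N = 1 := by rw [zero_add, Nat.choose_self]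
  have h3 : (1 + N).choose N = N + 1 := by
    rw [add_comm 1 N, Nat.choose_succ_self_right]
  rw [h2, h3, zero_add, add_comm 1 N]
  push_cast
  ring

/-- if `Q(X) - Q(X - e)` has degree less than `k`, then `Q` has degree less than `k + 1` -/
theorem degree_lt_succ_of_diff (Q : ℚ[X]) (e : ℚ) (he : e ≠ 0) (k : ℕ)
    (h : (Q - Q.comp (X - C e)).degree < (k : WithBot ℕ)) : Q.degree < ((k + 1 : ℕ) : WithBot ℕ) := by
  by_contra hcon
  have hQ0 : Q ≠ 0 := by
    rintro rfl
    apply hcon
    rw [degree_zero]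
    exact WithBot.bot_lt_coe _
  have h1 : k + 1 ≤ Q.natDegree := by
    rw [not_lt, degree_eq_natDegree hQ0] at hcon
    exact_mod_cast hcon
  obtain ⟨N, hN⟩ : ∃ N, Q.natDegree = N + 1 := ⟨Q.natDegree - 1, by omega⟩
  have h2 := coeff_sub_comp Q e N hN
  have h3 : (Q - Q.comp (X - C e)).coeff N ≠ 0 := by
    rw [h2]
    have h4 : Q.coeff (N + 1) ≠ 0 := by
      rw [← hN]
      exact leadingCoeff_ne_zero.mpr hQ0
    have h5 : ((N : ℚ) + 1) ≠ 0 := by positivity
    exact mul_ne_zero (mul_ne_zero h5 h4) he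
  have h6 : (N : WithBot ℕ) ≤ (Q - Q.comp (X - C e)).degree := le_degree_of_ne_zero h3
  have h7 : (N : WithBot ℕ) < (k : WithBot ℕ) := lt_of_le_of_lt h6 h
  have h8 : N < k := by exact_mod_cast h7
  omega

end Poly

variable {R : Type u} [CommRing R] [IsNoetherianRing R] {𝒜 : ℤ → AddSubgroup R} [GradedRing 𝒜]
  (hpos : ∀ n : ℤ, n < 0 → 𝒜 n = ⊥)

section Nakayama

include hpos in
/-- a finitely generated graded module vanishes in small degrees -/
theorem exists_gr_eq_bot_of_lt (X : GMod.{u} 𝒜) [Module.Finite R X.carrier] :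
    ∃ n₀ : ℤ, ∀ n : ℤ, n < n₀ → X.gr n = ⊥ := by
  classical
  obtain ⟨κ, _, x, e, hx, hspan⟩ := exists_homogeneous_generators (R := R) X.gr
  by_cases hκ : Nonempty κ
  · refine ⟨Finset.univ.inf' Finset.univ_nonempty e, fun n hn => ?_⟩
    rw [eq_bot_iff]
    intro y hy
    rw [AddSubgroup.mem_bot]
    obtain ⟨c, hc, rfl⟩ := exists_decomp_of_generators (𝒜 := 𝒜) X.gr hx hspan hy
    refine Finset.sum_eq_zero fun j _ => ?_
    have h1 : n - e j < 0 := by
      have := Finset.inf'_le e (Finset.mem_univ j)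
      omega
    have h2 := hc j
    rw [hpos _ h1, AddSubgroup.mem_bot] at h2
    rw [h2, zero_smul]
  · refine ⟨0, fun n _ => ?_⟩
    rw [eq_bot_iff]
    intro y hy
    rw [AddSubgroup.mem_bot]
    obtain ⟨c, hc, rfl⟩ := exists_decomp_of_generators (𝒜 := 𝒜) X.gr hx hspan hy
    refine Finset.sum_eq_zero fun j _ => ?_
    exact absurd ⟨j⟩ hκ

include hpos in
/-- graded Nakayama for an element of positive degree -/
theorem subsingleton_of_smul_surjective (X : GMod.{u} 𝒜) [Module.Finite R X.carrier] {x : R}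
    {e : ℤ} (he : 0 < e) (hx : x ∈ 𝒜 e) (h : ∀ u : X.carrier, ∃ v : X.carrier, x • v = u) :
    Subsingleton X.carrier := by
  obtain ⟨n₀, hn₀⟩ := exists_gr_eq_bot_of_lt hpos X
  have key : ∀ (j : ℕ) (n : ℤ), n < n₀ + j → X.gr n = ⊥ := by
    intro j
    induction j with
    | zero =>
      intro n hn
      exact hn₀ n (by simpa using hn)
    | succ j ih =>
      intro n hn
      rw [eq_bot_iff]
      intro u hu
      rw [AddSubgroup.mem_bot]
      obtain ⟨v, hv⟩ := h u
      have h1 : proj X.gr n (x • v) = x • proj X.gr (n - e) v := proj_smul_of_mem' 𝒜 X.gr hx n v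
      have h2 : proj X.gr (n - e) v ∈ X.gr (n - e) := proj_mem X.gr (n - e) v
      rw [ih (n - e) (by push_cast at hn; omega), AddSubgroup.mem_bot] at h2
      rw [hv, proj_of_mem X.gr hu, h2, smul_zero] at h1
      exact h1
  refine ⟨fun a b => ?_⟩
  have hz : ∀ u : X.carrier, u = 0 := by
    intro u
    apply eq_zero_of_proj_eq_zero X.gr
    intro g
    have h1 := proj_mem X.gr g u
    rw [key (g - n₀ + 1).toNat g (by omega), AddSubgroup.mem_bot] at h1
    exact h1
  rw [hz a, hz b]

end Nakayama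

section Bound

variable [IsArtinianRing (GrLC.deg0 𝒜)] (m : HomogeneousIdeal 𝒜) (hm : GrLC.IsStarLocal 𝒜 m)
  (d : ℕ) (hd : ringKrullDim R = d)

include hpos hm in
/-- torsion with respect to the irrelevant ideal is torsion with respect to the *maximal ideal -/
theorem gam_irrelevant_le (Y : Type u) [AddCommGroup Y] [Module R Y] :
    GrLC.gam (Ideal.span (⋃ k ∈ Set.Ioi (0 : ℤ), (𝒜 k : Set R))) Y ≤ GrLC.gam m.toIdeal Y := by
  obtain ⟨N, hN⟩ := exists_pow_le_irrelevant hpos m hm
  rintro u ⟨j, hj⟩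
  refine ⟨N * j, fun r hr => hj r ?_⟩
  rw [pow_mul] at hr
  exact Ideal.pow_right_mono hN j hr

include hpos hm hd in
/-- the reduction step: modulo torsion there is a homogeneous regular element of positive
degree -/
theorem reduce (X : GMod.{u} 𝒜) [Module.Finite R X.carrier] :
    ∃ (L : GMod.{u} 𝒜) (_ : Module.Finite R L.carrier) (e : ℤ), 0 < e ∧
      Module.supportDim R L.carrier + 1 ≤ Module.supportDim R X.carrier ∧
      (∀ n : ℤ, Dl m d X n - Dl m d X (n - e) = Dl m d L n) ∧
      (Subsingleton L.carrier → ∀ n : ℤ, Dl m d X n = 0) := by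
  have hG := good hpos m hm d hd
  -- the torsion submodule and the quotient
  set Γ : Submodule R X.carrier := GrLC.gam m.toIdeal X.carrier with hΓ
  have hΓh : Γ.IsHomogeneous X.gr := gam_isHomogeneous 𝒜 X.gr m
  have hkq : (LinearMap.ker Γ.mkQ).IsHomogeneous X.gr := by rw [Submodule.ker_mkQ]; exact hΓh
  let G : GMod.{u} 𝒜 := GMod.ofSub 𝒜 X.gr hΓh
  let Y : GMod.{u} 𝒜 := GMod.ofQuot 𝒜 X.gr (Submodule.mkQ_surjective Γ) hkq
  haveI hGf : Module.Finite R G.carrier := (inferInstance : Module.Finite R ↥Γ)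
  haveI hYf : Module.Finite R Y.carrier := (inferInstance : Module.Finite R (X.carrier ⧸ Γ))
  let iG : G.carrier →ₗ[R] X.carrier := Γ.subtype
  let pY : X.carrier →ₗ[R] Y.carrier := Γ.mkQ
  have S0 : GrSES G.gr X.gr Y.gr iG pY :=
    { hi := fun g y hy => hy
      hp := fun g y hy => ⟨y, hy, rfl⟩
      inj := Subtype.val_injective
      surj := Submodule.mkQ_surjective _
      exact := by
        intro y
        constructor
        · intro hy
          have h1 : y ∈ Γ := (Submodule.Quotient.mk_eq_zero _).mp hy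
          exact ⟨⟨y, h1⟩, rfl⟩
        · rintro ⟨y', rfl⟩
          exact (Submodule.Quotient.mk_eq_zero _).mpr y'.2 }
  have hGt : ∀ u : G.carrier, u ∈ GrLC.gam m.toIdeal G.carrier := by
    intro u
    obtain ⟨j, hj⟩ := u.2
    exact ⟨j, fun r hr => Subtype.ext (hj r hr)⟩
  have hXY : ∀ n : ℤ, Dl m d X n = Dl m d Y n := by
    intro n
    rw [Dl_add hG S0 n, Dl_of_torsion hG G hGt n, zero_add]
  have hYtf : GrLC.gam m.toIdeal Y.carrier = ⊥ :=
    gam_quot_eq_bot m.toIdeal Y.carrier pY (Submodule.mkQ_surjective _) (Submodule.ker_mkQ Γ)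
  -- a homogeneous regular element
  have hS : ∀ x ∈ (⋃ n ∈ Set.Ioi (0 : ℤ), (𝒜 n : Set R)), ∃ n : ℤ, 0 < n ∧ x ∈ 𝒜 n := by
    intro x hx
    simp only [Set.mem_iUnion, Set.mem_Ioi, SetLike.mem_coe] at hx
    obtain ⟨n, hn, hxn⟩ := hx
    exact ⟨n, hn, hxn⟩
  obtain ⟨e, x, he, hxe, -, hreg⟩ := exists_homogeneous_regular 𝒜 _ hS (N := Y.carrier) (by
    rw [eq_bot_iff, ← hYtf]
    exact gam_irrelevant_le hpos m hm Y.carrier)
  -- the quotient by the regular element
  let Ys : GMod.{u} 𝒜 := Msh (𝒜 := 𝒜) Y.gr e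
  haveI : Module.Finite R Ys.carrier := finite_of_shift Y e
  let mx : Ys.carrier →ₗ[R] Y.carrier := LinearMap.lsmul R Y.carrier x
  have hmx : GrLC.IsGrHom Ys.gr Y.gr mx := lsmul_isGrHom_shift (𝒜 := 𝒜) (ℳ := Y.gr) e hxe
  have hrange : (LinearMap.range mx).IsHomogeneous Y.gr := range_isHomogeneous Ys.gr Y.gr hmx
  have hkq' : (LinearMap.ker (LinearMap.range mx).mkQ).IsHomogeneous Y.gr := by
    rw [Submodule.ker_mkQ]; exact hrange
  let L : GMod.{u} 𝒜 := GMod.ofQuot 𝒜 Y.gr (Submodule.mkQ_surjective (LinearMap.range mx)) hkq'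
  haveI hLf : Module.Finite R L.carrier :=
    (inferInstance : Module.Finite R (Y.carrier ⧸ LinearMap.range mx))
  let pL : Y.carrier →ₗ[R] L.carrier := (LinearMap.range mx).mkQ
  have S1 : GrSES Ys.gr Y.gr L.gr mx pL :=
    { hi := hmx
      hp := fun g y hy => ⟨y, hy, rfl⟩
      inj := by
        intro a b hab
        have h1 : x • (a - b) = 0 := by
          rw [smul_sub]
          exact sub_eq_zero.mpr hab
        exact sub_eq_zero.mp (hreg (a - b) h1)
      surj := Submodule.mkQ_surjective _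
      exact := by
        intro y
        constructor
        · intro hy
          exact (Submodule.Quotient.mk_eq_zero _).mp hy
        · intro hy
          exact (Submodule.Quotient.mk_eq_zero _).mpr hy }
  refine ⟨L, hLf, e, he, ?_, ?_, ?_⟩
  · -- dimension
    have h1 : LinearMap.range mx = x • (⊤ : Submodule R Y.carrier) := by
      ext y
      rw [Submodule.mem_smul_pointwise_iff_exists]
      constructor
      · rintro ⟨v, rfl⟩
        exact ⟨v, trivial, rfl⟩
      · rintro ⟨v, -, rfl⟩
        exact ⟨v, rfl⟩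
    have h2 : Module.supportDim R L.carrier = Module.supportDim R (QuotSMulTop x Y.carrier) :=
      Module.supportDim_eq_of_equiv (Submodule.quotEquivOfEq _ _ h1)
    have hreg' : IsSMulRegular Y.carrier x := by
      intro a b hab
      have h1 : x • (a - b) = 0 := by
        rw [smul_sub]
        exact sub_eq_zero.mpr hab
      exact sub_eq_zero.mp (hreg (a - b) h1)
    have h3 := Module.supportDim_quotSMulTop_succ_le_of_notMem_minimalPrimes (R := R)
      (M := Y.carrier) (x := x) (fun _ => hreg'.notMem_of_mem_minimalPrimes)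
    have h4 : Module.supportDim R Y.carrier ≤ Module.supportDim R X.carrier :=
      Module.supportDim_le_of_surjective pY (Submodule.mkQ_surjective _)
    rw [h2]
    exact le_trans h3 h4
  · intro n
    have h1 := Dl_add hG S1 n
    have h2 := Dl_shift hG Y e n
    change Dl m d Ys n = _ at h2
    rw [h2] at h1
    rw [hXY n, hXY (n - e)]
    linarith
  · intro hsub n
    have h1 : ∀ u : Y.carrier, ∃ v : Y.carrier, x • v = u := by
      intro u
      have h2 : pL u = 0 := Subsingleton.elim _ _
      exact (S1.exact u).mp h2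
    haveI := subsingleton_of_smul_surjective hpos Y he hxe h1
    rw [hXY n]
    apply Dl_of_torsion hG Y
    intro u
    rw [Subsingleton.elim u 0]
    exact Submodule.zero_mem _

include hpos hm hd in
/-- **the degree of the Hilbert polynomial is less than the dimension of the support** -/
theorem degree_lt : ∀ (k : ℕ) (X : GMod.{u} 𝒜) [Module.Finite R X.carrier],
    Module.supportDim R X.carrier ≤ (k : WithBot ℕ∞) → ∀ Q : Polynomial ℚ,
    (∀ n : ℤ, (Dl m d X n : ℚ) = Q.eval (n : ℚ)) → Q.degree < (k : WithBot ℕ) := by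
  intro k
  induction k with
  | zero =>
    intro X _ hX Q hQ
    obtain ⟨L, hLf, e, he, hdim, hdiff, hzero⟩ := reduce hpos m hm d hd X
    have h1 : Module.supportDim R L.carrier = ⊥ := by
      by_contra hne
      obtain ⟨a, ha⟩ := WithBot.ne_bot_iff_exists.mp hne
      rw [← ha] at hdim
      have h2 : ((a + 1 : ℕ∞) : WithBot ℕ∞) ≤ ((0 : ℕ∞) : WithBot ℕ∞) := le_trans hdim hX
      have h3 : a + 1 ≤ (0 : ℕ∞) := WithBot.coe_le_coe.mp h2
      simp at h3
    have h2 : Subsingleton L.carrier := (Module.supportDim_eq_bot_iff_subsingleton R L.carrier).mp h1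
    have h3 : Q = 0 := by
      apply Polynomial.eq_of_infinite_eval_eq
      apply Set.Infinite.mono (s := Set.range (fun k : ℕ => ((k : ℤ) : ℚ)))
      · rintro _ ⟨k, rfl⟩
        change Q.eval ((k : ℤ) : ℚ) = (0 : Polynomial ℚ).eval ((k : ℤ) : ℚ)
        rw [← hQ k, hzero h2 k]
        simp
      · apply Set.infinite_range_of_injective
        intro a b hab
        have : ((a : ℤ) : ℚ) = ((b : ℤ) : ℚ) := hab
        exact_mod_cast this
    rw [h3, Polynomial.degree_zero]
    exact WithBot.bot_lt_coe _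
  | succ k ih =>
    intro X _ hX Q hQ
    obtain ⟨L, hLf, e, he, hdim, hdiff, -⟩ := reduce hpos m hm d hd X
    have h1 : Module.supportDim R L.carrier ≤ (k : WithBot ℕ∞) := by
      have h2 := le_trans hdim hX
      generalize Module.supportDim R L.carrier = a at h2 ⊢
      induction a using WithBot.recBotCoe with
      | bot => exact bot_le
      | coe a =>
        have h3 : a + 1 ≤ ((k + 1 : ℕ) : ℕ∞) := by exact_mod_cast h2
        have h4 : a ≤ (k : ℕ∞) := by
          push_cast at h3
          exact (ENat.add_le_add_iff_right ENat.one_ne_top).mp h3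
        exact_mod_cast h4
    have hQ' : ∀ n : ℤ, (Dl m d L n : ℚ) =
        (Q - Q.comp (Polynomial.X - Polynomial.C (e : ℚ))).eval (n : ℚ) := by
      intro n
      rw [← hdiff n, Polynomial.eval_sub, Polynomial.eval_comp, Polynomial.eval_sub,
        Polynomial.eval_X, Polynomial.eval_C]
      push_cast
      rw [hQ n, hQ (n - e)]
      push_cast
      rfl
    have h2 := ih L h1 _ hQ'
    have he' : (e : ℚ) ≠ 0 := by exact_mod_cast (ne_of_gt he)
    exact degree_lt_succ_of_diff Q (e : ℚ) he' k h2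

end Bound

end Groth.Agent.H2.Serre
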