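import Mathlib
import Groth.Agent.Lib.Helper2.Serre7

/-! The a-invariant of a Cohen–Macaulay standard graded ring of dimension `d` is at least `-d`. -/

universe u
open DirectSum GrLC Groth.Agent.H6 Groth.Agent.H6.Gr
set_option linter.unusedSectionVars false

namespace Groth.Agent.H2.Serre

section Bridge

variable {R : Type u} [CommRing R] [IsNoetherianRing R] {𝒜 : ℤ → AddSubgroup R} [GradedRing 𝒜]
  {m : HomogeneousIdeal 𝒜} {c : ℕ} (hG : Good m c)

include hG in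
/-- the defect of an unbundled graded module, computed from any resolution -/
theorem Dl_of (M : Type u) [AddCommGroup M] [Module R M] (ℳ : ℤ → AddSubgroup M)
    [DirectSum.Decomposition ℳ] [SetLike.GradedSMul 𝒜 ℳ] (E : GrLC.StarInjRes 𝒜 ℳ) (n : ℤ) :
    Dl m c (GMod.of 𝒜 M ℳ) n = (len (GrLC.comp 𝒜 ℳ n) : ℤ) -
      ∑ q ∈ Finset.range (c + 1), (-1 : ℤ) ^ q * (cl E m q n : ℤ) := by
  unfold Dl
  rw [chi_eq hG (GMod.of 𝒜 M ℳ) E n]
  rfl

end Bridge

variable {R : Type u} [CommRing R] [hR : LocCoh.IsCohenMacaulayRing R] {𝒜 : ℤ → AddSubgroup R}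
  [GradedRing 𝒜] (hpos : ∀ n : ℤ, n < 0 → 𝒜 n = ⊥) [IsArtinianRing (GrLC.deg0 𝒜)]
  (m : HomogeneousIdeal 𝒜) (hm : GrLC.IsStarLocal 𝒜 m) (d : ℕ) (hd : ringKrullDim R = d)
  (hstd : Ideal.span (⋃ n ∈ Set.Ioi (0 : ℤ), (𝒜 n : Set R)) =
      Ideal.span ((𝒜 1 : AddSubgroup R) : Set R))

include hpos hm hd in
theorem cm_cl_eq_zero (I : GrLC.StarInjRes 𝒜 𝒜) (j : ℕ) (hj : j ≠ d) (n : ℤ) :
    cl I m j n = 0 := by
  unfold cl
  rw [cm_Hcomp_eq_bot hpos m hm d hd I j hj n, len_bot]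

include hpos hm hd hstd in
/-- the Hilbert polynomial of a Cohen–Macaulay standard graded ring: it exists, has degree less
than the dimension, and differs from the Hilbert function by the top local cohomology -/
theorem exists_hilbertPoly (I : GrLC.StarInjRes 𝒜 𝒜) :
    ∃ Q : Polynomial ℚ, Q.degree < (d : WithBot ℕ) ∧ ∀ n : ℤ,
      (len (GrLC.comp 𝒜 𝒜 n) : ℚ) - Q.eval (n : ℚ) = (-1 : ℚ) ^ d * (cl I m d n : ℚ) := by
  have hG := good hpos m hm d hd
  obtain ⟨T, hT, hgen⟩ := exists_gens hstd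
  haveI : Module.Finite R (GMod.of 𝒜 R 𝒜).carrier := (inferInstance : Module.Finite R R)
  obtain ⟨Q, hQ⟩ := exists_poly hG T hT hgen (GMod.of 𝒜 R 𝒜)
  refine ⟨Q, ?_, fun n => ?_⟩
  · apply degree_lt hpos m hm d hd d (GMod.of 𝒜 R 𝒜) _ Q hQ
    change Module.supportDim R R ≤ _
    rw [Module.supportDim_self_eq_ringKrullDim, hd]
  · rw [← hQ n, Dl_of hG R 𝒜 I n, Finset.sum_range_succ]
    have h1 : ∀ i ∈ Finset.range d, (-1 : ℤ) ^ i * (cl I m i n : ℤ) = 0 := by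
      intro i hi
      rw [cm_cl_eq_zero hpos m hm d hd I i (ne_of_lt (Finset.mem_range.mp hi)) n]
      simp
    rw [Finset.sum_eq_zero h1, zero_add]
    push_cast
    ring

include hpos in
theorem len_comp_neg (n : ℤ) (hn : n < 0) : len (GrLC.comp 𝒜 𝒜 n) = 0 := by
  have h1 : GrLC.comp 𝒜 𝒜 n = ⊥ := by
    rw [eq_bot_iff]
    intro y hy
    have h2 : y ∈ 𝒜 n := hy
    rw [hpos n hn, AddSubgroup.mem_bot] at h2
    rw [Submodule.mem_bot]
    exact h2
  rw [h1, len_bot]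

include hpos hm hd in
theorem len_comp_zero_pos : 0 < len (GrLC.comp 𝒜 𝒜 0) := by
  have hG := good hpos m hm d hd
  haveI : Nontrivial R := by
    by_contra h
    rw [not_nontrivial_iff_subsingleton] at h
    rw [ringKrullDim_eq_bot_of_subsingleton] at hd
    exact WithBot.bot_ne_coe hd
  haveI : Module.Finite R (GMod.of 𝒜 R 𝒜).carrier := (inferInstance : Module.Finite R R)
  unfold len
  have h1 : Module.length (GrLC.deg0 𝒜) (GrLC.comp 𝒜 𝒜 0) ≠ ⊤ := hG.fin_comp (GMod.of 𝒜 R 𝒜) 0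
  have h2 : Nontrivial ↥(GrLC.comp 𝒜 𝒜 0) := by
    refine ⟨⟨⟨(1 : R), (SetLike.GradedOne.one_mem : (1 : R) ∈ 𝒜 0)⟩, 0, fun h => ?_⟩⟩
    have := congrArg Subtype.val h
    exact one_ne_zero this
  have h3 : 0 < Module.length (GrLC.deg0 𝒜) (GrLC.comp 𝒜 𝒜 0) :=
    Module.length_pos_iff.mpr h2
  rw [Nat.pos_iff_ne_zero, Ne, ENat.toNat_eq_zero]
  rintro (h | h)
  · exact (ne_of_gt h3) h
  · exact h1 h

include hpos hm hd hstd in
/-- a nonzero piece of the top local cohomology in some degree `≥ -d` -/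
theorem exists_Hgr_ne_bot (I : GrLC.StarInjRes 𝒜 𝒜) :
    ∃ n : ℤ, -(d : ℤ) ≤ n ∧ I.Hgr m d n ≠ ⊥ := by
  by_contra hcon
  push Not at hcon
  obtain ⟨Q, hQdeg, hQ⟩ := exists_hilbertPoly hpos m hm d hd hstd I
  have hcl : ∀ n : ℤ, -(d : ℤ) ≤ n → cl I m d n = 0 := by
    intro n hn
    unfold cl
    have h1 : I.Hcomp m d n = ⊥ := by
      rw [eq_bot_iff]
      intro y hy
      have h2 : y ∈ I.Hgr m d n := hy
      rw [hcon n hn, AddSubgroup.mem_bot] at h2
      rw [Submodule.mem_bot]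
      exact h2
    rw [h1, len_bot]
  have hQn : ∀ n : ℤ, -(d : ℤ) ≤ n → Q.eval (n : ℚ) = (len (GrLC.comp 𝒜 𝒜 n) : ℚ) := by
    intro n hn
    have := hQ n
    rw [hcl n hn] at this
    simp only [Nat.cast_zero, mul_zero] at this
    linarith
  have hQ0 : Q = 0 := by
    by_contra hne
    have hnat : Q.natDegree < d := (Polynomial.natDegree_lt_iff_degree_lt hne).mpr hQdeg
    apply hne
    apply Polynomial.eq_zero_of_natDegree_lt_card_of_eval_eq_zero' Q
      ((Finset.range d).image (fun i : ℕ => (((-(i : ℤ) - 1 : ℤ)) : ℚ)))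
    · intro x hx
      obtain ⟨i, hi, rfl⟩ := Finset.mem_image.mp hx
      rw [hQn (-(i : ℤ) - 1) (by have := Finset.mem_range.mp hi; omega),
        len_comp_neg hpos (-(i : ℤ) - 1) (by omega)]
      rfl
    · rw [Finset.card_image_of_injective, Finset.card_range]
      · exact hnat
      · intro a b hab
        have h0 : (((-(a : ℤ) - 1 : ℤ)) : ℚ) = (((-(b : ℤ) - 1 : ℤ)) : ℚ) := hab
        have h1 : (-(a : ℤ) - 1 : ℤ) = (-(b : ℤ) - 1 : ℤ) := by exact_mod_cast h0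
        omega
  have h0 := hQn 0 (by omega)
  rw [hQ0] at h0
  have h1 := len_comp_zero_pos hpos m hm d hd
  simp only [Int.cast_zero, Polynomial.eval_zero] at h0
  have h2 : (len (GrLC.comp 𝒜 𝒜 0) : ℚ) ≠ 0 := by exact_mod_cast (ne_of_gt h1)
  exact h2 h0.symm

include hpos hm hd hstd in
/-- **S17771** -/
theorem neg_dim_le_endDeg (I : GrLC.StarInjRes 𝒜 𝒜) :
    (((-(d : ℤ) : ℤ) : WithTop ℤ) : WithBot (WithTop ℤ)) ≤ GrLC.endDeg (I.Hgr m d) := by
  obtain ⟨n, hn, hne⟩ := exists_Hgr_ne_bot hpos m hm d hd hstd I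
  unfold GrLC.endDeg
  refine le_trans ?_ (le_iSup₂ (f := fun (n : ℤ) (_ : I.Hgr m d n ≠ ⊥) =>
    ((n : WithTop ℤ) : WithBot (WithTop ℤ))) n hne)
  exact_mod_cast hn

end Groth.Agent.H2.Serre
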