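import Mathlib
import Groth.Agent.Lib.Helper2.Serre8
import Groth.Prelude.Def_GrSyz

/-! A standard graded algebra over a field is a graded quotient of a polynomial ring in
`dim R_1` variables. -/

universe u
open DirectSum GrLC Groth.Agent.H6 Groth.Agent.H6.Gr MvPolynomial
set_option linter.unusedSectionVars false

namespace Groth.Agent.H2.PolyIso

variable {R : Type u} [CommRing R] [IsNoetherianRing R] {𝒜 : ℤ → AddSubgroup R} [GradedRing 𝒜]
  (hpos : ∀ n : ℤ, n < 0 → 𝒜 n = ⊥)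

section Graded

variable {s : ℕ} (y : Fin s → R) (hy : ∀ i, y i ∈ 𝒜 1)

include hy in
/-- monomials in elements of degree one -/
theorem prod_pow_mem (d : Fin s →₀ ℕ) :
    (d.prod fun i k => y i ^ k) ∈ 𝒜 (Finsupp.weight (fun _ : Fin s => (1 : ℤ)) d) := by
  have h1 : (d.prod fun i k => y i ^ k) ∈ 𝒜 (∑ i ∈ d.support, d i • (1 : ℤ)) := by
    rw [Finsupp.prod]
    exact SetLike.prod_pow_mem_graded 𝒜 (fun _ => (1 : ℤ)) y (fun i => d i) (fun i _ => hy i)
  have h2 : Finsupp.weight (fun _ : Fin s => (1 : ℤ)) d = ∑ i ∈ d.support, d i • (1 : ℤ) := by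
    rw [Finsupp.weight_apply, Finsupp.sum]
  rw [h2]
  exact h1

include hy in
/-- evaluation at elements of degree one is a graded map -/
theorem aeval_mem (n : ℤ) (p : MvPolynomial (Fin s) (GrLC.deg0 𝒜))
    (hp : p ∈ GrSyz.stdGr (GrLC.deg0 𝒜) (Fin s) n) : aeval y p ∈ 𝒜 n := by
  rw [← MvPolynomial.support_sum_monomial_coeff p, map_sum]
  refine AddSubgroup.sum_mem _ (fun d hd => ?_)
  rw [aeval_monomial]
  have hcoef : coeff d p ≠ 0 := MvPolynomial.mem_support_iff.mp hd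
  have hw : Finsupp.weight (fun _ : Fin s => (1 : ℤ)) d = n := hp hcoef
  have h1 := prod_pow_mem y hy d
  rw [hw] at h1
  have h2 : algebraMap (GrLC.deg0 𝒜) R (coeff d p) ∈ 𝒜 0 := (coeff d p).2
  have h3 := SetLike.GradedMul.mul_mem h2 h1
  rwa [zero_add] at h3

end Graded

section Surj

variable (T : Finset R) (hT : ∀ t ∈ T, t ∈ 𝒜 1)
  (hgen : ∀ k : ℤ, 0 < k → ∀ r ∈ 𝒜 k, r ∈ Ideal.span (T : Set R))
  {s : ℕ} (y : Fin s → R) (hy : ∀ i, y i ∈ 𝒜 1)
  (hspan : ∀ z ∈ 𝒜 1, ∃ c : Fin s → GrLC.deg0 𝒜, z = ∑ i, (c i : R) * y i)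

include hpos hT hgen hy hspan in
/-- evaluation at a spanning family of the degree-one piece is surjective on every piece -/
theorem aeval_surj : ∀ (n : ℕ) (z : R), z ∈ 𝒜 (n : ℤ) →
    ∃ p ∈ GrSyz.stdGr (GrLC.deg0 𝒜) (Fin s) (n : ℤ), aeval y p = z := by
  classical
  let G : PosGens 𝒜 (Ideal.span (T : Set R)) :=
    { T := T
      d := fun _ => 1
      hd := fun x hx => ⟨one_pos, hT x hx⟩
      hspan := rfl }
  intro n
  induction n with
  | zero =>
    intro z hz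
    refine ⟨C (⟨z, hz⟩ : GrLC.deg0 𝒜), ?_, ?_⟩
    · exact MvPolynomial.isWeightedHomogeneous_C _ _
    · rw [aeval_C]
      rfl
  | succ n ih =>
    intro z hz
    obtain ⟨c, hc, hzc⟩ := G.exists_decomp hgen (n := ((n + 1 : ℕ) : ℤ)) (by positivity) hz
    have hc' : ∀ x, c x ∈ 𝒜 (n : ℤ) := by
      intro x
      have := hc x
      change c x ∈ 𝒜 (((n + 1 : ℕ) : ℤ) - 1) at this
      rwa [show (((n + 1 : ℕ) : ℤ) - 1) = (n : ℤ) by push_cast; ring] at this
    choose P hP1 hP2 using fun x => ih (c x) (hc' x)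
    have hlin : ∀ x ∈ T, ∃ l ∈ GrSyz.stdGr (GrLC.deg0 𝒜) (Fin s) 1, aeval y l = x := by
      intro x hx
      obtain ⟨a, ha⟩ := hspan x (hT x hx)
      refine ⟨∑ i, C (a i) * X i, ?_, ?_⟩
      · refine Submodule.sum_mem _ (fun i _ => ?_)
        have h1 : (C (a i) : MvPolynomial (Fin s) (GrLC.deg0 𝒜)) ∈
            GrSyz.stdGr (GrLC.deg0 𝒜) (Fin s) 0 := MvPolynomial.isWeightedHomogeneous_C _ _
        have h2 : (X i : MvPolynomial (Fin s) (GrLC.deg0 𝒜)) ∈
            GrSyz.stdGr (GrLC.deg0 𝒜) (Fin s) 1 := MvPolynomial.isWeightedHomogeneous_X _ _ _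
        have h3 := SetLike.GradedMul.mul_mem h1 h2
        rwa [zero_add] at h3
      · rw [map_sum, ha]
        refine Finset.sum_congr rfl (fun i _ => ?_)
        rw [map_mul, aeval_C, aeval_X]
        rfl
    choose! L hL1 hL2 using hlin
    refine ⟨∑ x ∈ T, P x * L x, ?_, ?_⟩
    · refine Submodule.sum_mem _ (fun x hx => ?_)
      have h3 := SetLike.GradedMul.mul_mem (hP1 x) (hL1 x hx)
      have : ((n : ℤ) + 1) = ((n + 1 : ℕ) : ℤ) := by push_cast; ring
      rwa [this] at h3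
    · rw [map_sum, hzc]
      refine Finset.sum_congr rfl (fun x hx => ?_)
      rw [map_mul, hP2 x, hL2 x hx]

end Surj

end Groth.Agent.H2.PolyIso
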