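import Mathlib
import Groth.Agent.Lib.Helper2.PolyIso1
import Groth.Agent.Lib.Helper2.DimFG
import Groth.Agent.Lib.Helper2.GrCM3

/-! A standard graded algebra of dimension `s` over a field whose degree-one piece is spanned by
`s` elements is a polynomial ring. -/

universe u
open DirectSum GrLC Groth.Agent.H6 Groth.Agent.H6.Gr MvPolynomial
set_option linter.unusedSectionVars false

namespace Groth.Agent.H2.PolyIso

variable {R : Type u} [CommRing R] [IsNoetherianRing R] {𝒜 : ℤ → AddSubgroup R} [GradedRing 𝒜]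
  (hpos : ∀ n : ℤ, n < 0 → 𝒜 n = ⊥) (h0 : IsField (GrLC.deg0 𝒜))
  (hstd : Ideal.span (⋃ n ∈ Set.Ioi (0 : ℤ), (𝒜 n : Set R)) =
    Ideal.span ((𝒜 1 : AddSubgroup R) : Set R))
  {s : ℕ} (y : Fin s → R) (hy : ∀ i, y i ∈ 𝒜 1)
  (hspan : ∀ z ∈ 𝒜 1, ∃ c : Fin s → GrLC.deg0 𝒜, z = ∑ i, (c i : R) * y i)

include hpos hstd hy hspan in
theorem aeval_surjective :
    Function.Surjective (aeval y : MvPolynomial (Fin s) (GrLC.deg0 𝒜) → R) := by
  obtain ⟨T, hT, hgen⟩ := Serre.exists_gens hstd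
  intro x
  induction x using DirectSum.Decomposition.inductionOn 𝒜 with
  | zero => exact ⟨0, map_zero _⟩
  | @homogeneous i x =>
    obtain ⟨x, hx⟩ := x
    by_cases hi : i < 0
    · rw [hpos i hi, AddSubgroup.mem_bot] at hx
      exact ⟨0, (map_zero _).trans hx.symm⟩
    · obtain ⟨n, rfl⟩ := Int.eq_ofNat_of_zero_le (not_lt.mp hi)
      obtain ⟨p, -, hp⟩ := aeval_surj hpos T hT hgen y hy hspan n x hx
      exact ⟨p, hp⟩
  | add a b ha hb =>
    obtain ⟨p, rfl⟩ := ha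
    obtain ⟨q, rfl⟩ := hb
    exact ⟨p + q, map_add _ _ _⟩

include hpos h0 hstd hy hspan in
theorem aeval_injective (hr : ringKrullDim R = s) :
    Function.Injective (aeval y : MvPolynomial (Fin s) (GrLC.deg0 𝒜) → R) := by
  haveI : IsDomain (GrLC.deg0 𝒜) := h0.isDomain
  have hsurj := aeval_surjective hpos hstd y hy hspan
  rw [injective_iff_map_eq_zero]
  intro x hx
  by_contra hne
  have hnzd : x ∈ nonZeroDivisors (MvPolynomial (Fin s) (GrLC.deg0 𝒜)) :=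
    mem_nonZeroDivisors_of_ne_zero hne
  have h1 := ringKrullDim_quotient_succ_le_of_nonZeroDivisor hnzd
  let ψ : MvPolynomial (Fin s) (GrLC.deg0 𝒜) ⧸ Ideal.span {x} →+* R :=
    Ideal.Quotient.lift _ (aeval y : MvPolynomial (Fin s) (GrLC.deg0 𝒜) →ₐ[GrLC.deg0 𝒜] R).toRingHom
      (by
        intro a ha
        obtain ⟨b, rfl⟩ := Ideal.mem_span_singleton'.mp ha
        change aeval y (b * x) = 0
        rw [map_mul, hx, mul_zero])
  have hψ : Function.Surjective ψ := by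
    intro z
    obtain ⟨p, rfl⟩ := hsurj z
    exact ⟨Ideal.Quotient.mk _ p, rfl⟩
  have h2 : ringKrullDim R ≤
      ringKrullDim (MvPolynomial (Fin s) (GrLC.deg0 𝒜) ⧸ Ideal.span {x}) :=
    ringKrullDim_le_of_surjective ψ hψ
  have hdim : ringKrullDim (MvPolynomial (Fin s) (GrLC.deg0 𝒜)) = s := by
    letI : Field (GrLC.deg0 𝒜) := h0.toField
    exact DimFG.ringKrullDim_mvPolynomial_fin _ s
  rw [hdim] at h1
  rw [hr] at h2
  have h3 : ((s : ℕ) : WithBot ℕ∞) + 1 ≤ ((s : ℕ) : WithBot ℕ∞) :=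
    le_trans (add_le_add_left h2 1) h1
  have h4 : ((s + 1 : ℕ) : WithBot ℕ∞) ≤ ((s : ℕ) : WithBot ℕ∞) := by
    push_cast
    exact h3
  have h5 : (s + 1 : ℕ) ≤ s := by exact_mod_cast h4
  omega

include hpos h0 hstd hy hspan in
/-- the pieces of the ring are those of the polynomial ring -/
theorem length_comp_eq (hr : ringKrullDim R = s) (n : ℤ) :
    Module.length (GrLC.deg0 𝒜) (GrLC.comp 𝒜 𝒜 n) =
      Module.length (GrLC.deg0 𝒜) (GrSyz.stdGr (GrLC.deg0 𝒜) (Fin s) n) := by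
  have hinj := aeval_injective hpos h0 hstd y hy hspan hr
  obtain ⟨T, hT, hgen⟩ := Serre.exists_gens hstd
  let f : GrSyz.stdGr (GrLC.deg0 𝒜) (Fin s) n →ₗ[GrLC.deg0 𝒜] GrLC.comp 𝒜 𝒜 n :=
    { toFun := fun p => ⟨aeval y (p : MvPolynomial (Fin s) (GrLC.deg0 𝒜)),
        aeval_mem y hy n p p.2⟩
      map_add' := fun p q => Subtype.ext (map_add _ _ _)
      map_smul' := fun c p => Subtype.ext (map_smul _ _ _) }
  have hf : Function.Bijective f := by
    constructor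
    · intro p q hpq
      have h1 : aeval y (p : MvPolynomial (Fin s) (GrLC.deg0 𝒜)) =
          aeval y (q : MvPolynomial (Fin s) (GrLC.deg0 𝒜)) := congrArg Subtype.val hpq
      exact Subtype.ext (hinj h1)
    · rintro ⟨z, hz⟩
      have hz' : z ∈ 𝒜 n := hz
      by_cases hn : n < 0
      · rw [hpos n hn, AddSubgroup.mem_bot] at hz'
        refine ⟨0, Subtype.ext ?_⟩
        change aeval y (0 : MvPolynomial (Fin s) (GrLC.deg0 𝒜)) = z
        rw [map_zero, hz']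
      · obtain ⟨j, rfl⟩ := Int.eq_ofNat_of_zero_le (not_lt.mp hn)
        obtain ⟨p, hp1, hp2⟩ := aeval_surj hpos T hT hgen y hy hspan j z hz'
        exact ⟨⟨p, hp1⟩, Subtype.ext hp2⟩
  exact (LinearEquiv.ofBijective f hf).length_eq.symm

omit [IsNoetherianRing R] in
/-- polynomials in no variables are concentrated in degree zero -/
theorem stdGr_fin_zero (K : Type u) [CommRing K] (n : ℤ) (hn : n ≠ 0) :
    GrSyz.stdGr K (Fin 0) n = ⊥ := by
  rw [eq_bot_iff]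
  intro p hp
  rw [Submodule.mem_bot]
  ext d
  rw [coeff_zero]
  by_contra hne
  have hw : Finsupp.weight (fun _ : Fin 0 => (1 : ℤ)) d = n := hp hne
  have hd : d = 0 := Subsingleton.elim _ _
  rw [hd, map_zero] at hw
  exact hn hw.symm

include hpos h0 hstd in
theorem len_comp_zero_vars (y : Fin 0 → R) (hy : ∀ i, y i ∈ 𝒜 1)
    (hspan : ∀ z ∈ 𝒜 1, ∃ c : Fin 0 → GrLC.deg0 𝒜, z = ∑ i, (c i : R) * y i)
    (hr : ringKrullDim R = (0 : ℕ)) (n : ℤ) (hn : n ≠ 0) :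
    Serre.len (GrLC.comp 𝒜 𝒜 n) = 0 := by
  unfold Serre.len
  rw [length_comp_eq hpos h0 hstd y hy hspan hr n, stdGr_fin_zero _ n hn]
  have : Module.length (GrLC.deg0 𝒜)
      ↥(⊥ : Submodule (GrLC.deg0 𝒜) (MvPolynomial (Fin 0) (GrLC.deg0 𝒜))) = 0 :=
    Module.length_eq_zero
  rw [this]
  rfl

include hpos h0 hstd in
theorem len_comp_succ_vars (r' : ℕ) (y : Fin (r' + 1) → R) (hy : ∀ i, y i ∈ 𝒜 1)
    (hspan : ∀ z ∈ 𝒜 1, ∃ c : Fin (r' + 1) → GrLC.deg0 𝒜, z = ∑ i, (c i : R) * y i)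
    (hr : ringKrullDim R = ((r' + 1 : ℕ))) (n : ℤ) (hn : -(r' : ℤ) ≤ n) :
    (Serre.len (GrLC.comp 𝒜 𝒜 n) : ℚ) = (GrCM.B r').eval (n : ℚ) := by
  unfold Serre.len
  rw [length_comp_eq hpos h0 hstd y hy hspan hr n]
  letI : Field (GrLC.deg0 𝒜) := h0.toField
  rw [← GrCM.hS_eq_eval_B (GrLC.deg0 𝒜) r' n hn]
  unfold GrCM.hS
  rw [Module.length_eq_finrank]
  rfl

end Groth.Agent.H2.PolyIso
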