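import Mathlib
import Groth.Agent.Lib.Helper2.PolyIso2

/-! The a-invariant of a Cohen–Macaulay standard graded algebra over a field versus the number
of generators of its degree-one piece. -/

universe u
open DirectSum GrLC Groth.Agent.H6 Groth.Agent.H6.Gr MvPolynomial
set_option linter.unusedSectionVars false

namespace Groth.Agent.H2.PolyIso

variable {R : Type u} [CommRing R] [hR : LocCoh.IsCohenMacaulayRing R] {𝒜 : ℤ → AddSubgroup R}
  [GradedRing 𝒜] (hpos : ∀ n : ℤ, n < 0 → 𝒜 n = ⊥) (h0 : IsField (GrLC.deg0 𝒜))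
  [IsArtinianRing (GrLC.deg0 𝒜)]
  (m : HomogeneousIdeal 𝒜) (hm : GrLC.IsStarLocal 𝒜 m) (r : ℕ) (hr : ringKrullDim R = r)
  (hstd : Ideal.span (⋃ n ∈ Set.Ioi (0 : ℤ), (𝒜 n : Set R)) =
      Ideal.span ((𝒜 1 : AddSubgroup R) : Set R))

include hpos h0 hm hr hstd in
/-- if the degree-one piece is spanned by `dim R` elements, then `a(R) = - dim R` -/
theorem endDeg_eq_of_span (y : Fin r → R) (hy : ∀ i, y i ∈ 𝒜 1)
    (hspan : ∀ z ∈ 𝒜 1, ∃ c : Fin r → GrLC.deg0 𝒜, z = ∑ i, (c i : R) * y i)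
    (I : GrLC.StarInjRes 𝒜 𝒜) :
    GrLC.endDeg (I.Hgr m r) = (((-(r : ℤ) : ℤ) : WithTop ℤ) : WithBot (WithTop ℤ)) := by
  apply le_antisymm _ (Serre.neg_dim_le_endDeg hpos m hm r hr hstd I)
  obtain ⟨P, hP⟩ : ∃ P : Polynomial ℚ, ∀ n : ℤ, -(r : ℤ) < n →
      P.eval (n : ℚ) = (Serre.len (GrLC.comp 𝒜 𝒜 n) : ℚ) := by
    cases r with
    | zero =>
      refine ⟨0, fun n hn => ?_⟩
      rw [len_comp_zero_vars hpos h0 hstd y hy hspan hr n (by
        intro h
        rw [h] at hn
        simp at hn)]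
      simp
    | succ r' =>
      refine ⟨GrCM.B r', fun n hn => ?_⟩
      exact (len_comp_succ_vars hpos h0 hstd r' y hy hspan hr n (by
        push_cast at hn
        omega)).symm
  unfold GrLC.endDeg
  refine iSup₂_le (fun n hne => ?_)
  by_contra hlt
  have hn : -(r : ℤ) < n := by
    by_contra h
    apply hlt
    exact_mod_cast (not_lt.mp h)
  have h1 := (Serre.cm_Hgr_ne_bot_iff hpos m hm r hr hstd I P
    ⟨-(r : ℤ) + 1, fun n hn => hP n (by omega)⟩ n).mp hne
  exact h1 (hP n hn)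

omit hR [IsArtinianRing (GrLC.deg0 𝒜)] in
include h0 in
/-- the degree-zero piece has length one -/
theorem len_comp_zero_eq_one : Serre.len (GrLC.comp 𝒜 𝒜 0) = 1 := by
  letI : Field (GrLC.deg0 𝒜) := h0.toField
  let e : (GrLC.deg0 𝒜) ≃ₗ[GrLC.deg0 𝒜] GrLC.comp 𝒜 𝒜 0 :=
    { toFun := fun c => ⟨(c : R), c.2⟩
      invFun := fun z => ⟨(z : R), z.2⟩
      map_add' := fun a b => rfl
      map_smul' := fun a b => rfl
      left_inv := fun a => rfl
      right_inv := fun a => rfl }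
  unfold Serre.len
  rw [← e.length_eq, Module.length_eq_finrank, Module.finrank_self]
  rfl

omit hR [IsArtinianRing (GrLC.deg0 𝒜)] in
lemma degree_B_le (r' : ℕ) : (GrCM.B r').degree ≤ (r' : WithBot ℕ) := by
  unfold GrCM.B
  refine le_trans Polynomial.degree_le_natDegree ?_
  have h0 := Polynomial.natDegree_C_mul_le (1 / (r'.factorial : ℚ))
    ((ascPochhammer ℚ r').comp (Polynomial.X + 1))
  have h1 : ((ascPochhammer ℚ r').comp (Polynomial.X + 1)).natDegree ≤ r' := by
    refine le_trans Polynomial.natDegree_comp_le ?_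
    rw [ascPochhammer_natDegree]
    have : (Polynomial.X + 1 : Polynomial ℚ).natDegree ≤ 1 := by
      have := Polynomial.natDegree_X_add_C (R := ℚ) 1
      rw [map_one] at this
      rw [this]
    calc r' * (Polynomial.X + 1 : Polynomial ℚ).natDegree ≤ r' * 1 := Nat.mul_le_mul_left _ this
      _ = r' := mul_one _
  exact_mod_cast le_trans h0 h1

include hpos h0 hm hr hstd in
/-- if `a(R) = - dim R`, then the degree-one piece is spanned by `dim R` elements -/
theorem exists_span_of_endDeg (I : GrLC.StarInjRes 𝒜 𝒜)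
    (h : GrLC.endDeg (I.Hgr m r) = (((-(r : ℤ) : ℤ) : WithTop ℤ) : WithBot (WithTop ℤ))) :
    ∃ y : Fin r → R, (∀ i, y i ∈ 𝒜 1) ∧
      ∀ z ∈ 𝒜 1, ∃ c : Fin r → GrLC.deg0 𝒜, z = ∑ i, (c i : R) * y i := by
  -- (a) vanishing above `-r`
  have ha : ∀ n : ℤ, -(r : ℤ) < n → I.Hgr m r n = ⊥ := by
    intro n hn
    by_contra hne
    have h1 : ((n : WithTop ℤ) : WithBot (WithTop ℤ)) ≤ GrLC.endDeg (I.Hgr m r) := by
      unfold GrLC.endDeg
      exact le_iSup₂ (f := fun (n : ℤ) (_ : I.Hgr m r n ≠ ⊥) =>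
        ((n : WithTop ℤ) : WithBot (WithTop ℤ))) n hne
    rw [h] at h1
    have h2 : n ≤ -(r : ℤ) := by exact_mod_cast h1
    omega
  -- (b) the Hilbert polynomial
  obtain ⟨Q, hQdeg, hQ⟩ := Serre.exists_hilbertPoly hpos m hm r hr hstd I
  have hcl : ∀ n : ℤ, -(r : ℤ) < n → Serre.cl I m r n = 0 := by
    intro n hn
    unfold Serre.cl
    have h1 : I.Hcomp m r n = ⊥ := by
      rw [eq_bot_iff]
      intro y hy
      have h2 : y ∈ I.Hgr m r n := hy
      rw [ha n hn, AddSubgroup.mem_bot] at h2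
      rw [Submodule.mem_bot]
      exact h2
    rw [h1, Serre.len_bot]
  have hQn : ∀ n : ℤ, -(r : ℤ) < n → Q.eval (n : ℚ) = (Serre.len (GrLC.comp 𝒜 𝒜 n) : ℚ) := by
    intro n hn
    have := hQ n
    rw [hcl n hn] at this
    simp only [Nat.cast_zero, mul_zero] at this
    linarith
  -- (c) the value at one
  have hone : Serre.len (GrLC.comp 𝒜 𝒜 1) = r := by
    have h1 := hQn 1 (by omega)
    cases r with
    | zero =>
      have h2 : Q = 0 := by
        rw [← Polynomial.degree_eq_bot]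
        exact Nat.WithBot.lt_zero_iff.mp hQdeg
      rw [h2] at h1
      simp only [Polynomial.eval_zero] at h1
      exact_mod_cast h1.symm
    | succ r' =>
      have hQB : Q = GrCM.B r' := by
        apply Polynomial.eq_of_degrees_lt_of_eval_finset_eq
          ((Finset.range (r' + 1)).image (fun i : ℕ => (((-(i : ℤ) : ℤ)) : ℚ)))
        · rw [Finset.card_image_of_injective, Finset.card_range]
          · exact hQdeg
          · intro a b hab
            have h0' : (((-(a : ℤ) : ℤ)) : ℚ) = (((-(b : ℤ) : ℤ)) : ℚ) := hab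
            have h1' : (-(a : ℤ) : ℤ) = (-(b : ℤ) : ℤ) := by exact_mod_cast h0'
            omega
        · rw [Finset.card_image_of_injective, Finset.card_range]
          · refine lt_of_le_of_lt (degree_B_le r') ?_
            exact_mod_cast Nat.lt_succ_self r'
          · intro a b hab
            have h0' : (((-(a : ℤ) : ℤ)) : ℚ) = (((-(b : ℤ) : ℤ)) : ℚ) := hab
            have h1' : (-(a : ℤ) : ℤ) = (-(b : ℤ) : ℤ) := by exact_mod_cast h0'
            omega
        · intro x hx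
          obtain ⟨i, hi, rfl⟩ := Finset.mem_image.mp hx
          have hi' := Finset.mem_range.mp hi
          rw [hQn (-(i : ℤ)) (by push_cast; omega)]
          rcases Nat.eq_zero_or_pos i with h | h
          · subst h
            have h3 := GrCM.eval_B_nat r' 0
            simp only [Nat.cast_zero, add_zero, Nat.choose_self, Nat.cast_one] at h3
            simp only [Nat.cast_zero, neg_zero, Int.cast_zero]
            rw [h3, len_comp_zero_eq_one h0]
            simp
          · rw [Serre.len_comp_neg hpos (-(i : ℤ)) (by omega),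
              GrCM.eval_B_neg r' (-(i : ℤ)) (by omega) (by omega)]
            simp
      rw [hQB] at h1
      have h3 := GrCM.eval_B_nat r' 1
      rw [Nat.choose_succ_self_right] at h3
      have h4 : (((1 : ℤ)) : ℚ) = ((1 : ℕ) : ℚ) := by norm_cast
      rw [h4, h3] at h1
      exact_mod_cast h1.symm
  -- (d) a basis of the degree-one piece
  let _ : Field (GrLC.deg0 𝒜) := h0.toField
  have hG := Serre.good hpos m hm r hr
  haveI : Module.Finite R (GMod.of 𝒜 R 𝒜).carrier := (inferInstance : Module.Finite R R)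
  have hfin : Module.length (GrLC.deg0 𝒜) (GrLC.comp 𝒜 𝒜 1) ≠ ⊤ :=
    hG.fin_comp (GMod.of 𝒜 R 𝒜) 1
  have hfl : IsFiniteLength (GrLC.deg0 𝒜) (GrLC.comp 𝒜 𝒜 1) := Module.length_ne_top_iff.mp hfin
  obtain ⟨hN, -⟩ := isFiniteLength_iff_isNoetherian_isArtinian.mp hfl
  haveI : Module.Finite (GrLC.deg0 𝒜) (GrLC.comp 𝒜 𝒜 1) := inferInstance
  have hrank : Module.finrank (GrLC.deg0 𝒜) (GrLC.comp 𝒜 𝒜 1) = r := by
    have h1 := Module.length_eq_finrank (GrLC.deg0 𝒜) (GrLC.comp 𝒜 𝒜 1)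
    unfold Serre.len at hone
    rw [h1] at hone
    exact hone
  let b := Module.finBasisOfFinrankEq (GrLC.deg0 𝒜) (GrLC.comp 𝒜 𝒜 1) hrank
  refine ⟨fun i => ((b i : GrLC.comp 𝒜 𝒜 1) : R), fun i => (b i).2, fun z hz => ?_⟩
  have hz' : z ∈ GrLC.comp 𝒜 𝒜 1 := hz
  refine ⟨fun i => b.repr ⟨z, hz'⟩ i, ?_⟩
  have h1 := b.sum_repr ⟨z, hz'⟩
  have h2 : (Submodule.subtype (GrLC.comp 𝒜 𝒜 1)) (∑ i, b.repr ⟨z, hz'⟩ i • b i) = z := by
    rw [h1]
    rfl
  rw [map_sum] at h2
  exact h2.symm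

end Groth.Agent.H2.PolyIso
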