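import Mathlib
import Groth.Agent.Lib.Helper2.GrMono1
import Groth.Agent.Lib.Helper6.GrEssUngr

/-! A positively graded regular ring over a field of dimension `r` has its degree-one piece
spanned by `r` elements. -/

universe u
open DirectSum GrLC Groth.Agent.H6 Groth.Agent.H6.Gr
set_option linter.unusedSectionVars false

namespace Groth.Agent.H2.PolyIso

section Loc

variable {R : Type u} [CommRing R] [IsNoetherianRing R] (M : Ideal R) [M.IsPrime]

/-- generators of the maximal ideal of a regular localization, pulled back to the ring -/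
theorem exists_gens_of_regular (r : ℕ) [IsRegularLocalRing (Localization.AtPrime M)]
    (hdim : ringKrullDim (Localization.AtPrime M) = r) :
    ∃ a : Fin r → R, (∀ i, a i ∈ M) ∧
      ∀ z ∈ M, ∃ w, w ∉ M ∧ w * z ∈ Ideal.span (Set.range a) := by
  classical
  have hsf : (IsLocalRing.maximalIdeal (Localization.AtPrime M)).spanFinrank = r := by
    have h := IsRegularLocalRing.spanFinrank_maximalIdeal (R := Localization.AtPrime M)
    rw [hdim] at h
    exact_mod_cast h
  obtain ⟨s, hs₁, hs₂⟩ := Submodule.FG.exists_span_finset_card_eq_spanFinrank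
    (IsLocalRing.maximalIdeal (Localization.AtPrime M)).fg_of_isNoetherianRing
  have hcard : s.card = r := hs₁.trans hsf
  let e : s ≃ Fin r := s.equivFinOfCardEq hcard
  have hsurj : ∀ z : Localization.AtPrime M, ∃ (x : R) (y : M.primeCompl),
      IsLocalization.mk' (Localization.AtPrime M) x y = z :=
    fun z => IsLocalization.exists_mk'_eq M.primeCompl z
  choose num den hnd using hsurj
  let a : Fin r → R := fun i => num ((e.symm i : s) : Localization.AtPrime M)
  have hmap : (Ideal.span (Set.range a)).map (algebraMap R (Localization.AtPrime M)) =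
      IsLocalRing.maximalIdeal (Localization.AtPrime M) := by
    rw [Ideal.map_span, ← hs₂]
    apply le_antisymm
    · rw [Ideal.span_le]
      rintro _ ⟨_, ⟨i, rfl⟩, rfl⟩
      have h1 := hnd ((e.symm i : s) : Localization.AtPrime M)
      rw [IsLocalization.mk'_eq_iff_eq_mul] at h1
      change algebraMap R (Localization.AtPrime M) (num ((e.symm i : s) : Localization.AtPrime M))
        ∈ _
      rw [h1]
      exact Ideal.mul_mem_right _ _ (Submodule.subset_span (e.symm i).2)
    · rw [Submodule.span_le]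
      intro x hx
      have h1 := hnd x
      rw [IsLocalization.mk'_eq_mul_mk'_one] at h1
      rw [SetLike.mem_coe, ← h1]
      apply Ideal.mul_mem_right
      apply Ideal.subset_span
      refine ⟨num x, ⟨e ⟨x, hx⟩, ?_⟩, rfl⟩
      change num ((e.symm (e ⟨x, hx⟩) : s) : Localization.AtPrime M) = num x
      rw [Equiv.symm_apply_apply]
  refine ⟨a, ?_, ?_⟩
  · intro i
    have h1 : algebraMap R (Localization.AtPrime M) (a i) ∈
        IsLocalRing.maximalIdeal (Localization.AtPrime M) := by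
      rw [← hmap]
      exact Ideal.mem_map_of_mem _ (Ideal.subset_span ⟨i, rfl⟩)
    exact (IsLocalization.AtPrime.to_map_mem_maximal_iff (Localization.AtPrime M) M (a i)).mp h1
  · intro z hz
    have h1 : algebraMap R (Localization.AtPrime M) z ∈
        (Ideal.span (Set.range a)).map (algebraMap R (Localization.AtPrime M)) := by
      rw [hmap]
      exact (IsLocalization.AtPrime.to_map_mem_maximal_iff (Localization.AtPrime M) M z).mpr hz
    rw [IsLocalization.mem_map_algebraMap_iff M.primeCompl] at h1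
    obtain ⟨⟨⟨j, hj⟩, u⟩, hju⟩ := h1
    rw [← map_mul, IsLocalization.eq_iff_exists M.primeCompl] at hju
    obtain ⟨c, hc⟩ := hju
    refine ⟨(c : R) * (u : R), ?_, ?_⟩
    · exact (M.primeCompl.mul_mem c.2 u.2)
    · have h2 : (c : R) * u * z = c * j := by
        rw [← hc]
        ring
      rw [h2]
      exact Ideal.mul_mem_left _ _ hj

end Loc

section Graded

variable {R : Type u} [CommRing R] (𝒜 : ℤ → AddSubgroup R) [GradedRing 𝒜]
  (hpos : ∀ n : ℤ, n < 0 → 𝒜 n = ⊥)

include hpos in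
theorem proj_lt_one_of_mem_irr {a : R} (ha : a ∈ GrMono.irr 𝒜) :
    ∀ f < (1 : ℤ), proj 𝒜 f a = 0 := by
  intro f hf
  rcases lt_or_eq_of_le (show f ≤ 0 by omega) with h | h
  · exact GrMono.proj_neg 𝒜 hpos a f h
  · rw [h]
    exact GrMono.proj_zero_of_mem_irr 𝒜 hpos ha

include hpos in
/-- the degree-one component of a multiple of an element of the irrelevant ideal -/
theorem proj_one_mul {a : R} (ha : a ∈ GrMono.irr 𝒜) (c : R) :
    proj 𝒜 1 (c * a) = proj 𝒜 0 c * proj 𝒜 1 a := by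
  have h1 : c * a = proj 𝒜 0 c * a + (c - proj 𝒜 0 c) * a := by ring
  rw [h1, map_add]
  have h2 : proj 𝒜 1 ((c - proj 𝒜 0 c) * a) = 0 := by
    have := RegVan.proj_smul_eq_zero (𝒜 := 𝒜) 𝒜 (p := 1) (q := 1) (n := 1)
      (r := c - proj 𝒜 0 c) (x := a)
      (proj_lt_one_of_mem_irr 𝒜 hpos (GrMono.sub_proj_zero_mem_irr 𝒜 hpos c))
      (proj_lt_one_of_mem_irr 𝒜 hpos ha) (by omega)
    exact this
  rw [h2, add_zero]
  have h3 := proj_smul_of_mem' 𝒜 𝒜 (proj_mem 𝒜 0 c) 1 a
  rw [sub_zero] at h3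
  exact h3

variable (h0 : IsField (GrLC.deg0 𝒜))

include hpos h0 in
/-- the degree-one piece of a regular graded ring over a field is spanned by `dim R` elements -/
theorem exists_span_of_regular [IsRegularRing R] (r : ℕ) (hr : ringKrullDim R = r) :
    ∃ y : Fin r → R, (∀ i, y i ∈ 𝒜 1) ∧
      ∀ z ∈ 𝒜 1, ∃ c : Fin r → GrLC.deg0 𝒜, z = ∑ i, (c i : R) * y i := by
  have hmax : (GrMono.irr 𝒜).IsMaximal := GrMono.irr_isMaximal 𝒜 hpos h0
  have hht : (GrMono.irr 𝒜).height = r := Gr.height_irrelevant 𝒜 hpos h0 (GrMono.irr 𝒜) rfl r hr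
  have hdim : ringKrullDim (Localization.AtPrime (GrMono.irr 𝒜)) = r := by
    rw [IsLocalization.AtPrime.ringKrullDim_eq_height (GrMono.irr 𝒜)
      (Localization.AtPrime (GrMono.irr 𝒜)), hht]
    rfl
  obtain ⟨a, ha1, ha2⟩ := exists_gens_of_regular (GrMono.irr 𝒜) r hdim
  refine ⟨fun i => proj 𝒜 1 (a i), fun i => proj_mem 𝒜 1 (a i), fun z hz => ?_⟩
  have hzirr : z ∈ GrMono.irr 𝒜 := by
    apply Ideal.subset_span
    simp only [Set.mem_iUnion, Set.mem_Ioi, SetLike.mem_coe]
    exact ⟨1, one_pos, hz⟩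
  obtain ⟨w, hw1, hw2⟩ := ha2 z hzirr
  obtain ⟨c, hc⟩ := Ideal.mem_span_range_iff_exists_fun.mp hw2
  have h1 := congrArg (proj 𝒜 1) hc
  rw [map_sum, proj_one_mul 𝒜 hpos hzirr w, proj_of_mem 𝒜 hz] at h1
  have hne : proj 𝒜 0 w ≠ 0 := by
    intro h
    apply hw1
    have := GrMono.sub_proj_zero_mem_irr 𝒜 hpos w
    rwa [h, sub_zero] at this
  have hne0 : (⟨proj 𝒜 0 w, proj_mem 𝒜 0 w⟩ : GrLC.deg0 𝒜) ≠ 0 :=
    fun h => hne (congrArg Subtype.val h)
  obtain ⟨b, hb⟩ := h0.mul_inv_cancel hne0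
  have hb' : proj 𝒜 0 w * (b : R) = 1 := congrArg Subtype.val hb
  refine ⟨fun i => b * ⟨proj 𝒜 0 (c i), proj_mem 𝒜 0 (c i)⟩, ?_⟩
  have h2 : z = (b : R) * (proj 𝒜 0 w * z) := by
    rw [← mul_assoc, mul_comm (b : R), hb', one_mul]
  rw [h2, ← h1, Finset.mul_sum]
  refine Finset.sum_congr rfl (fun i _ => ?_)
  rw [proj_one_mul 𝒜 hpos (ha1 i) (c i)]
  change _ = ((b : R) * proj 𝒜 0 (c i)) * proj 𝒜 1 (a i)
  ring

end Graded

end Groth.Agent.H2.PolyIso
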