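import Mathlib

/-!
# Existence of Postnikov systems in a triangulated category (helper2)
-/

universe v u

open CategoryTheory CategoryTheory.Limits CategoryTheory.Pretriangulated

namespace Groth.Agent.H2.Postnikov

variable {D : Type u} [Category.{v} D] [Preadditive D] [HasZeroObject D] [HasShift D ℤ]
  [∀ n : ℤ, (shiftFunctor D n).Additive] [Pretriangulated D]

lemma hom_unshift_eq_zero {A Y : D} (h : ∀ ψ : A⟦(1 : ℤ)⟧ ⟶ Y, ψ = 0) (φ : A ⟶ Y⟦(-1 : ℤ)⟧) :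
    φ = 0 := by
  have e := shiftFunctorCompIsoId D (-1 : ℤ) 1 (neg_add_cancel 1)
  have h1 := h (φ⟦(1 : ℤ)⟧' ≫ e.hom.app Y)
  have h2 : φ⟦(1 : ℤ)⟧' = 0 := by
    have := congrArg (fun z => z ≫ e.inv.app Y) h1
    simpa using this
  apply (shiftFunctor D (1 : ℤ)).map_injective
  exact h2.trans (Functor.map_zero _ _ _).symm

lemma hom_zero_of_shift_eq {A Y : D} {m m' : ℤ} (h : m = m')
    (hz : ∀ φ : A⟦m⟧ ⟶ Y, φ = 0) (φ : A⟦m'⟧ ⟶ Y) : φ = 0 := by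
  subst h
  exact hz φ

lemma hom_zero_shift_add {A Y : D} {m' m : ℤ} (h : m' + 1 = m)
    (hz : ∀ φ : A⟦m⟧ ⟶ Y, φ = 0) (ψ : (A⟦m'⟧)⟦(1 : ℤ)⟧ ⟶ Y) : ψ = 0 := by
  have e := (shiftFunctorAdd' D m' 1 m h).app A
  have h1 := hz (e.hom ≫ ψ)
  have : ψ = e.inv ≫ (e.hom ≫ ψ) := by rw [Iso.inv_hom_id_assoc]
  rw [this, h1, comp_zero]

/-- if `φ ≫ a' = 0` for a distinguished triangle `(a', b, c)` and there are no maps from `W⟦1⟧`
to the third vertex, then `φ = 0` -/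
lemma eq_zero_of_comp_mor₁ {Y' X₁ Y W : D} {a' : Y' ⟶ X₁} {b : X₁ ⟶ Y} {c : Y ⟶ Y'⟦(1 : ℤ)⟧}
    (hT : Triangle.mk a' b c ∈ distTriang D) (hz : ∀ ψ : W⟦(1 : ℤ)⟧ ⟶ Y, ψ = 0)
    (φ : W ⟶ Y') (hφ : φ ≫ a' = 0) : φ = 0 := by
  obtain ⟨g, hg⟩ := Triangle.coyoneda_exact₂ _ (inv_rot_of_distTriang _ hT) φ hφ
  have hg0 : g = 0 := hom_unshift_eq_zero hz g
  rw [hg, hg0, zero_comp]
  rfl

set_option linter.unusedSectionVars false

variable (X : ChainComplex D ℕ) (n : ℕ)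

/-- the invariant carried along the construction -/
structure Inv (k : ℕ) (Y : D) (a : Y ⟶ X.X k) : Prop where
  V : ∀ i : ℕ, k + 2 < i → i ≤ n → ∀ φ : (X.X i)⟦(i : ℤ) - k - 2⟧ ⟶ Y, φ = 0
  L : k + 1 ≤ n → ∀ φ : X.X (k + 1) ⟶ X.X k, (∀ j, φ ≫ X.d k j = 0) →
    ∃ ψ : X.X (k + 1) ⟶ Y, ψ ≫ a = φ
  M : k + 2 ≤ n → ∀ ψ : X.X (k + 2) ⟶ Y, ψ ≫ a = 0 → ψ = 0

/-- a stage of the construction -/
structure Stage (k : ℕ) where
  Y : D
  a : Y ⟶ X.X k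
  inv : Inv X n k Y a

variable {X n}
variable (hX : ∀ i j : ℕ, j + 2 < i → i ≤ n →
  ∀ φ : (shiftFunctor D ((i : ℤ) - j - 2)).obj (X.X i) ⟶ X.X j, φ = 0)

include hX in
lemma inv_zero : Inv X n 0 (X.X 0) (𝟙 _) where
  V i hi hin φ := hX i 0 hi hin φ
  L _ φ _ := ⟨φ, Category.comp_id _⟩
  M _ ψ hψ := by simpa using hψ

lemma inv_junk (k : ℕ) (hk : n ≤ k) : Inv X n k (X.X k) (𝟙 _) where
  V i hi hin φ := by omega
  L h := by omega
  M h := by omega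

include hX in
lemma exists_step (k : ℕ) (s : Stage X n k) :
    ∃ (s' : Stage X n (k + 1)) (b : X.X (k + 1) ⟶ s.Y) (c : s.Y ⟶ (s'.Y)⟦(1 : ℤ)⟧),
      k < n → (Triangle.mk s'.a b c ∈ distTriang D ∧ b ≫ s.a = X.d (k + 1) k) := by
  by_cases hk : k < n
  · obtain ⟨b, hb⟩ := s.inv.L hk (X.d (k + 1) k) (fun j => X.d_comp_d _ _ _)
    obtain ⟨Y', a', c, hT⟩ := distinguished_cocone_triangle₁ b
    have hV : ∀ i : ℕ, k + 1 + 2 < i → i ≤ n →
        ∀ φ : (X.X i)⟦(i : ℤ) - (k + 1 : ℕ) - 2⟧ ⟶ Y', φ = 0 := by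
      intro i hi hin φ
      apply eq_zero_of_comp_mor₁ hT _ φ
      · exact hX i (k + 1) hi hin _
      · intro ψ
        exact hom_zero_shift_add (by push_cast; ring) (s.inv.V i (by omega) hin) ψ
    refine ⟨⟨Y', a', ⟨hV, ?_, ?_⟩⟩, b, c, fun _ => ⟨hT, hb⟩⟩
    · intro hk2 φ hφ
      have h0 : φ ≫ b = 0 := by
        apply s.inv.M hk2
        rw [Category.assoc, hb]
        exact hφ k
      obtain ⟨ψ, hψ⟩ := Triangle.coyoneda_exact₂ _ hT φ h0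
      exact ⟨ψ, hψ.symm⟩
    · intro hk3 ψ hψ
      apply eq_zero_of_comp_mor₁ hT _ ψ hψ
      intro ψ'
      have hz := s.inv.V (k + 1 + 2) (by omega) hk3
      exact hom_zero_of_shift_eq (A := X.X (k + 1 + 2)) (by push_cast; ring) hz ψ'
  · exact ⟨⟨X.X (k + 1), 𝟙 _, inv_junk (k + 1) (by omega)⟩, 0, 0, fun h => absurd h hk⟩

/-- the stages -/
noncomputable def stage : (k : ℕ) → Stage X n k :=
  fun k => Nat.rec (motive := fun k => Stage X n k) ⟨X.X 0, 𝟙 _, inv_zero hX⟩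
    (fun k s => (exists_step hX k s).choose) k

include hX in
theorem exists_postnikov :
    ∃ (Y : ℕ → D) (a : ∀ k, Y k ⟶ X.X k) (b : ∀ k, X.X (k + 1) ⟶ Y k)
      (c : ∀ k, Y k ⟶ (shiftFunctor D (1 : ℤ)).obj (Y (k + 1))),
      IsIso (a 0) ∧ ∀ k, k < n → Triangle.mk (a (k + 1)) (b k) (c k) ∈ distTriang D ∧
        b k ≫ a k = X.d (k + 1) k := by
  refine ⟨fun k => (stage hX k).Y, fun k => (stage hX k).a,
    fun k => (exists_step hX k (stage hX k)).choose_spec.choose,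
    fun k => (exists_step hX k (stage hX k)).choose_spec.choose_spec.choose, ?_, ?_⟩
  · change IsIso (𝟙 (X.X 0))
    infer_instance
  · intro k hk
    exact (exists_step hX k (stage hX k)).choose_spec.choose_spec.choose_spec hk

end Groth.Agent.H2.Postnikov
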