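import Mathlib

/-!
# `1, t^q, …, t^{(n-1)q}` is a basis of `A[X]/(g)` for `g` monic separable over a local ring
with residue characteristic `p`, `q = p^s`.
-/

namespace Groth.Agent.H2.PowBasis

open Polynomial

universe u

theorem field_key {k : Type u} [Field k] (p : ℕ) [Fact p.Prime] [CharP k p] (g : k[X])
    (hsep : g.Separable) (s : ℕ) (c : k[X]) (hc : c.natDegree < g.natDegree)
    (hdvd : g ∣ expand k (p ^ s) c) : c = 0 := by
  classical
  have : ExpChar k p := ExpChar.prime Fact.out
  have hq : 0 < p ^ s := pow_pos (Fact.out : p.Prime).pos s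
  set q := p ^ s with hqdef
  set F : k →+* k := iterateFrobenius k p s with hF
  set G := g.map F with hGdef
  have hG : expand k q G = g ^ q := by
    rw [hGdef, ← Polynomial.map_expand]; exact map_iterateFrobenius_expand p g s
  have hGsep : G.Separable := hsep.map
  have hg0 : g ≠ 0 := hsep.ne_zero
  have hG0 : G ≠ 0 := hGsep.ne_zero
  have hGdeg : G.natDegree = g.natDegree := natDegree_map F
  by_contra hc0
  set m := EuclideanDomain.gcd c G with hm
  obtain ⟨h, hh⟩ : m ∣ G := EuclideanDomain.gcd_dvd_right c G
  have hmc : m ∣ c := EuclideanDomain.gcd_dvd_left c G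
  have hcop : IsCoprime m h := by
    have : (m * h).Separable := hh ▸ hGsep
    exact this.isCoprime
  have hgm : g ∣ expand k q m := by
    have e : m = c * EuclideanDomain.gcdA c G + G * EuclideanDomain.gcdB c G :=
      EuclideanDomain.gcd_eq_gcd_ab c G
    rw [e, map_add, map_mul (expand k q), map_mul (expand k q), hG]
    refine dvd_add (Dvd.dvd.mul_right hdvd _) (Dvd.dvd.mul_right ?_ _)
    exact dvd_pow_self g hq.ne'
  have hcop2 : IsCoprime (expand k q m) (expand k q h) :=
    hcop.map (expand k q : k[X] →ₐ[k] k[X]).toRingHom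
  have hcop3 : IsCoprime g (expand k q h) := hcop2.of_isCoprime_of_dvd_left hgm
  have hcop4 : IsCoprime (g ^ q) (expand k q h) := hcop3.pow_left
  have hdv : expand k q h ∣ g ^ q := by
    rw [← hG, hh, map_mul (expand k q)]
    exact dvd_mul_left _ _
  have hu : IsUnit (expand k q h) := hcop4.isUnit_of_dvd' hdv dvd_rfl
  have hdeg : h.natDegree = 0 := by
    have := natDegree_eq_zero_of_isUnit hu
    rw [natDegree_expand] at this
    rcases Nat.mul_eq_zero.mp this with h1 | h1
    · exact h1
    · omega
  have hm0 : m ≠ 0 := by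
    rintro h0; rw [h0, zero_mul] at hh; exact hG0 hh
  have hh0 : h ≠ 0 := by
    rintro h0; rw [h0, mul_zero] at hh; exact hG0 hh
  have hGm : G.natDegree = m.natDegree := by
    rw [hh, natDegree_mul hm0 hh0, hdeg, add_zero]
  have : m.natDegree ≤ c.natDegree := natDegree_le_of_dvd hmc hc0
  omega

theorem main {A : Type u} [CommRing A] [IsLocalRing A] (p : ℕ) [Fact p.Prime]
    [CharP (IsLocalRing.ResidueField A) p] (g : Polynomial A) (hg : g.Monic) (hsep : g.Separable)
    (s : ℕ) :
    ∃ b : Module.Basis (Fin g.natDegree) A (AdjoinRoot g),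
      ∀ i : Fin g.natDegree, b i = AdjoinRoot.root g ^ (p ^ s * (i : ℕ)) := by
  classical
  set q := p ^ s with hqdef
  let b₀ := AdjoinRoot.powerBasisAux' hg
  let v : Fin g.natDegree → AdjoinRoot g := fun i => AdjoinRoot.root g ^ (q * (i : ℕ))
  let res := IsLocalRing.residue A
  have hgb : (g.map res).Monic := hg.map res
  have hdegb : (g.map res).natDegree = g.natDegree := hg.natDegree_map res
  have hrepr : ∀ i j : Fin g.natDegree, b₀.repr (v j) i = ((X ^ (q * (j : ℕ)) : A[X]) %ₘ g).coeff i := by
    intro i j
    rw [AdjoinRoot.powerBasisAux'_repr_apply_to_fun]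
    have : v j = AdjoinRoot.mk g (X ^ (q * (j : ℕ))) := by
      simp only [v]; rw [map_pow, AdjoinRoot.mk_X]
    rw [this, AdjoinRoot.modByMonicHom_mk]
  have hdet : IsUnit (b₀.det v) := by
    by_contra hnu
    have hres : res (b₀.det v) = 0 := by
      rw [IsLocalRing.residue_eq_zero_iff]
      exact (IsLocalRing.mem_maximalIdeal _).mpr hnu
    rw [Module.Basis.det_apply, RingHom.map_det] at hres
    obtain ⟨c, hc0, hc⟩ := Matrix.exists_mulVec_eq_zero_iff.mpr hres
    let cp : (IsLocalRing.ResidueField A)[X] := ∑ j : Fin g.natDegree, C (c j) * X ^ (j : ℕ)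
    have hcpdeg : cp.natDegree < g.natDegree ∨ cp = 0 := by
      by_cases h0 : cp = 0
      · exact Or.inr h0
      left
      have : cp.degree < (g.natDegree : WithBot ℕ) := by
        simp only [cp]
        exact degree_sum_fin_lt c
      exact (natDegree_lt_iff_degree_lt h0).mpr this
    have hexp : expand _ q cp = ∑ j : Fin g.natDegree, C (c j) * X ^ (q * (j : ℕ)) := by
      simp only [cp]
      rw [map_sum]
      refine Finset.sum_congr rfl fun j _ => ?_
      rw [map_mul (expand _ q), expand_C, map_pow, expand_X, ← pow_mul]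
    have hmod : expand _ q cp %ₘ (g.map res) = 0 := by
      rw [hexp]
      have : ∀ (S : Finset (Fin g.natDegree)) (f : Fin g.natDegree → (IsLocalRing.ResidueField A)[X]),
          (∑ j ∈ S, f j) %ₘ (g.map res) = ∑ j ∈ S, (f j %ₘ (g.map res)) := by
        intro S f
        induction S using Finset.induction_on with
        | empty => simp
        | insert a S ha ih => rw [Finset.sum_insert ha, Finset.sum_insert ha, add_modByMonic, ih]
      rw [this]
      have h2 : ∀ j : Fin g.natDegree, (C (c j) * X ^ (q * (j : ℕ))) %ₘ (g.map res)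
          = C (c j) * ((X ^ (q * (j : ℕ)) : A[X]) %ₘ g).map res := by
        intro j
        rw [← smul_eq_C_mul, smul_modByMonic, smul_eq_C_mul, map_modByMonic res hg,
          Polynomial.map_pow, map_X]
      simp only [h2]
      ext i
      rw [finsetSum_coeff, coeff_zero]
      by_cases hi : i < g.natDegree
      · have := congrFun hc ⟨i, hi⟩
        simp only [Matrix.mulVec, dotProduct, RingHom.mapMatrix_apply, Matrix.map_apply,
          Module.Basis.toMatrix_apply, Pi.zero_apply] at this
        rw [← this]
        refine Finset.sum_congr rfl fun j _ => ?_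
        rw [coeff_C_mul, coeff_map, hrepr ⟨i, hi⟩ j, mul_comm]
      · refine Finset.sum_eq_zero fun j _ => ?_
        rw [coeff_C_mul, coeff_map]
        have : ((X ^ (q * (j : ℕ)) : A[X]) %ₘ g).coeff i = 0 := by
          apply coeff_eq_zero_of_natDegree_lt
          have := natDegree_modByMonic_lt (X ^ (q * (j : ℕ)) : A[X]) hg
          by_cases h1 : g = 1
          · have hn : g.natDegree = 0 := by rw [h1]; exact natDegree_one
            have := j.isLt; omega
          · have := this h1; omega
        rw [this, map_zero, mul_zero]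
    have hdvd : g.map res ∣ expand _ q cp := (modByMonic_eq_zero_iff_dvd hgb).mp hmod
    have hcp0 : cp = 0 := by
      rcases hcpdeg with h1 | h1
      · exact field_key p (g.map res) hsep.map s cp (hdegb ▸ h1) hdvd
      · exact h1
    apply hc0
    ext j
    have := congrArg (fun f => f.coeff (j : ℕ)) hcp0
    simp only [cp, finsetSum_coeff, coeff_C_mul, coeff_X_pow, coeff_zero] at this
    rw [Finset.sum_eq_single j] at this
    · simpa using this
    · intro b _ hb
      rw [if_neg, mul_zero]
      intro h; exact hb (Fin.ext h.symm)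
    · intro h; exact absurd (Finset.mem_univ j) h
  have := (Module.Basis.is_basis_iff_det b₀).mpr hdet
  exact ⟨Module.Basis.mk this.1 this.2.ge, fun i => by simp [v]⟩

end Groth.Agent.H2.PowBasis
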