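import Mathlib
import Groth.Prelude.Def_Dix
import Groth.Agent.Lib.Helper2.TorsColimC
import Groth.Agent.Lib.Helper7.Kum2

/-! # `ℓ`-primary torsion in cohomology above the `ℓ`-cohomological dimension. -/

set_option autoImplicit false
set_option linter.style.haveILetI false
set_option linter.unusedVariables false
set_option linter.unusedSectionVars false
universe u
open CategoryTheory CategoryTheory.Limits AlgebraicGeometry Opposite Abelian

namespace Groth.Agent.H2.PrimTors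
open Groth.Agent.H2.EtSmall Groth.Agent.LD.Colim Groth.Agent.H2.TorsColim

variable {X : Scheme.{u}}

/-- a sheaf killed by a power of `ℓ` is `ℓ`-primary torsion. -/
lemma isPrimaryTorsion_of_nsmul_eq_zero (ℓ k : ℕ) (F : EtCoh.Ab X) (h : (ℓ ^ k) • 𝟙 F = 0) :
    Dix.IsPrimaryTorsion ℓ F := by
  intro U s x
  refine ⟨U, 𝟙 U, ⟨x, rfl⟩, k, ?_⟩
  have h1 := nsmul_id_app F (ℓ ^ k) U (F.obj.map (𝟙 U).op s)
  rw [h] at h1
  exact h1.symm

/-- multiplication by `m` on `H^i(X, F)` is injective as soon as the cohomology of sheaves killed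
by `m` vanishes in degrees `i - 1` and `i`. -/
theorem nsmul_injective (F : EtCoh.Ab X) (m : ℕ) (i : ℕ)
    (h : ∀ G : EtCoh.Ab X, m • 𝟙 G = 0 → ∀ q : ℕ, i ≤ q + 1 → Subsingleton (EtCoh.H X G q))
    (ξ : EtCoh.H X F i) (hξ : m • ξ = 0) : ξ = 0 := by
  let φ : F ⟶ F := m • 𝟙 F
  -- kernel and coimage
  let K := kernel φ
  have hK : m • 𝟙 K = 0 := tors_nsmul F m
  let q : F ⟶ Abelian.coimage φ := Abelian.coimage.π φ
  let ι' : Abelian.coimage φ ⟶ F := Abelian.factorThruCoimage φ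
  haveI : Mono ι' := inferInstanceAs (Mono (Abelian.factorThruCoimage φ))
  have hfac : q ≫ ι' = φ := Abelian.coimage.fac φ
  let S1 : ShortComplex (EtCoh.Ab X) :=
    ShortComplex.mk (kernel.ι φ) (cokernel.π (kernel.ι φ)) (cokernel.condition _)
  have hS1 : S1.ShortExact :=
    { exact := ShortComplex.exact_of_g_is_cokernel _ (cokernelIsCokernel _)
      mono_f := inferInstanceAs (Mono (kernel.ι φ))
      epi_g := inferInstanceAs (Epi (cokernel.π (kernel.ι φ))) }
  let S2 : ShortComplex (EtCoh.Ab X) :=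
    ShortComplex.mk ι' (cokernel.π ι') (cokernel.condition _)
  have hS2 : S2.ShortExact :=
    { exact := ShortComplex.exact_of_g_is_cokernel _ (cokernelIsCokernel _)
      mono_f := inferInstanceAs (Mono ι')
      epi_g := inferInstanceAs (Epi (cokernel.π ι')) }
  have hC : m • 𝟙 (cokernel ι') = 0 := by
    rw [← cancel_epi (cokernel.π ι'), Preadditive.comp_nsmul, Category.comp_id, comp_zero]
    have : m • cokernel.π ι' = φ ≫ cokernel.π ι' := by
      change _ = (m • 𝟙 F) ≫ _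
      rw [Preadditive.nsmul_comp, Category.id_comp]
    rw [this]
    have h2 : φ ≫ cokernel.π ι' = q ≫ ι' ≫ cokernel.π ι' := by
      rw [← Category.assoc, hfac]
    rw [h2, cokernel.condition, comp_zero]
  -- the class `m • ξ`
  have e1 : pc φ (ξ : Ext (constZ X) F i) = 0 := by
    change pc (m • 𝟙 F) _ = 0
    rw [pc_nsmul, pc_id]
    exact hξ
  have e2 : pc ι' (pc q (ξ : Ext (constZ X) F i)) = 0 := by
    rw [pc_comp, hfac]
    exact e1
  -- `pc q ξ = 0`
  have e3 : pc q (ξ : Ext (constZ X) F i) = 0 := by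
    cases i with
    | zero =>
      -- degree zero: `ι'` is a monomorphism
      obtain ⟨a, ha⟩ := (Ext.mk₀_bijective (constZ X) (Abelian.coimage φ)).2
        (pc q (ξ : Ext (constZ X) F 0))
      rw [← ha] at e2 ⊢
      unfold pc at e2
      rw [Ext.mk₀_comp_mk₀] at e2
      have h0 : a ≫ ι' = 0 := by
        apply (Ext.mk₀_bijective (constZ X) F).1
        rw [e2, Ext.mk₀_zero]
      have h1 : a = 0 := by
        rw [← cancel_mono ι', h0, zero_comp]
      rw [h1, Ext.mk₀_zero]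
    | succ j =>
      obtain ⟨y, hy⟩ := Ext.covariant_sequence_exact₁ (constZ X) hS2
        (pc q (ξ : Ext (constZ X) F (j + 1))) e2 (rfl : j + 1 = j + 1)
      haveI := h (cokernel ι') hC j le_rfl
      have : y = 0 := Subsingleton.elim (α := EtCoh.H X (cokernel ι') j) y 0
      rw [← hy, this, Ext.zero_comp]
  -- hence `ξ` comes from the kernel
  obtain ⟨z, hz⟩ := Ext.covariant_sequence_exact₂ (constZ X) hS1 (ξ : Ext (constZ X) F i) e3
  haveI := h K hK i (Nat.le_succ i)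
  have : z = 0 := Subsingleton.elim (α := EtCoh.H X K i) z 0
  rw [← hz, this, Ext.zero_comp]

theorem main (X : Scheme.{u}) (ℓ : ℕ) (hℓ : ℓ.Prime) (n : ℕ) (hcd : Dix.CohDimLEAt X ℓ n) :
    (∀ i : ℕ, n + 1 < i → ∀ ξ : EtCoh.H X (EtCoh.Gm X) i, (∃ k : ℕ, ℓ ^ k • ξ = 0) → ξ = 0) ∧
    (Dix.InvertibleOn X ℓ → ∀ i : ℕ, n < i → ∀ ξ : EtCoh.H X (EtCoh.Gm X) i,
      (∃ k : ℕ, ℓ ^ k • ξ = 0) → ξ = 0) := by
  constructor
  · intro i hi ξ ⟨k, hk⟩
    refine nsmul_injective (EtCoh.Gm X) (ℓ ^ k) i ?_ ξ hk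
    intro G hG q hq
    exact hcd G (isPrimaryTorsion_of_nsmul_eq_zero ℓ k G hG) q (by omega)
  · intro hinv i hi ξ ⟨k, hk⟩
    have hX : Dix.InvertibleOn X (ℓ ^ k) := by
      intro x
      rw [Nat.cast_pow]
      exact pow_ne_zero k (hinv x)
    have hr := Groth.Agent.H7.Kum.S3244_main X (ℓ ^ k) (pow_pos hℓ.pos k) hX i (by omega)
    have hmem : (ξ : (EtCoh.HF X i).obj (EtCoh.Gm X)) ∈
        {ξ : (EtCoh.HF X i).obj (EtCoh.Gm X) | (ℓ ^ k) • ξ = 0} := hk
    rw [← hr] at hmem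
    obtain ⟨η, hη⟩ := hmem
    have hmu : (ℓ ^ k) • 𝟙 (EtCoh.mu X (ℓ ^ k)) = 0 := tors_nsmul (EtCoh.Gm X) (ℓ ^ k)
    haveI := hcd (EtCoh.mu X (ℓ ^ k)) (isPrimaryTorsion_of_nsmul_eq_zero ℓ k _ hmu) i hi
    have : η = 0 := Subsingleton.elim (α := EtCoh.H X (EtCoh.mu X (ℓ ^ k)) i) η 0
    rw [← hη, this]
    exact map_zero _

end Groth.Agent.H2.PrimTors
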