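import Mathlib
import Groth.Agent.Lib.Helper2.ConsTop

/-!
# Pro-constructible subsets of an affine scheme are images of affine schemes: algebra (helper2)

For `E ⊆ Spec A`, the image of `Spec (∏_{p ∈ E} κ(p)) → Spec A` is the closure of `E` in the
constructible topology.
-/

set_option autoImplicit false
set_option linter.style.haveILetI false
universe u

namespace Groth.Agent.H2.ProConsAff

open PrimeSpectrum Topology Groth.Agent.H2.ConsTop

variable {A : Type u} [CommRing A] (E : Set (PrimeSpectrum A))

/-- the product of the residue fields of the points of `E`. -/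
abbrev ProdRes : Type u := ∀ p : E, p.1.asIdeal.ResidueField

/-- the canonical map to the product of residue fields. -/
noncomputable def toProdRes : A →+* ProdRes E :=
  Pi.ringHom (fun p : E => algebraMap A p.1.asIdeal.ResidueField)

lemma toProdRes_apply (a : A) (p : E) :
    toProdRes E a p = algebraMap A p.1.asIdeal.ResidueField a := rfl

/-- every point of `E` is in the image. -/
lemma mem_range_comap_toProdRes {p : PrimeSpectrum A} (hp : p ∈ E) :
    p ∈ Set.range (comap (toProdRes E)) := by
  let ev : ProdRes E →+* p.asIdeal.ResidueField := Pi.evalRingHom _ (⟨p, hp⟩ : E)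
  refine ⟨comap ev ⟨⊥, Ideal.isPrime_bot⟩, ?_⟩
  ext a
  change ev (toProdRes E a) ∈ (⊥ : Ideal p.asIdeal.ResidueField) ↔ a ∈ p.asIdeal
  rw [Ideal.mem_bot]
  change algebraMap A p.asIdeal.ResidueField a = 0 ↔ _
  exact Ideal.algebraMap_residueField_eq_zero

/-- the image lies in every constructible set containing `E`. -/
lemma comap_toProdRes_mem_of_subset (q : PrimeSpectrum (ProdRes E))
    (C : ConstructibleSetData A) (hC : E ⊆ C.toSet) : comap (toProdRes E) q ∈ C.toSet := by
  classical
  by_contra hq
  obtain ⟨D, hD⟩ := exists_constructibleSetData_iff.mpr C.isConstructible_toSet.compl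
  have hqD : comap (toProdRes E) q ∈ D.toSet := by rw [hD]; exact hq
  simp only [ConstructibleSetData.toSet, Set.mem_iUnion] at hqD
  obtain ⟨P, hPD, hqP⟩ := hqD
  have hPE : ∀ p : E, p.1 ∉ P.toSet := by
    intro p hpP
    have h1 : p.1 ∈ D.toSet := by
      simp only [ConstructibleSetData.toSet, Set.mem_iUnion]
      exact ⟨P, hPD, hpP⟩
    rw [hD] at h1
    exact h1 (hC p.2)
  -- the pseudo-inverses of the `g i`
  let h : Fin P.n → ProdRes E := fun i p => (algebraMap A p.1.asIdeal.ResidueField (P.g i))⁻¹
  let β : ProdRes E := toProdRes E P.f * ∏ i, (1 - toProdRes E (P.g i) * h i)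
  have hβ : β = 0 := by
    funext p
    change algebraMap A p.1.asIdeal.ResidueField P.f *
      (∏ i, (1 - toProdRes E (P.g i) * h i)) p = 0
    rw [Finset.prod_apply]
    by_cases hf : P.f ∈ p.1.asIdeal
    · rw [Ideal.algebraMap_residueField_eq_zero.mpr hf, zero_mul]
    · have hnot : ¬ ∀ i, P.g i ∈ p.1.asIdeal := by
        intro hall
        apply hPE p
        refine ⟨?_, ?_⟩
        · rintro _ ⟨i, rfl⟩
          exact hall i
        · intro hz
          exact hf (hz (Set.mem_singleton _))
      push_neg at hnot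
      obtain ⟨i, hi⟩ := hnot
      have hne : algebraMap A p.1.asIdeal.ResidueField (P.g i) ≠ 0 := fun h0 =>
        hi (Ideal.algebraMap_residueField_eq_zero.mp h0)
      have hz : (1 - toProdRes E (P.g i) * h i) p = 0 := by
        change 1 - algebraMap A p.1.asIdeal.ResidueField (P.g i) *
          (algebraMap A p.1.asIdeal.ResidueField (P.g i))⁻¹ = 0
        rw [mul_inv_cancel₀ hne, sub_self]
      rw [Finset.prod_eq_zero (Finset.mem_univ i) hz, mul_zero]
  have hmem : β ∈ q.asIdeal := hβ ▸ q.asIdeal.zero_mem
  have hqP' : (∀ i, P.g i ∈ (comap (toProdRes E) q).asIdeal) ∧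
      P.f ∉ (comap (toProdRes E) q).asIdeal := by
    obtain ⟨h1, h2⟩ := hqP
    refine ⟨fun i => h1 ⟨i, rfl⟩, fun hf => h2 ?_⟩
    intro x hx
    rw [Set.mem_singleton_iff] at hx
    exact hx ▸ hf
  rcases q.isPrime.mem_or_mem hmem with h1 | h1
  · exact hqP'.2 h1
  · obtain ⟨i, -, hi⟩ := (q.isPrime.prod_mem_iff).mp h1
    have h2 : toProdRes E (P.g i) * h i ∈ q.asIdeal := q.asIdeal.mul_mem_right _ (hqP'.1 i)
    have h3 : (1 : ProdRes E) ∈ q.asIdeal := by
      have := q.asIdeal.add_mem hi h2
      rwa [sub_add_cancel] at this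
    exact q.isPrime.ne_top ((Ideal.eq_top_iff_one _).mpr h3)

/-- if `E` is closed in the constructible topology, it is the image of
`Spec (∏_{p ∈ E} κ(p))`. -/
theorem range_comap_toProdRes (hE : CC E) : Set.range (comap (toProdRes E)) = E := by
  apply Set.Subset.antisymm
  · rintro _ ⟨q, rfl⟩
    by_contra hq
    obtain ⟨C, hC, hqC, hEC⟩ := hE.exists_isConstructible hq
    obtain ⟨S, rfl⟩ := exists_constructibleSetData_iff.mpr hC
    exact hqC (comap_toProdRes_mem_of_subset E q S hEC)
  · intro p hp
    exact mem_range_comap_toProdRes E hp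

end Groth.Agent.H2.ProConsAff
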