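import Groth.Agent.Lib.Helper2.ProConsAff1
import Groth.Agent.Lib.Helper2.ProConsLib

/-!
# Pro-constructible subsets of quasi-compact quasi-separated schemes are images of affine
schemes (helper2)
-/

set_option autoImplicit false
set_option linter.style.haveILetI false
universe u

namespace Groth.Agent.H2.ProConsAff

open PrimeSpectrum Topology Set Groth.Agent.H2.ConsTop Groth.Agent.H2.ProConsLib
  AlgebraicGeometry CategoryTheory Limits
open scoped Set.Notation

/-- pro-constructible subsets of a spectral space are closed in the constructible topology. -/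
lemma cc_of_isProConstructible_spectral {Y : Type*} [TopologicalSpace Y] [CompactSpace Y]
    [QuasiSober Y] [PrespectralSpace Y] [QuasiSeparatedSpace Y] [T0Space Y] {E : Set Y}
    (hE : ProCons.IsProConstructible E) : CC E := by
  have e : IsOpenEmbedding (Subtype.val : ↥(univ : Set Y) → Y) :=
    isOpen_univ.isOpenEmbedding_subtypeVal
  haveI : CompactSpace ↥(univ : Set Y) := isCompact_iff_compactSpace.mp isCompact_univ
  haveI : QuasiSober ↥(univ : Set Y) := e.quasiSober
  haveI : PrespectralSpace ↥(univ : Set Y) := e.prespectralSpace
  haveI : QuasiSeparatedSpace ↥(univ : Set Y) :=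
    (isQuasiSeparated_iff_quasiSeparatedSpace (univ : Set Y) isOpen_univ).mp
      isQuasiSeparated_univ
  have h1 : CC ((univ : Set Y) ↓∩ E) := cc_of_isProConstructible isOpen_univ hE
  have hsp : IsSpectralMap (Subtype.val : ↥(univ : Set Y) → Y) :=
    ⟨continuous_subtype_val, fun s _ hc =>
      (Homeomorph.Set.univ Y).isCompact_preimage.mpr hc⟩
  have h2 := h1.image hsp
  convert h2 using 1
  ext y
  simp

/-- a pro-constructible subset of an affine scheme is the image of an affine scheme. -/
theorem exists_range_eq_of_isProConstructible_spec {R : CommRingCat.{u}} {E : Set (Spec R)}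
    (hE : ProCons.IsProConstructible E) :
    ∃ (B : CommRingCat.{u}) (φ : R ⟶ B), Set.range (Spec.map φ).base = E := by
  have hcc : CC (show Set (PrimeSpectrum R) from E) :=
    cc_of_isProConstructible_spectral (Y := ↥(Spec R)) hE
  refine ⟨CommRingCat.of (ProdRes (show Set (PrimeSpectrum R) from E)),
    CommRingCat.ofHom (toProdRes (show Set (PrimeSpectrum R) from E)), ?_⟩
  exact range_comap_toProdRes (show Set (PrimeSpectrum R) from E) hcc

end Groth.Agent.H2.ProConsAff
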