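import Groth.Agent.Lib.Helper2.ProConsAff2

/-!
# Pro-constructible subsets of quasi-compact quasi-separated schemes are images of affine
schemes, II (helper2)
-/

set_option autoImplicit false
set_option linter.style.haveILetI false
universe u

namespace Groth.Agent.H2.ProConsAff

open PrimeSpectrum Topology Set Groth.Agent.H2.ConsTop Groth.Agent.H2.ProConsLib
  AlgebraicGeometry CategoryTheory Limits
open scoped Set.Notation

/-- a pro-constructible subset of an affine scheme is the image of an affine scheme. -/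
theorem exists_range_eq_of_isProConstructible_affine {Y : Scheme.{u}} [IsAffine Y] {E : Set Y}
    (hE : ProCons.IsProConstructible E) :
    ∃ (B : CommRingCat.{u}) (g : Spec B ⟶ Y), Set.range g.base = E := by
  let e : Y ≅ Spec Γ(Y, ⊤) := Y.isoSpec
  have hE' : ProCons.IsProConstructible (e.inv.base ⁻¹' E) := isProConstructible_preimage e.inv hE
  obtain ⟨B, φ, hφ⟩ := exists_range_eq_of_isProConstructible_spec hE'
  refine ⟨B, Spec.map φ ≫ e.inv, ?_⟩
  ext y
  constructor
  · rintro ⟨z, rfl⟩
    have hz : (Spec.map φ).base z ∈ e.inv.base ⁻¹' E := by rw [← hφ]; exact ⟨z, rfl⟩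
    exact hz
  · intro hy
    have h1 : e.inv.base (e.hom.base y) = y := by
      rw [← Scheme.Hom.comp_apply, e.hom_inv_id]
      rfl
    have h2 : e.hom.base y ∈ e.inv.base ⁻¹' E := by
      change e.inv.base (e.hom.base y) ∈ E
      rw [h1]
      exact hy
    rw [← hφ] at h2
    obtain ⟨z, hz⟩ := h2
    refine ⟨z, ?_⟩
    rw [Scheme.Hom.comp_apply, hz, h1]

/-- **EGA IV 1.9.5 (ix)**, the direct implication: a pro-constructible subset of a quasi-compact
scheme is the image of an affine scheme. -/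
theorem exists_affine_range_eq_of_isProConstructible (X : Scheme.{u}) [CompactSpace X]
    {E : Set X} (hE : ProCons.IsProConstructible E) :
    ∃ (X' : Scheme.{u}) (f : X' ⟶ X), IsAffine X' ∧ Set.range f.base = E := by
  let 𝒰 : X.OpenCover := X.affineCover.finiteSubcover
  haveI : ∀ i, IsAffine (𝒰.X i) := fun i =>
    inferInstanceAs (IsAffine (X.affineCover.X _))
  have h : ∀ i : 𝒰.I₀, ∃ (B : CommRingCat.{u}) (g : Spec B ⟶ 𝒰.X i),
      Set.range g.base = (𝒰.f i).base ⁻¹' E :=
    fun i => exists_range_eq_of_isProConstructible_affine (isProConstructible_preimage (𝒰.f i) hE)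
  choose B g hg using h
  refine ⟨∐ fun i => Spec (B i), Sigma.desc (fun i => g i ≫ 𝒰.f i), inferInstance, ?_⟩
  ext x
  constructor
  · rintro ⟨z, rfl⟩
    obtain ⟨i, w, rfl⟩ := (sigmaOpenCover (fun i => Spec (B i))).exists_eq z
    change (Sigma.desc fun i => g i ≫ 𝒰.f i).base ((Sigma.ι (fun i => Spec (B i)) i).base w) ∈ E
    rw [← Scheme.Hom.comp_apply, Sigma.ι_desc, Scheme.Hom.comp_apply]
    have : (g i).base w ∈ (𝒰.f i).base ⁻¹' E := by rw [← hg i]; exact ⟨w, rfl⟩
    exact this
  · intro hx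
    obtain ⟨i, y, rfl⟩ := 𝒰.exists_eq x
    have hy : y ∈ (𝒰.f i).base ⁻¹' E := hx
    rw [← hg i] at hy
    obtain ⟨w, rfl⟩ := hy
    refine ⟨(Sigma.ι (fun i => Spec (B i)) i).base w, ?_⟩
    rw [← Scheme.Hom.comp_apply, Sigma.ι_desc, Scheme.Hom.comp_apply]

end Groth.Agent.H2.ProConsAff
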