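import Groth.Agent.Lib.Helper2.ProConsAff3

/-!
# Images of quasi-compact morphisms are the intersections of constructible sets (helper2)
-/

set_option autoImplicit false
set_option linter.style.haveILetI false
universe u

namespace Groth.Agent.H2.ProConsAff

open PrimeSpectrum Topology Set Groth.Agent.H2.ConsTop Groth.Agent.H2.ProConsLib
  AlgebraicGeometry CategoryTheory Limits
open scoped Set.Notation

lemma cc_univ {Y : Type*} [TopologicalSpace Y] : CC (univ : Set Y) :=
  @isClosed_univ Y (constructibleTopology Y)

/-- the image of a quasi-compact morphism into a quasi-compact quasi-separated scheme is closed in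
the constructible topology. -/
lemma cc_range_of_quasiCompact {X' X : Scheme.{u}} [CompactSpace X] [QuasiSeparatedSpace X]
    (f : X' ⟶ X) [QuasiCompact f] : CC (Set.range f.base) := by
  have huniv : ProCons.IsProConstructible (Set.univ : Set X') := by
    intro x
    refine ⟨Set.univ, isOpen_univ, Set.mem_univ _, ∅,
      fun T hT => absurd hT (Set.notMem_empty T), ?_⟩
    simp
  have h := isProConstructible_image f huniv
  rw [Set.image_univ] at h
  exact cc_of_isProConstructible_spectral (Y := ↥X) h

/-- intersections of constructible sets are pro-constructible. -/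
lemma isProConstructible_sInter {Y : Type*} [TopologicalSpace Y] (S : Set (Set Y))
    (hS : ∀ s ∈ S, IsConstructible s) : ProCons.IsProConstructible (⋂₀ S) := by
  intro x
  refine ⟨univ, isOpen_univ, mem_univ _, (fun s => (univ : Set Y) ↓∩ s) '' S, ?_, ?_⟩
  · rintro _ ⟨s, hs, rfl⟩
    exact ((hS s hs).preimage_of_isOpenEmbedding
      isOpen_univ.isOpenEmbedding_subtypeVal).isLocallyConstructible
  · ext y
    simp only [mem_preimage, mem_sInter, mem_image, forall_exists_index, and_imp,
      forall_apply_eq_imp_iff₂]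

theorem range_eq_iff_sInter_spec {A : Type u} [CommRing A] (E : Set (PrimeSpectrum A)) :
    (∃ (B : Type u) (_ : CommRing B) (f : A →+* B), Set.range (PrimeSpectrum.comap f) = E) ↔
      ∃ S : Set (Set (PrimeSpectrum A)), (∀ s ∈ S, IsConstructible s) ∧ E = ⋂₀ S := by
  constructor
  · rintro ⟨B, _, f, rfl⟩
    have hcc : CC (Set.range (Spec.map (CommRingCat.ofHom f)).base) :=
      cc_range_of_quasiCompact (X := Spec (CommRingCat.of A)) (Spec.map (CommRingCat.ofHom f))
    have hcc' : CC (Set.range (PrimeSpectrum.comap f)) := hcc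
    exact ⟨_, fun s hs => hs.1, CC.eq_sInter (Y := ↥(Spec (CommRingCat.of A))) hcc'⟩
  · rintro ⟨S, hS, rfl⟩
    have hcc : CC (⋂₀ S) := CC.sInter (fun s hs => cc_of_isConstructible (hS s hs))
    exact ⟨ProdRes (⋂₀ S), inferInstance, toProdRes (⋂₀ S), range_comap_toProdRes _ hcc⟩

theorem range_eq_iff_sInter_scheme {X : Scheme.{u}} [CompactSpace X] [QuasiSeparatedSpace X]
    (E : Set X) :
    (∃ (X' : Scheme.{u}) (f : X' ⟶ X), QuasiCompact f ∧ Set.range f.base = E) ↔
      ∃ S : Set (Set X), (∀ s ∈ S, IsConstructible s) ∧ E = ⋂₀ S := by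
  constructor
  · rintro ⟨X', f, hf, rfl⟩
    haveI := hf
    have hcc := cc_range_of_quasiCompact f
    exact ⟨_, fun s hs => hs.1, hcc.eq_sInter⟩
  · rintro ⟨S, hS, rfl⟩
    obtain ⟨X', f, hX', hf⟩ :=
      exists_affine_range_eq_of_isProConstructible X (isProConstructible_sInter S hS)
    haveI := hX'
    exact ⟨X', f, inferInstance, hf⟩

end Groth.Agent.H2.ProConsAff
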