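import Groth.Agent.Lib.Helper2.AlgzML

/-!
# Pro-isomorphic systems have isomorphic limits (helper2)

Only the half needed: a retraction `limit X ⟶ limit Y ⟶ limit X`.
-/

set_option autoImplicit false
set_option linter.style.haveILetI false
universe v u
open CategoryTheory Limits Opposite

namespace Groth.Agent.H2.ProLim

open Groth.Agent.H2.AR ARSys Groth.Agent.H2.AlgzExt

variable {C : Type u} [Category.{v} C] [Abelian C] {X Y : PS C} {m : ℕ → ℕ} {hm : Monotone m}
  (a : DerCA.reindex X hm ⟶ Y)

/-- a back map at level `n`. -/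
structure Back (n : ℕ) where
  k : ℕ
  hk : n ≤ k
  b : Y.obj (op k) ⟶ X.obj (op (m n))
  h1 : reApp a k ≫ b = tr X (hm hk)
  h2 : b ≫ reApp a n = tr Y hk

variable {a}

lemma nonempty_back (ha : DerCA.IsProIso a) (n : ℕ) : Nonempty (Back a n) := by
  obtain ⟨k, hk, b, h1, h2⟩ := proIso_reApp ha n
  exact ⟨⟨k, hk, b, h1, h2⟩⟩

/-- restriction of a back map to a lower level. -/
def Back.restrict {n n' : ℕ} (B : Back a n') (h : n ≤ n') : Back a n where
  k := B.k
  hk := h.trans B.hk
  b := B.b ≫ tr X (hm h)
  h1 := by rw [← Category.assoc, B.h1, tr_comp]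
  h2 := by
    have nat := reApp_naturality a h
    rw [Category.assoc, nat, ← Category.assoc, B.h2, tr_comp]

variable [HasLimit Y]

/-- the map `limit Y ⟶ X_{m n}` attached to a back map. -/
noncomputable def Back.W {n : ℕ} (B : Back a n) : limit Y ⟶ X.obj (op (m n)) :=
  limit.π Y (op B.k) ≫ B.b

lemma limit_π_tr (Z : PS C) [HasLimit Z] {n k : ℕ} (h : n ≤ k) :
    limit.π Z (op k) ≫ tr Z h = limit.π Z (op n) :=
  limit.w Z (homOfLE h).op

lemma Back.W_eq {n : ℕ} (B : Back a n) {K' K : ℕ} (hBK : B.k ≤ K') (hK : K' ≤ K)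
    (c : Y.obj (op K) ⟶ X.obj (op (m K'))) (hc2 : c ≫ reApp a K' = tr Y hK) :
    B.W = limit.π Y (op K) ≫ c ≫ tr X (hm (B.hk.trans hBK)) := by
  unfold Back.W
  rw [← limit_π_tr Y (hBK.trans hK), Category.assoc]
  congr 1
  have nat := reApp_naturality a hBK
  rw [← tr_comp Y hBK hK, ← hc2, Category.assoc, Category.assoc, ← reassoc_of% nat,
    B.h1, tr_comp]

lemma Back.W_indep (ha : DerCA.IsProIso a) {n : ℕ} (B B' : Back a n) : B.W = B'.W := by
  obtain ⟨K, hK, c, -, hc2⟩ := proIso_reApp ha (max B.k B'.k)
  rw [B.W_eq (le_max_left _ _) hK c hc2, B'.W_eq (le_max_right _ _) hK c hc2]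

section Maps

variable [HasLimit X] (hle : ∀ n, n ≤ m n)

variable (a) in
/-- the map `limit X ⟶ limit Y` induced by `a`. -/
noncomputable def φ : limit X ⟶ limit Y :=
  limit.lift Y
    { pt := limit X
      π :=
        { app := fun n => limit.π X (op (m n.unop)) ≫ reApp a n.unop
          naturality := by
            intro i j f
            obtain ⟨k⟩ := i
            obtain ⟨n⟩ := j
            have h : n ≤ k := leOfHom f.unop
            have hf : f = (homOfLE h).op := Subsingleton.elim _ _
            subst hf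
            change 𝟙 _ ≫ limit.π X (op (m n)) ≫ reApp a n =
              (limit.π X (op (m k)) ≫ reApp a k) ≫ tr Y h
            have nat := reApp_naturality a h
            rw [Category.id_comp, Category.assoc, ← nat, ← Category.assoc, limit_π_tr] } }

lemma φ_π (n : ℕ) : φ a ≫ limit.π Y (op n) = limit.π X (op (m n)) ≫ reApp a n :=
  limit.lift_π _ _

/-- the chosen back maps. -/
noncomputable def back (ha : DerCA.IsProIso a) (n : ℕ) : Back a n := (nonempty_back ha n).some

include hle in
lemma back_W_tr (ha : DerCA.IsProIso a) {n k : ℕ} (h : n ≤ k) :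
    (back ha k).W ≫ tr X (hle k) ≫ tr X h = (back ha n).W ≫ tr X (hle n) := by
  rw [Back.W_indep ha (back ha n) ((back ha k).restrict h)]
  unfold Back.W Back.restrict
  dsimp only
  rw [Category.assoc, Category.assoc, Category.assoc, tr_comp, tr_comp]

/-- the map `limit Y ⟶ limit X` induced by the back maps. -/
noncomputable def ψ (ha : DerCA.IsProIso a) : limit Y ⟶ limit X :=
  limit.lift X
    { pt := limit Y
      π :=
        { app := fun n => (back ha n.unop).W ≫ tr X (hle n.unop)
          naturality := by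
            intro i j f
            obtain ⟨k⟩ := i
            obtain ⟨n⟩ := j
            have h : n ≤ k := leOfHom f.unop
            have hf : f = (homOfLE h).op := Subsingleton.elim _ _
            subst hf
            change 𝟙 _ ≫ (back ha n).W ≫ tr X (hle n) =
              ((back ha k).W ≫ tr X (hle k)) ≫ tr X h
            rw [Category.id_comp, Category.assoc, back_W_tr hle ha h] } }

lemma ψ_π (ha : DerCA.IsProIso a) (n : ℕ) :
    ψ hle ha ≫ limit.π X (op n) = (back ha n).W ≫ tr X (hle n) :=
  limit.lift_π _ _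

/-- `ψ` is a retraction of `φ`. -/
theorem φ_ψ (ha : DerCA.IsProIso a) : φ a ≫ ψ hle ha = 𝟙 (limit X) := by
  apply limit.hom_ext
  intro j
  obtain ⟨n⟩ := j
  rw [Category.assoc, ψ_π, Category.id_comp]
  unfold Back.W
  rw [← Category.assoc, ← Category.assoc, φ_π, Category.assoc (limit.π X _), (back ha n).h1,
    limit_π_tr, limit_π_tr]

end Maps

end Groth.Agent.H2.ProLim
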