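import Groth.Agent.Lib.Helper2.ProTri3

/-!
# Generic lemmas on ℕ-indexed inverse systems as pro-objects
-/

universe v v' u u'

open CategoryTheory CategoryTheory.Limits Opposite

namespace Groth.Agent.H2.ProSys

variable {C : Type u} [Category.{v} C] {C' : Type u'} [Category.{v'} C']

/-- Components of an arbitrary levelwise map with a clean type. -/
def ap {X Y : ARSys.PS C} (f : X ⟶ Y) (n : ℕ) : X.obj (op n) ⟶ Y.obj (op n) := f.app (op n)

lemma ap_tr {X Y : ARSys.PS C} (f : X ⟶ Y) {n m : ℕ} (hnm : n ≤ m) :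
    ARSys.tr X hnm ≫ ap f n = ap f m ≫ ARSys.tr Y hnm :=
  (f.naturality (homOfLE hnm).op)

/-- Build a cone from a compatible family. -/
def mkCone {X : ARSys.PS C} {A : C} (c : ∀ n : ℕ, A ⟶ X.obj (op n))
    (hc : ∀ {n m : ℕ} (h : n ≤ m), c m ≫ ARSys.tr X h = c n) :
    (Functor.const ℕᵒᵖ).obj A ⟶ X where
  app n := c n.unop
  naturality a b φ := by
    have hle : b.unop ≤ a.unop := leOfHom φ.unop
    have e : φ = (homOfLE hle).op := Subsingleton.elim _ _
    subst e
    dsimp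
    rw [Category.id_comp]
    exact (hc hle).symm

lemma mkCone_app {X : ARSys.PS C} {A : C} (c : ∀ n : ℕ, A ⟶ X.obj (op n))
    (hc : ∀ {n m : ℕ} (h : n ≤ m), c m ≫ ARSys.tr X h = c n) (n : ℕ) :
    (mkCone c hc).app (op n) = c n := rfl

lemma cone_tr {X : ARSys.PS C} {A : C} (c : (Functor.const ℕᵒᵖ).obj A ⟶ X) {n m : ℕ}
    (h : n ≤ m) : c.app (op m) ≫ ARSys.tr X h = c.app (op n) := by
  have := c.naturality (homOfLE h).op
  simpa using this.symm

/-- Essential constancy transfers along an isomorphism of systems. -/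
lemma isEssConstant_of_iso {X X' : ARSys.PS C} (α : X ≅ X') {A : C}
    {c : (Functor.const ℕᵒᵖ).obj A ⟶ X} (h : DerCA.IsEssConstant X A c) :
    DerCA.IsEssConstant X' A (c ≫ α.hom) := by
  obtain ⟨i, s, hs, hk⟩ := h
  refine ⟨i, α.inv.app (op i) ≫ s, ?_, fun j => ?_⟩
  · rw [NatTrans.comp_app, Category.assoc, ← Category.assoc (α.hom.app (op i)),
      Iso.hom_inv_id_app, Category.id_comp, hs]
  · obtain ⟨k, hi, hj, e⟩ := hk j
    refine ⟨k, hi, hj, ?_⟩
    have e1 : ARSys.tr X' hj = α.inv.app (op k) ≫ ARSys.tr X hj ≫ α.hom.app (op j) := by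
      have := α.hom.naturality (homOfLE hj).op
      rw [this, ← Category.assoc, Iso.inv_hom_id_app, Category.id_comp]
    have e2 : ARSys.tr X' hi ≫ α.inv.app (op i) = α.inv.app (op k) ≫ ARSys.tr X hi :=
      (α.inv.naturality (homOfLE hi).op)
    rw [e1, e, NatTrans.comp_app]
    simp only [← Category.assoc]
    rw [e2]

/-- A system of zero objects is essentially constant. -/
lemma isEssConstant_of_isZero [HasZeroMorphisms C] {X : ARSys.PS C}
    (hX : ∀ n : ℕ, IsZero (X.obj (op n))) {Z : C} (hZ : IsZero Z) :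
    ∃ c : (Functor.const ℕᵒᵖ).obj Z ⟶ X, DerCA.IsEssConstant X Z c := by
  refine ⟨mkCone (fun n => 0) (fun _ => zero_comp), 0, 0, hZ.eq_of_src _ _, fun j => ?_⟩
  exact ⟨j, Nat.zero_le _, le_refl _, (hX j).eq_of_src _ _⟩

/-- Essential constancy lifts along a functor which is fully faithful on a class of objects
containing the terms of the system and the candidate value. -/
lemma isEssConstant_lift (F : C ⥤ C') (P : C → Prop)
    (hF : ∀ U V : C, P U → P V → Function.Bijective (fun φ : U ⟶ V => F.map φ))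
    (Y : ARSys.PS C) (hY : ∀ n : ℕ, P (Y.obj (op n))) (L : C) (hL : P L)
    {M : C'} (e : F.obj L ≅ M) {c' : (Functor.const ℕᵒᵖ).obj M ⟶ Y ⋙ F}
    (h : DerCA.IsEssConstant (Y ⋙ F) M c') :
    ∃ c : (Functor.const ℕᵒᵖ).obj L ⟶ Y, DerCA.IsEssConstant Y L c := by
  obtain ⟨i, s'', hs'', hk''⟩ := h
  let c'n : ∀ n : ℕ, M ⟶ F.obj (Y.obj (op n)) := fun n => c'.app (op n)
  let s' : F.obj (Y.obj (op i)) ⟶ M := s''
  have hs' : c'n i ≫ s' = 𝟙 M := hs''
  have hk' : ∀ j : ℕ, ∃ (k : ℕ) (hi : i ≤ k) (hj : j ≤ k),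
      F.map (ARSys.tr Y hj) = F.map (ARSys.tr Y hi) ≫ s' ≫ c'n j := hk''
  have hc'n : ∀ {n m : ℕ} (h : n ≤ m), c'n m ≫ F.map (ARSys.tr Y h) = c'n n :=
    fun h => cone_tr c' h
  clear_value c'n s'
  have hc : ∀ n : ℕ, ∃ c : L ⟶ Y.obj (op n), F.map c = e.hom ≫ c'n n :=
    fun n => (hF L _ hL (hY n)).2 _
  choose c hcn using hc
  have hnat : ∀ {n m : ℕ} (h : n ≤ m), c m ≫ ARSys.tr Y h = c n := by
    intro n m h
    apply (hF L _ hL (hY n)).1
    dsimp only
    rw [Functor.map_comp, hcn, hcn, Category.assoc, hc'n]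
  obtain ⟨s, hs⟩ : ∃ s : Y.obj (op i) ⟶ L, F.map s = s' ≫ e.inv := (hF _ L (hY i) hL).2 _
  refine ⟨mkCone c hnat, i, s, ?_, fun j => ?_⟩
  · apply (hF L L hL hL).1
    dsimp only
    rw [mkCone_app, Functor.map_comp, hcn, hs, Category.assoc, ← Category.assoc (c'n i),
      hs', Category.id_comp, Iso.hom_inv_id, CategoryTheory.Functor.map_id]
  · obtain ⟨k, hi, hj, ek⟩ := hk' j
    refine ⟨k, hi, hj, ?_⟩
    apply (hF _ _ (hY k) (hY j)).1
    dsimp only
    rw [mkCone_app, Functor.map_comp, Functor.map_comp, hs, hcn]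
    rw [ek]
    simp only [Category.assoc, Iso.inv_hom_id_assoc]

/-- A functor `H` with a fully faithful partial section `G` (`G ⋙ H ≅ 𝟭`) is fully faithful
on the essential image of `G`. -/
lemma bijective_map_of_section (G : C' ⥤ C) (H : C ⥤ C') [G.Full] [G.Faithful]
    (η : G ⋙ H ≅ 𝟭 C') {U V : C} {N N' : C'} (eU : U ≅ G.obj N) (eV : V ≅ G.obj N') :
    Function.Bijective (fun φ : U ⟶ V => H.map φ) := by
  have key : ∀ ψ : N ⟶ N', H.map (G.map ψ) = η.hom.app N ≫ ψ ≫ η.inv.app N' := by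
    intro ψ
    have := η.hom.naturality ψ
    dsimp at this
    rw [← Category.assoc, ← this, Category.assoc, Iso.hom_inv_id_app]
    exact (Category.comp_id _).symm
  constructor
  · intro φ₁ φ₂ h12
    dsimp only at h12
    obtain ⟨ψ₁, h₁⟩ := G.map_surjective (eU.inv ≫ φ₁ ≫ eV.hom)
    obtain ⟨ψ₂, h₂⟩ := G.map_surjective (eU.inv ≫ φ₂ ≫ eV.hom)
    have e12 : ψ₁ = ψ₂ := by
      have e1 := key ψ₁
      have e2 := key ψ₂
      rw [h₁] at e1
      rw [h₂] at e2
      have : η.hom.app N ≫ ψ₁ ≫ η.inv.app N' = η.hom.app N ≫ ψ₂ ≫ η.inv.app N' := by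
        rw [← e1, ← e2, Functor.map_comp, Functor.map_comp, Functor.map_comp, Functor.map_comp,
          h12]
      have h3 := congrArg (fun t => η.inv.app N ≫ t ≫ η.hom.app N') this
      simpa using h3
    have : eU.inv ≫ φ₁ ≫ eV.hom = eU.inv ≫ φ₂ ≫ eV.hom := by rw [← h₁, ← h₂, e12]
    simpa using this
  · intro θ
    refine ⟨eU.hom ≫ G.map (η.inv.app N ≫ (H.map eU.inv ≫ θ ≫ H.map eV.hom) ≫ η.hom.app N') ≫
      eV.inv, ?_⟩
    dsimp only
    rw [Functor.map_comp, Functor.map_comp, key]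
    simp only [Category.assoc, Iso.hom_inv_id_app_assoc, Iso.hom_inv_id_app]
    erw [Category.id_comp]
    rw [← Functor.map_comp_assoc, Iso.hom_inv_id,
      CategoryTheory.Functor.map_id, Category.id_comp,
      ← Functor.map_comp, Iso.hom_inv_id, CategoryTheory.Functor.map_id, Category.comp_id]

end Groth.Agent.H2.ProSys
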