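import Groth.Prelude.Def_DerCA
import Mathlib.CategoryTheory.Triangulated.Pretriangulated

/-!
# Essentially constant inverse systems in triangulated categories
-/

universe v u

open CategoryTheory CategoryTheory.Limits Opposite Pretriangulated

namespace Groth.Agent.H2.ProTri

variable {D : Type u} [Category.{v} D] [Preadditive D] [HasZeroObject D] [HasShift D ℤ]
  [∀ n : ℤ, (shiftFunctor D n).Additive] [Pretriangulated D]

/-- A split monomorphism in a pretriangulated category has a complement, compatible with a given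
retraction. -/
lemma exists_complement {A X : D} (c : A ⟶ X) (r : X ⟶ A) (h : c ≫ r = 𝟙 A) :
    ∃ (Z : D) (q : X ⟶ Z) (e : X ≅ A ⊞ Z), e.hom = biprod.lift r q ∧ c ≫ q = 0 := by
  obtain ⟨Z, q, δ, hT⟩ := distinguished_cocone_triangle c
  have hcq : c ≫ q = 0 := comp_distTriang_mor_zero₁₂ _ hT
  have hδ : δ = 0 := by
    have h1 : δ ≫ (shiftFunctor D (1 : ℤ)).map c = 0 := comp_distTriang_mor_zero₃₁ _ hT
    have h2 : δ = δ ≫ (shiftFunctor D (1 : ℤ)).map c ≫ (shiftFunctor D (1 : ℤ)).map r := by
      rw [← Functor.map_comp, h, CategoryTheory.Functor.map_id, Category.comp_id]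
    rw [h2, ← Category.assoc, h1, zero_comp]
  haveI : Epi q := (Triangle.mk c q δ).epi₂ hT hδ
  obtain ⟨inr0, hinr⟩ := Triangle.yoneda_exact₂ _ hT (𝟙 X - r ≫ c) (by
    change c ≫ (𝟙 X - r ≫ c) = 0
    rw [Preadditive.comp_sub, Category.comp_id, ← Category.assoc, h, Category.id_comp, sub_self])
  let inr : Z ⟶ X := inr0
  have hinr' : q ≫ inr = 𝟙 X - r ≫ c := hinr.symm
  have h3 : inr ≫ r = 0 := by
    rw [← cancel_epi q, ← Category.assoc, hinr', Preadditive.sub_comp, Category.id_comp,
      Category.assoc, h, Category.comp_id, sub_self, comp_zero]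
  have h4 : inr ≫ q = 𝟙 Z := by
    rw [← cancel_epi q, ← Category.assoc, hinr', Preadditive.sub_comp, Category.id_comp,
      Category.assoc, hcq, comp_zero, sub_zero, Category.comp_id]
  refine ⟨Z, q, ⟨biprod.lift r q, biprod.desc c inr, ?_, ?_⟩, rfl, hcq⟩
  · rw [biprod.lift_desc, hinr']
    abel
  · apply biprod.hom_ext <;> apply biprod.hom_ext'
    · simp [h]
    · simpa using h3
    · simp [hcq]
    · simpa using h4

end Groth.Agent.H2.ProTri
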