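import Groth.Agent.Lib.Helper2.ProTri1

/-!
# Two out of three for essentially constant inverse systems of distinguished triangles
-/

universe v u

open CategoryTheory CategoryTheory.Limits Opposite Pretriangulated

namespace Groth.Agent.H2.ProTri

variable {D : Type u} [Category.{v} D] [Preadditive D] [HasZeroObject D] [HasShift D ℤ]
  [∀ n : ℤ, (shiftFunctor D n).Additive] [Pretriangulated D]

/-- Extension along the first morphism of a distinguished triangle. -/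
lemma yoneda_exact₁ (T : Triangle D) (hT : T ∈ distTriang D) {E : D} (α : T.obj₁ ⟶ E)
    (hα : T.mor₃ ≫ α⟦(1 : ℤ)⟧' = 0) : ∃ ψ : T.obj₂ ⟶ E, α = T.mor₁ ≫ ψ := by
  obtain ⟨g, hg⟩ := Triangle.yoneda_exact₂ _ (rot_of_distTriang _ (rot_of_distTriang _ hT))
    (α⟦(1 : ℤ)⟧') hα
  let g' : (T.obj₂)⟦(1 : ℤ)⟧ ⟶ E⟦(1 : ℤ)⟧ := g
  have hg' : α⟦(1 : ℤ)⟧' = (-(T.mor₁⟦(1 : ℤ)⟧')) ≫ g' := hg
  obtain ⟨w, hw⟩ := (shiftFunctor D (1 : ℤ)).map_surjective g'
  refine ⟨-w, ?_⟩
  apply (shiftFunctor D (1 : ℤ)).map_injective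
  rw [hg', ← hw, Preadditive.comp_neg, Functor.map_neg, Functor.map_comp, Preadditive.neg_comp]

section systems

variable {X : ARSys.PS D}

lemma tr_tr {n m k : ℕ} (h : n ≤ m) (h' : m ≤ k) :
    ARSys.tr X h' ≫ ARSys.tr X h = ARSys.tr X (h.trans h') := by
  dsimp only [ARSys.tr]
  rw [← X.map_comp]
  rfl

/-- The components of a cone, with a clean type. -/
def cn {A : D} (c : (Functor.const ℕᵒᵖ).obj A ⟶ X) (n : ℕ) : A ⟶ X.obj (op n) := c.app (op n)

lemma cn_tr {A : D} (c : (Functor.const ℕᵒᵖ).obj A ⟶ X) {n m : ℕ} (h : n ≤ m) :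
    cn c m ≫ ARSys.tr X h = cn c n := by
  have := c.naturality (homOfLE h).op
  simpa [cn] using this.symm

/-- The data of essential constancy at a given index. -/
structure ECData (X : ARSys.PS D) (A : D) (c : (Functor.const ℕᵒᵖ).obj A ⟶ X) (i : ℕ) where
  /-- the retraction -/
  s : X.obj (op i) ⟶ A
  hs : cn c i ≫ s = 𝟙 A
  hk : ∀ j : ℕ, ∃ (k : ℕ) (hi : i ≤ k) (hj : j ≤ k),
    ARSys.tr X hj = ARSys.tr X hi ≫ s ≫ cn c j

/-- Essential constancy data may be moved to a larger index. -/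
def ECData.shift {A : D} {c : (Functor.const ℕᵒᵖ).obj A ⟶ X} {i : ℕ} (d : ECData X A c i)
    {i' : ℕ} (hi' : i ≤ i') : ECData X A c i' where
  s := ARSys.tr X hi' ≫ d.s
  hs := by rw [← Category.assoc, cn_tr, d.hs]
  hk j := by
    obtain ⟨k, hi, hj, hk⟩ := d.hk j
    refine ⟨max k i', le_max_right _ _, hj.trans (le_max_left _ _), ?_⟩
    have e1 : ARSys.tr X (hj.trans (le_max_left k i')) =
        ARSys.tr X (le_max_left k i') ≫ ARSys.tr X hj := (tr_tr hj (le_max_left k i')).symm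
    have e2 : ARSys.tr X (le_max_right k i') ≫ ARSys.tr X hi' =
        ARSys.tr X (le_max_left k i') ≫ ARSys.tr X hi := by
      rw [tr_tr, tr_tr]
    rw [e1, hk]
    simp only [← Category.assoc]
    rw [e2]

lemma ECData.exists_of_isEssConstant {A : D} {c : (Functor.const ℕᵒᵖ).obj A ⟶ X}
    (h : DerCA.IsEssConstant X A c) : ∃ i : ℕ, Nonempty (ECData X A c i) := by
  obtain ⟨i, s, hs, hk⟩ := h
  exact ⟨i, ⟨⟨s, hs, hk⟩⟩⟩

end systems

end Groth.Agent.H2.ProTri
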