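import Groth.Agent.Lib.Helper2.ProTri2

/-!
# Two out of three for essentially constant inverse systems of distinguished triangles: core
-/

universe v u

open CategoryTheory CategoryTheory.Limits Opposite Pretriangulated

namespace Groth.Agent.H2.ProTri

variable {D : Type u} [Category.{v} D] [Preadditive D] [HasZeroObject D] [HasShift D ℤ]
  [∀ n : ℤ, (shiftFunctor D n).Additive] [Pretriangulated D]

section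

variable {X Y Z : ARSys.PS D}

/-- Components of a levelwise map, with a clean type. -/
def ap (f : X ⟶ Y) (n : ℕ) : X.obj (op n) ⟶ Y.obj (op n) := f.app (op n)

lemma ap_tr (f : X ⟶ Y) {n m : ℕ} (hnm : n ≤ m) :
    ARSys.tr X hnm ≫ ap f n = ap f m ≫ ARSys.tr Y hnm :=
  (f.naturality (homOfLE hnm).op)

/-- Components of the connecting map, with a clean type. -/
def hh (h : Z ⟶ X ⋙ shiftFunctor D (1 : ℤ)) (n : ℕ) :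
    Z.obj (op n) ⟶ (X.obj (op n))⟦(1 : ℤ)⟧ := h.app (op n)

lemma hh_tr (h : Z ⟶ X ⋙ shiftFunctor D (1 : ℤ)) {n m : ℕ} (hnm : n ≤ m) :
    ARSys.tr Z hnm ≫ hh h n = hh h m ≫ (ARSys.tr X hnm)⟦(1 : ℤ)⟧' :=
  (h.naturality (homOfLE hnm).op)

end

/-- The data for the core argument. -/
structure Core {X Y Z : ARSys.PS D} (f : X ⟶ Y) (g : Y ⟶ Z)
    (h : Z ⟶ X ⋙ shiftFunctor D (1 : ℤ)) where
  hT : ∀ n : ℕ, Triangle.mk (ap f n) (ap g n) (hh h n) ∈ distTriang D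
  A : D
  cA : (Functor.const ℕᵒᵖ).obj A ⟶ X
  C : D
  cC : (Functor.const ℕᵒᵖ).obj C ⟶ Z
  i : ℕ
  dX : ECData X A cA i
  dZ : ECData Z C cC i
  B : D
  a : A ⟶ B
  b : B ⟶ C
  δ : C ⟶ A⟦(1 : ℤ)⟧
  hδ : δ = cn cC i ≫ hh h i ≫ dX.s⟦(1 : ℤ)⟧'
  hstar : hh h i ≫ dX.s⟦(1 : ℤ)⟧' = dZ.s ≫ δ
  dist : Triangle.mk a b δ ∈ distTriang D
  sB : Y.obj (op i) ⟶ B
  hsB₁ : ap f i ≫ sB = dX.s ≫ a
  hsB₂ : ap g i ≫ dZ.s = sB ≫ b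

namespace Core

variable {X Y Z : ARSys.PS D} {f : X ⟶ Y} {g : Y ⟶ Z}
  {h : Z ⟶ X ⋙ shiftFunctor D (1 : ℤ)} (S : Core f g h)

lemma K (m : ℕ) : S.δ ≫ (cn S.cA m)⟦(1 : ℤ)⟧' = cn S.cC m ≫ hh h m := by
  obtain ⟨k, hi, hm, hk⟩ := S.dX.hk m
  calc S.δ ≫ (cn S.cA m)⟦(1 : ℤ)⟧'
      = cn S.cC S.i ≫ hh h S.i ≫ S.dX.s⟦(1 : ℤ)⟧' ≫ (cn S.cA m)⟦(1 : ℤ)⟧' := by
        rw [S.hδ]; simp only [Category.assoc]
    _ = (cn S.cC k ≫ ARSys.tr Z hi) ≫ hh h S.i ≫ S.dX.s⟦(1 : ℤ)⟧' ≫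
          (cn S.cA m)⟦(1 : ℤ)⟧' := by rw [cn_tr]
    _ = cn S.cC k ≫ hh h k ≫ (ARSys.tr X hi ≫ S.dX.s ≫ cn S.cA m)⟦(1 : ℤ)⟧' := by
        rw [Category.assoc, ← Category.assoc (ARSys.tr Z hi), hh_tr]
        simp only [Functor.map_comp, Category.assoc]
    _ = cn S.cC k ≫ hh h k ≫ (ARSys.tr X hm)⟦(1 : ℤ)⟧' := by rw [hk]
    _ = cn S.cC k ≫ ARSys.tr Z hm ≫ hh h m := by rw [hh_tr]
    _ = cn S.cC m ≫ hh h m := by rw [← Category.assoc, cn_tr]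

lemma inj {E : D} (ψ : S.B ⟶ E) {m : ℕ} (hm : S.i ≤ m)
    (h0 : ARSys.tr Y hm ≫ S.sB ≫ ψ = 0) : ψ = 0 := by
  have h1 : S.a ≫ ψ = 0 := by
    have e : ARSys.tr X hm ≫ S.dX.s ≫ S.a ≫ ψ = 0 := by
      calc ARSys.tr X hm ≫ S.dX.s ≫ S.a ≫ ψ
          = ARSys.tr X hm ≫ (ap f S.i ≫ S.sB) ≫ ψ := by
            rw [S.hsB₁]; simp only [Category.assoc]
        _ = (ARSys.tr X hm ≫ ap f S.i) ≫ S.sB ≫ ψ := by simp only [Category.assoc]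
        _ = ap f m ≫ ARSys.tr Y hm ≫ S.sB ≫ ψ := by rw [ap_tr, Category.assoc]
        _ = 0 := by rw [h0, comp_zero]
    calc S.a ≫ ψ = (cn S.cA S.i ≫ S.dX.s) ≫ S.a ≫ ψ := by
          rw [S.dX.hs, Category.id_comp]
      _ = (cn S.cA m ≫ ARSys.tr X hm) ≫ S.dX.s ≫ S.a ≫ ψ := by rw [cn_tr, Category.assoc]
      _ = 0 := by rw [Category.assoc, e, comp_zero]
  obtain ⟨χ, hχ'⟩ : ∃ χ : S.C ⟶ E, ψ = S.b ≫ χ := Triangle.yoneda_exact₂ _ S.dist ψ h1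
  have h2 : ap g m ≫ (ARSys.tr Z hm ≫ S.dZ.s ≫ χ) = 0 := by
    calc ap g m ≫ (ARSys.tr Z hm ≫ S.dZ.s ≫ χ)
        = (ap g m ≫ ARSys.tr Z hm) ≫ S.dZ.s ≫ χ := by simp only [Category.assoc]
      _ = ARSys.tr Y hm ≫ (ap g S.i ≫ S.dZ.s) ≫ χ := by
          rw [← ap_tr]; simp only [Category.assoc]
      _ = ARSys.tr Y hm ≫ S.sB ≫ ψ := by rw [S.hsB₂, hχ']; simp only [Category.assoc]
      _ = 0 := h0
  obtain ⟨ω, hω'⟩ : ∃ ω : (X.obj (op m))⟦(1 : ℤ)⟧ ⟶ E,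
      ARSys.tr Z hm ≫ S.dZ.s ≫ χ = hh h m ≫ ω :=
    Triangle.yoneda_exact₃ _ (S.hT m) (ARSys.tr Z hm ≫ S.dZ.s ≫ χ) h2
  obtain ⟨k, hi, hmk, hk⟩ := S.dX.hk m
  have h3 : ARSys.tr Z hi ≫ S.dZ.s ≫ χ =
      ARSys.tr Z hi ≫ S.dZ.s ≫ S.δ ≫ (cn S.cA m)⟦(1 : ℤ)⟧' ≫ ω := by
    calc ARSys.tr Z hi ≫ S.dZ.s ≫ χ
        = ARSys.tr Z hmk ≫ ARSys.tr Z hm ≫ S.dZ.s ≫ χ := by
          rw [← Category.assoc (ARSys.tr Z hmk), tr_tr]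
      _ = (ARSys.tr Z hmk ≫ hh h m) ≫ ω := by rw [hω', Category.assoc]
      _ = hh h k ≫ (ARSys.tr X hi ≫ S.dX.s ≫ cn S.cA m)⟦(1 : ℤ)⟧' ≫ ω := by
          rw [hh_tr, hk, Category.assoc]
      _ = (hh h k ≫ (ARSys.tr X hi)⟦(1 : ℤ)⟧') ≫ S.dX.s⟦(1 : ℤ)⟧' ≫
            (cn S.cA m)⟦(1 : ℤ)⟧' ≫ ω := by
          simp only [Functor.map_comp, Category.assoc]
      _ = ARSys.tr Z hi ≫ (hh h S.i ≫ S.dX.s⟦(1 : ℤ)⟧') ≫ (cn S.cA m)⟦(1 : ℤ)⟧' ≫ ω := by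
          rw [← hh_tr]; simp only [Category.assoc]
      _ = ARSys.tr Z hi ≫ S.dZ.s ≫ S.δ ≫ (cn S.cA m)⟦(1 : ℤ)⟧' ≫ ω := by
          rw [S.hstar]; simp only [Category.assoc]
  have h4 : χ = S.δ ≫ (cn S.cA m)⟦(1 : ℤ)⟧' ≫ ω := by
    have e := congrArg (fun t => cn S.cC k ≫ t) h3
    simp only [← Category.assoc] at e
    rw [cn_tr, S.dZ.hs] at e
    simpa only [Category.id_comp, Category.assoc] using e
  rw [hχ', h4, ← Category.assoc]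
  have e0 : S.b ≫ S.δ = 0 := comp_distTriang_mor_zero₂₃ _ S.dist
  rw [e0, zero_comp]

lemma surj {E : D} {n : ℕ} (φ : Y.obj (op n) ⟶ E) :
    ∃ (m : ℕ) (hn : n ≤ m) (hi : S.i ≤ m) (ψ : S.B ⟶ E),
      ARSys.tr Y hn ≫ φ = ARSys.tr Y hi ≫ S.sB ≫ ψ := by
  obtain ⟨k, hik, hnk, hk⟩ := S.dX.hk n
  have hα : S.δ ≫ (cn S.cA n ≫ ap f n ≫ φ)⟦(1 : ℤ)⟧' = 0 := by
    have e0 : hh h n ≫ (ap f n)⟦(1 : ℤ)⟧' = 0 := comp_distTriang_mor_zero₃₁ _ (S.hT n)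
    rw [Functor.map_comp, ← Category.assoc, S.K, Functor.map_comp, Category.assoc,
      ← Category.assoc (hh h n), e0, zero_comp, comp_zero]
  obtain ⟨ψ₀, hψ₀⟩ : ∃ ψ₀ : S.B ⟶ E, cn S.cA n ≫ ap f n ≫ φ = S.a ≫ ψ₀ :=
    yoneda_exact₁ _ S.dist _ hα
  have h1 : ap f k ≫ (ARSys.tr Y hnk ≫ φ - ARSys.tr Y hik ≫ S.sB ≫ ψ₀) = 0 := by
    rw [Preadditive.comp_sub, sub_eq_zero]
    calc ap f k ≫ ARSys.tr Y hnk ≫ φ = ARSys.tr X hnk ≫ ap f n ≫ φ := by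
          rw [← Category.assoc, ← ap_tr, Category.assoc]
      _ = ARSys.tr X hik ≫ S.dX.s ≫ (cn S.cA n ≫ ap f n ≫ φ) := by
          rw [hk]; simp only [Category.assoc]
      _ = ARSys.tr X hik ≫ (S.dX.s ≫ S.a) ≫ ψ₀ := by rw [hψ₀]; simp only [Category.assoc]
      _ = (ARSys.tr X hik ≫ ap f S.i) ≫ S.sB ≫ ψ₀ := by
          rw [← S.hsB₁]; simp only [Category.assoc]
      _ = ap f k ≫ ARSys.tr Y hik ≫ S.sB ≫ ψ₀ := by rw [ap_tr, Category.assoc]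
  obtain ⟨χ, hχ⟩ : ∃ χ : Z.obj (op k) ⟶ E,
      ARSys.tr Y hnk ≫ φ - ARSys.tr Y hik ≫ S.sB ≫ ψ₀ = ap g k ≫ χ :=
    Triangle.yoneda_exact₂ _ (S.hT k) _ h1
  obtain ⟨l, hil, hkl, hl⟩ := S.dZ.hk k
  refine ⟨l, hnk.trans hkl, hil, ψ₀ + S.b ≫ cn S.cC k ≫ χ, ?_⟩
  have h2 : ARSys.tr Y hkl ≫ (ARSys.tr Y hnk ≫ φ - ARSys.tr Y hik ≫ S.sB ≫ ψ₀) =
      ARSys.tr Y hil ≫ S.sB ≫ S.b ≫ cn S.cC k ≫ χ := by
    calc ARSys.tr Y hkl ≫ (ARSys.tr Y hnk ≫ φ - ARSys.tr Y hik ≫ S.sB ≫ ψ₀)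
        = (ARSys.tr Y hkl ≫ ap g k) ≫ χ := by rw [hχ, Category.assoc]
      _ = ap g l ≫ ARSys.tr Z hkl ≫ χ := by rw [ap_tr, Category.assoc]
      _ = ap g l ≫ (ARSys.tr Z hil ≫ S.dZ.s ≫ cn S.cC k) ≫ χ := by rw [hl]
      _ = (ap g l ≫ ARSys.tr Z hil) ≫ S.dZ.s ≫ cn S.cC k ≫ χ := by
          simp only [Category.assoc]
      _ = ARSys.tr Y hil ≫ (ap g S.i ≫ S.dZ.s) ≫ cn S.cC k ≫ χ := by
          rw [← ap_tr]; simp only [Category.assoc]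
      _ = ARSys.tr Y hil ≫ S.sB ≫ S.b ≫ cn S.cC k ≫ χ := by
          rw [S.hsB₂]; simp only [Category.assoc]
  rw [Preadditive.comp_sub, sub_eq_iff_eq_add] at h2
  rw [← tr_tr hnk hkl, Category.assoc, h2, Preadditive.comp_add, Preadditive.comp_add,
    ← Category.assoc (ARSys.tr Y hkl), tr_tr, add_comm]

/-- `ψ : B ⟶ E` represents (in the colimit over the system) the map `φ : Y_n ⟶ E`. -/
def Rep {E : D} {n : ℕ} (φ : Y.obj (op n) ⟶ E) (ψ : S.B ⟶ E) : Prop :=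
  ∃ (m : ℕ) (hn : n ≤ m) (hi : S.i ≤ m), ARSys.tr Y hn ≫ φ = ARSys.tr Y hi ≫ S.sB ≫ ψ

lemma Rep.enlarge {E : D} {n : ℕ} {φ : Y.obj (op n) ⟶ E} {ψ : S.B ⟶ E} (hr : S.Rep φ ψ)
    (m' : ℕ) : ∃ (m : ℕ) (_ : m' ≤ m) (hn : n ≤ m) (hi : S.i ≤ m),
      ARSys.tr Y hn ≫ φ = ARSys.tr Y hi ≫ S.sB ≫ ψ := by
  obtain ⟨m, hn, hi, e⟩ := hr
  refine ⟨max m m', le_max_right _ _, hn.trans (le_max_left _ _), hi.trans (le_max_left _ _), ?_⟩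
  rw [← tr_tr hn (le_max_left m m'), Category.assoc, e, ← Category.assoc, tr_tr]

lemma Rep.unique {E : D} {n : ℕ} {φ : Y.obj (op n) ⟶ E} {ψ₁ ψ₂ : S.B ⟶ E}
    (h₁ : S.Rep φ ψ₁) (h₂ : S.Rep φ ψ₂) : ψ₁ = ψ₂ := by
  obtain ⟨m₁, hn₁, hi₁, e₁⟩ := h₁
  obtain ⟨m, hm, hn, hi, e₂⟩ := h₂.enlarge S m₁
  have e₁' : ARSys.tr Y hn ≫ φ = ARSys.tr Y hi ≫ S.sB ≫ ψ₁ := by
    rw [← tr_tr hn₁ hm, Category.assoc, e₁, ← Category.assoc, tr_tr]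
  rw [← sub_eq_zero]
  apply S.inj _ hi
  rw [Preadditive.comp_sub, Preadditive.comp_sub, ← e₁', ← e₂, sub_self]

lemma Rep.precomp {E : D} {n : ℕ} {φ : Y.obj (op n) ⟶ E} {ψ : S.B ⟶ E} (hr : S.Rep φ ψ)
    {n' : ℕ} (hnn' : n ≤ n') : S.Rep (ARSys.tr Y hnn' ≫ φ) ψ := by
  obtain ⟨m, hm, hn, hi, e⟩ := hr.enlarge S n'
  refine ⟨m, hm, hi, ?_⟩
  rw [← Category.assoc, tr_tr, e]

lemma Rep.postcomp {E E' : D} {n : ℕ} {φ : Y.obj (op n) ⟶ E} {ψ : S.B ⟶ E} (hr : S.Rep φ ψ)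
    (t : E ⟶ E') : S.Rep (φ ≫ t) (ψ ≫ t) := by
  obtain ⟨m, hn, hi, e⟩ := hr
  refine ⟨m, hn, hi, ?_⟩
  rw [← Category.assoc, e]
  simp only [Category.assoc]

lemma rep_sB : S.Rep S.sB (𝟙 S.B) :=
  ⟨S.i, le_refl _, le_refl _, by rw [Category.comp_id]⟩

lemma exists_rep {E : D} {n : ℕ} (φ : Y.obj (op n) ⟶ E) : ∃ ψ : S.B ⟶ E, S.Rep φ ψ := by
  obtain ⟨m, hn, hi, ψ, e⟩ := S.surj φ
  exact ⟨ψ, m, hn, hi, e⟩

/-- The cone components. -/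
noncomputable def c (n : ℕ) : S.B ⟶ Y.obj (op n) := (S.exists_rep (𝟙 (Y.obj (op n)))).choose

lemma rep_c (n : ℕ) : S.Rep (𝟙 (Y.obj (op n))) (S.c n) :=
  (S.exists_rep (𝟙 (Y.obj (op n)))).choose_spec

lemma c_tr {n n' : ℕ} (hnn' : n ≤ n') : S.c n' ≫ ARSys.tr Y hnn' = S.c n := by
  have h₁ := (S.rep_c n').postcomp S (ARSys.tr Y hnn')
  have h₂ := (S.rep_c n).precomp S hnn'
  rw [Category.id_comp] at h₁
  rw [Category.comp_id] at h₂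
  exact Rep.unique S h₁ h₂

lemma c_sB : S.c S.i ≫ S.sB = 𝟙 S.B := by
  have h₁ := (S.rep_c S.i).postcomp S S.sB
  rw [Category.id_comp] at h₁
  exact Rep.unique S h₁ S.rep_sB

/-- The cone. -/
noncomputable def cone : (Functor.const ℕᵒᵖ).obj S.B ⟶ Y where
  app n := S.c n.unop
  naturality a b φ := by
    have hle : b.unop ≤ a.unop := leOfHom φ.unop
    have e : φ = (homOfLE hle).op := Subsingleton.elim _ _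
    subst e
    dsimp
    rw [Category.id_comp]
    exact (S.c_tr hle).symm

lemma isEssConstant : DerCA.IsEssConstant Y S.B S.cone := by
  refine ⟨S.i, S.sB, S.c_sB, fun j => ?_⟩
  obtain ⟨m, hn, hi, e⟩ := S.rep_c j
  rw [Category.comp_id] at e
  exact ⟨m, hi, hn, e⟩

end Core

section assemble

variable {X Y Z : ARSys.PS D} (f : X ⟶ Y) (g : Y ⟶ Z) (h : Z ⟶ X ⋙ shiftFunctor D (1 : ℤ))

lemma exists_core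
    (hT : ∀ n : ℕ, Triangle.mk (ap f n) (ap g n) (hh h n) ∈ distTriang D)
    {A : D} {cA : (Functor.const ℕᵒᵖ).obj A ⟶ X} (hA : DerCA.IsEssConstant X A cA)
    {C : D} {cC : (Functor.const ℕᵒᵖ).obj C ⟶ Z} (hC : DerCA.IsEssConstant Z C cC) :
    Nonempty (Core f g h) := by
  obtain ⟨iX, ⟨dX0⟩⟩ := ECData.exists_of_isEssConstant hA
  obtain ⟨iZ, ⟨dZ0⟩⟩ := ECData.exists_of_isEssConstant hC
  let dX1 : ECData X A cA (max iX iZ) := dX0.shift (le_max_left _ _)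
  let dZ1 : ECData Z C cC (max iX iZ) := dZ0.shift (le_max_right _ _)
  obtain ⟨k, hi, hj, hk⟩ := dZ1.hk (max iX iZ)
  let dX : ECData X A cA k := dX1.shift hi
  let dZ : ECData Z C cC k := dZ1.shift hi
  have hdX : dX.s = ARSys.tr X hi ≫ dX1.s := rfl
  have hdZ : dZ.s = ARSys.tr Z hi ≫ dZ1.s := rfl
  have hstar : hh h k ≫ dX.s⟦(1 : ℤ)⟧' = dZ.s ≫ (cn cC k ≫ hh h k ≫ dX.s⟦(1 : ℤ)⟧') := by
    have e1 : hh h k ≫ dX.s⟦(1 : ℤ)⟧' =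
        ARSys.tr Z hi ≫ hh h (max iX iZ) ≫ dX1.s⟦(1 : ℤ)⟧' := by
      rw [hdX, Functor.map_comp, ← Category.assoc, ← hh_tr, Category.assoc]
    rw [e1, hdZ]
    calc ARSys.tr Z hi ≫ hh h (max iX iZ) ≫ dX1.s⟦(1 : ℤ)⟧'
        = (ARSys.tr Z hi ≫ dZ1.s ≫ cn cC (max iX iZ)) ≫ hh h (max iX iZ) ≫
            dX1.s⟦(1 : ℤ)⟧' := by rw [← hk]
      _ = (ARSys.tr Z hi ≫ dZ1.s) ≫ (cn cC k ≫ ARSys.tr Z hi) ≫ hh h (max iX iZ) ≫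
            dX1.s⟦(1 : ℤ)⟧' := by rw [cn_tr]; simp only [Category.assoc]
      _ = (ARSys.tr Z hi ≫ dZ1.s) ≫ cn cC k ≫ ARSys.tr Z hi ≫ hh h (max iX iZ) ≫
            dX1.s⟦(1 : ℤ)⟧' := by simp only [Category.assoc]
  obtain ⟨B, a, b, dist⟩ := distinguished_cocone_triangle₂ (cn cC k ≫ hh h k ≫ dX.s⟦(1 : ℤ)⟧')
  obtain ⟨sB, hsB₁, hsB₂⟩ := complete_distinguished_triangle_morphism₂
    (Triangle.mk (ap f k) (ap g k) (hh h k))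
    (Triangle.mk a b (cn cC k ≫ hh h k ≫ dX.s⟦(1 : ℤ)⟧')) (hT k) dist dX.s dZ.s hstar
  exact ⟨{ hT := hT, A := A, cA := cA, C := C, cC := cC, i := k, dX := dX, dZ := dZ, B := B,
           a := a, b := b, δ := cn cC k ≫ hh h k ≫ dX.s⟦(1 : ℤ)⟧', hδ := rfl, hstar := hstar,
           dist := dist, sB := sB, hsB₁ := hsB₁, hsB₂ := hsB₂ }⟩

theorem main
    (hT : ∀ n : ℕ, Triangle.mk (f.app (op n)) (g.app (op n)) (h.app (op n)) ∈ distTriang D)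
    (hX : ∃ (A : D) (cA : (Functor.const ℕᵒᵖ).obj A ⟶ X), DerCA.IsEssConstant X A cA)
    (hZ : ∃ (C : D) (cC : (Functor.const ℕᵒᵖ).obj C ⟶ Z), DerCA.IsEssConstant Z C cC) :
    ∃ (B : D) (cB : (Functor.const ℕᵒᵖ).obj B ⟶ Y), DerCA.IsEssConstant Y B cB := by
  obtain ⟨A, cA, hA⟩ := hX
  obtain ⟨C, cC, hC⟩ := hZ
  obtain ⟨S⟩ := exists_core f g h hT hA hC
  exact ⟨S.B, S.cone, S.isEssConstant⟩

end assemble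

end Groth.Agent.H2.ProTri
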