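import Groth.Agent.Lib.Helper2.Corep
import Groth.Agent.Lib.Helper8.TFunFlat

/-! # `T`-functors of complexes of finite projective modules commute with products -/

set_option autoImplicit false
set_option linter.style.haveILetI false
universe u v w

open CategoryTheory CategoryTheory.Limits TensorProduct Opposite MonoidalCategory

namespace Groth.Agent.H2.ProdT

open Groth.Agent.H8.TFun Groth.Agent.H2.Corep

section homology

variable {R : Type u} [Ring R]

/-- homology as a subquotient. -/
noncomputable def toQ (S : ShortComplex (ModuleCat.{v} R)) :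
    S.homology ≃ₗ[R] (LinearMap.ker S.g.hom ⧸ LinearMap.range S.moduleCatToCycles) :=
  S.moduleCatHomologyIso.toLinearEquiv

lemma toQ_homologyMap {S₁ S₂ : ShortComplex (ModuleCat.{v} R)} (φ : S₁ ⟶ S₂) (h : S₁.homology) :
    toQ S₂ ((ShortComplex.homologyMap φ).hom h) =
      Submodule.mapQ _ _ (cyclesRestrict φ) (range_le_comap φ) (toQ S₁ h) := by
  have := (lhmd φ).homologyMap_comm
  exact congr($this h)

variable {J : Type w} (S : ShortComplex (ModuleCat.{v} R))
  (Sj : J → ShortComplex (ModuleCat.{v} R)) (φ : ∀ j, S ⟶ Sj j)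

include φ in
theorem homology_pi_bijective
    (h1 : ∀ y : ∀ j, (Sj j).X₁, ∃ x : S.X₁, ∀ j, (φ j).τ₁.hom x = y j)
    (h2 : Function.Bijective (fun (x : S.X₂) (j : J) => (φ j).τ₂.hom x))
    (h3 : ∀ x : S.X₃, (∀ j, (φ j).τ₃.hom x = 0) → x = 0) :
    Function.Bijective
      (fun (h : S.homology) (j : J) => (ShortComplex.homologyMap (φ j)).hom h) := by
  have hzero : ∀ h : S.homology, (∀ j, (ShortComplex.homologyMap (φ j)).hom h = 0) → h = 0 := by
    intro h hh
    apply (toQ S).injective
    rw [map_zero]
    obtain ⟨c, hc⟩ := Submodule.Quotient.mk_surjective _ (toQ S h)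
    have hj : ∀ j, ∃ y : (Sj j).X₁, (Sj j).f.hom y = (φ j).τ₂.hom c.1 := by
      intro j
      have e := toQ_homologyMap (φ j) h
      rw [hh j, map_zero, ← hc, Submodule.mapQ_apply, eq_comm, Submodule.Quotient.mk_eq_zero,
        mem_range_toCycles_iff] at e
      exact e
    choose y hy using hj
    obtain ⟨x, hx⟩ := h1 y
    have hxc : S.f.hom x = c.1 := by
      apply h2.1
      funext j
      have := congrArg (fun f => f.hom x) (φ j).comm₁₂
      change (Sj j).f.hom ((φ j).τ₁.hom x) = (φ j).τ₂.hom (S.f.hom x) at this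
      change (φ j).τ₂.hom (S.f.hom x) = (φ j).τ₂.hom c.1
      rw [← this, hx, hy]
    rw [← hc, Submodule.Quotient.mk_eq_zero, mem_range_toCycles_iff]
    exact ⟨x, hxc⟩
  constructor
  · intro h h' hh
    have : h - h' = 0 := hzero _ (fun j => by
      rw [map_sub, sub_eq_zero]
      exact congrFun hh j)
    exact sub_eq_zero.1 this
  · intro hs
    have hj : ∀ j, ∃ cj : LinearMap.ker (Sj j).g.hom,
        Submodule.Quotient.mk cj = toQ (Sj j) (hs j) :=
      fun j => Submodule.Quotient.mk_surjective _ _
    choose cj hcj using hj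
    obtain ⟨z, hz⟩ := h2.2 (fun j => (cj j).1)
    have hz' : ∀ j, (φ j).τ₂.hom z = (cj j).1 := fun j => congrFun hz j
    have hgz : S.g.hom z = 0 := by
      apply h3
      intro j
      have := congrArg (fun f => f.hom z) (φ j).comm₂₃
      change (Sj j).g.hom ((φ j).τ₂.hom z) = (φ j).τ₃.hom (S.g.hom z) at this
      rw [← this, hz']
      exact (cj j).2
    refine ⟨(toQ S).symm (Submodule.Quotient.mk ⟨z, hgz⟩), ?_⟩
    funext j
    apply (toQ (Sj j)).injective
    change toQ (Sj j) ((ShortComplex.homologyMap (φ j)).hom _) = _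
    rw [toQ_homologyMap, LinearEquiv.apply_symm_apply, Submodule.mapQ_apply, ← hcj]
    congr 1
    exact Subtype.ext (hz' j)

end homology

section tensorPi

variable (A : Type u) [CommRing A] (W : Type u) [AddCommGroup W] [Module A W]
  [Module.Finite A W] [Module.Projective A W] {J : Type u} (M : J → Type u)
  [∀ j, AddCommGroup (M j)] [∀ j, Module A (M j)]

/-- tensoring with a finite projective module commutes with products. -/
theorem pi_lTensor_bijective :
    Function.Bijective (fun (x : W ⊗[A] (∀ j, M j)) (j : J) =>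
      (LinearMap.proj j : (∀ j, M j) →ₗ[A] M j).lTensor W x) := by
  constructor
  · intro x x' h
    apply (ev_bijective A W (∀ j, M j)).1
    ext φ j
    have hj := congrFun h j
    have := congr(ev A W (M j) $hj φ)
    rwa [ev_natural_right, ev_natural_right] at this
  · intro y
    let ψ : Module.Dual A W →ₗ[A] (∀ j, M j) := LinearMap.pi (fun j => ev A W (M j) (y j))
    obtain ⟨x, hx⟩ := (ev_bijective A W (∀ j, M j)).2 ψ
    refine ⟨x, ?_⟩
    funext j
    apply (ev_bijective A W (M j)).1
    change ev A W (M j) ((LinearMap.proj j : (∀ j, M j) →ₗ[A] M j).lTensor W x) = _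
    rw [ev_natural_right, hx]
    rfl

end tensorPi

section wrapper

variable {A : Type u} [Ring A] (T : ModuleCat.{u} A ⥤ ModuleCat.{u} A) {J : Type u}
  (M : J → ModuleCat.{u} A)

/-- a functor preserves a product if the comparison map is bijective. -/
theorem preservesLimit_of_bijective
    (h : Function.Bijective (fun (x : T.obj (ModuleCat.of A (∀ j, M j))) (j : J) =>
      (T.map (ModuleCat.ofHom (LinearMap.proj j : (∀ j, M j) →ₗ[A] M j))).hom x)) :
    PreservesLimit (Discrete.functor M) T := by
  refine preservesLimit_of_preserves_limit_cone (ModuleCat.productConeIsLimit M) ?_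
  refine (isLimitMapConeFanMkEquiv T M _).symm ?_
  let e : T.obj (ModuleCat.of A (∀ j, M j)) ≃ₗ[A] (∀ j, T.obj (M j)) :=
    LinearEquiv.ofBijective (LinearMap.pi (fun j =>
      (T.map (ModuleCat.ofHom (LinearMap.proj j : (∀ j, M j) →ₗ[A] M j))).hom)) h
  refine Fan.IsLimit.mk _ (fun s => ModuleCat.ofHom
    (e.symm.toLinearMap ∘ₗ LinearMap.pi (fun j => (s.proj j).hom))) ?_ ?_
  · intro s j
    ext x
    change (T.map (ModuleCat.ofHom (LinearMap.proj j : (∀ j, M j) →ₗ[A] M j))).hom
      (e.symm (fun j => (s.proj j).hom x)) = (s.proj j).hom x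
    have := e.apply_symm_apply (fun j => (s.proj j).hom x)
    exact congrFun this j
  · intro s m hm
    ext x
    change m.hom x = e.symm (fun j => (s.proj j).hom x)
    apply e.injective
    rw [e.apply_symm_apply]
    funext j
    exact congr($(hm j) x)

end wrapper

section TFun

variable {A : Type u} [CommRing A] {ι : Type} {c : ComplexShape ι}
  (L : HomologicalComplex (ModuleCat.{u} A) c)

/-- `T_p` of a complex of finite projective modules commutes with products. -/
theorem preservesLimitsOfShape_TFun
    (hL : ∀ i, Module.Finite A (L.X i) ∧ Module.Projective A (L.X i)) (p : ι) (J : Type u) :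
    PreservesLimitsOfShape (Discrete J) (CohIII.TFun L p) := by
  haveI : ∀ M : J → ModuleCat.{u} A, PreservesLimit (Discrete.functor M) (CohIII.TFun L p) := by
    intro M
    apply preservesLimit_of_bijective
    haveI : Module.Finite A (L.sc p).X₁ := (hL _).1
    haveI : Module.Finite A (L.sc p).X₂ := (hL _).1
    haveI : Module.Finite A (L.sc p).X₃ := (hL _).1
    haveI : Module.Projective A (L.sc p).X₁ := (hL _).2
    haveI : Module.Projective A (L.sc p).X₂ := (hL _).2
    haveI : Module.Projective A (L.sc p).X₃ := (hL _).2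
    exact homology_pi_bijective ((L.sc p).map (tensorRight (ModuleCat.of A (∀ j, M j))))
      (fun j => (L.sc p).map (tensorRight (M j)))
      (fun j => (L.sc p).mapNatTrans ((tensoringRight (ModuleCat.{u} A)).map
        (ModuleCat.ofHom (LinearMap.proj j : (∀ j, M j) →ₗ[A] M j))))
      (fun y => by
        obtain ⟨x, hx⟩ := (pi_lTensor_bijective A (L.sc p).X₁ (fun j => M j)).2 y
        exact ⟨x, fun j => congrFun hx j⟩)
      (pi_lTensor_bijective A (L.sc p).X₂ (fun j => M j))
      (fun x hx => by
        have h0 := (pi_lTensor_bijective A (L.sc p).X₃ (fun j => M j)).1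
        apply h0
        funext j
        change _ = (LinearMap.proj j : (∀ j, M j) →ₗ[A] M j).lTensor _ 0
        rw [map_zero]
        exact hx j)
  exact preservesLimitsOfShape_of_discrete _

end TFun

end Groth.Agent.H2.ProdT
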