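import Mathlib

/-! Quasi-compactness of `Proj A`.  (helper2, S1615) -/

set_option autoImplicit false
universe u

open AlgebraicGeometry

namespace Groth.Agent.H2.ProjCompact

variable {R A : Type u} [CommRing R] [CommRing A] [Algebra R A] (𝒜 : ℕ → Submodule R A)
  [GradedAlgebra 𝒜]

theorem compactSpace_of_le_radical (s : Finset A) (hs : ∀ f ∈ s, ∃ d : ℕ, 0 < d ∧ f ∈ 𝒜 d)
    (hle : (HomogeneousIdeal.irrelevant 𝒜).toIdeal ≤ (Ideal.span (s : Set A)).radical) :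
    CompactSpace ↥(Proj 𝒜) := by
  have H : ∀ f ∈ s, IsCompact ((Proj.basicOpen 𝒜 f : (Proj 𝒜).Opens) : Set ↥(Proj 𝒜)) := by
    intro f hf
    obtain ⟨d, hd, hfd⟩ := hs f hf
    rw [← Proj.opensRange_awayι 𝒜 f hfd hd]
    exact isCompact_range (Proj.awayι 𝒜 f hfd hd).continuous
  have hcov : (Set.univ : Set ↥(Proj 𝒜)) =
      ⋃ f ∈ s, ((Proj.basicOpen 𝒜 f : (Proj 𝒜).Opens) : Set ↥(Proj 𝒜)) := by
    symm
    rw [Set.eq_univ_iff_forall]
    intro x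
    by_contra hx
    simp only [Set.mem_iUnion, SetLike.mem_coe, Proj.mem_basicOpen, exists_prop, not_exists,
      not_and, not_not] at hx
    have h1 : Ideal.span (s : Set A) ≤ x.asHomogeneousIdeal.toIdeal := by
      rw [Ideal.span_le]
      intro f hf
      exact hx f hf
    have h2 : (Ideal.span (s : Set A)).radical ≤ x.asHomogeneousIdeal.toIdeal :=
      (Ideal.IsPrime.radical_le_iff x.isPrime).mpr h1
    exact x.not_irrelevant_le (hle.trans h2)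
  rw [← isCompact_univ_iff, hcov]
  exact s.isCompact_biUnion H

theorem exists_of_compactSpace [CompactSpace ↥(Proj 𝒜)] :
    ∃ s : Finset A, (∀ f ∈ s, ∃ d : ℕ, 0 < d ∧ f ∈ 𝒜 d) ∧
      (HomogeneousIdeal.irrelevant 𝒜).toIdeal ≤ (Ideal.span (s : Set A)).radical := by
  classical
  let ι := {f : A // ∃ d : ℕ, 0 < d ∧ f ∈ 𝒜 d}
  have hcov : ⨆ i : ι, Proj.basicOpen 𝒜 (i : A) = ⊤ := by
    apply Proj.iSup_basicOpen_eq_top
    rw [HomogeneousIdeal.irrelevant_eq_span]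
    apply Ideal.span_mono
    intro f hf
    simp only [Set.mem_iUnion] at hf
    obtain ⟨d, hd, hfd⟩ := hf
    exact ⟨⟨f, d, hd, hfd⟩, rfl⟩
  have hcov' : (Set.univ : Set ↥(Proj 𝒜)) ⊆
      ⋃ i : ι, ((Proj.basicOpen 𝒜 (i : A) : (Proj 𝒜).Opens) : Set ↥(Proj 𝒜)) := by
    intro x _
    have hx : x ∈ (⨆ i : ι, Proj.basicOpen 𝒜 (i : A)) := by rw [hcov]; trivial
    rw [TopologicalSpace.Opens.mem_iSup] at hx
    obtain ⟨i, hi⟩ := hx
    exact Set.mem_iUnion.mpr ⟨i, hi⟩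
  obtain ⟨t, ht⟩ := isCompact_univ.elim_finite_subcover
    (fun i : ι => ((Proj.basicOpen 𝒜 (i : A) : (Proj 𝒜).Opens) : Set ↥(Proj 𝒜)))
    (fun i => (Proj.basicOpen 𝒜 (i : A)).2) hcov'
  refine ⟨t.image Subtype.val, ?_, ?_⟩
  · intro f hf
    obtain ⟨i, -, rfl⟩ := Finset.mem_image.mp hf
    exact i.2
  · have hhom : (Ideal.span ((t.image Subtype.val : Finset A) : Set A)).IsHomogeneous 𝒜 := by
      apply Ideal.homogeneous_span
      intro f hf
      obtain ⟨i, -, rfl⟩ := Finset.mem_image.mp (Finset.mem_coe.mp hf)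
      obtain ⟨d, -, hd⟩ := i.2
      exact ⟨d, hd⟩
    rw [hhom.radical_eq]
    apply le_sInf
    rintro J ⟨hJh, hJle, hJp⟩
    by_contra hnot
    let x : ProjectiveSpectrum 𝒜 := ⟨⟨J, hJh⟩, hJp, hnot⟩
    have hx := ht (Set.mem_univ (x : ↥(Proj 𝒜)))
    simp only [Set.mem_iUnion] at hx
    obtain ⟨i, hit, hxi⟩ := hx
    have hmem : (i : A) ∈ J := hJle (Ideal.subset_span
      (Finset.mem_coe.mpr (Finset.mem_image.mpr ⟨i, hit, rfl⟩)))
    exact hxi hmem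

theorem compactSpace_iff :
    CompactSpace ↥(Proj 𝒜) ↔ ∃ s : Finset A, (∀ f ∈ s, ∃ d : ℕ, 0 < d ∧ f ∈ 𝒜 d) ∧
      (HomogeneousIdeal.irrelevant 𝒜).toIdeal ≤ (Ideal.span (s : Set A)).radical :=
  ⟨fun _ => exists_of_compactSpace 𝒜, fun ⟨s, hs, hle⟩ => compactSpace_of_le_radical 𝒜 s hs hle⟩

end Groth.Agent.H2.ProjCompact
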