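import Mathlib
import Groth.Agent.Lib.Helper2.ProjDimDict

/-! Homogeneous prime avoidance (helper2). -/

universe u
open HomogeneousIdeal DirectSum AlgebraicGeometry

namespace Groth.Agent.H2.ProjDim

section hpa
variable {k A : Type u} [Field k] [CommRing A] [Algebra k A]
  (𝒜 : ℕ → Submodule k A) [GradedAlgebra 𝒜]

/-- auxiliary: a homogeneous element outside the prime `q` lying in finitely many homogeneous
ideals none of which is contained in `q` -/
theorem exists_homogeneous_mem_all_notMem (q : Ideal A) [q.IsPrime] (s : Finset (Ideal A))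
    (hs : ∀ q' ∈ s, q'.IsHomogeneous 𝒜 ∧ ¬ q' ≤ q) :
    ∃ (d : ℕ) (c : A), c ∈ 𝒜 d ∧ c ∉ q ∧ ∀ q' ∈ s, c ∈ q' := by
  classical
  induction s using Finset.induction_on with
  | empty =>
    exact ⟨0, 1, SetLike.GradedOne.one_mem, fun h => (Ideal.IsPrime.ne_top ‹_›)
      ((Ideal.eq_top_iff_one q).mpr h), by simp⟩
  | insert q' s' hq' ih =>
    obtain ⟨d, c, hcd, hcq, hc⟩ := ih (fun x hx => hs x (Finset.mem_insert_of_mem hx))
    obtain ⟨hq'h, hq'q⟩ := hs q' (Finset.mem_insert_self _ _)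
    obtain ⟨i, f, hfi, hfq', hfq⟩ := exists_homogeneous_mem_notMem 𝒜 hq'h hq'q
    refine ⟨d + i, c * f, SetLike.GradedMul.mul_mem hcd hfi, ?_, ?_⟩
    · intro h
      rcases Ideal.IsPrime.mem_or_mem ‹_› h with h | h
      · exact hcq h
      · exact hfq h
    · intro x hx
      rcases Finset.mem_insert.mp hx with rfl | hx
      · exact Ideal.mul_mem_left _ _ hfq'
      · exact Ideal.mul_mem_right _ _ (hc x hx)

theorem degree_pos_of_mem_irrelevant {a : A} {d : ℕ} (had : a ∈ 𝒜 d)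
    (hirr : a ∈ (HomogeneousIdeal.irrelevant 𝒜).toIdeal) (ha0 : a ≠ 0) : 0 < d := by
  by_contra hd
  have hd0 : d = 0 := by omega
  subst hd0
  change a ∈ HomogeneousIdeal.irrelevant 𝒜 at hirr
  rw [HomogeneousIdeal.mem_irrelevant_iff, GradedRing.proj_apply,
    decompose_of_mem_same 𝒜 had] at hirr
  exact ha0 hirr

/-- **Homogeneous prime avoidance.** -/
theorem homogeneous_prime_avoidance (𝔞 : Ideal A) (h𝔞 : 𝔞.IsHomogeneous 𝒜)
    (hirr : 𝔞 ≤ (HomogeneousIdeal.irrelevant 𝒜).toIdeal) (s : Finset (Ideal A))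
    (hs : ∀ q ∈ s, q.IsPrime ∧ q.IsHomogeneous 𝒜 ∧ ¬ 𝔞 ≤ q) :
    ∃ (d : ℕ) (a : A), 0 < d ∧ a ∈ 𝒜 d ∧ a ∈ 𝔞 ∧ ∀ q ∈ s, a ∉ q := by
  classical
  induction s using Finset.induction_on with
  | empty => exact ⟨1, 0, Nat.one_pos, Submodule.zero_mem _, Ideal.zero_mem _, by simp⟩
  | insert q s' hq ih =>
    obtain ⟨d₁, b, hd₁, hbd, hb𝔞, hb⟩ := ih (fun x hx => hs x (Finset.mem_insert_of_mem hx))
    obtain ⟨hqp, hqh, hq𝔞⟩ := hs q (Finset.mem_insert_self _ _)
    by_cases hbq : b ∈ q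
    · -- need a correction term
      obtain ⟨d₀, c₀, hc₀d, hc₀q, hc₀⟩ := exists_homogeneous_mem_all_notMem 𝒜 q
        (s'.filter (fun q' => ¬ q' ≤ q)) (by
          intro x hx
          rw [Finset.mem_filter] at hx
          exact ⟨(hs x (Finset.mem_insert_of_mem hx.1)).2.1, hx.2⟩)
      obtain ⟨i, f, hfi, hf𝔞, hfq⟩ := exists_homogeneous_mem_notMem 𝒜 h𝔞 hq𝔞
      -- `c = c₀ * f`
      have hcd : c₀ * f ∈ 𝒜 (d₀ + i) := SetLike.GradedMul.mul_mem hc₀d hfi
      have hcq : c₀ * f ∉ q := by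
        intro h
        rcases hqp.mem_or_mem h with h | h
        · exact hc₀q h
        · exact hfq h
      have hc𝔞 : c₀ * f ∈ 𝔞 := Ideal.mul_mem_left _ _ hf𝔞
      have hc0 : c₀ * f ≠ 0 := fun h => hcq (h ▸ Ideal.zero_mem q)
      have hd₂ : 0 < d₀ + i := degree_pos_of_mem_irrelevant 𝒜 hcd (hirr hc𝔞) hc0
      refine ⟨d₁ * (d₀ + i), b ^ (d₀ + i) + (c₀ * f) ^ d₁, Nat.mul_pos hd₁ hd₂, ?_, ?_, ?_⟩
      · apply Submodule.add_mem
        · have := SetLike.pow_mem_graded (d₀ + i) hbd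
          rwa [smul_eq_mul, mul_comm] at this
        · have := SetLike.pow_mem_graded d₁ hcd
          rwa [smul_eq_mul] at this
      · exact Ideal.add_mem _ (Ideal.pow_mem_of_mem _ hb𝔞 _ hd₂) (Ideal.pow_mem_of_mem _ hc𝔞 _ hd₁)
      · intro x hx
        rcases Finset.mem_insert.mp hx with rfl | hx
        · intro h
          have h1 : b ^ (d₀ + i) ∈ x := Ideal.pow_mem_of_mem _ hbq _ hd₂
          have h2 : (c₀ * f) ^ d₁ ∈ x := (Ideal.add_mem_iff_right _ h1).mp h
          exact hcq (hqp.mem_of_pow_mem _ h2)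
        · have hxp : x.IsPrime := (hs x (Finset.mem_insert_of_mem hx)).1
          by_cases hxq : x ≤ q
          · intro h
            have h' := hxq h
            have h1 : b ^ (d₀ + i) ∈ q := Ideal.pow_mem_of_mem _ hbq _ hd₂
            have h2 : (c₀ * f) ^ d₁ ∈ q := (Ideal.add_mem_iff_right _ h1).mp h'
            exact hcq (hqp.mem_of_pow_mem _ h2)
          · intro h
            have hcx : c₀ * f ∈ x :=
              Ideal.mul_mem_right _ _ (hc₀ x (Finset.mem_filter.mpr ⟨hx, hxq⟩))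
            have h2 : (c₀ * f) ^ d₁ ∈ x := Ideal.pow_mem_of_mem _ hcx _ hd₁
            have h1 : b ^ (d₀ + i) ∈ x := (Ideal.add_mem_iff_left _ h2).mp h
            exact hb x hx (hxp.mem_of_pow_mem _ h1)
    · refine ⟨d₁, b, hd₁, hbd, hb𝔞, ?_⟩
      intro x hx
      rcases Finset.mem_insert.mp hx with rfl | hx
      · exact hbq
      · exact hb x hx

end hpa

end Groth.Agent.H2.ProjDim
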