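import Mathlib
import Groth.Agent.Lib.Helper2.ProjDimDict
import Groth.Agent.Lib.Helper2.ProjDimHPA

/-! Cutting a closed subset of the projective spectrum by hypersurfaces through another closed
subset (helper2). -/

universe u
open HomogeneousIdeal DirectSum AlgebraicGeometry

namespace Groth.Agent.H2.ProjDim

section cut
variable {k A : Type u} [Field k] [CommRing A] [Algebra k A]
  (𝒜 : ℕ → Submodule k A) [GradedAlgebra 𝒜]

/-- cutting down by hypersurfaces containing `V_+(J)`: the algebraic induction -/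
theorem exists_hypersurfaces_cutting [Algebra.FiniteType k A] [Nontrivial A]
    (h0 : ∀ x ∈ 𝒜 0, x ≠ 0 → IsUnit x) (J : Ideal A) (hJ : J.IsHomogeneous 𝒜) :
    ∀ (t : ℕ) (I : Ideal A), I.IsHomogeneous 𝒜 →
      (∀ q ∈ I.minimalPrimes, ¬ (HomogeneousIdeal.irrelevant 𝒜).toIdeal ≤ q → ¬ J ≤ q →
        ringKrullDim (A ⧸ q) ≤ (t : WithBot ℕ∞)) →
      ∃ h : Fin t → A, (∀ i, ∃ d, 0 < d ∧ h i ∈ 𝒜 d) ∧ (∀ i, h i ∈ J) ∧
        ∀ x : ProjectiveSpectrum 𝒜, I ≤ x.asHomogeneousIdeal.toIdeal →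
          (∀ i, h i ∈ x.asHomogeneousIdeal.toIdeal) → J ≤ x.asHomogeneousIdeal.toIdeal := by
  classical
  have hnoeth : IsNoetherianRing A := Algebra.FiniteType.isNoetherianRing k A
  have hmax := irrelevant_isMaximal 𝒜 h0
  have hirrp : (HomogeneousIdeal.irrelevant 𝒜).toIdeal.IsPrime := hmax.isPrime
  intro t
  induction t with
  | zero =>
    intro I hI hdim
    refine ⟨Fin.elim0, fun i => i.elim0, fun i => i.elim0, ?_⟩
    intro x hIx _
    obtain ⟨q₀, hq₀, hq₀x⟩ := Ideal.exists_minimalPrimes_le hIx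
    have hq₀p : q₀.IsPrime := hq₀.1.1
    have hq₀rel : ¬ (HomogeneousIdeal.irrelevant 𝒜).toIdeal ≤ q₀ :=
      fun h => x.not_irrelevant_le (h.trans hq₀x)
    by_contra hJx
    have hJq₀ : ¬ J ≤ q₀ := fun h => hJx (h.trans hq₀x)
    have h1 := hdim q₀ hq₀ hq₀rel hJq₀
    have hq₀h := isHomogeneous_of_mem_minimalPrimes 𝒜 hI hq₀
    have hlt : q₀ < (HomogeneousIdeal.irrelevant 𝒜).toIdeal :=
      lt_of_le_of_ne (le_irrelevant 𝒜 h0 q₀ hq₀h hq₀p.ne_top) (fun h => hq₀rel h.ge)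
    have h2 := ringKrullDim_quotient_add_one_le k q₀ _ hlt
    rw [ringKrullDim_quotient_irrelevant 𝒜 h0, zero_add] at h2
    exact absurd (h2.trans h1) (by decide)
  | succ t ih =>
    intro I hI hdim
    have hfin : I.minimalPrimes.Finite := Ideal.finite_minimalPrimes_of_isNoetherianRing A I
    have h𝔞h : (J ⊓ (HomogeneousIdeal.irrelevant 𝒜).toIdeal).IsHomogeneous 𝒜 :=
      hJ.inf (HomogeneousIdeal.irrelevant 𝒜).isHomogeneous
    obtain ⟨d, h₀, hd, hh₀d, hh₀𝔞, havoid⟩ := homogeneous_prime_avoidance 𝒜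
      (J ⊓ (HomogeneousIdeal.irrelevant 𝒜).toIdeal) h𝔞h inf_le_right
      (hfin.toFinset.filter (fun q => ¬ (HomogeneousIdeal.irrelevant 𝒜).toIdeal ≤ q ∧ ¬ J ≤ q))
      (by
        intro q hq
        rw [Finset.mem_filter, Set.Finite.mem_toFinset] at hq
        obtain ⟨hq, hqrel, hJq⟩ := hq
        have hqp : q.IsPrime := hq.1.1
        refine ⟨hqp, isHomogeneous_of_mem_minimalPrimes 𝒜 hI hq, ?_⟩
        intro hle
        rcases (Ideal.IsPrime.mul_le hqp).mp (Ideal.mul_le_inf.trans hle) with h | h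
        · exact hJq h
        · exact hqrel h)
    have hI' : (I ⊔ Ideal.span {h₀}).IsHomogeneous 𝒜 :=
      hI.sup (Ideal.homogeneous_span 𝒜 {h₀} (by rintro x rfl; exact ⟨d, hh₀d⟩))
    have hdim' : ∀ q' ∈ (I ⊔ Ideal.span {h₀}).minimalPrimes,
        ¬ (HomogeneousIdeal.irrelevant 𝒜).toIdeal ≤ q' → ¬ J ≤ q' →
        ringKrullDim (A ⧸ q') ≤ (t : WithBot ℕ∞) := by
      intro q' hq' hq'rel hJq'
      have hq'p : q'.IsPrime := hq'.1.1
      have hIq' : I ≤ q' := le_sup_left.trans hq'.1.2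
      have hh₀q' : h₀ ∈ q' := hq'.1.2 (Ideal.mem_sup_right (Ideal.mem_span_singleton_self h₀))
      obtain ⟨q₀, hq₀, hq₀q'⟩ := Ideal.exists_minimalPrimes_le hIq'
      have hq₀p : q₀.IsPrime := hq₀.1.1
      have hq₀rel : ¬ (HomogeneousIdeal.irrelevant 𝒜).toIdeal ≤ q₀ := fun h => hq'rel (h.trans hq₀q')
      have hJq₀ : ¬ J ≤ q₀ := fun h => hJq' (h.trans hq₀q')
      have hh₀q₀ : h₀ ∉ q₀ := havoid q₀ (by
        rw [Finset.mem_filter, Set.Finite.mem_toFinset]
        exact ⟨hq₀, hq₀rel, hJq₀⟩)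
      have hlt : q₀ < q' := lt_of_le_of_ne hq₀q' (by rintro rfl; exact hh₀q₀ hh₀q')
      have h1 := ringKrullDim_quotient_add_one_le k q₀ q' hlt
      have h2 := hdim q₀ hq₀ hq₀rel hJq₀
      have h3 := h1.trans h2
      rw [dimQ_spec k q' hq'p.ne_top] at h3 ⊢
      have : dimQ q' + 1 ≤ t + 1 := by exact_mod_cast h3
      have : dimQ q' ≤ t := by omega
      exact_mod_cast this
    obtain ⟨h', hh'd, hh'J, hh'⟩ := ih _ hI' hdim'
    refine ⟨Fin.cons h₀ h', ?_, ?_, ?_⟩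
    · intro i
      refine Fin.cases ?_ (fun j => ?_) i
      · exact ⟨d, hd, by simpa using hh₀d⟩
      · simpa using hh'd j
    · intro i
      refine Fin.cases ?_ (fun j => ?_) i
      · simpa using hh₀𝔞.1
      · simpa using hh'J j
    · intro x hIx hx
      apply hh' x
      · refine sup_le hIx ((Ideal.span_singleton_le_iff_mem _).mpr ?_)
        simpa using hx 0
      · intro i
        simpa using hx i.succ

/-- closed-subset form: given closed `ZX`, `ZY` in the projective spectrum with `dim ZX ≤ r`,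
there are `r + 1` hypersurfaces containing `ZY` whose common intersection with `ZX` lies in `ZY`. -/
theorem exists_hypersurfaces_of_closed [Algebra.FiniteType k A] [Nontrivial A]
    (h0 : ∀ x ∈ 𝒜 0, x ≠ 0 → IsUnit x) (ZX ZY : Set (ProjectiveSpectrum 𝒜)) (hZX : IsClosed ZX)
    (hZY : IsClosed ZY) (r : ℕ) (hdim : topologicalKrullDim ↥ZX ≤ (r : WithBot ℕ∞)) :
    ∃ h : Fin (r + 1) → A, (∀ i, ∃ d, 0 < d ∧ h i ∈ 𝒜 d) ∧
      (∀ i, ∀ y ∈ ZY, h i ∈ y.asHomogeneousIdeal.toIdeal) ∧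
      ∀ x ∈ ZX, (∀ i, h i ∈ x.asHomogeneousIdeal.toIdeal) → x ∈ ZY := by
  have hZXeq : ProjectiveSpectrum.zeroLocus 𝒜
      ((ProjectiveSpectrum.vanishingIdeal ZX).toIdeal : Set A) = ZX := by
    have := ProjectiveSpectrum.zeroLocus_vanishingIdeal_eq_closure 𝒜 ZX
    rw [hZX.closure_eq] at this
    exact this
  have hZYeq : ProjectiveSpectrum.zeroLocus 𝒜
      ((ProjectiveSpectrum.vanishingIdeal ZY).toIdeal : Set A) = ZY := by
    have := ProjectiveSpectrum.zeroLocus_vanishingIdeal_eq_closure 𝒜 ZY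
    rw [hZY.closure_eq] at this
    exact this
  obtain ⟨h, hh1, hh2, hh3⟩ := exists_hypersurfaces_cutting 𝒜 h0
    (ProjectiveSpectrum.vanishingIdeal ZY).toIdeal (ProjectiveSpectrum.vanishingIdeal ZY).isHomogeneous
    (r + 1) (ProjectiveSpectrum.vanishingIdeal ZX).toIdeal
    (ProjectiveSpectrum.vanishingIdeal ZX).isHomogeneous (by
      intro q hq hqrel _
      have hqp : q.IsPrime := hq.1.1
      have hqh := isHomogeneous_of_mem_minimalPrimes 𝒜
        (ProjectiveSpectrum.vanishingIdeal ZX).isHomogeneous hq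
      have hne : (ProjectiveSpectrum.zeroLocus 𝒜
          ((ProjectiveSpectrum.vanishingIdeal ZX).toIdeal : Set A)).Nonempty :=
        ⟨mkPoint 𝒜 q hqp hqh hqrel, hq.1.2⟩
      have h1 := topologicalKrullDim_zeroLocus_add_one 𝒜 h0 _
        (ProjectiveSpectrum.vanishingIdeal ZX).isHomogeneous hne
      have h2 : ringKrullDim (A ⧸ q) ≤ ringKrullDim (A ⧸ (ProjectiveSpectrum.vanishingIdeal ZX).toIdeal) :=
        ringKrullDim_le_of_surjective (Ideal.Quotient.factor hq.1.2)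
          (Ideal.Quotient.factor_surjective hq.1.2)
      rw [← h1, hZXeq] at h2
      refine h2.trans ?_
      push_cast
      gcongr)
  refine ⟨h, hh1, ?_, ?_⟩
  · intro i y hy
    rw [← hZYeq] at hy
    exact hy (hh2 i)
  · intro x hx hxh
    rw [← hZXeq] at hx
    rw [← hZYeq]
    exact hh3 x hx hxh

end cut

end Groth.Agent.H2.ProjDim
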