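import Mathlib.Algebra.Category.ModuleCat.Descent
import Mathlib.Algebra.Category.ModuleCat.ProjectiveDimension
import Mathlib.CategoryTheory.Preadditive.Projective.Preserves
import Mathlib.RingTheory.LocalProperties.ProjectiveDimension

/-! Projective dimension does not increase under flat base change. -/

universe u

namespace Groth.Agent.H2

open CategoryTheory ModuleCat Limits

variable {A B : Type u} [CommRing A] [CommRing B] (f : A →+* B)

instance : (extendScalars.{_, _, u} f).PreservesProjectiveObjects :=
  Functor.preservesProjectiveObjects_of_adjunction_of_preservesEpimorphisms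
    (extendRestrictScalarsAdj f)

theorem extendScalars_hasProjectiveDimensionLE (hf : f.Flat) (n : ℕ) (M : ModuleCat.{u} A)
    [HasProjectiveDimensionLE M n] :
    HasProjectiveDimensionLE ((extendScalars.{_, _, u} f).obj M) n := by
  have := preservesFiniteLimits_extendScalars_of_flat hf
  induction n generalizing M with
  | zero =>
    have projle : HasProjectiveDimensionLE M 0 := ‹_›
    simp only [HasProjectiveDimensionLE, zero_add] at projle ⊢
    rw [← projective_iff_hasProjectiveDimensionLT_one] at projle ⊢
    exact (extendScalars.{_, _, u} f).projective_obj_of_projective projle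
  | succ n ih =>
    rcases ModuleCat.enoughProjectives.1 M with ⟨⟨P, g⟩⟩
    let T := ShortComplex.mk (kernel.ι g) g (kernel.condition g)
    have T_exact : T.ShortExact := { exact := ShortComplex.exact_kernel g }
    let TS := T.map (extendScalars.{_, _, u} f)
    have TS_exact : TS.ShortExact := T_exact.map_of_exact (extendScalars.{_, _, u} f)
    have : Projective TS.X₂ := (extendScalars.{_, _, u} f).projective_obj_of_projective ‹_›
    have := (T_exact.hasProjectiveDimensionLT_X₃_iff n ‹_›).mp ‹_›
    exact (TS_exact.hasProjectiveDimensionLT_X₃_iff n ‹_›).mpr (ih (kernel g))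

theorem projectiveDimension_extendScalars_le (hf : f.Flat) (M : ModuleCat.{u} A) :
    projectiveDimension ((extendScalars.{_, _, u} f).obj M) ≤ projectiveDimension M := by
  have aux (n : ℕ) : projectiveDimension M ≤ n →
      projectiveDimension ((extendScalars.{_, _, u} f).obj M) ≤ n := by
    simp only [projectiveDimension_le_iff]
    intro h
    exact extendScalars_hasProjectiveDimensionLE f hf n M
  refine le_of_forall_ge (fun N ↦ ?_)
  induction N with
  | bot =>
    simp only [le_bot_iff, projectiveDimension_eq_bot_iff]
    intro h
    exact (extendScalars.{_, _, u} f).map_isZero h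
  | coe N =>
    induction N with
    | top => simp
    | coe n => simpa using aux n

end Groth.Agent.H2

namespace Groth.Agent.H2

open CategoryTheory ModuleCat Limits TensorProduct

section

variable (A B : Type u) [CommRing A] [CommRing B] [Algebra A B]
  (M : Type u) [AddCommGroup M] [Module A M]

/-- `B` with its algebra module structure is `A`-linearly equivalent to the restriction of scalars
of `B`. -/
noncomputable def selfEquivRestrict :
    B ≃ₗ[A] ↑((restrictScalars (algebraMap A B)).obj (ModuleCat.of B B)) where
  toFun := id
  invFun := id
  map_add' _ _ := rfl
  map_smul' a b := Algebra.smul_def a b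
  left_inv _ := rfl
  right_inv _ := rfl

/-- The underlying function of `tensorEquivExtendScalars`, with explicit codomain. -/
noncomputable def tensorToExtendScalars (x : B ⊗[A] M) :
    ↑((extendScalars.{_, _, u} (algebraMap A B)).obj (ModuleCat.of A M)) :=
  TensorProduct.congr (selfEquivRestrict A B) (LinearEquiv.refl A M) x

theorem tensorToExtendScalars_smul (b : B) (x : B ⊗[A] M) :
    tensorToExtendScalars A B M (b • x) = b • tensorToExtendScalars A B M x := by
  induction x using TensorProduct.induction_on with
  | zero =>
    rw [smul_zero]
    show tensorToExtendScalars A B M 0 = b • tensorToExtendScalars A B M 0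
    have : tensorToExtendScalars A B M 0 = 0 := map_zero _
    rw [this, smul_zero]
  | add x y hx hy =>
    rw [smul_add]
    have h1 : ∀ u v, tensorToExtendScalars A B M (u + v) =
        tensorToExtendScalars A B M u + tensorToExtendScalars A B M v := fun u v => map_add _ u v
    rw [h1, h1, hx, hy, smul_add]
  | tmul b' m =>
    rw [TensorProduct.smul_tmul']
    rfl

/-- The `B`-module `B ⊗[A] M` is the extension of scalars of `M`. -/
noncomputable def tensorEquivExtendScalars :
    (B ⊗[A] M) ≃ₗ[B] ↑((extendScalars.{_, _, u} (algebraMap A B)).obj (ModuleCat.of A M)) :=
  { TensorProduct.congr (selfEquivRestrict A B) (LinearEquiv.refl A M) with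
    map_smul' := tensorToExtendScalars_smul A B M }

end

end Groth.Agent.H2
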