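import Mathlib
import Groth.Agent.Lib.Helper2.ProjDimCut

/-! Nonempty open subsets of irreducible closed subsets of the projective spectrum have full
dimension (helper2). -/

universe u
open HomogeneousIdeal DirectSum AlgebraicGeometry

namespace Groth.Agent.H2.ProjDim

section topchain

/-- a strict specialization chain inside a subspace bounds its Krull dimension from below -/
theorem length_le_topologicalKrullDim_of_chain {T : Type*} [TopologicalSpace T] [PartialOrder T]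
    (hle : ∀ a b : T, a ≤ b ↔ a ⤳ b) (S : Set T) (c : LTSeries T) (hc : ∀ i, c i ∈ S) :
    (c.length : WithBot ℕ∞) ≤ topologicalKrullDim ↥S := by
  let f : Fin (c.length + 1) → TopologicalSpace.IrreducibleCloseds ↥S := fun i =>
    ⟨closure {(⟨c i, hc i⟩ : ↥S)}, isIrreducible_singleton.closure, isClosed_closure⟩
  have hf : ∀ i j : Fin (c.length + 1), i < j → f j < f i := by
    intro i j hij
    have hlt : c i < c j := c.strictMono hij
    have hspec : (⟨c i, hc i⟩ : ↥S) ⤳ ⟨c j, hc j⟩ := by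
      rw [subtype_specializes_iff, ← hle]
      exact hlt.le
    rw [lt_iff_le_not_ge]
    constructor
    · change closure {(⟨c j, hc j⟩ : ↥S)} ⊆ closure {(⟨c i, hc i⟩ : ↥S)}
      exact closure_minimal (Set.singleton_subset_iff.mpr hspec.mem_closure) isClosed_closure
    · intro h
      have h1 : closure {(⟨c i, hc i⟩ : ↥S)} ⊆ closure {(⟨c j, hc j⟩ : ↥S)} := h
      have h2 : (⟨c i, hc i⟩ : ↥S) ∈ closure {(⟨c j, hc j⟩ : ↥S)} := h1 (subset_closure rfl)
      rw [← specializes_iff_mem_closure, subtype_specializes_iff, ← hle] at h2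
      exact absurd h2 (not_le_of_gt hlt)
  let c' : LTSeries (TopologicalSpace.IrreducibleCloseds ↥S) :=
    { length := c.length
      toFun := fun i => f (Fin.rev i)
      step := fun i => hf _ _ (by
        rw [Fin.rev_lt_rev]
        exact Fin.castSucc_lt_succ) }
  exact Order.LTSeries.length_le_krullDim c'

end topchain

section avoid
variable {k A : Type u} [Field k] [CommRing A] [Algebra k A]
  (𝒜 : ℕ → Submodule k A) [GradedAlgebra 𝒜]

/-- upward step avoiding a homogeneous element `g` -/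
theorem step_up_avoiding [Algebra.FiniteType k A] (h0 : ∀ x ∈ 𝒜 0, x ≠ 0 → IsUnit x)
    (g : A) (hg : ∃ i, g ∈ 𝒜 i) (y : ProjectiveSpectrum 𝒜)
    (hgy : g ∉ y.asHomogeneousIdeal.toIdeal) (hy : 2 ≤ δ 𝒜 y) :
    ∃ z, y < z ∧ g ∉ z.asHomogeneousIdeal.toIdeal ∧ δ 𝒜 y = δ 𝒜 z + 1 := by
  classical
  have : Nontrivial A := ⟨⟨0, 1, fun h => y.isPrime.ne_top ((Ideal.eq_top_iff_one _).mpr
    (by rw [← h]; exact Ideal.zero_mem _))⟩⟩
  have hnoeth : IsNoetherianRing A := Algebra.FiniteType.isNoetherianRing k A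
  have hmax := irrelevant_isMaximal 𝒜 h0
  obtain ⟨ig, hgi⟩ := hg
  have hJgh : (y.asHomogeneousIdeal.toIdeal ⊔ Ideal.span {g}).IsHomogeneous 𝒜 :=
    y.asHomogeneousIdeal.isHomogeneous.sup
      (Ideal.homogeneous_span 𝒜 {g} (by rintro x rfl; exact ⟨ig, hgi⟩))
  have hfin : (y.asHomogeneousIdeal.toIdeal ⊔ Ideal.span {g}).minimalPrimes.Finite :=
    Ideal.finite_minimalPrimes_of_isNoetherianRing A _
  -- choose `f` avoiding `y` and all relevant minimal primes over `y + (g)`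
  obtain ⟨d, f, hd, hfd, -, havoid⟩ := homogeneous_prime_avoidance 𝒜
    (HomogeneousIdeal.irrelevant 𝒜).toIdeal (HomogeneousIdeal.irrelevant 𝒜).isHomogeneous le_rfl
    (insert y.asHomogeneousIdeal.toIdeal
      (hfin.toFinset.filter (fun q => ¬ (HomogeneousIdeal.irrelevant 𝒜).toIdeal ≤ q)))
    (by
      intro q hq
      rcases Finset.mem_insert.mp hq with rfl | hq
      · exact ⟨y.isPrime, y.asHomogeneousIdeal.isHomogeneous, y.not_irrelevant_le⟩
      · rw [Finset.mem_filter, Set.Finite.mem_toFinset] at hq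
        exact ⟨hq.1.1.1, isHomogeneous_of_mem_minimalPrimes 𝒜 hJgh hq.1, hq.2⟩)
  have hfy : f ∉ y.asHomogeneousIdeal.toIdeal := havoid _ (Finset.mem_insert_self _ _)
  have hJfh : (y.asHomogeneousIdeal.toIdeal ⊔ Ideal.span {f}).IsHomogeneous 𝒜 :=
    y.asHomogeneousIdeal.isHomogeneous.sup
      (Ideal.homogeneous_span 𝒜 {f} (by rintro x rfl; exact ⟨d, hfd⟩))
  have hfirr : f ∈ (HomogeneousIdeal.irrelevant 𝒜).toIdeal :=
    HomogeneousIdeal.mem_irrelevant_of_mem _ hd hfd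
  have hJle : y.asHomogeneousIdeal.toIdeal ⊔ Ideal.span {f} ≤
      (HomogeneousIdeal.irrelevant 𝒜).toIdeal :=
    sup_le (point_lt_irrelevant 𝒜 h0 y).le ((Ideal.span_singleton_le_iff_mem _).mpr hfirr)
  have hJtop : y.asHomogeneousIdeal.toIdeal ⊔ Ideal.span {f} ≠ ⊤ := by
    intro h
    rw [h, top_le_iff] at hJle
    exact hmax.ne_top hJle
  obtain ⟨P₁, hP₁⟩ := Ideal.nonempty_minimalPrimes hJtop
  have hP₁p : P₁.IsPrime := hP₁.1.1
  have hP₁h := isHomogeneous_of_mem_minimalPrimes 𝒜 hJfh hP₁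
  have hfP₁ : f ∈ P₁ := hP₁.1.2 (Ideal.mem_sup_right (Ideal.mem_span_singleton_self f))
  have hyP₁ : y.asHomogeneousIdeal.toIdeal ≤ P₁ := le_sup_left.trans hP₁.1.2
  have hdimP₁ : dimQ P₁ + 1 = δ 𝒜 y := by
    have h1 := ringKrullDim_eq_add_one_of_mem_minimalPrimes k y.asHomogeneousIdeal.toIdeal P₁ f
      hfy hP₁
    rw [δ_spec 𝒜 y, dimQ_spec k P₁ hP₁p.ne_top] at h1
    exact_mod_cast h1.symm
  have hP₁rel : ¬ (HomogeneousIdeal.irrelevant 𝒜).toIdeal ≤ P₁ := by
    intro hle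
    have heq : P₁ = _ := (hmax.eq_of_le hP₁p.ne_top hle).symm
    have h1 := dimQ_spec k P₁ hP₁p.ne_top
    rw [heq, ringKrullDim_quotient_irrelevant 𝒜 h0, ← heq] at h1
    have : dimQ P₁ = 0 := by exact_mod_cast h1.symm
    omega
  have hgP₁ : g ∉ P₁ := by
    intro hgP₁
    have hle : y.asHomogeneousIdeal.toIdeal ⊔ Ideal.span {g} ≤ P₁ :=
      sup_le hyP₁ ((Ideal.span_singleton_le_iff_mem _).mpr hgP₁)
    obtain ⟨q, hq, hqP₁⟩ := Ideal.exists_minimalPrimes_le hle
    have hqp : q.IsPrime := hq.1.1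
    have hqrel : ¬ (HomogeneousIdeal.irrelevant 𝒜).toIdeal ≤ q := fun h => hP₁rel (h.trans hqP₁)
    have hfq : f ∉ q := havoid q (Finset.mem_insert_of_mem (by
      rw [Finset.mem_filter, Set.Finite.mem_toFinset]
      exact ⟨hq, hqrel⟩))
    have hdimq : dimQ q + 1 = δ 𝒜 y := by
      have h1 := ringKrullDim_eq_add_one_of_mem_minimalPrimes k y.asHomogeneousIdeal.toIdeal q g
        hgy hq
      rw [δ_spec 𝒜 y, dimQ_spec k q hqp.ne_top] at h1
      exact_mod_cast h1.symm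
    have hlt : q < P₁ := lt_of_le_of_ne hqP₁ (by rintro rfl; exact hfq hfP₁)
    have h1 := ringKrullDim_quotient_add_one_le k q P₁ hlt
    rw [dimQ_spec k q hqp.ne_top, dimQ_spec k P₁ hP₁p.ne_top] at h1
    have : dimQ P₁ + 1 ≤ dimQ q := by exact_mod_cast h1
    omega
  refine ⟨mkPoint 𝒜 P₁ hP₁p hP₁h hP₁rel, ?_, hgP₁, ?_⟩
  · rw [lt_iff_toIdeal_lt]
    exact lt_of_le_of_ne hyP₁ (by intro h; exact hfy (h ▸ hfP₁))
  · change δ 𝒜 y = dimQ P₁ + 1
    omega

/-- a chain of full length starting at `x` avoiding the homogeneous element `g ∉ x` -/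
theorem exists_ltSeries_from_point_avoiding [Algebra.FiniteType k A]
    (h0 : ∀ x ∈ 𝒜 0, x ≠ 0 → IsUnit x) (g : A) (hg : ∃ i, g ∈ 𝒜 i) (x : ProjectiveSpectrum 𝒜)
    (hgx : g ∉ x.asHomogeneousIdeal.toIdeal) :
    ∃ c : LTSeries (ProjectiveSpectrum 𝒜), c.head = x ∧ δ 𝒜 x = c.length + 1 ∧
      ∀ i, g ∉ (c i).asHomogeneousIdeal.toIdeal := by
  have hstep : ∀ y : {y : ProjectiveSpectrum 𝒜 // g ∉ y.asHomogeneousIdeal.toIdeal},
      2 ≤ δ 𝒜 y.1 → ∃ z : {y : ProjectiveSpectrum 𝒜 // g ∉ y.asHomogeneousIdeal.toIdeal},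
        y < z ∧ δ 𝒜 y.1 = δ 𝒜 z.1 + 1 := by
    intro y hy
    obtain ⟨z, hz1, hz2, hz3⟩ := step_up_avoiding 𝒜 h0 g hg y.1 y.2 hy
    exact ⟨⟨z, hz2⟩, hz1, hz3⟩
  have h1 := one_le_δ 𝒜 h0 x
  obtain ⟨c, hc1, hc2⟩ := exists_ltSeries_from
    (fun z : {y : ProjectiveSpectrum 𝒜 // g ∉ y.asHomogeneousIdeal.toIdeal} => δ 𝒜 z.1) hstep
    (δ 𝒜 x - 1) ⟨x, hgx⟩ (by change δ 𝒜 x = _; omega)
  refine ⟨c.map Subtype.val (fun a b h => h), ?_, ?_, ?_⟩
  · rw [LTSeries.head_map, hc1]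
  · rw [LTSeries.map_length]; omega
  · intro i
    exact (c i).2

/-- a nonempty open subset of an irreducible closed subset of the projective spectrum has the
same dimension -/
theorem topologicalKrullDim_le_of_open [Algebra.FiniteType k A]
    (h0 : ∀ x ∈ 𝒜 0, x ≠ 0 → IsUnit x) (z : ProjectiveSpectrum 𝒜)
    (U : Set (ProjectiveSpectrum 𝒜)) (hU : U ⊆ closure {z}) (hne : U.Nonempty)
    (hUo : IsClosed (closure {z} \ U)) :
    topologicalKrullDim ↥(closure ({z} : Set (ProjectiveSpectrum 𝒜))) ≤ topologicalKrullDim ↥U := by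
  -- the generic point is not in the boundary
  have hz : z ∉ closure {z} \ U := by
    intro hz
    have h1 : closure {z} ⊆ closure {z} \ U :=
      closure_minimal (Set.singleton_subset_iff.mpr hz) hUo
    obtain ⟨u, hu⟩ := hne
    exact (h1 (hU hu)).2 hu
  have hYeq : ProjectiveSpectrum.zeroLocus 𝒜
      ((ProjectiveSpectrum.vanishingIdeal (closure {z} \ U)).toIdeal : Set A) = closure {z} \ U := by
    have := ProjectiveSpectrum.zeroLocus_vanishingIdeal_eq_closure 𝒜 (closure {z} \ U)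
    rw [hUo.closure_eq] at this
    exact this
  have hnle : ¬ (ProjectiveSpectrum.vanishingIdeal (closure {z} \ U)).toIdeal ≤
      z.asHomogeneousIdeal.toIdeal := by
    intro hle
    apply hz
    rw [← hYeq]
    exact hle
  obtain ⟨i, g, hgi, hgJ, hgz⟩ := exists_homogeneous_mem_notMem 𝒜
    (ProjectiveSpectrum.vanishingIdeal (closure {z} \ U)).isHomogeneous hnle
  obtain ⟨c, hc1, hc2, hc3⟩ := exists_ltSeries_from_point_avoiding 𝒜 h0 g ⟨i, hgi⟩ z hgz
  have hcU : ∀ i, c i ∈ U := by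
    intro i
    have h1 : z ≤ c i := by
      rw [← hc1]
      exact c.monotone (Fin.zero_le _)
    have h2 : c i ∈ closure {z} := by
      rw [closure_singleton, ProjectiveSpectrum.mem_zeroLocus]
      exact h1
    by_contra hnU
    have h3 : c i ∈ closure {z} \ U := ⟨h2, hnU⟩
    rw [← hYeq] at h3
    exact hc3 i (h3 hgJ)
  have key := length_le_topologicalKrullDim_of_chain
    (fun a b => (specializes_iff_le 𝒜 a b).symm) U c hcU
  rw [closure_singleton, topologicalKrullDim_closure_eq 𝒜 h0 z]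
  have : δ 𝒜 z - 1 = c.length := by omega
  rw [this]
  exact key

end avoid

end Groth.Agent.H2.ProjDim
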