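import Mathlib
import Groth.Agent.Lib.Helper2.ProjDimOpenDim

/-! Quasi-projective integral schemes of dimension `r` are covered by `r + 1` affines (helper2). -/

universe u
open HomogeneousIdeal DirectSum AlgebraicGeometry CategoryTheory

namespace Groth.Agent.H2.ProjDim

section qp

theorem isAffineOpen_preimage_of_immersion {X Y : Scheme.{u}} (j : X ⟶ Y) [IsImmersion j]
    (V : Y.Opens) (hV : IsAffineOpen V) (Z : Set Y) (hZ : IsClosed Z)
    (hZV : (V : Set Y) ∩ Z = (V : Set Y) ∩ Set.range j) : IsAffineOpen (j ⁻¹ᵁ V) := by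
  have hcl : IsClosedImmersion (j ∣_ V) := by
    apply IsClosedImmersion.of_isPreimmersion
    have : (Set.range (j ∣_ V) : Set ↥V) = Subtype.val ⁻¹' Z := by
      ext ⟨y, hy⟩
      simp only [Set.mem_preimage, Set.mem_range]
      constructor
      · rintro ⟨x, hx⟩
        have h1 : ((j ∣_ V) x).1 = j x.1 := morphismRestrict_base_coe j V x
        rw [hx] at h1
        have : y ∈ (V : Set Y) ∩ Z := by rw [hZV]; exact ⟨hy, ⟨x.1, h1.symm⟩⟩
        exact this.2
      · intro h
        have : y ∈ (V : Set Y) ∩ Set.range j := by rw [← hZV]; exact ⟨hy, h⟩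
        obtain ⟨x₀, hx₀⟩ := this.2
        have hx₀V : x₀ ∈ j ⁻¹ᵁ V := by
          change j x₀ ∈ V
          rw [hx₀]; exact hy
        refine ⟨⟨x₀, hx₀V⟩, Subtype.ext ?_⟩
        rw [morphismRestrict_base_coe]
        exact hx₀
    have h2 : IsClosed (Subtype.val ⁻¹' Z : Set ↥V) := hZ.preimage continuous_subtype_val
    rw [← this] at h2
    exact h2
  have : IsAffine V.toScheme := hV
  exact isAffine_of_isAffineHom (j ∣_ V)

variable {k A : Type u} [Field k] [CommRing A] [Algebra k A]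
  (𝒜 : ℕ → Submodule k A) [GradedAlgebra 𝒜]

/-- a quasi-projective integral scheme of dimension `r` is covered by `r + 1` affine opens -/
theorem exists_affine_cover_of_immersion [Algebra.FiniteType k A] [Nontrivial A]
    (h0 : ∀ x ∈ 𝒜 0, x ≠ 0 → IsUnit x) (r : ℕ) {X : Scheme.{u}} (j : X ⟶ Proj 𝒜)
    [IsImmersion j] [IrreducibleSpace ↥X] (hX : topologicalKrullDim ↥X = r) :
    ∃ U : Fin (r + 1) → X.Opens, (∀ i, IsAffineOpen (U i)) ∧ ⨆ i, U i = ⊤ := by
  have hRirr : IsIrreducible (Set.range j : Set (ProjectiveSpectrum 𝒜)) := by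
    have := (IrreducibleSpace.isIrreducible_univ ↥X).image j j.continuous.continuousOn
    rwa [Set.image_univ] at this
  obtain ⟨z, hz⟩ := exists_eq_zeroLocus_of_isIrreducible 𝒜 _ isClosed_closure hRirr.closure
  rw [← closure_singleton] at hz
  have hRsub : (Set.range j : Set (ProjectiveSpectrum 𝒜)) ⊆ closure {z} := by
    rw [← hz]; exact subset_closure
  have hUo : IsClosed (closure {z} \ (Set.range j : Set (ProjectiveSpectrum 𝒜))) := by
    rw [← hz]
    have := j.isLocallyClosed_range.isOpen_coborder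
    rw [coborder, isOpen_compl_iff] at this
    exact this
  have hdim : topologicalKrullDim ↥(closure ({z} : Set (ProjectiveSpectrum 𝒜))) ≤
      (r : WithBot ℕ∞) := by
    refine (topologicalKrullDim_le_of_open 𝒜 h0 z _ hRsub (Set.range_nonempty _) hUo).trans ?_
    rw [← hX]
    exact (IsHomeomorph.topologicalKrullDim_eq _
      (j.isEmbedding.toHomeomorph).isHomeomorph).ge
  obtain ⟨h, hh1, hh2, hh3⟩ := exists_hypersurfaces_of_closed 𝒜 h0 _ _ isClosed_closure hUo r hdim
  refine ⟨fun i => j ⁻¹ᵁ (Proj.basicOpen 𝒜 (h i)), ?_, ?_⟩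
  · intro i
    obtain ⟨d, hd, hmem⟩ := hh1 i
    apply isAffineOpen_preimage_of_immersion j _ (Proj.isAffineOpen_basicOpen 𝒜 (h i) hmem hd)
      (closure {z}) isClosed_closure
    ext y
    constructor
    · rintro ⟨hyV, hyZ⟩
      refine ⟨hyV, ?_⟩
      by_contra hyR
      exact (Proj.mem_basicOpen 𝒜 (h i) y).mp hyV (hh2 i y ⟨hyZ, hyR⟩)
    · rintro ⟨hyV, hyR⟩
      exact ⟨hyV, hRsub hyR⟩
  · rw [_root_.eq_top_iff]
    intro x _
    rw [TopologicalSpace.Opens.mem_iSup]
    by_contra hcon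
    push Not at hcon
    have hjx : j x ∈ closure {z} := hRsub ⟨x, rfl⟩
    have := hh3 (j x) hjx (by
      intro i
      by_contra hi
      exact hcon i ((Proj.mem_basicOpen 𝒜 (h i) (j x)).mpr hi))
    exact this.2 ⟨x, rfl⟩

end qp

end Groth.Agent.H2.ProjDim
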