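import Mathlib
import Groth.Agent.Lib.Helper2.ProjInter1
import Groth.Agent.Lib.Helper2.ProjDim
import Groth.Agent.Lib.Helper2.ProjDimTop
import Groth.Agent.Lib.Helper2.HilbDim2

/-! Reduction to the diagonal: `dim S/(I+J) + (n+1) ≥ dim S/I + dim S/J` for homogeneous ideals
of a polynomial ring.  (helper2, projective dimension theorem S7675) -/

set_option autoImplicit false
universe u

open TensorProduct MvPolynomial

namespace Groth.Agent.H2.ProjInter
open Groth.Agent.H2.ProjDim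

section krull
variable {k A : Type u} [Field k] [CommRing A] [Algebra k A]
  (𝒜 : ℕ → Submodule k A) [GradedAlgebra 𝒜]

/-- graded form of Krull's height theorem: cutting a cone by `|s|` elements of the irrelevant
ideal drops the dimension by at most `|s|` -/
theorem ringKrullDim_quotient_le_sup_span [Algebra.FiniteType k A] [Nontrivial A]
    (h0 : ∀ x ∈ 𝒜 0, x ≠ 0 → IsUnit x) (I : Ideal A) (hI : I.IsHomogeneous 𝒜) (s : Finset A)
    (hs : ∀ f ∈ s, f ∈ (HomogeneousIdeal.irrelevant 𝒜).toIdeal) :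
    ringKrullDim (A ⧸ I) ≤ ringKrullDim (A ⧸ (I ⊔ Ideal.span (s : Set A))) + (s.card : WithBot ℕ∞) := by
  have hmax := irrelevant_isMaximal 𝒜 h0
  apply ringKrullDim_quotient_le_of_forall_minimalPrimes
  intro q hq
  haveI hqp : q.IsPrime := hq.1.1
  have hqh : q.IsHomogeneous 𝒜 := isHomogeneous_of_mem_minimalPrimes 𝒜 hI hq
  have hqirr : q ≤ (HomogeneousIdeal.irrelevant 𝒜).toIdeal := le_irrelevant 𝒜 h0 q hqh hqp.ne_top
  have hle : q ⊔ Ideal.span (s : Set A) ≤ (HomogeneousIdeal.irrelevant 𝒜).toIdeal :=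
    sup_le hqirr (Ideal.span_le.mpr fun f hf => hs f hf)
  have hne : q ⊔ Ideal.span (s : Set A) ≠ ⊤ := by
    intro h
    rw [h, top_le_iff] at hle
    exact hmax.ne_top hle
  obtain ⟨P, hP⟩ := Ideal.nonempty_minimalPrimes hne
  have h1 := ringKrullDim_le_of_mem_minimalPrimes k q P s hP
  have h2 : ringKrullDim (A ⧸ P) ≤ ringKrullDim (A ⧸ (I ⊔ Ideal.span (s : Set A))) :=
    Groth.Agent.H2.HilbDim.ringKrullDim_quotient_mono
      ((sup_le_sup_right hq.1.2 _).trans hP.1.2)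
  exact h1.trans (add_le_add_left h2 _)

end krull

section poly
variable (k : Type u) [Field k] (σ : Type) [Fintype σ]

local notation "S" => MvPolynomial σ k
local notation "T" => MvPolynomial (σ ⊕ σ) k

/-- the first inclusion `k[x] → k[x,y]` -/
noncomputable def ι₁ : S →ₐ[k] T := rename Sum.inl
/-- the second inclusion `k[y] → k[x,y]` -/
noncomputable def ι₂ : S →ₐ[k] T := rename Sum.inr

/-- the ideal of `k[x,y]` generated by `I(x)` and `J(y)` -/
noncomputable def prodIdeal (I J : Ideal S) : Ideal T :=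
  I.map (ι₁ k σ) ⊔ J.map (ι₂ k σ)

open scoped Classical in
/-- the generators `x_i - y_i` of the ideal of the diagonal -/
noncomputable def diagGens : Finset T :=
  Finset.image (fun i : σ => (X (Sum.inl i) - X (Sum.inr i) : T)) Finset.univ

theorem card_diagGens_le : (diagGens k σ).card ≤ Fintype.card σ := by
  classical
  unfold diagGens
  exact Finset.card_image_le.trans (le_of_eq Finset.card_univ)

theorem mem_diagGens (i : σ) : (X (Sum.inl i) - X (Sum.inr i) : T) ∈ diagGens k σ := by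
  classical
  unfold diagGens
  exact Finset.mem_image.mpr ⟨i, Finset.mem_univ _, rfl⟩

theorem exists_of_mem_diagGens {f : T} (hf : f ∈ diagGens k σ) :
    ∃ i : σ, f = X (Sum.inl i) - X (Sum.inr i) := by
  classical
  unfold diagGens at hf
  obtain ⟨i, -, rfl⟩ := Finset.mem_image.mp hf
  exact ⟨i, rfl⟩

variable {k σ}

/-- the map `k[x,y] → S/I ⊗ S/J` -/
noncomputable def toTensor (I J : Ideal S) : T →ₐ[k] (S ⧸ I) ⊗[k] (S ⧸ J) :=
  aeval (Sum.elim (fun i => (Ideal.Quotient.mk I (X i)) ⊗ₜ[k] (1 : S ⧸ J))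
    (fun i => (1 : S ⧸ I) ⊗ₜ[k] (Ideal.Quotient.mk J (X i))))

theorem toTensor_ι₁ (I J : Ideal S) (f : S) :
    toTensor I J (ι₁ k σ f) = (Ideal.Quotient.mk I f) ⊗ₜ[k] (1 : S ⧸ J) := by
  have h : (toTensor I J).comp (ι₁ k σ) =
      (Algebra.TensorProduct.includeLeft : (S ⧸ I) →ₐ[k] (S ⧸ I) ⊗[k] (S ⧸ J)).comp
        (Ideal.Quotient.mkₐ k I) := by
    apply MvPolynomial.algHom_ext
    intro i
    simp [toTensor, ι₁]
  exact congrArg (fun φ : S →ₐ[k] (S ⧸ I) ⊗[k] (S ⧸ J) => φ f) h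

theorem toTensor_ι₂ (I J : Ideal S) (f : S) :
    toTensor I J (ι₂ k σ f) = (1 : S ⧸ I) ⊗ₜ[k] (Ideal.Quotient.mk J f) := by
  have h : (toTensor I J).comp (ι₂ k σ) =
      (Algebra.TensorProduct.includeRight : (S ⧸ J) →ₐ[k] (S ⧸ I) ⊗[k] (S ⧸ J)).comp
        (Ideal.Quotient.mkₐ k J) := by
    apply MvPolynomial.algHom_ext
    intro i
    simp [toTensor, ι₂]
  exact congrArg (fun φ : S →ₐ[k] (S ⧸ I) ⊗[k] (S ⧸ J) => φ f) h

theorem toTensor_surjective (I J : Ideal S) : Function.Surjective (toTensor I J) := by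
  intro z
  induction z using TensorProduct.induction_on with
  | zero => exact ⟨0, map_zero _⟩
  | tmul a b =>
    obtain ⟨f, rfl⟩ := Ideal.Quotient.mk_surjective a
    obtain ⟨g, rfl⟩ := Ideal.Quotient.mk_surjective b
    refine ⟨ι₁ k σ f * ι₂ k σ g, ?_⟩
    rw [map_mul, toTensor_ι₁, toTensor_ι₂, Algebra.TensorProduct.tmul_mul_tmul, mul_one, one_mul]
  | add x y hx hy =>
    obtain ⟨x', rfl⟩ := hx
    obtain ⟨y', rfl⟩ := hy
    exact ⟨x' + y', map_add _ _ _⟩

theorem prodIdeal_le_ker (I J : Ideal S) :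
    prodIdeal k σ I J ≤ RingHom.ker (toTensor I J).toRingHom := by
  unfold prodIdeal
  refine sup_le ?_ ?_
  · rw [Ideal.map_le_iff_le_comap]
    intro f hf
    rw [Ideal.mem_comap, RingHom.mem_ker]
    change toTensor I J (ι₁ k σ f) = 0
    rw [toTensor_ι₁, Ideal.Quotient.eq_zero_iff_mem.mpr hf, zero_tmul]
  · rw [Ideal.map_le_iff_le_comap]
    intro f hf
    rw [Ideal.mem_comap, RingHom.mem_ker]
    change toTensor I J (ι₂ k σ f) = 0
    rw [toTensor_ι₂, Ideal.Quotient.eq_zero_iff_mem.mpr hf, tmul_zero]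

theorem ringKrullDim_tensor_le (I J : Ideal S) :
    ringKrullDim ((S ⧸ I) ⊗[k] (S ⧸ J)) ≤ ringKrullDim (T ⧸ prodIdeal k σ I J) := by
  refine ringKrullDim_le_of_surjective
    (Ideal.Quotient.lift (prodIdeal k σ I J) (toTensor I J).toRingHom
      (fun a ha => prodIdeal_le_ker I J ha)) ?_
  intro z
  obtain ⟨t, rfl⟩ := toTensor_surjective I J z
  exact ⟨Ideal.Quotient.mk _ t, by simp⟩

/-- the map `S → k[x,y]/(I(x) + J(y) + (x_i - y_i))` -/
noncomputable def toDiag (I J : Ideal S) :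
    S →ₐ[k] T ⧸ (prodIdeal k σ I J ⊔ Ideal.span ((diagGens k σ : Finset T) : Set T)) :=
  (Ideal.Quotient.mkₐ k _).comp (ι₁ k σ)

theorem toDiag_eq (I J : Ideal S) :
    toDiag I J = (Ideal.Quotient.mkₐ k
      (prodIdeal k σ I J ⊔ Ideal.span ((diagGens k σ : Finset T) : Set T))).comp (ι₂ k σ) := by
  apply MvPolynomial.algHom_ext
  intro i
  simp only [toDiag, ι₁, ι₂, AlgHom.comp_apply, rename_X, Ideal.Quotient.mkₐ_eq_mk]
  rw [Ideal.Quotient.eq]
  apply Ideal.mem_sup_right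
  apply Ideal.subset_span
  exact Finset.mem_coe.mpr (mem_diagGens k σ i)

theorem le_ker_toDiag (I J : Ideal S) : I ⊔ J ≤ RingHom.ker (toDiag I J).toRingHom := by
  refine sup_le ?_ ?_
  · intro f hf
    rw [RingHom.mem_ker]
    change toDiag I J f = 0
    simp only [toDiag, AlgHom.comp_apply, Ideal.Quotient.mkₐ_eq_mk]
    rw [Ideal.Quotient.eq_zero_iff_mem]
    exact Ideal.mem_sup_left (Ideal.mem_sup_left (Ideal.mem_map_of_mem _ hf))
  · intro f hf
    rw [RingHom.mem_ker]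
    change toDiag I J f = 0
    rw [toDiag_eq]
    simp only [AlgHom.comp_apply, Ideal.Quotient.mkₐ_eq_mk]
    rw [Ideal.Quotient.eq_zero_iff_mem]
    exact Ideal.mem_sup_left (Ideal.mem_sup_right (Ideal.mem_map_of_mem _ hf))

theorem toDiag_surjective (I J : Ideal S) : Function.Surjective (toDiag I J) := by
  have h : (Ideal.Quotient.mkₐ k
      (prodIdeal k σ I J ⊔ Ideal.span ((diagGens k σ : Finset T) : Set T))) =
      (toDiag I J).comp (aeval (Sum.elim X X)) := by
    apply MvPolynomial.algHom_ext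
    rintro (i | i)
    · simp [toDiag, ι₁]
    · rw [AlgHom.comp_apply, aeval_X, Sum.elim_inr, toDiag_eq]
      simp [ι₂]
  intro z
  obtain ⟨t, rfl⟩ := Ideal.Quotient.mk_surjective z
  refine ⟨aeval (Sum.elim X X) t, ?_⟩
  have := congrArg (fun φ : T →ₐ[k] _ => φ t) h
  simp only [AlgHom.comp_apply, Ideal.Quotient.mkₐ_eq_mk] at this
  exact this.symm

theorem ringKrullDim_diag_le (I J : Ideal S) :
    ringKrullDim (T ⧸ (prodIdeal k σ I J ⊔ Ideal.span ((diagGens k σ : Finset T) : Set T))) ≤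
      ringKrullDim (S ⧸ (I ⊔ J)) := by
  refine ringKrullDim_le_of_surjective
    (Ideal.Quotient.lift (I ⊔ J) (toDiag I J).toRingHom (fun a ha => le_ker_toDiag I J ha)) ?_
  intro z
  obtain ⟨t, rfl⟩ := toDiag_surjective I J z
  exact ⟨Ideal.Quotient.mk _ t, by simp⟩

end poly

end Groth.Agent.H2.ProjInter
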