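import Mathlib
import Groth.Prelude.Def_CohB1
import Groth.Agent.Lib.Helper2.ProjInter2
import Groth.Agent.Lib.Helper2.ProjDimDict

/-! The projective dimension theorem: `dim (X ∩ Y) ≥ dim X + dim Y - n` in `P^n`.
(helper2, S7675) -/

set_option autoImplicit false
universe u

open TensorProduct MvPolynomial

namespace Groth.Agent.H2.ProjInter
open Groth.Agent.H2.ProjDim

attribute [local instance] MvPolynomial.gradedAlgebra

section hom
variable {k : Type u} [Field k] {σ τ : Type*}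

theorem map_rename_isHomogeneous (f : σ → τ) (I : Ideal (MvPolynomial σ k))
    (hI : I.IsHomogeneous (homogeneousSubmodule σ k)) :
    (I.map (rename f : MvPolynomial σ k →ₐ[k] MvPolynomial τ k)).IsHomogeneous
      (homogeneousSubmodule τ k) := by
  obtain ⟨s, rfl⟩ := (Ideal.IsHomogeneous.iff_exists _ _).mp hI
  rw [Ideal.map_span]
  apply Ideal.homogeneous_span
  rintro _ ⟨_, ⟨⟨x, hx⟩, -, rfl⟩, rfl⟩
  obtain ⟨i, hi⟩ := hx
  exact ⟨i, (mem_homogeneousSubmodule _ _).mpr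
    (IsHomogeneous.rename_isHomogeneous ((mem_homogeneousSubmodule _ _).mp hi))⟩

end hom

section main
variable (k : Type u) [Field k] (σ : Type) [Fintype σ]

local notation "S" => MvPolynomial σ k
local notation "T" => MvPolynomial (σ ⊕ σ) k

theorem prodIdeal_isHomogeneous (I J : Ideal S) (hI : I.IsHomogeneous (homogeneousSubmodule σ k))
    (hJ : J.IsHomogeneous (homogeneousSubmodule σ k)) :
    (prodIdeal k σ I J).IsHomogeneous (homogeneousSubmodule (σ ⊕ σ) k) :=
  (map_rename_isHomogeneous Sum.inl I hI).sup (map_rename_isHomogeneous Sum.inr J hJ)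

theorem diagGens_mem_irrelevant (f : T) (hf : f ∈ diagGens k σ) :
    f ∈ (HomogeneousIdeal.irrelevant (homogeneousSubmodule (σ ⊕ σ) k)).toIdeal := by
  obtain ⟨i, rfl⟩ := exists_of_mem_diagGens k σ hf
  refine HomogeneousIdeal.mem_irrelevant_of_mem _ (i := 1) one_pos ?_
  rw [mem_homogeneousSubmodule]
  exact (isHomogeneous_X k _).sub (isHomogeneous_X k _)

/-- **reduction to the diagonal** -/
theorem ringKrullDim_add_le (I J : Ideal S) (hI : I.IsHomogeneous (homogeneousSubmodule σ k))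
    (hJ : J.IsHomogeneous (homogeneousSubmodule σ k)) (hI1 : I ≠ ⊤) (hJ1 : J ≠ ⊤) :
    ringKrullDim (S ⧸ I) + ringKrullDim (S ⧸ J) ≤
      ringKrullDim (S ⧸ (I ⊔ J)) + (Fintype.card σ : WithBot ℕ∞) := by
  haveI : Nontrivial (S ⧸ I) := Ideal.Quotient.nontrivial_iff.mpr hI1
  haveI : Nontrivial (S ⧸ J) := Ideal.Quotient.nontrivial_iff.mpr hJ1
  haveI : Algebra.FiniteType k (S ⧸ I) :=
    Algebra.FiniteType.of_surjective (Ideal.Quotient.mkₐ k I) Ideal.Quotient.mk_surjective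
  haveI : Algebra.FiniteType k (S ⧸ J) :=
    Algebra.FiniteType.of_surjective (Ideal.Quotient.mkₐ k J) Ideal.Quotient.mk_surjective
  rw [← ringKrullDim_tensorProduct k (S ⧸ I) (S ⧸ J)]
  refine (ringKrullDim_tensor_le I J).trans ?_
  have h0 := mvPolynomial_h0 k (σ ⊕ σ)
  have h1 := ringKrullDim_quotient_le_sup_span (homogeneousSubmodule (σ ⊕ σ) k) h0
    (prodIdeal k σ I J) (prodIdeal_isHomogeneous k σ I J hI hJ) (diagGens k σ)
    (diagGens_mem_irrelevant k σ)
  refine h1.trans ?_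
  refine add_le_add (ringKrullDim_diag_le I J) ?_
  exact_mod_cast card_diagGens_le k σ

end main

section top
variable (k : Type u) [Field k] (n : ℕ)

local notation "𝒜" => CohB1.polyGrading n k
local notation "S" => MvPolynomial (Fin (n + 1)) k

theorem zeroLocus_ne_top {I : Ideal S} (hne : (ProjectiveSpectrum.zeroLocus 𝒜 (I : Set S)).Nonempty) :
    I ≠ ⊤ := by
  rintro rfl
  obtain ⟨x, hx⟩ := hne
  exact x.isPrime.ne_top (top_le_iff.mp hx)

theorem zeroLocus_inter (I J : Ideal S) (hI : I.IsHomogeneous 𝒜) (hJ : J.IsHomogeneous 𝒜)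
    (hIne : (ProjectiveSpectrum.zeroLocus 𝒜 (I : Set S)).Nonempty)
    (hJne : (ProjectiveSpectrum.zeroLocus 𝒜 (J : Set S)).Nonempty) (r s : ℕ)
    (hr : topologicalKrullDim ↥(ProjectiveSpectrum.zeroLocus 𝒜 (I : Set S)) = r)
    (hs : topologicalKrullDim ↥(ProjectiveSpectrum.zeroLocus 𝒜 (J : Set S)) = s)
    (hrs : n ≤ r + s) :
    (ProjectiveSpectrum.zeroLocus 𝒜 (I : Set S) ∩
        ProjectiveSpectrum.zeroLocus 𝒜 (J : Set S)).Nonempty ∧
      ((r + s : ℕ) : WithBot ℕ∞) ≤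
        topologicalKrullDim ↥(ProjectiveSpectrum.zeroLocus 𝒜 (I : Set S) ∩
          ProjectiveSpectrum.zeroLocus 𝒜 (J : Set S)) + (n : WithBot ℕ∞) := by
  have h0 := mvPolynomial_h0 k (Fin (n + 1))
  have hmax := irrelevant_isMaximal 𝒜 h0
  have e1 := topologicalKrullDim_zeroLocus_add_one 𝒜 h0 I hI hIne
  have e2 := topologicalKrullDim_zeroLocus_add_one 𝒜 h0 J hJ hJne
  rw [hr] at e1
  rw [hs] at e2
  have hI1 := zeroLocus_ne_top k n hIne
  have hJ1 := zeroLocus_ne_top k n hJne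
  have hD := ringKrullDim_add_le k (Fin (n + 1)) I J hI hJ hI1 hJ1
  rw [← e1, ← e2, Fintype.card_fin] at hD
  have hIJh : (I ⊔ J).IsHomogeneous 𝒜 := hI.sup hJ
  have hIJle : I ⊔ J ≤ (HomogeneousIdeal.irrelevant 𝒜).toIdeal :=
    sup_le (le_irrelevant 𝒜 h0 I hI hI1) (le_irrelevant 𝒜 h0 J hJ hJ1)
  have hIJ1 : I ⊔ J ≠ ⊤ := by
    intro h
    rw [h, top_le_iff] at hIJle
    exact hmax.ne_top hIJle
  have hd := dimQ_spec k (I ⊔ J) hIJ1
  rw [hd] at hD
  have hD' : r + 1 + (s + 1) ≤ dimQ (I ⊔ J) + (n + 1) := by exact_mod_cast hD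
  have hd1 : 1 ≤ dimQ (I ⊔ J) := by omega
  have hinter : ProjectiveSpectrum.zeroLocus 𝒜 (I : Set S) ∩
      ProjectiveSpectrum.zeroLocus 𝒜 (J : Set S) =
      ProjectiveSpectrum.zeroLocus 𝒜 ((I ⊔ J : Ideal S) : Set S) := by
    rw [zeroLocus_inter_eq 𝒜 I (J : Set S), Ideal.span_eq]
  rw [hinter]
  have hne : (ProjectiveSpectrum.zeroLocus 𝒜 ((I ⊔ J : Ideal S) : Set S)).Nonempty := by
    by_contra hempty
    rw [Set.not_nonempty_iff_eq_empty] at hempty
    have hle : ringKrullDim (S ⧸ (I ⊔ J)) ≤ 0 := by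
      apply ringKrullDim_quotient_le_of_forall_minimalPrimes
      intro q hq
      have hqp : q.IsPrime := hq.1.1
      have hqh : q.IsHomogeneous 𝒜 := isHomogeneous_of_mem_minimalPrimes 𝒜 hIJh hq
      by_cases hrel : (HomogeneousIdeal.irrelevant 𝒜).toIdeal ≤ q
      · have heq : q = (HomogeneousIdeal.irrelevant 𝒜).toIdeal :=
          (hmax.eq_of_le hqp.ne_top hrel).symm
        rw [heq, ringKrullDim_quotient_irrelevant 𝒜 h0]
      · exfalso
        have hmem : mkPoint 𝒜 q hqp hqh hrel ∈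
            ProjectiveSpectrum.zeroLocus 𝒜 ((I ⊔ J : Ideal S) : Set S) := hq.1.2
        rw [hempty] at hmem
        exact hmem
    rw [hd] at hle
    have : dimQ (I ⊔ J) ≤ 0 := by exact_mod_cast hle
    omega
  refine ⟨hne, ?_⟩
  have e3 := topologicalKrullDim_zeroLocus_add_one 𝒜 h0 (I ⊔ J) hIJh hne
  rw [hd] at e3
  rw [eq_pred_of_add_one_eq e3 hd1]
  have : r + s ≤ (dimQ (I ⊔ J) - 1) + n := by omega
  exact_mod_cast this

/-- **the projective dimension theorem** -/
theorem inter_nonempty_and_dim_ge (r s : ℕ)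
    (X Y : Set (ProjectiveSpectrum 𝒜)) (hX : IsClosed X) (hY : IsClosed Y)
    (hXne : X.Nonempty) (hYne : Y.Nonempty)
    (hXr : topologicalKrullDim X = r) (hYs : topologicalKrullDim Y = s) (hrs : n ≤ r + s) :
    (X ∩ Y).Nonempty ∧
      ((r + s : ℕ) : WithBot ℕ∞) ≤ topologicalKrullDim ↥(X ∩ Y) + (n : WithBot ℕ∞) := by
  have hXI : X = ProjectiveSpectrum.zeroLocus 𝒜
      (((ProjectiveSpectrum.vanishingIdeal X).toIdeal : Ideal S) : Set S) := by
    have := ProjectiveSpectrum.zeroLocus_vanishingIdeal_eq_closure 𝒜 X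
    rw [hX.closure_eq] at this
    exact this.symm
  have hYJ : Y = ProjectiveSpectrum.zeroLocus 𝒜
      (((ProjectiveSpectrum.vanishingIdeal Y).toIdeal : Ideal S) : Set S) := by
    have := ProjectiveSpectrum.zeroLocus_vanishingIdeal_eq_closure 𝒜 Y
    rw [hY.closure_eq] at this
    exact this.symm
  rw [hXI] at hXne hXr
  rw [hYJ] at hYne hYs
  rw [hXI, hYJ]
  exact zeroLocus_inter k n _ _ (ProjectiveSpectrum.vanishingIdeal X).isHomogeneous
    (ProjectiveSpectrum.vanishingIdeal Y).isHomogeneous hXne hYne r s hXr hYs hrs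

end top

end Groth.Agent.H2.ProjInter
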