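import Mathlib
import Groth.Prelude.Def_CohB1
import Groth.Agent.Lib.Helper2.ProjInter3
import Groth.Agent.Lib.Helper2.CInt7

/-! Coordinate linear sections of a closed subset of projective space down to dimension zero.
(helper2, S13907) -/

set_option autoImplicit false
universe u

open MvPolynomial

namespace Groth.Agent.H2.ProjInter
open Groth.Agent.H2.ProjDim

attribute [local instance] MvPolynomial.gradedAlgebra

section top
variable (k : Type u) [Field k] (n : ℕ)

local notation "𝒜" => CohB1.polyGrading n k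
local notation "S" => MvPolynomial (Fin (n + 1)) k

theorem ne_top_of_le_irrelevant {K : Ideal S}
    (h : K ≤ (HomogeneousIdeal.irrelevant 𝒜).toIdeal) : K ≠ ⊤ := by
  have h0 := mvPolynomial_h0 k (Fin (n + 1))
  have hmax := irrelevant_isMaximal 𝒜 h0
  intro hK
  rw [hK, top_le_iff] at h
  exact hmax.ne_top h

theorem zeroLocus_nonempty_of_one_le (K : Ideal S) (hK : K.IsHomogeneous 𝒜) (hK1 : K ≠ ⊤)
    (h : 1 ≤ dimQ K) : (ProjectiveSpectrum.zeroLocus 𝒜 (K : Set S)).Nonempty := by
  have h0 := mvPolynomial_h0 k (Fin (n + 1))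
  have hmax := irrelevant_isMaximal 𝒜 h0
  have hd := dimQ_spec k K hK1
  by_contra hempty
  rw [Set.not_nonempty_iff_eq_empty] at hempty
  have hle : ringKrullDim (S ⧸ K) ≤ 0 := by
    apply ringKrullDim_quotient_le_of_forall_minimalPrimes
    intro q hq
    have hqp : q.IsPrime := hq.1.1
    have hqh : q.IsHomogeneous 𝒜 := isHomogeneous_of_mem_minimalPrimes 𝒜 hK hq
    by_cases hrel : (HomogeneousIdeal.irrelevant 𝒜).toIdeal ≤ q
    · have heq : q = (HomogeneousIdeal.irrelevant 𝒜).toIdeal :=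
        (hmax.eq_of_le hqp.ne_top hrel).symm
      rw [heq, ringKrullDim_quotient_irrelevant 𝒜 h0]
    · exfalso
      have hmem : mkPoint 𝒜 q hqp hqh hrel ∈
          ProjectiveSpectrum.zeroLocus 𝒜 (K : Set S) := hq.1.2
      rw [hempty] at hmem
      exact hmem
  rw [hd] at hle
  have : dimQ K ≤ 0 := by exact_mod_cast hle
  omega

theorem one_le_dimQ_of_nonempty (K : Ideal S) (hK1 : K ≠ ⊤)
    (hne : (ProjectiveSpectrum.zeroLocus 𝒜 (K : Set S)).Nonempty) : 1 ≤ dimQ K := by
  have h0 := mvPolynomial_h0 k (Fin (n + 1))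
  obtain ⟨x, hx⟩ := hne
  have h1 : ringKrullDim (S ⧸ x.asHomogeneousIdeal.toIdeal) ≤ ringKrullDim (S ⧸ K) :=
    Groth.Agent.H2.HilbDim.ringKrullDim_quotient_mono hx
  rw [δ_spec 𝒜 x, dimQ_spec k K hK1] at h1
  have h2 := one_le_δ 𝒜 h0 x
  have h3 : δ 𝒜 x ≤ dimQ K := by exact_mod_cast h1
  omega

/-- a hypersurface meets every closed subset of positive dimension -/
theorem dimQ_le_sup_span_singleton (K : Ideal S) (hK : K.IsHomogeneous 𝒜)
    (hKle : K ≤ (HomogeneousIdeal.irrelevant 𝒜).toIdeal) (f : S)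
    (hf : f ∈ (HomogeneousIdeal.irrelevant 𝒜).toIdeal) :
    dimQ K ≤ dimQ (K ⊔ Ideal.span {f}) + 1 := by
  classical
  have h0 := mvPolynomial_h0 k (Fin (n + 1))
  have h1 := ringKrullDim_quotient_le_sup_span 𝒜 h0 K hK {f}
    (by intro g hg; rw [Finset.mem_singleton] at hg; rw [hg]; exact hf)
  rw [Finset.coe_singleton, Finset.card_singleton] at h1
  have hle : K ⊔ Ideal.span {f} ≤ (HomogeneousIdeal.irrelevant 𝒜).toIdeal :=
    sup_le hKle ((Ideal.span_singleton_le_iff_mem _).mpr hf)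
  rw [dimQ_spec k K (ne_top_of_le_irrelevant k n hKle),
    dimQ_spec k _ (ne_top_of_le_irrelevant k n hle)] at h1
  exact_mod_cast h1

/-- the set of coordinates `x_1, …, x_i` -/
def coordSet (i : ℕ) : Set S :=
  (fun j : Fin (n + 1) => (MvPolynomial.X j : S)) '' {j : Fin (n + 1) | 1 ≤ j.val ∧ j.val ≤ i}

theorem span_coordSet_isHomogeneous (i : ℕ) : (Ideal.span (coordSet k n i)).IsHomogeneous 𝒜 := by
  apply Ideal.homogeneous_span
  rintro _ ⟨j, -, rfl⟩
  exact ⟨1, isHomogeneous_X k j⟩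

theorem span_coordSet_le_irrelevant (i : ℕ) :
    Ideal.span (coordSet k n i) ≤ (HomogeneousIdeal.irrelevant 𝒜).toIdeal := by
  rw [Ideal.span_le]
  rintro _ ⟨j, -, rfl⟩
  exact HomogeneousIdeal.mem_irrelevant_of_mem _ Nat.one_pos (isHomogeneous_X k j)

theorem dimQ_span_coordSet_le : dimQ (Ideal.span (coordSet k n n)) ≤ 1 := by
  have h0 := mvPolynomial_h0 k (Fin (n + 1))
  have h1 := dimQ_le_sup_span_singleton k n _ (span_coordSet_isHomogeneous k n n)
    (span_coordSet_le_irrelevant k n n) (X 0)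
    (HomogeneousIdeal.mem_irrelevant_of_mem _ Nat.one_pos (isHomogeneous_X k 0))
  have hle : (HomogeneousIdeal.irrelevant 𝒜).toIdeal ≤
      Ideal.span (coordSet k n n) ⊔ Ideal.span {(X 0 : S)} := by
    refine (Groth.Agent.H2.CInt.irrelevant_le_irr k n).trans ?_
    rw [Ideal.span_le]
    rintro _ ⟨j, rfl⟩
    by_cases hj : j = 0
    · rw [hj]
      exact Ideal.mem_sup_right (Ideal.mem_span_singleton_self _)
    · apply Ideal.mem_sup_left
      apply Ideal.subset_span
      refine ⟨j, ⟨?_, ?_⟩, rfl⟩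
      · have : j.val ≠ 0 := fun h => hj (Fin.ext h)
        omega
      · have := j.isLt
        omega
  have hle2 : Ideal.span (coordSet k n n) ⊔ Ideal.span {(X 0 : S)} ≤
      (HomogeneousIdeal.irrelevant 𝒜).toIdeal :=
    sup_le (span_coordSet_le_irrelevant k n n) ((Ideal.span_singleton_le_iff_mem _).mpr
      (HomogeneousIdeal.mem_irrelevant_of_mem _ Nat.one_pos (isHomogeneous_X k 0)))
  have heq := le_antisymm hle2 hle
  have h2 : dimQ (Ideal.span (coordSet k n n) ⊔ Ideal.span {(X 0 : S)}) = 0 := by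
    have h3 := dimQ_spec k (Ideal.span (coordSet k n n) ⊔ Ideal.span {(X 0 : S)})
      (ne_top_of_le_irrelevant k n hle2)
    rw [heq, ringKrullDim_quotient_irrelevant 𝒜 h0, ← heq] at h3
    exact_mod_cast h3.symm
  omega

theorem exists_coordinate_section (C : Set (ProjectiveSpectrum 𝒜)) (hC : IsClosed C)
    (hCne : C.Nonempty) :
    ∃ i : ℕ, i ≤ n ∧
      (C ∩ ProjectiveSpectrum.zeroLocus 𝒜 (coordSet k n i)).Nonempty ∧
      topologicalKrullDim ↥(C ∩ ProjectiveSpectrum.zeroLocus 𝒜 (coordSet k n i)) = 0 := by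
  classical
  have h0 := mvPolynomial_h0 k (Fin (n + 1))
  have hCI : C = ProjectiveSpectrum.zeroLocus 𝒜
      (((ProjectiveSpectrum.vanishingIdeal C).toIdeal : Ideal S) : Set S) := by
    have := ProjectiveSpectrum.zeroLocus_vanishingIdeal_eq_closure 𝒜 C
    rw [hC.closure_eq] at this
    exact this.symm
  set I : Ideal S := (ProjectiveSpectrum.vanishingIdeal C).toIdeal with hIdef
  have hI : I.IsHomogeneous 𝒜 := (ProjectiveSpectrum.vanishingIdeal C).isHomogeneous
  have hI1 : I ≠ ⊤ := zeroLocus_ne_top k n (by rw [← hCI]; exact hCne)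
  have hIle : I ≤ (HomogeneousIdeal.irrelevant 𝒜).toIdeal := le_irrelevant 𝒜 h0 I hI hI1
  have hinter : ∀ i, C ∩ ProjectiveSpectrum.zeroLocus 𝒜 (coordSet k n i) =
      ProjectiveSpectrum.zeroLocus 𝒜 ((I ⊔ Ideal.span (coordSet k n i) : Ideal S) : Set S) := by
    intro i
    conv_lhs => rw [hCI]
    exact zeroLocus_inter_eq 𝒜 I (coordSet k n i)
  have hKh : ∀ i, (I ⊔ Ideal.span (coordSet k n i)).IsHomogeneous 𝒜 :=
    fun i => hI.sup (span_coordSet_isHomogeneous k n i)
  have hKle : ∀ i, I ⊔ Ideal.span (coordSet k n i) ≤ (HomogeneousIdeal.irrelevant 𝒜).toIdeal :=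
    fun i => sup_le hIle (span_coordSet_le_irrelevant k n i)
  let P : ℕ → Prop := fun i =>
    (ProjectiveSpectrum.zeroLocus 𝒜 ((I ⊔ Ideal.span (coordSet k n i) : Ideal S) : Set S)).Nonempty
  have hP0 : P 0 := by
    change (ProjectiveSpectrum.zeroLocus 𝒜
      ((I ⊔ Ideal.span (coordSet k n 0) : Ideal S) : Set S)).Nonempty
    rw [← hinter 0]
    have : coordSet k n 0 = ∅ := by
      unfold coordSet
      rw [Set.image_eq_empty]
      ext j
      simp only [Set.mem_setOf_eq, Set.mem_empty_iff_false, iff_false]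
      omega
    rw [this, ProjectiveSpectrum.zeroLocus_empty, Set.inter_univ]
    exact hCne
  set m := Nat.findGreatest P n with hm
  have hPm : P m := Nat.findGreatest_spec (Nat.zero_le n) hP0
  have hmn : m ≤ n := Nat.findGreatest_le n
  refine ⟨m, hmn, ?_, ?_⟩
  · rw [hinter m]; exact hPm
  rw [hinter m]
  set K := I ⊔ Ideal.span (coordSet k n m) with hKdef
  have hK1 : K ≠ ⊤ := ne_top_of_le_irrelevant k n (hKle m)
  have hd1 : 1 ≤ dimQ K := one_le_dimQ_of_nonempty k n K hK1 hPm
  have e := topologicalKrullDim_zeroLocus_add_one 𝒜 h0 K (hKh m) hPm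
  rw [dimQ_spec k K hK1] at e
  rw [eq_pred_of_add_one_eq e hd1]
  suffices h : dimQ K = 1 by rw [h]; rfl
  by_contra hne
  have hd2 : 2 ≤ dimQ K := by omega
  rcases Nat.lt_or_ge m n with hlt | hge
  · -- cut by the next coordinate
    let j : Fin (n + 1) := ⟨m + 1, by omega⟩
    have hfirr : (X j : S) ∈ (HomogeneousIdeal.irrelevant 𝒜).toIdeal :=
      HomogeneousIdeal.mem_irrelevant_of_mem _ Nat.one_pos (isHomogeneous_X k j)
    have h1 := dimQ_le_sup_span_singleton k n K (hKh m) (hKle m) (X j) hfirr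
    have hle' : K ⊔ Ideal.span {(X j : S)} ≤ (HomogeneousIdeal.irrelevant 𝒜).toIdeal :=
      sup_le (hKle m) ((Ideal.span_singleton_le_iff_mem _).mpr hfirr)
    have hne' := zeroLocus_nonempty_of_one_le k n (K ⊔ Ideal.span {(X j : S)})
      ((hKh m).sup (Ideal.homogeneous_span _ _ (by
        rintro _ rfl
        exact ⟨1, isHomogeneous_X k j⟩)))
      (ne_top_of_le_irrelevant k n hle') (by omega)
    have hsub : I ⊔ Ideal.span (coordSet k n (m + 1)) ≤ K ⊔ Ideal.span {(X j : S)} := by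
      refine sup_le (le_sup_left.trans le_sup_left) ?_
      rw [Ideal.span_le]
      rintro _ ⟨j', ⟨hj1, hj2⟩, rfl⟩
      by_cases hj' : j'.val ≤ m
      · apply Ideal.mem_sup_left
        apply Ideal.mem_sup_right
        exact Ideal.subset_span ⟨j', ⟨hj1, hj'⟩, rfl⟩
      · have : j' = j := Fin.ext (by simp only [j]; omega)
        rw [this]
        exact Ideal.mem_sup_right (Ideal.mem_span_singleton_self _)
    have hPm1 : P (m + 1) := by
      obtain ⟨x, hx⟩ := hne'
      exact ⟨x, fun a ha => hx (hsub ha)⟩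
    exact Nat.findGreatest_is_greatest (Nat.lt_succ_self m) (by omega) hPm1
  · have hmeq : m = n := le_antisymm hmn hge
    have h1 : ringKrullDim (S ⧸ K) ≤ ringKrullDim (S ⧸ Ideal.span (coordSet k n n)) := by
      apply Groth.Agent.H2.HilbDim.ringKrullDim_quotient_mono
      rw [hKdef, hmeq]
      exact le_sup_right
    rw [dimQ_spec k K hK1, dimQ_spec k _
      (ne_top_of_le_irrelevant k n (span_coordSet_le_irrelevant k n n))] at h1
    have h2 : dimQ K ≤ dimQ (Ideal.span (coordSet k n n)) := by exact_mod_cast h1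
    have h3 := dimQ_span_coordSet_le k n
    omega

end top

end Groth.Agent.H2.ProjInter
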