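import Groth.Agent.Lib.Helper2.ProjUPD

/-! # Sections `F / 1` of `O(d)` on `Proj 𝒮` in the charts `D₊(f)`, `deg f = 1`, and their pullbacks. -/

universe u
open CategoryTheory CategoryTheory.Limits AlgebraicGeometry HomogeneousLocalization Opposite
  TopologicalSpace

namespace Groth.Agent.H2.ProjKer

open Groth.Agent.LD Twist Groth.Agent.H2.PUP

variable {A : Type u} [CommRing A] {S : Type u} [CommRing S] [Algebra A S]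
  (𝒮 : ℕ → Submodule A S) [GradedAlgebra 𝒮]

/-- `f ^ d ∈ 𝒮 d` for `f ∈ 𝒮 1`. -/
lemma pow_mem {f : S} (hf : f ∈ 𝒮 1) (d : ℕ) : f ^ d ∈ 𝒮 d := PN.pow_mem_one hf d

omit [GradedAlgebra 𝒮] in
/-- `F ∈ 𝒮 d` as a numerator over `f ^ d`. -/
lemma mem_smul_one {F : S} {d : ℕ} (hF : F ∈ 𝒮 d) : F ∈ 𝒮 (d • 1) := by simpa using hF

/-- restricted to `V ≤ D₊(f)`, `f ^ d / 1` is a basis of `O(d)`. -/
lemma isBasisOver_globalOf_pow {f : S} (hf : f ∈ 𝒮 1) (d : ℕ) {V : (Proj 𝒮).Opens}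
    (hV : V ≤ Proj.basicOpen 𝒮 f) :
    QC.IsBasisOver (twist 𝒮 (d : ℤ)) V
      ((twist 𝒮 (d : ℤ)).presheaf.map (homOfLE (le_top : V ≤ ⊤)).op
        (show Γ(twist 𝒮 (d : ℤ), ⊤) from globalOf 𝒮 (⟨f ^ d, pow_mem 𝒮 hf d⟩ : 𝒮 d))) :=
  (TW.isUnitSec_globalOf (⟨f ^ d, pow_mem 𝒮 hf d⟩ : 𝒮 d) (PN.le_basicOpen_pow' hV d)).isBasisOver

/-- `F / 1 = (F / f ^ d) • (f ^ d / 1)` over `D₊(f)`. -/
lemma globalOf_res_eq_smul {f : S} (hf : f ∈ 𝒮 1) {d : ℕ} {F : S} (hF : F ∈ 𝒮 d) :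
    (twist 𝒮 (d : ℤ)).presheaf.map (homOfLE (le_top : Proj.basicOpen 𝒮 f ≤ ⊤)).op
        (show Γ(twist 𝒮 (d : ℤ), ⊤) from globalOf 𝒮 (⟨F, hF⟩ : 𝒮 d)) =
      (Proj.awayToSection 𝒮 f (Away.mk 𝒮 hf d F (mem_smul_one 𝒮 hF))) •
        (twist 𝒮 (d : ℤ)).presheaf.map (homOfLE (le_top : Proj.basicOpen 𝒮 f ≤ ⊤)).op
          (show Γ(twist 𝒮 (d : ℤ), ⊤) from globalOf 𝒮 (⟨f ^ d, pow_mem 𝒮 hf d⟩ : 𝒮 d)) := by
  change (show sectN (𝒜 := 𝒮) (d : ℤ) (op (Proj.basicOpen 𝒮 f)) from _) =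
    (show sectN (𝒜 := 𝒮) (d : ℤ) (op (Proj.basicOpen 𝒮 f)) from _)
  apply TW.sectN_ext
  intro x
  have h1 := TW.smul_sec_val (k := (d : ℤ)) (W := Proj.basicOpen 𝒮 f)
    (Proj.awayToSection 𝒮 f (Away.mk 𝒮 hf d F (mem_smul_one 𝒮 hF)))
    ((twist 𝒮 (d : ℤ)).presheaf.map (homOfLE (le_top : Proj.basicOpen 𝒮 f ≤ ⊤)).op
      (show Γ(twist 𝒮 (d : ℤ), ⊤) from globalOf 𝒮 (⟨f ^ d, pow_mem 𝒮 hf d⟩ : 𝒮 d))) x
  refine Eq.trans ?_ h1.symm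
  rw [TW.res_sec_val]
  have h2 := PN.awayToSection_val f (Away.mk 𝒮 hf d F (mem_smul_one 𝒮 hF)) x
  rw [h2, Away.val_mk]
  have h3 : (Localization.mk F ⟨f ^ d, by use d⟩ : Localization.Away f) =
      Localization.mk F (PN.gpow f d) := rfl
  rw [h3, PN.toLoc_mk f x.1 x.2 F d (PN.pow_notMem f x.1 x.2 d)]
  change (Localization.mk F ⟨1, _⟩ : Loc 𝒮 x.1) = _ * (Localization.mk (f ^ d) ⟨1, _⟩ : Loc 𝒮 x.1)
  rw [Localization.mk_mul, Localization.mk_eq_mk_iff, Localization.r_iff_exists]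
  refine ⟨1, ?_⟩
  simp only [OneMemClass.coe_one, one_mul, Submonoid.coe_mul, mul_one]
  ring

section Pull
variable {X : Scheme.{u}}

/-- `r^*(F/1) = r^♯(F/f^d) • r^*(f^d/1)` over `U ≤ r⁻¹ D₊(f)`. -/
lemma res_pullSec_globalOf_eq_smul (r : X ⟶ Proj 𝒮) {f : S} (hf : f ∈ 𝒮 1) {d : ℕ} {F : S}
    (hF : F ∈ 𝒮 d) {U : X.Opens} (e : U ≤ r ⁻¹ᵁ Proj.basicOpen 𝒮 f) :
    ((Scheme.Modules.pullback r).obj (twist 𝒮 (d : ℤ))).presheaf.map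
        (homOfLE (le_top : U ≤ ⊤)).op
        (ProjUP.pullSec r (twist 𝒮 (d : ℤ)) (globalOf 𝒮 (⟨F, hF⟩ : 𝒮 d))) =
      chartHom 𝒮 r f e (Away.mk 𝒮 hf d F (mem_smul_one 𝒮 hF)) •
        ((Scheme.Modules.pullback r).obj (twist 𝒮 (d : ℤ))).presheaf.map
          (homOfLE (le_top : U ≤ ⊤)).op
          (ProjUP.pullSec r (twist 𝒮 (d : ℤ))
            (globalOf 𝒮 (⟨f ^ d, pow_mem 𝒮 hf d⟩ : 𝒮 d))) := by
  rw [res_pullSec r (twist 𝒮 (d : ℤ)) _ e, res_pullSec r (twist 𝒮 (d : ℤ)) _ e]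
  erw [globalOf_res_eq_smul 𝒮 hf hF, QC.pbSec_smul]
  rfl

/-- `r^*(f^d/1)` is a basis of `r^*O(d)` over `U ≤ r⁻¹ D₊(f)`. -/
lemma isBasisOver_res_pullSec_globalOf_pow (r : X ⟶ Proj 𝒮) {f : S} (hf : f ∈ 𝒮 1) (d : ℕ)
    [(twist 𝒮 (d : ℤ)).IsQuasicoherent] {U : X.Opens}
    (e : U ≤ r ⁻¹ᵁ Proj.basicOpen 𝒮 f) :
    QC.IsBasisOver ((Scheme.Modules.pullback r).obj (twist 𝒮 (d : ℤ))) U
      (((Scheme.Modules.pullback r).obj (twist 𝒮 (d : ℤ))).presheaf.map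
        (homOfLE (le_top : U ≤ ⊤)).op
        (ProjUP.pullSec r (twist 𝒮 (d : ℤ))
          (globalOf 𝒮 (⟨f ^ d, pow_mem 𝒮 hf d⟩ : 𝒮 d)))) := by
  rw [res_pullSec r _ _ e]
  exact (isBasisOver_globalOf_pow 𝒮 hf d le_rfl).pullback r e

end Pull

end Groth.Agent.H2.ProjKer
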