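import Groth.Agent.Lib.Helper2.ProjKerA
import Groth.Agent.Lib.Lead.Chow.ProjAPI
import Groth.Agent.Lib.Lead.QC.Extend
import Groth.Agent.Lib.Lead.QC.Compact

/-! # The kernel of `r^♯` on a chart `D₊(f)` of `Proj 𝒮` in terms of vanishing of pulled back forms. -/

universe u
open CategoryTheory CategoryTheory.Limits AlgebraicGeometry HomogeneousLocalization Opposite
  TopologicalSpace

namespace Groth.Agent.H2.ProjKer

open Groth.Agent.LD Twist Groth.Agent.H2.PUP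

variable {A : Type u} [CommRing A] {S : Type u} [CommRing S] [Algebra A S]
  (𝒮 : ℕ → Submodule A S) [GradedAlgebra 𝒮]

/-- `g^m a / f^(m+d) = (g/f)^m * (a/f^d)`. -/
lemma away_mk_pow_mul {f g a : S} (hf : f ∈ 𝒮 1) (hg : g ∈ 𝒮 1) {d : ℕ} (ha : a ∈ 𝒮 d) (m : ℕ)
    (h : g ^ m * a ∈ 𝒮 (m + d)) :
    Away.mk 𝒮 hf (m + d) (g ^ m * a) (mem_smul_one 𝒮 h) =
      (Away.mk 𝒮 hf 1 g (mem_smul_one 𝒮 hg)) ^ m * Away.mk 𝒮 hf d a (mem_smul_one 𝒮 ha) := by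
  apply HomogeneousLocalization.val_injective
  rw [HomogeneousLocalization.val_mul, HomogeneousLocalization.val_pow, Away.val_mk, Away.val_mk,
    Away.val_mk, Localization.mk_pow, Localization.mk_mul]
  congr 1
  ext
  simp [pow_add]

/-- `f^m a / f^(m+d) = a/f^d`. -/
lemma away_mk_self_pow_mul {f a : S} (hf : f ∈ 𝒮 1) {d : ℕ} (ha : a ∈ 𝒮 d) (m : ℕ)
    (h : f ^ m * a ∈ 𝒮 (m + d)) :
    Away.mk 𝒮 hf (m + d) (f ^ m * a) (mem_smul_one 𝒮 h) =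
      Away.mk 𝒮 hf d a (mem_smul_one 𝒮 ha) := by
  apply HomogeneousLocalization.val_injective
  rw [Away.val_mk, Away.val_mk, Localization.mk_eq_mk_iff, Localization.r_iff_exists]
  refine ⟨1, ?_⟩
  simp only [OneMemClass.coe_one, one_mul]
  ring

lemma pow_mul_mem {g a : S} (hg : g ∈ 𝒮 1) {d : ℕ} (ha : a ∈ 𝒮 d) (m : ℕ) :
    g ^ m * a ∈ 𝒮 (m + d) :=
  SetLike.mul_mem_graded (pow_mem 𝒮 hg m) ha

variable {X : Scheme.{u}} (r : X ⟶ Proj 𝒮)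

/-- the pullback of `F / 1` vanishes iff all its chart coefficients do. -/
lemma pullSec_globalOf_eq_zero_iff {J : Type*} (f : J → S) (hf : ∀ l, f l ∈ 𝒮 1)
    (hcov : ⨆ l, Proj.basicOpen 𝒮 (f l) = ⊤) {d : ℕ} [(twist 𝒮 (d : ℤ)).IsQuasicoherent]
    {F : S} (hF : F ∈ 𝒮 d) :
    ProjUP.pullSec r (twist 𝒮 (d : ℤ)) (globalOf 𝒮 (⟨F, hF⟩ : 𝒮 d)) = 0 ↔
      ∀ l, chartHom 𝒮 r (f l) (le_refl _) (Away.mk 𝒮 (hf l) d F (mem_smul_one 𝒮 hF)) = 0 := by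
  constructor
  · intro h l
    have h1 := res_pullSec_globalOf_eq_smul 𝒮 r (hf l) hF
      (le_refl (r ⁻¹ᵁ Proj.basicOpen 𝒮 (f l)))
    rw [h, map_zero] at h1
    have hb := isBasisOver_res_pullSec_globalOf_pow 𝒮 r (hf l) d
      (le_refl (r ⁻¹ᵁ Proj.basicOpen 𝒮 (f l)))
    refine hb.coord_injective ?_
    rw [← h1, zero_smul]
  · intro h
    apply QC.section_ext_of_cover ((Scheme.Modules.pullback r).obj (twist 𝒮 (d : ℤ)))
      (fun l : J => r ⁻¹ᵁ Proj.basicOpen 𝒮 (f l)) (fun _ => le_top)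
    · intro x _
      have hx : r.base x ∈ (⨆ l, Proj.basicOpen 𝒮 (f l) : (Proj 𝒮).Opens) := by
        rw [hcov]; trivial
      obtain ⟨l, hl⟩ := Opens.mem_iSup.mp hx
      exact Opens.mem_iSup.mpr ⟨l, hl⟩
    · intro l
      rw [res_pullSec_globalOf_eq_smul 𝒮 r (hf l) hF (le_refl _), h l, zero_smul, map_zero]

/-- the non-vanishing locus of `r^♯(g/f)` lies over `D₊(g)`. -/
lemma basicOpen_chartHom_le {f g : S} (hf : f ∈ 𝒮 1) (hg : g ∈ 𝒮 1) :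
    X.basicOpen (chartHom 𝒮 r f (le_refl _) (Away.mk 𝒮 hf 1 g (mem_smul_one 𝒮 hg))) ≤
      r ⁻¹ᵁ Proj.basicOpen 𝒮 g := by
  have h1 := Chow.basicOpen_awayToSection_le 𝒮 Nat.one_pos hf hg
  have h2 : X.basicOpen (chartHom 𝒮 r f (le_refl _) (Away.mk 𝒮 hf 1 g (mem_smul_one 𝒮 hg))) =
      r ⁻¹ᵁ (Proj 𝒮).basicOpen (Proj.awayToSection 𝒮 f (Chow.frac 𝒮 hf hg)) := by
    rw [Scheme.preimage_basicOpen, chartHom_apply, Scheme.Hom.app_eq_appLE]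
  rw [h2]
  exact fun x hx => h1 hx

/-- **The chart kernel**: `r^♯ (a / f^d) = 0` on `r⁻¹ D₊(f)` iff `r^*(f^m a) = 0` globally for
some `m`, given a finite cover of `Proj 𝒮` by `D₊(f_l)`, `deg f_l = 1`, with quasi-compact
preimages. -/
theorem chartHom_eq_zero_iff {J : Type*} [Finite J] (f : J → S) (hf : ∀ l, f l ∈ 𝒮 1)
    (hcov : ⨆ l, Proj.basicOpen 𝒮 (f l) = ⊤)
    (hc : ∀ l, IsCompact ((r ⁻¹ᵁ Proj.basicOpen 𝒮 (f l) : X.Opens) : Set X))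
    [∀ e : ℕ, (twist 𝒮 (e : ℤ)).IsQuasicoherent] (l : J) {d : ℕ} {a : S} (ha : a ∈ 𝒮 d) :
    chartHom 𝒮 r (f l) (le_refl _) (Away.mk 𝒮 (hf l) d a (mem_smul_one 𝒮 ha)) = 0 ↔
      ∃ m : ℕ, ProjUP.pullSec r (twist 𝒮 ((m + d : ℕ) : ℤ))
        (globalOf 𝒮 (⟨f l ^ m * a, pow_mul_mem 𝒮 (hf l) ha m⟩ : 𝒮 (m + d))) = 0 := by
  constructor
  · intro h0
    -- the section `r^*(a/1)` vanishes on `r⁻¹ D₊(f l)`
    have hσ : ((Scheme.Modules.pullback r).obj (twist 𝒮 (d : ℤ))).presheaf.map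
        (homOfLE (le_top : r ⁻¹ᵁ Proj.basicOpen 𝒮 (f l) ≤ ⊤)).op
        (ProjUP.pullSec r (twist 𝒮 (d : ℤ)) (globalOf 𝒮 (⟨a, ha⟩ : 𝒮 d))) = 0 := by
      rw [res_pullSec_globalOf_eq_smul 𝒮 r (hf l) ha (le_refl _), h0, zero_smul]
    -- for each chart `k`, a power of `t_k = r^♯(f l / f k)` kills `c_k = r^♯(a / f k ^ d)`
    have hk : ∀ k : J, ∃ n : ℕ,
        chartHom 𝒮 r (f k) (le_refl _) (Away.mk 𝒮 (hf k) 1 (f l) (mem_smul_one 𝒮 (hf l))) ^ n *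
          chartHom 𝒮 r (f k) (le_refl _) (Away.mk 𝒮 (hf k) d a (mem_smul_one 𝒮 ha)) = 0 := by
      intro k
      set t := chartHom 𝒮 r (f k) (le_refl _)
        (Away.mk 𝒮 (hf k) 1 (f l) (mem_smul_one 𝒮 (hf l))) with ht
      set c := chartHom 𝒮 r (f k) (le_refl _) (Away.mk 𝒮 (hf k) d a (mem_smul_one 𝒮 ha)) with hc'
      apply exists_pow_mul_eq_zero_of_res_basicOpen_eq_zero_of_isCompact X (hc k) c t
      -- `c` vanishes on `X.basicOpen t`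
      have hle : X.basicOpen t ≤ r ⁻¹ᵁ Proj.basicOpen 𝒮 (f l) :=
        basicOpen_chartHom_le 𝒮 r (hf k) (hf l)
      have hle' : X.basicOpen t ≤ r ⁻¹ᵁ Proj.basicOpen 𝒮 (f k) := X.basicOpen_le t
      have hb := (isBasisOver_res_pullSec_globalOf_pow 𝒮 r (hf k) d
        (le_refl (r ⁻¹ᵁ Proj.basicOpen 𝒮 (f k)))).mono hle'
      refine hb.coord_injective ?_
      rw [zero_smul]
      -- restrict the identity `σ|U_k = c • e_k` to `X.basicOpen t`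
      have h1 := congrArg (((Scheme.Modules.pullback r).obj (twist 𝒮 (d : ℤ))).presheaf.map
        (homOfLE hle').op) (res_pullSec_globalOf_eq_smul 𝒮 r (hf k) ha
          (le_refl (r ⁻¹ᵁ Proj.basicOpen 𝒮 (f k))))
      have h2 := congrArg (((Scheme.Modules.pullback r).obj (twist 𝒮 (d : ℤ))).presheaf.map
        (homOfLE hle).op) hσ
      rw [map_zero, QC.res_res] at h2
      rw [QC.res_res, h2, QC.smul_res] at h1
      exact h1.symm
    choose N hN using hk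
    have : Fintype J := Fintype.ofFinite J
    refine ⟨Finset.univ.sup N, ?_⟩
    rw [pullSec_globalOf_eq_zero_iff 𝒮 r f hf hcov]
    intro k
    rw [away_mk_pow_mul 𝒮 (hf k) (hf l) ha _ (pow_mul_mem 𝒮 (hf l) ha _), map_mul, map_pow]
    have hle : N k ≤ Finset.univ.sup N := Finset.le_sup (Finset.mem_univ k)
    obtain ⟨j, hj⟩ := Nat.exists_eq_add_of_le hle
    rw [hj, pow_add, mul_comm (_ ^ N k), mul_assoc, hN k, mul_zero]
  · rintro ⟨m, hm⟩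
    rw [pullSec_globalOf_eq_zero_iff 𝒮 r f hf hcov] at hm
    have := hm l
    rwa [away_mk_self_pow_mul 𝒮 (hf l) ha _ (pow_mul_mem 𝒮 (hf l) ha _)] at this

end Groth.Agent.H2.ProjKer
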