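import Groth.Agent.Lib.Helper2.ProjKerB
import Groth.Agent.Lib.Helper2.ProjUPE
import Groth.Agent.H4.ProjG

/-! # A closed subscheme of `P^n_R` is `Proj` of the quotient by its homogeneous ideal (S9570). -/

universe u
open CategoryTheory CategoryTheory.Limits AlgebraicGeometry HomogeneousLocalization Opposite
  TopologicalSpace
open scoped HomogeneousIdeal

namespace Groth.Agent.H2.ProjKer

open Groth.Agent.LD Twist Groth.Agent.H2.PUP

section gen
variable {R₀ A : Type u} [CommRing R₀] [CommRing A] [Algebra R₀ A] {𝒜 : ℕ → Submodule R₀ A}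
  [GradedAlgebra 𝒜]
variable {B : Type u} [CommRing B] [Algebra R₀ B] {ℬ : ℕ → Submodule R₀ B}
  [GradedAlgebra ℬ]
variable (ψ : 𝒜 →+*ᵍ ℬ) (hψ : ℬ₊ ≤ (𝒜₊).map ψ)

/-- the sheaf component of `Proj.map ψ` over `D₊(f)` acts as `Away.map ψ f`. -/
lemma map_app_awayToSection {d : ℕ} {f : A} (hf : f ∈ 𝒜 d) (x : Away 𝒜 f) :
    ((Proj.map ψ hψ).app (Proj.basicOpen 𝒜 f)).hom ((Proj.awayToSection 𝒜 f).hom x) =
      (Proj.awayToSection ℬ (ψ f)).hom (Away.map ψ f x) := by
  have h := congr($(Proj.awayToSection_comp_appLE ψ hψ hf).hom x)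
  refine Eq.trans ?_ h
  change _ = ((Proj ℬ).presheaf.map (𝟙 (op (Proj.basicOpen ℬ (ψ f))))).hom
    (((Proj.map ψ hψ).app (Proj.basicOpen 𝒜 f)).hom ((Proj.awayToSection 𝒜 f).hom x))
  rw [CategoryTheory.Functor.map_id]
  rfl

/-- `Away.map ψ f (a / f^d) = 0` iff some `ψ (f^m a) = 0`. -/
lemma away_map_mk_eq_zero_iff {e : ℕ} {f : A} (hf : f ∈ 𝒜 e) (d : ℕ) (a : A)
    (ha : a ∈ 𝒜 (d • e)) :
    Away.map ψ f (Away.mk 𝒜 hf d a ha) = 0 ↔ ∃ m : ℕ, ψ (f ^ m * a) = 0 := by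
  rw [Away.map_mk]
  have key : (Away.mk ℬ (ψ.2 hf) d (ψ a) (ψ.2 ha)).val = 0 ↔ ∃ m : ℕ, ψ (f ^ m * a) = 0 := by
    rw [Away.val_mk, Localization.mk_eq_mk', IsLocalization.mk'_eq_zero_iff]
    constructor
    · rintro ⟨⟨_, m, rfl⟩, hm⟩
      refine ⟨m, ?_⟩
      rw [map_mul, map_pow]
      exact hm
    · rintro ⟨m, hm⟩
      refine ⟨⟨ψ f ^ m, m, rfl⟩, ?_⟩
      rw [map_mul, map_pow] at hm
      exact hm
  rw [← key]
  constructor
  · intro h
    rw [h, HomogeneousLocalization.val_zero]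
  · intro h
    apply HomogeneousLocalization.val_injective
    rw [h, HomogeneousLocalization.val_zero]

/-- the kernel of `(Proj.map ψ)^♯` on the chart `D₊(f)`. -/
lemma map_app_eq_zero_iff {f : A} (hf : f ∈ 𝒜 1) (d : ℕ) (a : A)
    (ha : a ∈ 𝒜 (d • 1)) :
    ((Proj.map ψ hψ).app (Proj.basicOpen 𝒜 f)).hom
      ((Proj.awayToSection 𝒜 f).hom (Away.mk 𝒜 hf d a ha)) = 0 ↔
      ∃ m : ℕ, ψ (f ^ m * a) = 0 := by
  rw [map_app_awayToSection ψ hψ hf, ← away_map_mk_eq_zero_iff ψ hf d a ha]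
  have hb := PN.awayToSection_bijective (𝒜 := ℬ) (ψ.2 hf) Nat.one_pos
  constructor
  · intro h
    exact hb.1 (h.trans (map_zero _).symm)
  · intro h
    rw [h]
    exact map_zero _

end gen

variable {R : Type u} [CommRing R] (n : ℕ)

/-- the coordinate `T_l` has degree one. -/
lemma X_mem (l : Fin (n + 1)) :
    (MvPolynomial.X l : MvPolynomial (Fin (n + 1)) R) ∈ CohB1.polyGrading n R 1 :=
  MvPolynomial.isHomogeneous_X R l

lemma iSup_basicOpen_X :
    ⨆ l : Fin (n + 1), Proj.basicOpen (CohB1.polyGrading n R)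
      (MvPolynomial.X l : MvPolynomial (Fin (n + 1)) R) = ⊤ := by
  have h := iSup_basicOpen_eq_top' (CohB1.polyGrading n R) (ιPn n R) (ιPn_mem n R)
    (isSymmetricAlgebra_ιPn n R) (fun i : Fin (n + 1) => (Pi.single i 1 : Fin (n + 1) → R))
    (span_single n R)
  simpa only [ιPn_single] using h

lemma isQuasicoherent_twist_Pn (d : ℤ) :
    (twist (CohB1.polyGrading n R) d).IsQuasicoherent :=
  isQuasicoherent_twist (CohB1.polyGrading n R) (ιPn n R) (ιPn_mem n R)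
    (isSymmetricAlgebra_ιPn n R) d

/-- the kernel of `i^♯` on the chart `D₊(T_l)` of `P^n_R`, `i` quasi-compact. -/
lemma app_eq_zero_iff {Z : Scheme.{u}} (i : Z ⟶ Proj (CohB1.polyGrading n R)) [QuasiCompact i]
    (l : Fin (n + 1)) (d : ℕ) (a : MvPolynomial (Fin (n + 1)) R)
    (ha : a ∈ CohB1.polyGrading n R d) :
    (i.app (Proj.basicOpen (CohB1.polyGrading n R) (MvPolynomial.X l))).hom
      ((Proj.awayToSection (CohB1.polyGrading n R) (MvPolynomial.X l)).hom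
        (Away.mk (CohB1.polyGrading n R) (X_mem n l) d a
          (mem_smul_one (CohB1.polyGrading n R) ha))) = 0 ↔
      ∃ m : ℕ, ProjUP.pullSec i (twist (CohB1.polyGrading n R) ((m + d : ℕ) : ℤ))
        (globalOf (CohB1.polyGrading n R) (⟨MvPolynomial.X l ^ m * a,
          pow_mul_mem (CohB1.polyGrading n R) (X_mem n l) ha m⟩ :
            CohB1.polyGrading n R (m + d))) = 0 := by
  have : ∀ e : ℕ, (twist (CohB1.polyGrading n R) (e : ℤ)).IsQuasicoherent :=
    fun e => isQuasicoherent_twist_Pn n (e : ℤ)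
  have h3 := chartHom_eq_zero_iff (CohB1.polyGrading n R) i
    (fun l : Fin (n + 1) => (MvPolynomial.X l : MvPolynomial (Fin (n + 1)) R)) (X_mem n)
    (iSup_basicOpen_X n)
    (fun l => QuasiCompact.isCompact_preimage (f := i) _ (Proj.basicOpen _ _).2
      (Proj.isAffineOpen_basicOpen _ _ (X_mem n l) Nat.one_pos).isCompact) l ha
  rw [chartHom_apply, ← Scheme.Hom.app_eq_appLE] at h3
  exact h3

end Groth.Agent.H2.ProjKer
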