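import Groth.Agent.Lib.Helper2.ProjKerC

/-! # A closed subscheme of `P^n_R` is `Proj` of the quotient by its homogeneous ideal (S9570). -/

universe u
open CategoryTheory CategoryTheory.Limits AlgebraicGeometry HomogeneousLocalization Opposite
  TopologicalSpace
open scoped HomogeneousIdeal

namespace Groth.Agent.H2.ProjKer

open Groth.Agent.LD Twist Groth.Agent.H2.PUP

variable {R : Type u} [CommRing R] (n : ℕ)

/-- equality of kernels. -/
theorem ker_map_eq {Z : Scheme.{u}} (i : Z ⟶ Proj (CohB1.polyGrading n R))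
    [QuasiCompact i]
    {B : Type u} [CommRing B] [Algebra R B] (ℬ : ℕ → Submodule R B) [GradedAlgebra ℬ]
    (φ : CohB1.polyGrading n R →+*ᵍ ℬ)
    (hker : ∀ (d : ℕ) (F : MvPolynomial (Fin (n + 1)) R) (hF : F ∈ CohB1.polyGrading n R d),
      φ F = 0 ↔ ProjUP.pullSec i (twist (CohB1.polyGrading n R) (d : ℤ))
        (globalOf (CohB1.polyGrading n R) ⟨F, hF⟩) = 0)
    (hφ : HomogeneousIdeal.irrelevant ℬ ≤
      (HomogeneousIdeal.irrelevant (CohB1.polyGrading n R)).map φ)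
    [QuasiCompact (Proj.map φ hφ)] :
    (Proj.map φ hφ).ker = i.ker := by
  refine Scheme.IdealSheafData.ext_of_iSup_eq_top
    (fun l : Fin (n + 1) => (⟨Proj.basicOpen (CohB1.polyGrading n R) (MvPolynomial.X l),
      Proj.isAffineOpen_basicOpen (CohB1.polyGrading n R) _ (X_mem n l) Nat.one_pos⟩ :
        (Proj (CohB1.polyGrading n R)).affineOpens)) (iSup_basicOpen_X n) ?_
  intro l
  rw [Scheme.Hom.ker_apply, Scheme.Hom.ker_apply]
  ext s
  rw [RingHom.mem_ker, RingHom.mem_ker]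
  obtain ⟨x, rfl⟩ := (PN.awayToSection_bijective (X_mem (R := R) n l) Nat.one_pos).2 s
  obtain ⟨d, a, ha, rfl⟩ := Away.mk_surjective (CohB1.polyGrading n R) (X_mem n l) x
  have ha' : a ∈ CohB1.polyGrading n R d := by simpa using ha
  have h1 := map_app_eq_zero_iff φ hφ (X_mem n l) d a ha
  have h2 := app_eq_zero_iff n i l d a ha'
  refine h1.trans (Iff.trans ?_ h2.symm)
  constructor
  · rintro ⟨m, hm⟩
    exact ⟨m, (hker (m + d) _ (pow_mul_mem _ (X_mem n l) ha' m)).1 hm⟩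
  · rintro ⟨m, hm⟩
    exact ⟨m, (hker (m + d) _ (pow_mul_mem _ (X_mem n l) ha' m)).2 hm⟩

/-- **S9570.** -/
theorem exists_iso_proj {Z : Scheme.{u}} (i : Z ⟶ Proj (CohB1.polyGrading n R))
    [IsClosedImmersion i]
    {B : Type u} [CommRing B] [Algebra R B] (ℬ : ℕ → Submodule R B) [GradedAlgebra ℬ]
    (φ : CohB1.polyGrading n R →+*ᵍ ℬ) (hφs : Function.Surjective φ)
    (hker : ∀ (d : ℕ) (F : MvPolynomial (Fin (n + 1)) R) (hF : F ∈ CohB1.polyGrading n R d),
      φ F = 0 ↔ ProjUP.pullSec i (twist (CohB1.polyGrading n R) (d : ℤ))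
        (globalOf (CohB1.polyGrading n R) ⟨F, hF⟩) = 0)
    (hφ : HomogeneousIdeal.irrelevant ℬ ≤
      (HomogeneousIdeal.irrelevant (CohB1.polyGrading n R)).map φ) :
    ∃ e : Z ≅ Proj ℬ, e.hom ≫ Proj.map φ hφ = i := by
  have : IsClosedImmersion (Proj.map φ hφ) :=
    Groth.Agent.H4.ProjG.isClosedImmersion_map_of_surjective φ hφ hφs
  have hkereq := ker_map_eq n i ℬ φ hker hφ
  have := IsClosedImmersion.isIso_lift (Proj.map φ hφ) i hkereq
  exact ⟨asIso (IsClosedImmersion.lift (Proj.map φ hφ) i hkereq.le),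
    IsClosedImmersion.lift_fac _ _ _⟩

end Groth.Agent.H2.ProjKer
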