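import Mathlib

/-!
# Lifting maps from bounded complexes of projectives along maps that are
isomorphisms on cohomology in high degrees
-/

universe v u

open CategoryTheory CategoryTheory.Limits DerivedCategory Pretriangulated

namespace Groth.Agent.H2.ProjLift

variable {A : Type u} [Category.{v} A] [Abelian A]

attribute [local instance] HasDerivedCategory.standard

lemma epi_map_Q {E L : CochainComplex A ℤ} (α : E ⟶ L) (i : ℤ)
    (h : Epi (HomologicalComplex.homologyMap α i)) :
    Epi ((homologyFunctor A i).map (Q.map α)) := by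
  have h' : Epi ((HomologicalComplex.homologyFunctor A (.up ℤ) i).map α) := h
  change Epi ((Q ⋙ homologyFunctor A i).map α)
  rw [← NatIso.naturality_2 (homologyFunctorFactors A i) α]
  infer_instance

lemma mono_map_Q {E L : CochainComplex A ℤ} (α : E ⟶ L) (i : ℤ)
    (h : Mono (HomologicalComplex.homologyMap α i)) :
    Mono ((homologyFunctor A i).map (Q.map α)) := by
  have h' : Mono ((HomologicalComplex.homologyFunctor A (.up ℤ) i).map α) := h
  change Mono ((Q ⋙ homologyFunctor A i).map α)
  rw [← NatIso.naturality_2 (homologyFunctorFactors A i) α]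
  infer_instance

lemma isZero_homology_cone {E L : CochainComplex A ℤ} (α : E ⟶ L) (i : ℤ)
    (hepi : Epi (HomologicalComplex.homologyMap α i))
    (hmono : Mono (HomologicalComplex.homologyMap α (i + 1))) :
    IsZero ((CochainComplex.mappingCone α).homology i) := by
  let T := Q.mapTriangle.obj (CochainComplex.mappingCone.triangle α)
  have hT : T ∈ distTriang _ := mappingCone_triangle_distinguished α
  have h1 : Epi ((homologyFunctor A i).map T.mor₁) := by
    exact epi_map_Q α i hepi
  have h2 : Mono ((homologyFunctor A (i + 1)).map T.mor₁) := by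
    exact mono_map_Q α (i + 1) hmono
  rw [HomologySequence.epi_homologyMap_mor₁_iff T hT i] at h1
  rw [HomologySequence.mono_homologyMap_mor₁_iff T hT i (i + 1) rfl] at h2
  have hex := HomologySequence.exact₃ T hT i (i + 1) rfl
  have hz : IsZero ((homologyFunctor A i).obj T.obj₃) := by
    rw [IsZero.iff_id_eq_zero]
    have := hex.epi_f h2
    rw [← cancel_epi ((homologyFunctor A i).map T.mor₂)]
    change (homologyFunctor A i).map T.mor₂ ≫ _ = (homologyFunctor A i).map T.mor₂ ≫ 0
    rw [comp_zero, h1, zero_comp]
  exact hz.of_iso ((homologyFunctorFactors A i).app (CochainComplex.mappingCone α)).symm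

end Groth.Agent.H2.ProjLift

namespace Groth.Agent.H2.ProjLift

variable {A : Type u} [Category.{v} A] [Abelian A]

attribute [local instance] HasDerivedCategory.standard

lemma isIso_Qh_quotient_map {K L : CochainComplex A ℤ} (f : K ⟶ L) [QuasiIso f] :
    IsIso (Qh.map ((HomotopyCategory.quotient A (.up ℤ)).map f)) := by
  have h : IsIso (Q.map f) := by
    rw [isIso_Q_map_iff_quasiIso]
    infer_instance
  have e := NatIso.isIso_map_iff (quotientCompQhIso A) f
  exact e.2 h

lemma homotopy_zero_of_isLE (P C : CochainComplex A ℤ) (n : ℤ) [P.IsStrictlyGE n]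
    [P.IsKProjective] [C.IsLE (n - 1)] (φ : P ⟶ C) : Nonempty (Homotopy φ 0) := by
  have hι := isIso_Qh_quotient_map (C.ιTruncLE (n - 1))
  suffices h : (HomotopyCategory.quotient A (.up ℤ)).map φ = 0 from
    ⟨HomotopyCategory.homotopyOfEq _ _ (by rw [h, Functor.map_zero])⟩
  apply (CochainComplex.IsKProjective.Qh_map_bijective P _).injective
  rw [Functor.map_zero]
  obtain ⟨g, hg⟩ := (CochainComplex.IsKProjective.Qh_map_bijective P
    ((HomotopyCategory.quotient A (.up ℤ)).obj (C.truncLE (n - 1)))).surjective
      (Qh.map ((HomotopyCategory.quotient A (.up ℤ)).map φ) ≫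
        inv (Qh.map ((HomotopyCategory.quotient A (.up ℤ)).map (C.ιTruncLE (n - 1)))))
  obtain ⟨g, rfl⟩ := (HomotopyCategory.quotient _ _).map_surjective g
  have hg0 : g = 0 := by
    ext i
    by_cases hi : i < n
    · exact (CochainComplex.isZero_of_isStrictlyGE P n i hi).eq_of_src _ _
    · exact (CochainComplex.isZero_of_isStrictlyLE (C.truncLE (n - 1)) (n - 1) i
        (by omega)).eq_of_tgt _ _
  rw [hg0, Functor.map_zero, Functor.map_zero] at hg
  have := hg.symm
  rw [← cancel_mono (inv (Qh.map ((HomotopyCategory.quotient A (.up ℤ)).map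
    (C.ιTruncLE (n - 1))))), this, zero_comp]

end Groth.Agent.H2.ProjLift

namespace Groth.Agent.H2.ProjLift

variable {A : Type u} [Category.{v} A] [Abelian A]

theorem exists_lift (P E L : CochainComplex A ℤ) (β : P ⟶ L) (α : E ⟶ L) (n b : ℤ)
    [P.IsStrictlyGE n] [P.IsStrictlyLE b]
    (hP : ∀ i : ℤ, Projective (P.X i))
    (hiso : ∀ i : ℤ, n < i → IsIso (HomologicalComplex.homologyMap α i))
    (hepi : Epi (HomologicalComplex.homologyMap α n)) :
    ∃ γ : P ⟶ E, Nonempty (Homotopy (γ ≫ α) β) := by
  have := hP
  have hPK : P.IsKProjective := CochainComplex.isKProjective_of_projective P b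
  have hC : (CochainComplex.mappingCone α).IsLE (n - 1) := by
    rw [CochainComplex.isLE_iff]
    intro i hi
    rw [HomologicalComplex.exactAt_iff_isZero_homology]
    apply isZero_homology_cone α i
    · by_cases h : i = n
      · subst h
        exact hepi
      · have := hiso i (by omega)
        infer_instance
    · have := hiso (i + 1) (by omega)
      infer_instance
  obtain ⟨h⟩ := homotopy_zero_of_isLE P (CochainComplex.mappingCone α) n
    (β ≫ CochainComplex.mappingCone.inr α)
  have hT := HomotopyCategory.mappingCone_triangleh_distinguished α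
  have hz : (HomotopyCategory.quotient A (.up ℤ)).map β ≫
      (CochainComplex.mappingCone.triangleh α).mor₂ = 0 := by
    change (HomotopyCategory.quotient A (.up ℤ)).map β ≫
      (HomotopyCategory.quotient A (.up ℤ)).map (CochainComplex.mappingCone.inr α) = 0
    rw [← Functor.map_comp, HomotopyCategory.eq_of_homotopy _ _ h, Functor.map_zero]
  obtain ⟨g, hg⟩ := Pretriangulated.Triangle.coyoneda_exact₂ _ hT _ hz
  obtain ⟨γ, rfl⟩ := (HomotopyCategory.quotient _ _).map_surjective g
  exact ⟨γ, ⟨HomotopyCategory.homotopyOfEq _ _ (by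
    rw [Functor.map_comp]
    exact hg.symm)⟩⟩

end Groth.Agent.H2.ProjLift
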