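import Groth.Agent.Lib.Helper2.ProjKerC
import Groth.Agent.Lib.Helper2.CoprodCI
import Groth.Agent.Lib.Helper9.Misc.BLA14

/-! # Linear embeddings of projective spaces and disjoint unions of projective schemes. -/

universe u
open CategoryTheory CategoryTheory.Limits AlgebraicGeometry TopologicalSpace
open scoped HomogeneousIdeal

namespace Groth.Agent.H2.ProjLin

variable (R : Type u) [CommRing R]

/-- the graded homomorphism given by a linear substitution. -/
noncomputable def gAeval {N n : ℕ} (g : Fin (N + 1) → MvPolynomial (Fin (n + 1)) R)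
    (hg : ∀ i, (g i).IsHomogeneous 1) :
    CohB1.polyGrading N R →+*ᵍ CohB1.polyGrading n R :=
  { (MvPolynomial.aeval g : MvPolynomial (Fin (N + 1)) R →ₐ[R] _).toRingHom with
    map_mem := fun {i x} hx => by
      have h := MvPolynomial.IsHomogeneous.aeval (S := R)
        ((MvPolynomial.mem_homogeneousSubmodule i x).mp hx) g hg
      rw [one_mul] at h
      exact (MvPolynomial.mem_homogeneousSubmodule i _).mpr h }

@[simp] lemma gAeval_apply {N n : ℕ} (g : Fin (N + 1) → MvPolynomial (Fin (n + 1)) R)
    (hg : ∀ i, (g i).IsHomogeneous 1) (p : MvPolynomial (Fin (N + 1)) R) :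
    gAeval R g hg p = MvPolynomial.aeval g p := rfl

/-- a linear substitution with a linear section gives a closed immersion of projective spaces
over `R`. -/
theorem exists_closedImmersion {N n : ℕ} (g : Fin (N + 1) → MvPolynomial (Fin (n + 1)) R)
    (hg : ∀ i, (g i).IsHomogeneous 1) (s : Fin (n + 1) → MvPolynomial (Fin (N + 1)) R)
    (hs : ∀ j, (s j).IsHomogeneous 1)
    (hgs : ∀ j, MvPolynomial.aeval g (s j) = MvPolynomial.X j) :
    ∃ hψ : HomogeneousIdeal.irrelevant (CohB1.polyGrading n R) ≤
        (HomogeneousIdeal.irrelevant (CohB1.polyGrading N R)).map (gAeval R g hg),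
      IsClosedImmersion (Proj.map (gAeval R g hg) hψ) ∧
      Proj.map (gAeval R g hg) hψ ≫ CohB1.ProjSpace.toSpec N R = CohB1.ProjSpace.toSpec n R := by
  have hcomp : (gAeval R g hg).comp (gAeval R s hs) =
      GradedRingHom.id (CohB1.polyGrading n R) := by
    apply DFunLike.ext
    intro p
    change MvPolynomial.aeval g (MvPolynomial.aeval s p) = p
    have h1 : ((MvPolynomial.aeval g : MvPolynomial (Fin (N + 1)) R →ₐ[R] _).comp
        (MvPolynomial.aeval s : MvPolynomial (Fin (n + 1)) R →ₐ[R] _)) = AlgHom.id R _ := by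
      apply MvPolynomial.algHom_ext
      intro j
      rw [AlgHom.comp_apply, MvPolynomial.aeval_X, hgs j]
      rfl
    exact congrArg (fun φ : MvPolynomial (Fin (n + 1)) R →ₐ[R] _ => φ p) h1
  have hψ := Groth.Agent.H9.BLA.irrelevant_le_map_of_comp_eq_id _ _ hcomp
  have hsurj : Function.Surjective (gAeval R g hg) := by
    intro p
    refine ⟨gAeval R s hs p, ?_⟩
    exact congrArg (fun φ : CohB1.polyGrading n R →+*ᵍ CohB1.polyGrading n R => φ p) hcomp
  refine ⟨hψ, Groth.Agent.H4.ProjG.isClosedImmersion_map_of_surjective _ hψ hsurj, ?_⟩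
  change (Proj.map (gAeval R g hg) hψ ≫ (Proj.toSpecZero (CohB1.polyGrading N R) ≫
      Spec.map (CommRingCat.ofHom (algebraMap R (CohB1.polyGrading N R 0)))) :
        Proj (CohB1.polyGrading n R) ⟶ Spec (CommRingCat.of R)) =
    Proj.toSpecZero (CohB1.polyGrading n R) ≫
      Spec.map (CommRingCat.ofHom (algebraMap R (CohB1.polyGrading n R 0)))
  rw [← Category.assoc, Groth.Agent.H4.ProjG.map_toSpecZero, Category.assoc, ← Spec.map_comp,
    ← CommRingCat.ofHom_comp]
  congr 3
  ext r
  simp [Groth.Agent.H4.ProjG.zeroHom, MvPolynomial.algebraMap_eq]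

end Groth.Agent.H2.ProjLin
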