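import Groth.Agent.Lib.Helper2.ProjLin

/-! # The disjoint union of two projective `R`-schemes is projective (S14066). -/

universe u
open CategoryTheory CategoryTheory.Limits AlgebraicGeometry TopologicalSpace
open scoped HomogeneousIdeal

namespace Groth.Agent.H2.ProjLin

variable (R : Type u) [CommRing R] (n m : ℕ)

/-- the substitution killing the last `m + 1` coordinates. -/
noncomputable def g₁ (i : Fin (n + m + 1 + 1)) : MvPolynomial (Fin (n + 1)) R :=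
  if h : i.val < n + 1 then MvPolynomial.X ⟨i.val, h⟩ else 0

/-- the substitution killing the first `n + 1` coordinates. -/
noncomputable def g₂ (i : Fin (n + m + 1 + 1)) : MvPolynomial (Fin (m + 1)) R :=
  if h : n + 1 ≤ i.val then MvPolynomial.X ⟨i.val - (n + 1), by omega⟩ else 0

noncomputable def s₁ (j : Fin (n + 1)) : MvPolynomial (Fin (n + m + 1 + 1)) R :=
  MvPolynomial.X ⟨j.val, by omega⟩

noncomputable def s₂ (j : Fin (m + 1)) : MvPolynomial (Fin (n + m + 1 + 1)) R :=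
  MvPolynomial.X ⟨j.val + (n + 1), by omega⟩

lemma hg₁ (i : Fin (n + m + 1 + 1)) : (g₁ R n m i).IsHomogeneous 1 := by
  rw [g₁]
  split_ifs
  · exact MvPolynomial.isHomogeneous_X R _
  · exact MvPolynomial.isHomogeneous_zero _ _ _

lemma hg₂ (i : Fin (n + m + 1 + 1)) : (g₂ R n m i).IsHomogeneous 1 := by
  rw [g₂]
  split_ifs
  · exact MvPolynomial.isHomogeneous_X R _
  · exact MvPolynomial.isHomogeneous_zero _ _ _

lemma hs₁ (j : Fin (n + 1)) : (s₁ R n m j).IsHomogeneous 1 := MvPolynomial.isHomogeneous_X R _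

lemma hs₂ (j : Fin (m + 1)) : (s₂ R n m j).IsHomogeneous 1 := MvPolynomial.isHomogeneous_X R _

lemma hgs₁ (j : Fin (n + 1)) :
    MvPolynomial.aeval (g₁ R n m) (s₁ R n m j) = MvPolynomial.X j := by
  rw [s₁, MvPolynomial.aeval_X, g₁, dif_pos (show (j : ℕ) < n + 1 from j.2)]

lemma hgs₂ (j : Fin (m + 1)) :
    MvPolynomial.aeval (g₂ R n m) (s₂ R n m j) = MvPolynomial.X j := by
  rw [s₂, MvPolynomial.aeval_X, g₂, dif_pos (show n + 1 ≤ (j : ℕ) + (n + 1) by omega)]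
  congr 1
  ext
  simp

lemma g₂_eq_zero (i : Fin (n + m + 1 + 1)) (h : i.val < n + 1) : g₂ R n m i = 0 := by
  rw [g₂, dif_neg (by omega)]

lemma g₁_eq_zero (i : Fin (n + m + 1 + 1)) (h : ¬ i.val < n + 1) : g₁ R n m i = 0 := by
  rw [g₁, dif_neg h]

/-- the two linear subspaces are disjoint. -/
theorem disjoint_range
    (hψ₁ : HomogeneousIdeal.irrelevant (CohB1.polyGrading n R) ≤
      (HomogeneousIdeal.irrelevant (CohB1.polyGrading (n + m + 1) R)).map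
        (gAeval R (g₁ R n m) (hg₁ R n m)))
    (hψ₂ : HomogeneousIdeal.irrelevant (CohB1.polyGrading m R) ≤
      (HomogeneousIdeal.irrelevant (CohB1.polyGrading (n + m + 1) R)).map
        (gAeval R (g₂ R n m) (hg₂ R n m))) :
    Disjoint (Set.range (Proj.map (gAeval R (g₁ R n m) (hg₁ R n m)) hψ₁))
      (Set.range (Proj.map (gAeval R (g₂ R n m) (hg₂ R n m)) hψ₂)) := by
  rw [Set.disjoint_iff_forall_ne]
  rintro _ ⟨y₁, rfl⟩ _ ⟨y₂, rfl⟩ h
  have hz : (Proj.map (gAeval R (g₁ R n m) (hg₁ R n m)) hψ₁) y₁ ∈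
      (⨆ l : Fin (n + m + 1 + 1), Proj.basicOpen (CohB1.polyGrading (n + m + 1) R)
        (MvPolynomial.X l : MvPolynomial (Fin (n + m + 1 + 1)) R)) := by
    rw [Groth.Agent.H2.ProjKer.iSup_basicOpen_X]; trivial
  obtain ⟨i, hi⟩ := Opens.mem_iSup.mp hz
  by_cases hlt : i.val < n + 1
  · rw [h] at hi
    have h2 : y₂ ∈ Proj.map (gAeval R (g₂ R n m) (hg₂ R n m)) hψ₂ ⁻¹ᵁ
        Proj.basicOpen (CohB1.polyGrading (n + m + 1) R) (MvPolynomial.X i) := hi
    rw [Proj.map_preimage_basicOpen] at h2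
    have h3 : (gAeval R (g₂ R n m) (hg₂ R n m)) (MvPolynomial.X i) = 0 := by
      rw [gAeval_apply, MvPolynomial.aeval_X, g₂_eq_zero R n m i hlt]
    rw [h3, Proj.basicOpen_zero] at h2
    exact h2
  · have h2 : y₁ ∈ Proj.map (gAeval R (g₁ R n m) (hg₁ R n m)) hψ₁ ⁻¹ᵁ
        Proj.basicOpen (CohB1.polyGrading (n + m + 1) R) (MvPolynomial.X i) := hi
    rw [Proj.map_preimage_basicOpen] at h2
    have h3 : (gAeval R (g₁ R n m) (hg₁ R n m)) (MvPolynomial.X i) = 0 := by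
      rw [gAeval_apply, MvPolynomial.aeval_X, g₁_eq_zero R n m i hlt]
    rw [h3, Proj.basicOpen_zero] at h2
    exact h2

/-- **S14066** over any ring. -/
theorem exists_closedImmersion_coprod {X₁ X₂ : Scheme.{u}}
    (p₁ : X₁ ⟶ Spec (CommRingCat.of R)) (p₂ : X₂ ⟶ Spec (CommRingCat.of R))
    (i₁ : X₁ ⟶ Proj (CohB1.polyGrading n R)) [IsClosedImmersion i₁]
    (h₁ : i₁ ≫ CohB1.ProjSpace.toSpec n R = p₁)
    (i₂ : X₂ ⟶ Proj (CohB1.polyGrading m R)) [IsClosedImmersion i₂]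
    (h₂ : i₂ ≫ CohB1.ProjSpace.toSpec m R = p₂) :
    ∃ j : X₁ ⨿ X₂ ⟶ Proj (CohB1.polyGrading (n + m + 1) R), IsClosedImmersion j ∧
      j ≫ CohB1.ProjSpace.toSpec (n + m + 1) R = coprod.desc p₁ p₂ := by
  obtain ⟨hψ₁, hc₁, ht₁⟩ := exists_closedImmersion R (g₁ R n m) (hg₁ R n m) (s₁ R n m)
    (hs₁ R n m) (hgs₁ R n m)
  obtain ⟨hψ₂, hc₂, ht₂⟩ := exists_closedImmersion R (g₂ R n m) (hg₂ R n m) (s₂ R n m)
    (hs₂ R n m) (hgs₂ R n m)
  have hd := disjoint_range R n m hψ₁ hψ₂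
  refine ⟨coprod.desc (i₁ ≫ Proj.map _ hψ₁) (i₂ ≫ Proj.map _ hψ₂), ?_, ?_⟩
  · apply Groth.Agent.H2.CoprodCI.isClosedImmersion_desc
    refine Set.disjoint_of_subset ?_ ?_ hd
    · rintro _ ⟨x, rfl⟩
      exact ⟨i₁ x, rfl⟩
    · rintro _ ⟨x, rfl⟩
      exact ⟨i₂ x, rfl⟩
  · apply coprod.hom_ext
    · rw [coprod.inl_desc_assoc, coprod.inl_desc, Category.assoc]
      erw [ht₁]
      exact h₁
    · rw [coprod.inr_desc_assoc, coprod.inr_desc, Category.assoc]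
      erw [ht₂]
      exact h₂

end Groth.Agent.H2.ProjLin
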