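import Mathlib
import Groth.Prelude.Def_ProjUP

/-! # Graded algebras that are symmetric algebras of their degree one part: algebraic facts. -/

universe u
open HomogeneousLocalization

namespace Groth.Agent.H2.PUP

variable {A : Type u} [CommRing A] {S : Type u} [CommRing S] [Algebra A S]
  (𝒮 : ℕ → Submodule A S) [GradedAlgebra 𝒮]
  {M : Type u} [AddCommGroup M] [Module A M] (ι : M →ₗ[A] S)

lemma pow_range_le (hι : ∀ m, ι m ∈ 𝒮 1) (d : ℕ) : (LinearMap.range ι) ^ d ≤ 𝒮 d := by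
  induction d with
  | zero =>
    rw [pow_zero, Submodule.one_le]
    exact SetLike.GradedOne.one_mem
  | succ d ih =>
    rw [pow_succ, Submodule.mul_le]
    intro a ha b hb
    obtain ⟨m, rfl⟩ := hb
    exact SetLike.mul_mem_graded (ih ha) (hι m)

lemma decompose_mem_pow (hι : ∀ m, ι m ∈ 𝒮 1) (hsym : IsSymmetricAlgebra ι) (a : S) :
    ∀ d, (DirectSum.decompose 𝒮 a d : S) ∈ (LinearMap.range ι) ^ d := by
  classical
  induction a using hsym.induction with
  | algebraMap r =>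
    intro d
    have h0 : algebraMap A S r ∈ 𝒮 0 := SetLike.algebraMap_mem_graded 𝒮 r
    by_cases hd : d = 0
    · subst hd
      rw [DirectSum.decompose_of_mem_same 𝒮 h0, pow_zero]
      exact Submodule.algebraMap_mem r
    · rw [DirectSum.decompose_of_mem_ne 𝒮 h0 (Ne.symm hd)]
      exact zero_mem _
  | ι x =>
    intro d
    by_cases hd : d = 1
    · subst hd
      rw [DirectSum.decompose_of_mem_same 𝒮 (hι x), pow_one]
      exact ⟨x, rfl⟩
    · rw [DirectSum.decompose_of_mem_ne 𝒮 (hι x) (Ne.symm hd)]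
      exact zero_mem _
  | mul a b ha hb =>
    intro d
    rw [DirectSum.decompose_mul, DirectSum.coe_mul_apply]
    refine Submodule.sum_mem _ fun ij hij => ?_
    have h : ij.1 + ij.2 = d := (Finset.mem_filter.mp hij).2
    rw [← h, pow_add]
    exact Submodule.mul_mem_mul (ha _) (hb _)
  | add a b ha hb =>
    intro d
    rw [DirectSum.decompose_add, DirectSum.add_apply, Submodule.coe_add]
    exact add_mem (ha d) (hb d)

lemma mem_pow_of_mem (hι : ∀ m, ι m ∈ 𝒮 1) (hsym : IsSymmetricAlgebra ι) {a : S} {d : ℕ}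
    (ha : a ∈ 𝒮 d) : a ∈ (LinearMap.range ι) ^ d := by
  have := decompose_mem_pow 𝒮 ι hι hsym a d
  rwa [DirectSum.decompose_of_mem_same 𝒮 ha] at this

lemma pow_succ_le_span (d : ℕ) {a : S} (ha : a ∈ (LinearMap.range ι) ^ (d + 1)) :
    a ∈ Ideal.span (Set.range ι) := by
  have ha' : a ∈ (LinearMap.range ι) ^ d * LinearMap.range ι := by rwa [pow_succ] at ha
  refine Submodule.mul_induction_on ha' ?_ ?_
  · intro x _ y hy
    obtain ⟨m, rfl⟩ := hy
    exact Ideal.mul_mem_left _ _ (Ideal.subset_span ⟨m, rfl⟩)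
  · intro x y hx hy
    exact add_mem hx hy

/-- the irrelevant ideal of a symmetric algebra is generated by the degree one generators. -/
theorem irrelevant_eq_span (hι : ∀ m, ι m ∈ 𝒮 1) (hsym : IsSymmetricAlgebra ι) :
    (HomogeneousIdeal.irrelevant 𝒮).toIdeal = Ideal.span (Set.range ι) := by
  classical
  apply le_antisymm
  · intro a ha
    rw [← DirectSum.sum_support_decompose 𝒮 a]
    refine Ideal.sum_mem _ fun d hd => ?_
    have hd0 : d ≠ 0 := by
      rintro rfl
      have h0 : (DirectSum.decompose 𝒮 a 0 : S) = 0 := by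
        have := (HomogeneousIdeal.mem_irrelevant_iff 𝒮 a).mp ha
        simpa [GradedRing.proj_apply] using this
      exact (DFinsupp.mem_support_iff.mp hd) (Subtype.ext h0)
    obtain ⟨e, rfl⟩ := Nat.exists_eq_succ_of_ne_zero hd0
    exact pow_succ_le_span ι e (decompose_mem_pow 𝒮 ι hι hsym a (e + 1))
  · rw [Ideal.span_le]
    rintro _ ⟨m, rfl⟩
    change ι m ∈ HomogeneousIdeal.irrelevant 𝒮
    rw [HomogeneousIdeal.mem_irrelevant_iff, GradedRing.proj_apply,
      DirectSum.decompose_of_mem_ne 𝒮 (hι m) (by norm_num)]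

/-- the fraction `ι m' / f` in `S_(f)`, `f` of degree one. -/
noncomputable abbrev frac1 (hι : ∀ m, ι m ∈ 𝒮 1) {f : S} (hf : f ∈ 𝒮 1) (m' : M) : Away 𝒮 f :=
  Away.mk 𝒮 hf 1 (ι m') (by simpa using hι m')

lemma away_mk_zero_eq {f : S} (hf : f ∈ 𝒮 1) (a : A) :
    Away.mk 𝒮 hf 0 (algebraMap A S a) (by simpa using SetLike.algebraMap_mem_graded 𝒮 a) =
      algebraMap (𝒮 0) (Away 𝒮 f) (algebraMap A (𝒮 0) a) := by
  apply HomogeneousLocalization.val_injective
  rw [Away.val_mk]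
  change _ = Localization.mk _ _
  simp only [pow_zero]
  rfl

/-- two ring homs out of `S_(f)` agreeing on scalars and on the fractions `ι m' / f` agree. -/
theorem away_ringHom_ext (hι : ∀ m, ι m ∈ 𝒮 1) (hsym : IsSymmetricAlgebra ι)
    {B : Type*} [CommRing B] {f : S} (hf : f ∈ 𝒮 1) (ρ ρ' : Away 𝒮 f →+* B)
    (hA : ∀ a : A, ρ (algebraMap (𝒮 0) (Away 𝒮 f) (algebraMap A (𝒮 0) a)) =
      ρ' (algebraMap (𝒮 0) (Away 𝒮 f) (algebraMap A (𝒮 0) a)))
    (hM : ∀ m', ρ (frac1 𝒮 ι hι hf m') = ρ' (frac1 𝒮 ι hι hf m')) : ρ = ρ' := by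
  ext x
  obtain ⟨n, a, ha, rfl⟩ := Away.mk_surjective 𝒮 hf x
  have ha' : a ∈ (LinearMap.range ι) ^ n := mem_pow_of_mem 𝒮 ι hι hsym (by simpa using ha)
  revert ha
  refine Submodule.pow_induction_on_left' (LinearMap.range ι)
    (C := fun n a _ => ∀ ha : a ∈ 𝒮 (n • 1), ρ (Away.mk 𝒮 hf n a ha) = ρ' (Away.mk 𝒮 hf n a ha))
    ?_ ?_ ?_ ha'
  · intro r ha
    rw [away_mk_zero_eq 𝒮 hf r]
    exact hA r
  · intro x y i hx hy ihx ihy ha
    have hx' : x ∈ 𝒮 (i • 1) := by simpa using pow_range_le 𝒮 ι hι i hx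
    have hy' : y ∈ 𝒮 (i • 1) := by simpa using pow_range_le 𝒮 ι hι i hy
    have e : Away.mk 𝒮 hf i (x + y) ha = Away.mk 𝒮 hf i x hx' + Away.mk 𝒮 hf i y hy' := by
      apply HomogeneousLocalization.val_injective
      rw [HomogeneousLocalization.val_add, Away.val_mk, Away.val_mk, Away.val_mk,
        Localization.add_mk_self]
    rw [e, map_add, map_add, ihx hx', ihy hy']
  · intro m hm i x hx ih ha
    obtain ⟨m', rfl⟩ := hm
    have hx' : x ∈ 𝒮 (i • 1) := by simpa using pow_range_le 𝒮 ι hι i hx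
    have e : Away.mk 𝒮 hf i.succ (ι m' * x) ha = frac1 𝒮 ι hι hf m' * Away.mk 𝒮 hf i x hx' := by
      apply HomogeneousLocalization.val_injective
      rw [HomogeneousLocalization.val_mul, Away.val_mk, Away.val_mk, Away.val_mk,
        Localization.mk_mul]
      congr 1
      apply Subtype.ext
      change f ^ (i + 1) = f ^ 1 * f ^ i
      ring
    rw [e, map_mul, map_mul, hM, ih hx']


lemma frac1_zero (hι : ∀ m, ι m ∈ 𝒮 1) {f : S} (hf : f ∈ 𝒮 1) : frac1 𝒮 ι hι hf 0 = 0 := by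
  apply HomogeneousLocalization.val_injective
  rw [frac1, Away.val_mk, HomogeneousLocalization.val_zero]
  simp only [map_zero, Localization.mk_zero]

lemma frac1_add (hι : ∀ m, ι m ∈ 𝒮 1) {f : S} (hf : f ∈ 𝒮 1) (m m' : M) :
    frac1 𝒮 ι hι hf (m + m') = frac1 𝒮 ι hι hf m + frac1 𝒮 ι hι hf m' := by
  apply HomogeneousLocalization.val_injective
  rw [HomogeneousLocalization.val_add, frac1, frac1, frac1, Away.val_mk, Away.val_mk, Away.val_mk,
    Localization.add_mk_self, map_add]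

lemma frac1_smul (hι : ∀ m, ι m ∈ 𝒮 1) {f : S} (hf : f ∈ 𝒮 1) (a : A) (m : M) :
    frac1 𝒮 ι hι hf (a • m) =
      algebraMap (𝒮 0) (Away 𝒮 f) (algebraMap A (𝒮 0) a) * frac1 𝒮 ι hι hf m := by
  apply HomogeneousLocalization.val_injective
  rw [HomogeneousLocalization.val_mul, frac1, frac1, Away.val_mk, Away.val_mk,
    ← away_mk_zero_eq 𝒮 hf a, Away.val_mk, Localization.mk_mul, map_smul, Algebra.smul_def]
  congr 1
  apply Subtype.ext
  change f ^ 1 = f ^ 0 * f ^ 1
  ring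

/-- variant of `away_ringHom_ext` with a spanning family. -/
theorem away_ringHom_ext' (hι : ∀ m, ι m ∈ 𝒮 1) (hsym : IsSymmetricAlgebra ι)
    {K : Type*} (ν : K → M) (hν : Submodule.span A (Set.range ν) = ⊤)
    {B : Type*} [CommRing B] {f : S} (hf : f ∈ 𝒮 1) (ρ ρ' : Away 𝒮 f →+* B)
    (hA : ∀ a : A, ρ (algebraMap (𝒮 0) (Away 𝒮 f) (algebraMap A (𝒮 0) a)) =
      ρ' (algebraMap (𝒮 0) (Away 𝒮 f) (algebraMap A (𝒮 0) a)))
    (hM : ∀ k, ρ (frac1 𝒮 ι hι hf (ν k)) = ρ' (frac1 𝒮 ι hι hf (ν k))) : ρ = ρ' := by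
  refine away_ringHom_ext 𝒮 ι hι hsym hf ρ ρ' hA fun m' => ?_
  have hm' : m' ∈ Submodule.span A (Set.range ν) := hν ▸ Submodule.mem_top
  induction hm' using Submodule.span_induction with
  | mem x hx =>
    obtain ⟨k, rfl⟩ := hx
    exact hM k
  | zero => rw [frac1_zero, map_zero, map_zero]
  | add x y _ _ hx hy => rw [frac1_add, map_add, map_add, hx, hy]
  | smul a x _ hx => rw [frac1_smul, map_mul, map_mul, hA, hx]

/-- the irrelevant ideal is generated by the images of a spanning family. -/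
theorem irrelevant_le_span_of_span (hι : ∀ m, ι m ∈ 𝒮 1) (hsym : IsSymmetricAlgebra ι)
    {K : Type*} (ν : K → M) (hν : Submodule.span A (Set.range ν) = ⊤) :
    (HomogeneousIdeal.irrelevant 𝒮).toIdeal ≤ Ideal.span (Set.range fun k => ι (ν k)) := by
  rw [irrelevant_eq_span 𝒮 ι hι hsym, Ideal.span_le]
  rintro _ ⟨m, rfl⟩
  have hm : m ∈ Submodule.span A (Set.range ν) := hν ▸ Submodule.mem_top
  induction hm using Submodule.span_induction with
  | mem x hx =>
    obtain ⟨k, rfl⟩ := hx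
    exact Ideal.subset_span ⟨k, rfl⟩
  | zero => rw [map_zero]; exact zero_mem _
  | add x y _ _ hx hy => rw [map_add]; exact add_mem hx hy
  | smul a x _ hx =>
    rw [map_smul, Algebra.smul_def]
    exact Ideal.mul_mem_left _ _ hx

end Groth.Agent.H2.PUP
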