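import Groth.Agent.Lib.Helper2.ProjUPA

/-! # Uniqueness of morphisms to `Proj` of a symmetric algebra: the chart criterion. -/

universe u
open CategoryTheory CategoryTheory.Limits AlgebraicGeometry HomogeneousLocalization Opposite
  TopologicalSpace

namespace Groth.Agent.H2.PUP

section General
variable {X Y : Scheme.{u}}

/-- two morphisms which send `U` into an affine open `D` and induce the same map on sections
`Γ(Y, D) → Γ(X, U)` agree on `U`. -/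
theorem ι_comp_eq_of_appLE_eq (r r' : X ⟶ Y) {D : Y.Opens} (hD : IsAffineOpen D) {U : X.Opens}
    (e : U ≤ r ⁻¹ᵁ D) (e' : U ≤ r' ⁻¹ᵁ D) (h : r.appLE D U e = r'.appLE D U e') :
    U.ι ≫ r = U.ι ≫ r' := by
  haveI : IsAffine D.toScheme := hD
  have h1 : r.resLE D U e = r'.resLE D U e' := by
    apply ext_of_isAffine
    change (r.resLE D U e).app ⊤ = (r'.resLE D U e').app ⊤
    rw [Scheme.Hom.resLE_app_top, Scheme.Hom.resLE_app_top, h]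
  rw [← Scheme.Hom.resLE_comp_ι r e, ← Scheme.Hom.resLE_comp_ι r' e', h1]

end General

variable {A : Type u} [CommRing A] {S : Type u} [CommRing S] [Algebra A S]
  (𝒮 : ℕ → Submodule A S) [GradedAlgebra 𝒮]
  {M : Type u} [AddCommGroup M] [Module A M] (ι : M →ₗ[A] S)

/-- the structure morphism `Proj 𝒮 ⟶ Spec A`. -/
noncomputable abbrev projStr : Proj 𝒮 ⟶ Spec (CommRingCat.of A) :=
  Proj.toSpecZero 𝒮 ≫ Spec.map (CommRingCat.ofHom (algebraMap A (𝒮 0)))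

/-- the ring map `S_(f) → Γ(X, U)` induced by `r : X ⟶ Proj 𝒮` when `U ≤ r⁻¹ D₊(f)`. -/
noncomputable def chartHom {X : Scheme.{u}} (r : X ⟶ Proj 𝒮) (f : S) {U : X.Opens}
    (e : U ≤ r ⁻¹ᵁ Proj.basicOpen 𝒮 f) : Away 𝒮 f →+* Γ(X, U) :=
  (Proj.awayToSection 𝒮 f ≫ r.appLE (Proj.basicOpen 𝒮 f) U e).hom

lemma chartHom_apply {X : Scheme.{u}} (r : X ⟶ Proj 𝒮) (f : S) {U : X.Opens}
    (e : U ≤ r ⁻¹ᵁ Proj.basicOpen 𝒮 f) (x : Away 𝒮 f) :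
    chartHom 𝒮 r f e x = r.appLE (Proj.basicOpen 𝒮 f) U e (Proj.awayToSection 𝒮 f x) := rfl

/-- the morphism `U ⟶ Spec S_(f)` induced by `r`. -/
noncomputable def chartMor {X : Scheme.{u}} (r : X ⟶ Proj 𝒮) {f : S} {d : ℕ} (hf : f ∈ 𝒮 d)
    (hd : 0 < d) {U : X.Opens} (e : U ≤ r ⁻¹ᵁ Proj.basicOpen 𝒮 f) :
    U.toScheme ⟶ Spec (CommRingCat.of (Away 𝒮 f)) :=
  r.resLE (Proj.basicOpen 𝒮 f) U e ≫ (Proj.basicOpenIsoSpec 𝒮 f hf hd).hom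

lemma chartMor_awayι {X : Scheme.{u}} (r : X ⟶ Proj 𝒮) {f : S} {d : ℕ} (hf : f ∈ 𝒮 d)
    (hd : 0 < d) {U : X.Opens} (e : U ≤ r ⁻¹ᵁ Proj.basicOpen 𝒮 f) :
    chartMor 𝒮 r hf hd e ≫ Proj.awayι 𝒮 f hf hd = U.ι ≫ r := by
  rw [chartMor, Proj.awayι, Category.assoc, Iso.hom_inv_id_assoc, Scheme.Hom.resLE_comp_ι]

lemma chartMor_appTop {X : Scheme.{u}} (r : X ⟶ Proj 𝒮) {f : S} {d : ℕ} (hf : f ∈ 𝒮 d)
    (hd : 0 < d) {U : X.Opens} (e : U ≤ r ⁻¹ᵁ Proj.basicOpen 𝒮 f) :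
    (Scheme.ΓSpecIso (CommRingCat.of (Away 𝒮 f))).inv ≫ (chartMor 𝒮 r hf hd e).appTop =
      CommRingCat.ofHom (chartHom 𝒮 r f e) ≫ U.topIso.inv := by
  have h1 : (chartMor 𝒮 r hf hd e).appTop = (Proj.basicOpenToSpec 𝒮 f).appTop ≫
      (r.resLE (Proj.basicOpen 𝒮 f) U e).appTop := by
    rw [chartMor, Scheme.Hom.comp_appTop, Proj.basicOpenIsoSpec_hom]
  have h2 : (Proj.basicOpenToSpec 𝒮 f).appTop = (Scheme.ΓSpecIso _).hom ≫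
      Proj.awayToSection 𝒮 f ≫ (Proj.basicOpen 𝒮 f).topIso.inv :=
    Proj.basicOpenToSpec_app_top 𝒮 f
  have h3 : (r.resLE (Proj.basicOpen 𝒮 f) U e).appTop = (Proj.basicOpen 𝒮 f).topIso.hom ≫
      r.appLE _ U e ≫ U.topIso.inv := Scheme.Hom.resLE_app_top r e
  rw [h1, h2, h3]
  simp only [Category.assoc, Iso.inv_hom_id_assoc]
  rfl

/-- `chartHom` on scalars is determined by the composite to `Spec A`. -/
lemma chartHom_algebraMap {X : Scheme.{u}} (r r' : X ⟶ Proj 𝒮)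
    (hrr' : r ≫ projStr 𝒮 = r' ≫ projStr 𝒮) {f : S} {d : ℕ} (hf : f ∈ 𝒮 d)
    (hd : 0 < d) {U : X.Opens} (e : U ≤ r ⁻¹ᵁ Proj.basicOpen 𝒮 f)
    (e' : U ≤ r' ⁻¹ᵁ Proj.basicOpen 𝒮 f) (a : A) :
    chartHom 𝒮 r f e (algebraMap (𝒮 0) (Away 𝒮 f) (algebraMap A (𝒮 0) a)) =
      chartHom 𝒮 r' f e' (algebraMap (𝒮 0) (Away 𝒮 f) (algebraMap A (𝒮 0) a)) := by
  let φ : CommRingCat.of A ⟶ CommRingCat.of (Away 𝒮 f) :=
    CommRingCat.ofHom ((fromZeroRingHom 𝒮 _).comp (algebraMap A (𝒮 0)))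
  have key : ∀ (s : X ⟶ Proj 𝒮) (es : U ≤ s ⁻¹ᵁ Proj.basicOpen 𝒮 f),
      chartMor 𝒮 s hf hd es ≫ Spec.map φ = U.ι ≫ s ≫ projStr 𝒮 := by
    intro s es
    rw [← Category.assoc U.ι, ← chartMor_awayι 𝒮 s hf hd es, Category.assoc, projStr,
      Proj.awayι_toSpecZero_assoc, ← Spec.map_comp]
    rfl
  have h1 : chartMor 𝒮 r hf hd e ≫ Spec.map φ = chartMor 𝒮 r' hf hd e' ≫ Spec.map φ := by
    rw [key, key, hrr']
  have h2 : ∀ (s : X ⟶ Proj 𝒮) (es : U ≤ s ⁻¹ᵁ Proj.basicOpen 𝒮 f),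
      φ ≫ CommRingCat.ofHom (chartHom 𝒮 s f es) ≫ U.topIso.inv =
        (Scheme.ΓSpecIso (CommRingCat.of A)).inv ≫ (chartMor 𝒮 s hf hd es ≫ Spec.map φ).appTop := by
    intro s es
    rw [← chartMor_appTop 𝒮 s hf hd es, Scheme.Hom.comp_appTop,
      Scheme.ΓSpecIso_inv_naturality_assoc]
  have h3 : φ ≫ CommRingCat.ofHom (chartHom 𝒮 r f e) ≫ U.topIso.inv =
      φ ≫ CommRingCat.ofHom (chartHom 𝒮 r' f e') ≫ U.topIso.inv := by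
    rw [h2, h2, h1]
  have h4 : φ ≫ CommRingCat.ofHom (chartHom 𝒮 r f e) =
      φ ≫ CommRingCat.ofHom (chartHom 𝒮 r' f e') := by
    have := congrArg (fun ψ => ψ ≫ U.topIso.hom) h3
    simpa only [Category.assoc, Iso.inv_hom_id, Category.comp_id] using this
  exact congrArg (fun ψ : CommRingCat.of A ⟶ Γ(X, U) => ψ.hom a) h4

/-- `D₊(ι m)` cover `Proj` of a symmetric algebra. -/
lemma iSup_basicOpen_eq_top (hι : ∀ m, ι m ∈ 𝒮 1) (hsym : IsSymmetricAlgebra ι) :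
    ⨆ m : M, Proj.basicOpen 𝒮 (ι m) = ⊤ :=
  Proj.iSup_basicOpen_eq_top 𝒮 (fun m => ι m) (irrelevant_eq_span 𝒮 ι hι hsym).le

/-- `D₊(ι (ν k))` cover `Proj` of a symmetric algebra, for a spanning family `ν`. -/
lemma iSup_basicOpen_eq_top' (hι : ∀ m, ι m ∈ 𝒮 1) (hsym : IsSymmetricAlgebra ι)
    {K : Type*} (ν : K → M) (hν : Submodule.span A (Set.range ν) = ⊤) :
    ⨆ k : K, Proj.basicOpen 𝒮 (ι (ν k)) = ⊤ :=
  Proj.iSup_basicOpen_eq_top 𝒮 (fun k => ι (ν k)) (irrelevant_le_span_of_span 𝒮 ι hι hsym ν hν)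

/-- **Chart criterion for equality of morphisms to `Proj` of a symmetric algebra.** -/
theorem hom_ext_of_chart (hι : ∀ m, ι m ∈ 𝒮 1) (hsym : IsSymmetricAlgebra ι)
    {X : Scheme.{u}} (r r' : X ⟶ Proj 𝒮) (hrr' : r ≫ projStr 𝒮 = r' ≫ projStr 𝒮)
    {J : Type*} (U : J → X.Opens) (μ : J → M) (hcov : ⨆ j, U j = ⊤)
    (hU : ∀ j, U j ≤ r ⁻¹ᵁ Proj.basicOpen 𝒮 (ι (μ j)))
    (hU' : ∀ j, U j ≤ r' ⁻¹ᵁ Proj.basicOpen 𝒮 (ι (μ j)))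
    {K : Type*} (ν : K → M) (hν : Submodule.span A (Set.range ν) = ⊤)
    (h : ∀ j k, chartHom 𝒮 r (ι (μ j)) (hU j) (frac1 𝒮 ι hι (hι (μ j)) (ν k)) =
      chartHom 𝒮 r' (ι (μ j)) (hU' j) (frac1 𝒮 ι hι (hι (μ j)) (ν k))) : r = r' := by
  refine (X.openCoverOfIsOpenCover U hcov).hom_ext _ _ fun j => ?_
  change (U j).ι ≫ r = (U j).ι ≫ r'
  have hρ : chartHom 𝒮 r (ι (μ j)) (hU j) = chartHom 𝒮 r' (ι (μ j)) (hU' j) :=
    away_ringHom_ext' 𝒮 ι hι hsym ν hν (hι (μ j)) _ _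
      (chartHom_algebraMap 𝒮 r r' hrr' (hι (μ j)) Nat.one_pos (hU j) (hU' j)) (h j)
  apply ι_comp_eq_of_appLE_eq r r' (Proj.isAffineOpen_basicOpen 𝒮 _ (hι (μ j)) Nat.one_pos)
    (hU j) (hU' j)
  have h1 : Proj.awayToSection 𝒮 (ι (μ j)) ≫ r.appLE _ (U j) (hU j) =
      Proj.awayToSection 𝒮 (ι (μ j)) ≫ r'.appLE _ (U j) (hU' j) := by
    ext x
    exact congrArg (fun ρ : Away 𝒮 (ι (μ j)) →+* Γ(X, U j) => ρ x) hρ
  have h2 := congrArg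
    (fun ψ => (Proj.basicOpenIsoAway 𝒮 (ι (μ j)) (hι (μ j)) Nat.one_pos).inv ≫ ψ) h1
  simp only [← Category.assoc] at h2
  rw [← Proj.basicOpenIsoAway_hom 𝒮 (ι (μ j)) (hι (μ j)) Nat.one_pos] at h2
  simpa only [Iso.inv_hom_id, Category.id_comp] using h2

end Groth.Agent.H2.PUP
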