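import Groth.Agent.Lib.Helper2.ProjUPB
import Groth.Agent.Lib.Lead.TW.Ample
import Groth.Agent.Lib.Lead.TW.UnitBasis
import Groth.Agent.Lib.Lead.TW.MulX
import Groth.Agent.Lib.Lead.QC.PullInv
import Groth.Agent.Lib.Lead.PN.Rep2

/-! # `O(1)` on `Proj` of a symmetric algebra: the sections `ι m / 1`. -/

universe u
open CategoryTheory CategoryTheory.Limits AlgebraicGeometry HomogeneousLocalization Opposite
  TopologicalSpace

namespace Groth.Agent.H2.PUP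

open Groth.Agent.LD Twist

variable {A : Type u} [CommRing A] {S : Type u} [CommRing S] [Algebra A S]
  (𝒮 : ℕ → Submodule A S) [GradedAlgebra 𝒮]
  {M : Type u} [AddCommGroup M] [Module A M] (ι : M →ₗ[A] S)

/-- the degree one global section `f / 1` of `O(1)`. -/
noncomputable def sec1 {f : S} (hf : f ∈ 𝒮 1) : Γ(twist 𝒮 1, ⊤) := globalOf 𝒮 ⟨f, hf⟩

/-- restricted to `V ≤ D₊(f)`, `f / 1` is a basis of `O(1)`. -/
lemma isBasisOver_sec1 {f : S} (hf : f ∈ 𝒮 1) {V : (Proj 𝒮).Opens}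
    (hV : V ≤ Proj.basicOpen 𝒮 f) :
    QC.IsBasisOver (twist 𝒮 1) V
      ((twist 𝒮 1).presheaf.map (homOfLE (le_top : V ≤ ⊤)).op (sec1 𝒮 hf)) :=
  (TW.isUnitSec_globalOf (⟨f, hf⟩ : 𝒮 1) hV).isBasisOver

/-- `g / 1 = (g / f) • (f / 1)` over `D₊(f)`. -/
lemma sec1_res_eq_smul {f g : S} (hf : f ∈ 𝒮 1) (hg : g ∈ 𝒮 1) :
    (twist 𝒮 1).presheaf.map (homOfLE (le_top : Proj.basicOpen 𝒮 f ≤ ⊤)).op (sec1 𝒮 hg) =
      (Proj.awayToSection 𝒮 f (Away.mk 𝒮 hf 1 g (by simpa using hg))) •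
        (twist 𝒮 1).presheaf.map (homOfLE (le_top : Proj.basicOpen 𝒮 f ≤ ⊤)).op (sec1 𝒮 hf) := by
  change (show sectN (𝒜 := 𝒮) 1 (op (Proj.basicOpen 𝒮 f)) from _) =
    (show sectN (𝒜 := 𝒮) 1 (op (Proj.basicOpen 𝒮 f)) from _)
  apply TW.sectN_ext
  intro x
  have h1 := TW.smul_sec_val (k := 1) (W := Proj.basicOpen 𝒮 f)
    (Proj.awayToSection 𝒮 f (Away.mk 𝒮 hf 1 g (by simpa using hg)))
    ((twist 𝒮 1).presheaf.map (homOfLE (le_top : Proj.basicOpen 𝒮 f ≤ ⊤)).op (sec1 𝒮 hf)) x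
  refine Eq.trans ?_ h1.symm
  rw [TW.res_sec_val]
  have h2 := PN.awayToSection_val f (Away.mk 𝒮 hf 1 g (by simpa using hg)) x
  rw [h2, Away.val_mk]
  have h3 : (Localization.mk g ⟨f ^ 1, by use 1⟩ : Localization.Away f) =
      Localization.mk g (PN.gpow f 1) := rfl
  rw [h3, PN.toLoc_mk f x.1 x.2 g 1 (PN.pow_notMem f x.1 x.2 1)]
  change (Localization.mk g ⟨1, _⟩ : Loc 𝒮 x.1) = _ * (Localization.mk f ⟨1, _⟩ : Loc 𝒮 x.1)
  rw [Localization.mk_mul, Localization.mk_eq_mk_iff, Localization.r_iff_exists]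
  refine ⟨1, ?_⟩
  simp only [OneMemClass.coe_one, one_mul, Submonoid.coe_mul, mul_one]
  ring


section Sym
variable (hι : ∀ m, ι m ∈ 𝒮 1) (hsym : IsSymmetricAlgebra ι)

include hι hsym in
lemma isInvertible_twist (n : ℤ) : PicF.IsInvertible (twist 𝒮 n) :=
  TW.isInvertible_twist_of_span (s := Set.range ι) (by rintro _ ⟨m, rfl⟩; exact hι m)
    (irrelevant_eq_span 𝒮 ι hι hsym) n

include hι hsym in
lemma isQuasicoherent_twist (n : ℤ) : (twist 𝒮 n).IsQuasicoherent :=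
  QC.qc_of_isInvertible _ (isInvertible_twist 𝒮 ι hι hsym n)

include hι hsym in
/-- the locus where `f / 1` generates `O(1)` is `D₊(f)`. -/
lemma genLocus_sec1 {f : S} (hf : f ∈ 𝒮 1) :
    CohB1.genLocus (twist 𝒮 1) (QC.homOfSection (twist 𝒮 1) (sec1 𝒮 hf)) =
      Proj.basicOpen 𝒮 f := by
  have h := TW.genLocus_powHomSec (s := Set.range ι) (by rintro _ ⟨m, rfl⟩; exact hι m)
    (irrelevant_eq_span 𝒮 ι hι hsym) f hf 1 Nat.one_pos
  have h2 : TW.powGlobal f hf 1 = (globalOf 𝒮 (⟨f, hf⟩ : 𝒮 1)) := by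
    apply TW.sectN_ext
    intro x
    rw [TW.powGlobal, TW.castSec_val, TW.globalOf_val, TW.globalOf_val]
    simp only [pow_one]
  rw [TW.powHomSec, h2] at h
  exact h

end Sym

section Pull
variable {X : Scheme.{u}}

lemma pullSec_eq_pbSec {Y : Scheme.{u}} (r : X ⟶ Y) (N : Y.Modules) (s : Γ(N, ⊤)) :
    ProjUP.pullSec r N s = QC.pbSec r N (le_refl _ : (⊤ : X.Opens) ≤ r ⁻¹ᵁ ⊤) s := by
  rw [QC.pbSec]
  exact (QC.res_self _ _ _).symm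

/-- restriction to `U` of the pullback of a global section. -/
lemma res_pullSec {Y : Scheme.{u}} (r : X ⟶ Y) (N : Y.Modules) (s : Γ(N, ⊤)) {U : X.Opens}
    {V : Y.Opens} (e : U ≤ r ⁻¹ᵁ V) :
    ((Scheme.Modules.pullback r).obj N).presheaf.map (homOfLE (le_top : U ≤ ⊤)).op
        (ProjUP.pullSec r N s) =
      QC.pbSec r N e (N.presheaf.map (homOfLE (le_top : V ≤ ⊤)).op s) := by
  rw [pullSec_eq_pbSec]
  exact (QC.pbSec_res r N (le_refl _ : (⊤ : X.Opens) ≤ r ⁻¹ᵁ ⊤) e le_top le_top s).symm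

/-- `r^*(g/1) = r^♯(g/f) • r^*(f/1)` over `U ≤ r⁻¹ D₊(f)`. -/
lemma res_pullSec_sec1_eq_smul (r : X ⟶ Proj 𝒮) {f g : S} (hf : f ∈ 𝒮 1) (hg : g ∈ 𝒮 1)
    {U : X.Opens} (e : U ≤ r ⁻¹ᵁ Proj.basicOpen 𝒮 f) :
    ((Scheme.Modules.pullback r).obj (twist 𝒮 1)).presheaf.map (homOfLE (le_top : U ≤ ⊤)).op
        (ProjUP.pullSec r (twist 𝒮 1) (sec1 𝒮 hg)) =
      chartHom 𝒮 r f e (Away.mk 𝒮 hf 1 g (by simpa using hg)) •
        ((Scheme.Modules.pullback r).obj (twist 𝒮 1)).presheaf.map (homOfLE (le_top : U ≤ ⊤)).op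
          (ProjUP.pullSec r (twist 𝒮 1) (sec1 𝒮 hf)) := by
  rw [res_pullSec r (twist 𝒮 1) (sec1 𝒮 hg) e, res_pullSec r (twist 𝒮 1) (sec1 𝒮 hf) e,
    sec1_res_eq_smul 𝒮 hf hg, QC.pbSec_smul]
  rfl

end Pull

end Groth.Agent.H2.PUP
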