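import Groth.Agent.Lib.Helper2.ProjUPD
import Groth.Agent.Lib.Helper2.ModGlue
import Groth.Agent.Lib.Lead.QC.Stalk
import Groth.Agent.Lib.Lead.QC.StalkNbhd
import Groth.Prelude.Def_Pic

/-! # Generating sections of an invertible module: the loci where one section generates. -/

universe u
open CategoryTheory CategoryTheory.Limits AlgebraicGeometry Opposite TopologicalSpace

namespace Groth.Agent.H2.PUP

open Groth.Agent.LD

attribute [-instance] Groth.Agent.LD.QC.stalkModule

variable {X : Scheme.{u}}

/-- if global sections generate an invertible module, every point lies in the locus where one of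
them generates. -/
theorem exists_mem_genLocus (L : X.Modules) (hL : PicF.IsInvertible L) {J : Type*}
    (s : J → ProjUP.Γm L) (hs : ProjUP.GeneratedBy L s) (x : X) :
    ∃ j, x ∈ CohB1.genLocus L (QC.homOfSection L (s j)) := by
  obtain ⟨U, e, hxU, he⟩ := (QC.isInvertible_iff_exists_isBasisOver L).mp hL x
  have hcoord : ∀ j, ∃ a : Γ(X, U), L.presheaf.map (homOfLE (le_top : U ≤ ⊤)).op (s j) = a • e :=
    fun j => he.exists_coord _
  choose a ha using hcoord
  set ex := L.presheaf.germ U x hxU e with hex_def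
  have hgerm : ∀ j, (L.presheaf.germ ⊤ x trivial).hom (s j) =
      X.presheaf.germ U x hxU (a j) • ex := by
    intro j
    have h1 := QC.germ_res L x (le_top : U ≤ ⊤) hxU (s j)
    rw [ha j, QC.germ_smul] at h1
    exact h1.symm
  have hex : ex ∈ Submodule.span (X.presheaf.stalk x)
      (Set.range fun j => (L.presheaf.germ ⊤ x trivial).hom (s j)) := by
    rw [hs x]; trivial
  have gen : ∀ y ∈ Submodule.span (X.presheaf.stalk x)
      (Set.range fun j => (L.presheaf.germ ⊤ x trivial).hom (s j)),
      ∃ c ∈ Ideal.span (Set.range fun j => (X.presheaf.germ U x hxU).hom (a j)), y = c • ex := by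
    intro y hy
    induction hy using Submodule.span_induction with
    | mem y hy =>
      obtain ⟨j, rfl⟩ := hy
      exact ⟨_, Ideal.subset_span ⟨j, rfl⟩, hgerm j⟩
    | zero => exact ⟨0, zero_mem _, (zero_smul _ _).symm⟩
    | add y z _ _ hy hz =>
      obtain ⟨c, hc, rfl⟩ := hy
      obtain ⟨d, hd, rfl⟩ := hz
      exact ⟨c + d, add_mem hc hd, (add_smul _ _ _).symm⟩
    | smul r y _ hy =>
      obtain ⟨c, hc, rfl⟩ := hy
      exact ⟨r * c, Ideal.mul_mem_left _ _ hc, (mul_smul _ _ _).symm⟩
  obtain ⟨c, hc, hce⟩ := gen ex hex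
  -- `ex` is a free generator
  have hfree : ∀ d : X.presheaf.stalk x, d • ex = 0 → d = 0 := by
    intro d hd
    obtain ⟨W, hxW, d', rfl⟩ := X.presheaf.germ_exist (x := x) d
    have hWU : W ⊓ U ≤ U := inf_le_right
    have hWW : W ⊓ U ≤ W := inf_le_left
    have hx' : x ∈ W ⊓ U := ⟨hxW, hxU⟩
    have h1 : L.presheaf.germ (W ⊓ U) x hx'
        (X.presheaf.map (homOfLE hWW).op d' • L.presheaf.map (homOfLE hWU).op e) = 0 := by
      rw [QC.germ_smul, QC.sgerm_res, QC.germ_res]
      exact hd
    obtain ⟨W', hW', hxW', h2⟩ := QC.exists_res_eq_zero_of_germ_eq_zero L x hx' _ h1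
    rw [QC.smul_res, QC.res_res] at h2
    have h3 := (he W' (hW'.trans hWU)).1
      (a₁ := X.presheaf.map (homOfLE hW').op (X.presheaf.map (homOfLE hWW).op d')) (a₂ := 0)
      (by simp only [zero_smul]; exact h2)
    have h4 := congrArg (X.presheaf.germ W' x hxW') h3
    rw [QC.sgerm_res, QC.sgerm_res, map_zero] at h4
    exact h4
  have h1 : c = 1 := by
    have h2 : (1 - c) • ex = 0 := by rw [sub_smul, one_smul, ← hce, sub_self]
    exact (sub_eq_zero.mp (hfree _ h2)).symm
  have h3 : ∃ j, IsUnit ((X.presheaf.germ U x hxU).hom (a j)) := by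
    by_contra hcon
    push Not at hcon
    have h4 : Ideal.span (Set.range fun j => (X.presheaf.germ U x hxU).hom (a j)) ≤
        IsLocalRing.maximalIdeal (X.presheaf.stalk x) := by
      rw [Ideal.span_le]
      rintro _ ⟨j, rfl⟩
      exact (IsLocalRing.mem_maximalIdeal _).mpr (hcon j)
    have h5 := h4 hc
    rw [h1] at h5
    exact (IsLocalRing.mem_maximalIdeal _).mp h5 isUnit_one
  obtain ⟨j, hj⟩ := h3
  refine ⟨j, ?_⟩
  have h2 := QC.genLocus_inf_eq_basicOpen (QC.homOfSection L (s j)) he (a j)
    (by rw [QC.val_homOfSection]; exact ha j)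
  have hx : x ∈ X.basicOpen (a j) := (X.mem_basicOpen _ x hxU).mpr hj
  rw [← h2] at hx
  exact hx.1

end Groth.Agent.H2.PUP
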