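import Groth.Agent.Lib.Helper2.ProjUPD
import Groth.Agent.Lib.Lead.Chow.ProjAPI

/-! # `Proj.fromOfGlobalSections` into `Proj` of a symmetric algebra: naturality and scaling. -/

universe u
open CategoryTheory CategoryTheory.Limits AlgebraicGeometry HomogeneousLocalization Opposite
  TopologicalSpace

namespace Groth.Agent.H2.PUP

open Groth.Agent.LD

variable {A : Type u} [CommRing A] {S : Type u} [CommRing S] [Algebra A S]
  (𝒮 : ℕ → Submodule A S) [GradedAlgebra 𝒮]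
  {M : Type u} [AddCommGroup M] [Module A M] (ι : M →ₗ[A] S)
  (hι : ∀ m, ι m ∈ 𝒮 1) (hsym : IsSymmetricAlgebra ι)
variable {P : Scheme.{u}} (g : S →+* Γ(P, ⊤))
  (hg : (HomogeneousIdeal.irrelevant 𝒮).toIdeal.map g = ⊤)

/-- composite to `Spec A`. -/
lemma FG_projStr :
    Proj.fromOfGlobalSections 𝒮 g hg ≫ projStr 𝒮 =
      P.toSpecΓ ≫ Spec.map (CommRingCat.ofHom (g.comp (algebraMap A S))) := by
  rw [projStr, Proj.fromOfGlobalSections_toSpecZero_assoc, ← Spec.map_comp]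
  rfl

include hι in
/-- the chart open of `F(g)` for the chart `D₊(ι m)`. -/
lemma FG_le_preimage (m : M) :
    P.basicOpen (g (ι m)) ≤ Proj.fromOfGlobalSections 𝒮 g hg ⁻¹ᵁ Proj.basicOpen 𝒮 (ι m) :=
  (Proj.fromOfGlobalSections_preimage_basicOpen 𝒮 g hg Nat.one_pos (hι m)).ge

/-- the chart values of `F(g)`. -/
lemma FG_chartHom (m m' : M) :
    chartHom 𝒮 (Proj.fromOfGlobalSections 𝒮 g hg) (ι m) (FG_le_preimage 𝒮 ι hι g hg m)
        (frac1 𝒮 ι hι (hι m) m') *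
      P.presheaf.map (homOfLE (le_top : P.basicOpen (g (ι m)) ≤ ⊤)).op (g (ι m)) =
      P.presheaf.map (homOfLE (le_top : P.basicOpen (g (ι m)) ≤ ⊤)).op (g (ι m')) :=
  Chow.fromOfGlobalSections_appLE_frac 𝒮 g hg Nat.one_pos (hι m) (hι m')


/-- restriction of `chartHom` to a smaller open. -/
lemma chartHom_res {X : Scheme.{u}} (r : X ⟶ Proj 𝒮) (f : S) {U V : X.Opens}
    (e : U ≤ r ⁻¹ᵁ Proj.basicOpen 𝒮 f) (hVU : V ≤ U) (x : Away 𝒮 f) :
    X.presheaf.map (homOfLE hVU).op (chartHom 𝒮 r f e x) = chartHom 𝒮 r f (hVU.trans e) x := by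
  rw [chartHom_apply, chartHom_apply]
  exact congr($(Scheme.Hom.appLE_map r e (homOfLE hVU).op) (Proj.awayToSection 𝒮 f x))

/-- the chart values of `F(g)`, over any open inside the chart open. -/
lemma FG_chartHom' (m m' : M) {V : P.Opens} (hV : V ≤ P.basicOpen (g (ι m))) :
    chartHom 𝒮 (Proj.fromOfGlobalSections 𝒮 g hg) (ι m)
        (hV.trans (FG_le_preimage 𝒮 ι hι g hg m)) (frac1 𝒮 ι hι (hι m) m') *
      P.presheaf.map (homOfLE (le_top : V ≤ ⊤)).op (g (ι m)) =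
      P.presheaf.map (homOfLE (le_top : V ≤ ⊤)).op (g (ι m')) := by
  have h := congrArg (P.presheaf.map (homOfLE hV).op) (FG_chartHom 𝒮 ι hι g hg m m')
  rw [map_mul, chartHom_res] at h
  have e : ∀ t : Γ(P, ⊤), P.presheaf.map (homOfLE hV).op
      (P.presheaf.map (homOfLE (le_top : P.basicOpen (g (ι m)) ≤ ⊤)).op t) =
      P.presheaf.map (homOfLE (le_top : V ≤ ⊤)).op t := by
    intro t
    rw [← CommRingCat.comp_apply, ← Functor.map_comp]
    rfl
  rw [e, e] at h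
  exact h

include hι hsym hg in
/-- the chart opens of `F(g)` cover. -/
lemma iSup_basicOpen_FG : ⨆ m : M, P.basicOpen (g (ι m)) = ⊤ := by
  have h1 : ∀ m, P.basicOpen (g (ι m)) =
      Proj.fromOfGlobalSections 𝒮 g hg ⁻¹ᵁ Proj.basicOpen 𝒮 (ι m) := fun m =>
    (Proj.fromOfGlobalSections_preimage_basicOpen 𝒮 g hg Nat.one_pos (hι m)).symm
  simp_rw [h1]
  rw [← Scheme.Hom.preimage_iSup, iSup_basicOpen_eq_top 𝒮 ι hι hsym]
  rfl

include hsym in
/-- **characterization of `F(g)`** by its composite to `Spec A` and its chart values. -/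
theorem eq_FG (r : P ⟶ Proj 𝒮)
    (hr : r ≫ projStr 𝒮 = P.toSpecΓ ≫ Spec.map (CommRingCat.ofHom (g.comp (algebraMap A S))))
    (hU : ∀ m, P.basicOpen (g (ι m)) ≤ r ⁻¹ᵁ Proj.basicOpen 𝒮 (ι m))
    (hval : ∀ m m', chartHom 𝒮 r (ι m) (hU m) (frac1 𝒮 ι hι (hι m) m') *
      P.presheaf.map (homOfLE (le_top : P.basicOpen (g (ι m)) ≤ ⊤)).op (g (ι m)) =
      P.presheaf.map (homOfLE (le_top : P.basicOpen (g (ι m)) ≤ ⊤)).op (g (ι m'))) :
    r = Proj.fromOfGlobalSections 𝒮 g hg := by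
  refine hom_ext_of_chart 𝒮 ι hι hsym r _ (hr.trans (FG_projStr 𝒮 g hg).symm)
    (fun m : M => P.basicOpen (g (ι m))) id (iSup_basicOpen_FG 𝒮 ι hι hsym g hg) hU
    (FG_le_preimage 𝒮 ι hι g hg) id (by rw [Set.range_id]; exact Submodule.span_univ) ?_
  intro m m'
  have h1 := hval m m'
  have h2 := FG_chartHom 𝒮 ι hι g hg m m'
  have hu : IsUnit (P.presheaf.map (homOfLE (le_top : P.basicOpen (g (ι m)) ≤ ⊤)).op (g (ι m))) :=
    P.toRingedSpace.isUnit_res_basicOpen (g (ι m))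
  exact hu.mul_left_injective (h1.trans h2.symm)


include hg in
lemma map_irrelevant_comp {R' : Type*} [CommRing R'] (φ : Γ(P, ⊤) →+* R') :
    (HomogeneousIdeal.irrelevant 𝒮).toIdeal.map (φ.comp g) = ⊤ := by
  rw [← Ideal.map_map, hg, Ideal.map_top]

lemma res_appTop {P' : Scheme.{u}} (j : P' ⟶ P) {U : P.Opens} {U' : P'.Opens}
    (e : U' ≤ j ⁻¹ᵁ U) (t : Γ(P, ⊤)) :
    P'.presheaf.map (homOfLE (le_top : U' ≤ ⊤)).op (j.appTop.hom t) =
      j.appLE U U' e (P.presheaf.map (homOfLE (le_top : U ≤ ⊤)).op t) := by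
  have h := Scheme.Hom.map_appLE j e (homOfLE (le_top : U ≤ ⊤)).op
  have h2 := congr($h t)
  refine Eq.trans ?_ h2.symm
  rw [Scheme.Hom.appLE]
  rfl

include hι hsym in
/-- **naturality of `F(g)`** in the source. -/
theorem comp_FG {P' : Scheme.{u}} (j : P' ⟶ P) :
    j ≫ Proj.fromOfGlobalSections 𝒮 g hg =
      Proj.fromOfGlobalSections 𝒮 (j.appTop.hom.comp g) (map_irrelevant_comp 𝒮 g hg _) := by
  have hpre : ∀ m, P'.basicOpen ((j.appTop.hom.comp g) (ι m)) = j ⁻¹ᵁ P.basicOpen (g (ι m)) :=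
    fun m => (Scheme.preimage_basicOpen j (U := ⊤) (g (ι m))).symm
  have hU : ∀ m, P'.basicOpen ((j.appTop.hom.comp g) (ι m)) ≤
      (j ≫ Proj.fromOfGlobalSections 𝒮 g hg) ⁻¹ᵁ Proj.basicOpen 𝒮 (ι m) := by
    intro m
    rw [hpre m]
    exact (Opens.map j.base).monotone (FG_le_preimage 𝒮 ι hι g hg m)
  refine eq_FG 𝒮 ι hι hsym _ _ _ ?_ hU ?_
  · rw [Category.assoc, FG_projStr, Scheme.toSpecΓ_naturality_assoc, ← Spec.map_comp]
    rfl
  · intro m m'
    have e2 : P'.basicOpen ((j.appTop.hom.comp g) (ι m)) ≤ j ⁻¹ᵁ P.basicOpen (g (ι m)) :=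
      (hpre m).le
    have hc : chartHom 𝒮 (j ≫ Proj.fromOfGlobalSections 𝒮 g hg) (ι m) (hU m)
        (frac1 𝒮 ι hι (hι m) m') =
        j.appLE _ _ e2 (chartHom 𝒮 (Proj.fromOfGlobalSections 𝒮 g hg) (ι m)
          (FG_le_preimage 𝒮 ι hι g hg m) (frac1 𝒮 ι hι (hι m) m')) := by
      rw [chartHom_apply, chartHom_apply]
      exact congr($(Scheme.Hom.appLE_comp_appLE j (Proj.fromOfGlobalSections 𝒮 g hg) _ _ _
        (FG_le_preimage 𝒮 ι hι g hg m) e2) _).symm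
    rw [hc]
    change _ * P'.presheaf.map _ (j.appTop.hom (g (ι m))) =
      P'.presheaf.map _ (j.appTop.hom (g (ι m')))
    rw [res_appTop j e2, res_appTop j e2, ← map_mul, FG_chartHom 𝒮 ι hι g hg m m']

include hι hsym in
/-- **scaling invariance of `F(g)`.** -/
theorem FG_congr (g' : S →+* Γ(P, ⊤))
    (hg' : (HomogeneousIdeal.irrelevant 𝒮).toIdeal.map g' = ⊤) (u : Γ(P, ⊤)) (hu : IsUnit u)
    (h1 : ∀ m, g' (ι m) = u * g (ι m))
    (h2 : g'.comp (algebraMap A S) = g.comp (algebraMap A S)) :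
    Proj.fromOfGlobalSections 𝒮 g' hg' = Proj.fromOfGlobalSections 𝒮 g hg := by
  have hle : ∀ m, P.basicOpen (g (ι m)) ≤ P.basicOpen (g' (ι m)) := by
    intro m
    rw [h1 m, Scheme.basicOpen_mul, Scheme.basicOpen_of_isUnit _ hu, top_inf_eq]
  refine eq_FG 𝒮 ι hι hsym _ _ _ ?_
    (fun m => (hle m).trans (FG_le_preimage 𝒮 ι hι g' hg' m)) ?_
  · rw [FG_projStr, h2]
  · intro m m'
    have h3 := FG_chartHom' 𝒮 ι hι g' hg' m m' (hle m)
    have e1 : ∀ m'' : M, P.presheaf.map (homOfLE (le_top : P.basicOpen (g (ι m)) ≤ ⊤)).op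
        (g' (ι m'')) = P.presheaf.map (homOfLE (le_top : P.basicOpen (g (ι m)) ≤ ⊤)).op u *
          P.presheaf.map (homOfLE (le_top : P.basicOpen (g (ι m)) ≤ ⊤)).op (g (ι m'')) := by
      intro m''
      rw [h1 m'', map_mul]
    rw [e1 m, e1 m', mul_left_comm] at h3
    have huV : IsUnit (P.presheaf.map (homOfLE (le_top : P.basicOpen (g (ι m)) ≤ ⊤)).op u) :=
      hu.map _
    exact huV.mul_right_injective h3

end Groth.Agent.H2.PUP
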