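import Groth.Agent.Lib.Helper2.ProjUPF
import Groth.Agent.Lib.Helper2.ProjUPG

/-! # Existence of morphisms to `Proj (Sym M)`: the coordinate data of generating sections. -/

universe u
open CategoryTheory CategoryTheory.Limits AlgebraicGeometry HomogeneousLocalization Opposite
  TopologicalSpace

namespace Groth.Agent.H2.PUP

open Groth.Agent.LD

variable {A : Type u} [CommRing A] {S : Type u} [CommRing S] [Algebra A S]
  {M : Type u} [AddCommGroup M] [Module A M]
variable {X : Scheme.{u}} (q : X ⟶ Spec (CommRingCat.of A)) (L : X.Modules)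
  (v : M →+ ProjUP.Γm L)

/-- the ring map `A → Γ(X, U)`. -/
noncomputable def algU (U : X.Opens) : A →+* Γ(X, U) :=
  (X.presheaf.map (homOfLE (le_top : U ≤ ⊤)).op).hom.comp (ProjUP.toGlobal q)

lemma algU_res {U V : X.Opens} (h : V ≤ U) (a : A) :
    X.presheaf.map (homOfLE h).op (algU q U a) = algU q V a := by
  rw [algU, algU, RingHom.comp_apply, RingHom.comp_apply]
  change (X.presheaf.map _ ≫ X.presheaf.map _).hom _ = _
  rw [← Functor.map_comp]
  rfl

/-- the open where `v m` generates `L`. -/
noncomputable def Xm (m : M) : X.Opens := CohB1.genLocus L (QC.homOfSection L (v m))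

/-- `v m` restricted to `Xm m`. -/
noncomputable def eB (m : M) : Γ(L, Xm L v m) :=
  L.presheaf.map (homOfLE (le_top : Xm L v m ≤ ⊤)).op (v m)

lemma isBasisOver_eB (m : M) : QC.IsBasisOver L (Xm L v m) (eB L v m) := by
  have h := (QC.le_genLocus_iff_isBasisOver L (QC.homOfSection L (v m)) (Xm L v m)).mp le_rfl
  rwa [QC.val_homOfSection] at h

lemma iSup_Xm (hL : PicF.IsInvertible L) (hgen : ProjUP.GeneratedBy L v) :
    ⨆ m, Xm L v m = ⊤ := by
  rw [eq_top_iff]
  intro x _
  obtain ⟨m, hm⟩ := exists_mem_genLocus L hL v hgen x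
  exact Opens.mem_iSup.mpr ⟨m, hm⟩

/-- the coordinate of `v m'` with respect to the basis `v m` over `Xm m`. -/
noncomputable def coord (m m' : M) : Γ(X, Xm L v m) :=
  Classical.choose ((isBasisOver_eB L v m).exists_coord
    (L.presheaf.map (homOfLE (le_top : Xm L v m ≤ ⊤)).op (v m')))

lemma coord_spec (m m' : M) :
    L.presheaf.map (homOfLE (le_top : Xm L v m ≤ ⊤)).op (v m') = coord L v m m' • eB L v m :=
  Classical.choose_spec ((isBasisOver_eB L v m).exists_coord
    (L.presheaf.map (homOfLE (le_top : Xm L v m ≤ ⊤)).op (v m')))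

lemma coord_self (m : M) : coord L v m m = 1 := by
  apply (isBasisOver_eB L v m).coord_injective
  rw [← coord_spec, one_smul]
  rfl

lemma coord_add (m m₁ m₂ : M) : coord L v m (m₁ + m₂) = coord L v m m₁ + coord L v m m₂ := by
  apply (isBasisOver_eB L v m).coord_injective
  rw [← coord_spec, add_smul, ← coord_spec, ← coord_spec, map_add, map_add]

lemma coord_smul (hv : ∀ (a : A) (m : M), v (a • m) = ProjUP.toGlobal q a • v m) (m : M) (a : A)
    (m' : M) : coord L v m (a • m') = algU q (Xm L v m) a * coord L v m m' := by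
  apply (isBasisOver_eB L v m).coord_injective
  rw [← coord_spec, mul_smul, ← coord_spec, hv, QC.smul_res]
  rfl

/-- the cocycle relation among the coordinates. -/
lemma coord_cocycle (m m' m'' : M) {W : X.Opens} (h : W ≤ Xm L v m) (h' : W ≤ Xm L v m') :
    X.presheaf.map (homOfLE h).op (coord L v m m'') =
      X.presheaf.map (homOfLE h').op (coord L v m' m'') *
        X.presheaf.map (homOfLE h).op (coord L v m m') := by
  apply ((isBasisOver_eB L v m).mono h).coord_injective
  have e1 : ∀ m₀ : M, L.presheaf.map (homOfLE (le_top : W ≤ ⊤)).op (v m₀) =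
      X.presheaf.map (homOfLE h).op (coord L v m m₀) •
        L.presheaf.map (homOfLE h).op (eB L v m) := by
    intro m₀
    rw [← QC.smul_res, ← coord_spec, QC.res_res]
  have e2 : L.presheaf.map (homOfLE (le_top : W ≤ ⊤)).op (v m'') =
      X.presheaf.map (homOfLE h').op (coord L v m' m'') •
        L.presheaf.map (homOfLE h').op (eB L v m') := by
    rw [← QC.smul_res, ← coord_spec, QC.res_res]
  have e3 : L.presheaf.map (homOfLE h').op (eB L v m') =
      L.presheaf.map (homOfLE (le_top : W ≤ ⊤)).op (v m') := by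
    rw [eB, QC.res_res]
  rw [← e1, e2, e3, e1 m', mul_smul]

/-- `Xm m ⊓ Xm m'` is the non-vanishing locus of `coord m m'`. -/
lemma Xm_inf (m m' : M) : Xm L v m' ⊓ Xm L v m = X.basicOpen (coord L v m m') := by
  have h := QC.genLocus_inf_eq_basicOpen (QC.homOfSection L (v m')) (isBasisOver_eB L v m)
    (coord L v m m') (by rw [QC.val_homOfSection]; exact coord_spec L v m m')
  exact h

end Groth.Agent.H2.PUP
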