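import Groth.Agent.Lib.Helper2.ProjUPH

/-! # Existence of morphisms to `Proj (Sym M)`: the local morphisms and their gluing. -/

universe u
open CategoryTheory CategoryTheory.Limits AlgebraicGeometry HomogeneousLocalization Opposite
  TopologicalSpace

namespace Groth.Agent.H2.PUP

open Groth.Agent.LD

variable {A : Type u} [CommRing A] {S : Type u} [CommRing S] [Algebra A S]
  (𝒮 : ℕ → Submodule A S) [GradedAlgebra 𝒮]
  {M : Type u} [AddCommGroup M] [Module A M] (ι : M →ₗ[A] S)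
  (hι : ∀ m, ι m ∈ 𝒮 1) (hsym : IsSymmetricAlgebra ι)
variable {X : Scheme.{u}} (q : X ⟶ Spec (CommRingCat.of A)) (L : X.Modules)
  (v : M →+ ProjUP.Γm L)
  (hv : ∀ (a : A) (m : M), v (a • m) = ProjUP.toGlobal q a • v m)

/-- `coord m` as an `A`-linear map. -/
noncomputable def coordLin (m : M) :
    letI := (algU q (Xm L v m)).toAlgebra
    M →ₗ[A] Γ(X, Xm L v m) :=
  letI := (algU q (Xm L v m)).toAlgebra
  { toFun := coord L v m
    map_add' := coord_add L v m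
    map_smul' := fun a m' => by
      rw [coord_smul q L v hv]
      rfl }

/-- the ring map `S → Γ(X, Xm m)` sending `ι m'` to `coord m m'`. -/
noncomputable def Φ (m : M) : S →+* Γ(X, Xm L v m) :=
  letI := (algU q (Xm L v m)).toAlgebra
  (hsym.lift (coordLin q L v hv m)).toRingHom

lemma Φ_ι (m m' : M) : Φ ι hsym q L v hv m (ι m') = coord L v m m' := by
  letI := (algU q (Xm L v m)).toAlgebra
  exact hsym.lift_eq (coordLin q L v hv m) m'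

lemma Φ_algebraMap (m : M) (a : A) :
    Φ ι hsym q L v hv m (algebraMap A S a) = algU q (Xm L v m) a := by
  letI := (algU q (Xm L v m)).toAlgebra
  exact (hsym.lift (coordLin q L v hv m)).commutes a


section local_mor

variable {P : Scheme.{u}} (π : P ⟶ X) (m : M) (e : ⊤ ≤ π ⁻¹ᵁ Xm L v m)

/-- the ring map `S → Γ(P, ⊤)` attached to `π : P ⟶ X` landing in `Xm m`. -/
noncomputable def gπ : S →+* Γ(P, ⊤) :=
  (π.appLE (Xm L v m) ⊤ e).hom.comp (Φ ι hsym q L v hv m)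

lemma gπ_ι (m' : M) :
    gπ ι hsym q L v hv π m e (ι m') = π.appLE (Xm L v m) ⊤ e (coord L v m m') := by
  rw [gπ, RingHom.comp_apply, Φ_ι]

lemma gπ_algebraMap (a : A) :
    gπ ι hsym q L v hv π m e (algebraMap A S a) = π.appTop.hom (ProjUP.toGlobal q a) := by
  rw [gπ, RingHom.comp_apply, Φ_algebraMap, algU, RingHom.comp_apply]
  have h := Scheme.Hom.map_appLE π e (homOfLE (le_top : Xm L v m ≤ ⊤)).op
  refine (congr($h (ProjUP.toGlobal q a))).trans ?_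
  rw [Scheme.Hom.appLE]
  change (P.presheaf.map (𝟙 _)).hom (π.appTop.hom (ProjUP.toGlobal q a)) = _
  rw [P.presheaf.map_id]
  rfl

include hι in
lemma gπ_irr : (HomogeneousIdeal.irrelevant 𝒮).toIdeal.map (gπ ι hsym q L v hv π m e) = ⊤ := by
  rw [Ideal.eq_top_iff_one]
  have h1 : gπ ι hsym q L v hv π m e (ι m) = 1 := by
    rw [gπ_ι, coord_self, map_one]
  rw [← h1]
  apply Ideal.mem_map_of_mem
  rw [irrelevant_eq_span 𝒮 ι hι hsym]
  exact Ideal.subset_span ⟨m, rfl⟩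

/-- the local morphism `P ⟶ Proj 𝒮`. -/
noncomputable def ρ : P ⟶ Proj 𝒮 :=
  Proj.fromOfGlobalSections 𝒮 (gπ ι hsym q L v hv π m e) (gπ_irr 𝒮 ι hι hsym q L v hv π m e)

lemma FG_eq_of_eq {g g' : S →+* Γ(P, ⊤)}
    (hg : (HomogeneousIdeal.irrelevant 𝒮).toIdeal.map g = ⊤)
    (hg' : (HomogeneousIdeal.irrelevant 𝒮).toIdeal.map g' = ⊤) (h : g = g') :
    Proj.fromOfGlobalSections 𝒮 g hg = Proj.fromOfGlobalSections 𝒮 g' hg' := by
  subst h
  rfl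

lemma appTop_appLE {P' : Scheme.{u}} (j : P' ⟶ P) {U : X.Opens} (e : ⊤ ≤ π ⁻¹ᵁ U)
    (e' : ⊤ ≤ (j ≫ π) ⁻¹ᵁ U) (x : Γ(X, U)) :
    j.appTop.hom (π.appLE U ⊤ e x) = (j ≫ π).appLE U ⊤ e' x := by
  have h := Scheme.Hom.appLE_comp_appLE j π U ⊤ ⊤ e le_top
  refine Eq.trans ?_ (congr($h x))
  change _ = (j.appLE ⊤ ⊤ le_top).hom (π.appLE U ⊤ e x)
  rw [Scheme.Hom.appLE]
  change _ = (P'.presheaf.map (𝟙 _)).hom (j.appTop.hom (π.appLE U ⊤ e x))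
  rw [P'.presheaf.map_id]
  rfl

lemma ρ_comp {P' : Scheme.{u}} (j : P' ⟶ P) (e' : ⊤ ≤ (j ≫ π) ⁻¹ᵁ Xm L v m) :
    j ≫ ρ 𝒮 ι hι hsym q L v hv π m e = ρ 𝒮 ι hι hsym q L v hv (j ≫ π) m e' := by
  rw [ρ, comp_FG 𝒮 ι hι hsym]
  apply FG_eq_of_eq
  ext x
  rw [gπ, gπ]
  simp only [RingHom.comp_apply]
  exact appTop_appLE π j e e' _

lemma appLE_res {U U' : X.Opens} (h : U' ≤ U) (e : ⊤ ≤ π ⁻¹ᵁ U) (e' : ⊤ ≤ π ⁻¹ᵁ U')
    (x : Γ(X, U)) :
    π.appLE U' ⊤ e' (X.presheaf.map (homOfLE h).op x) = π.appLE U ⊤ e x :=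
  congr($(Scheme.Hom.map_appLE π e' (homOfLE h).op) x)

/-- the local morphism does not depend on the chart. -/
lemma ρ_indep (m' : M) (e' : ⊤ ≤ π ⁻¹ᵁ Xm L v m') :
    ρ 𝒮 ι hι hsym q L v hv π m e = ρ 𝒮 ι hι hsym q L v hv π m' e' := by
  have eW : ⊤ ≤ π ⁻¹ᵁ (Xm L v m ⊓ Xm L v m') := le_inf e e'
  have hW : Xm L v m ⊓ Xm L v m' ≤ Xm L v m := inf_le_left
  have hW' : Xm L v m ⊓ Xm L v m' ≤ Xm L v m' := inf_le_right
  have key : ∀ m'' : M, π.appLE (Xm L v m) ⊤ e (coord L v m m'') =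
      π.appLE (Xm L v m) ⊤ e (coord L v m m') * π.appLE (Xm L v m') ⊤ e' (coord L v m' m'') := by
    intro m''
    rw [← appLE_res π hW e eW, ← appLE_res π hW e eW (coord L v m m'),
      ← appLE_res π hW' e' eW, coord_cocycle L v m m' m'' hW hW', map_mul, mul_comm]
  have huu' : π.appLE (Xm L v m) ⊤ e (coord L v m m') *
      π.appLE (Xm L v m') ⊤ e' (coord L v m' m) = 1 := by
    rw [← key m, coord_self, map_one]
  refine FG_congr 𝒮 ι hι hsym (gπ ι hsym q L v hv π m' e') _ (gπ ι hsym q L v hv π m e) _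
    (π.appLE (Xm L v m) ⊤ e (coord L v m m')) (IsUnit.of_mul_eq_one _ huu') ?_ ?_
  · intro m''
    rw [gπ_ι, gπ_ι]
    exact key m''
  · ext a
    simp only [RingHom.comp_apply]
    rw [gπ_algebraMap, gπ_algebraMap]

lemma ρ_congr {π' : P ⟶ X} (h : π = π') (e' : ⊤ ≤ π' ⁻¹ᵁ Xm L v m) :
    ρ 𝒮 ι hι hsym q L v hv π m e = ρ 𝒮 ι hι hsym q L v hv π' m e' := by
  subst h
  rfl

end local_mor

section glue

variable (hL : PicF.IsInvertible L) (hgen : ProjUP.GeneratedBy L v)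

lemma le_ι_preimage (m : M) : ⊤ ≤ (Xm L v m).ι ⁻¹ᵁ Xm L v m :=
  (Scheme.Opens.ι_preimage_self _).ge

/-- the morphism on the chart `Xm m`. -/
noncomputable def rLoc (m : M) : (Xm L v m).toScheme ⟶ Proj 𝒮 :=
  ρ 𝒮 ι hι hsym q L v hv (Xm L v m).ι m (le_ι_preimage L v m)

/-- the cover of `X` by the `Xm m`. -/
noncomputable def cov : X.OpenCover :=
  X.openCoverOfIsOpenCover (Xm L v) (iSup_Xm L v hL hgen)

/-- **the glued morphism `X ⟶ Proj 𝒮`.** -/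
noncomputable def rGlue : X ⟶ Proj 𝒮 :=
  (cov L v hL hgen).glueMorphisms (fun m => rLoc 𝒮 ι hι hsym q L v hv m) (by
    intro m m'
    change pullback.fst (Xm L v m).ι (Xm L v m').ι ≫ rLoc 𝒮 ι hι hsym q L v hv m =
      pullback.snd (Xm L v m).ι (Xm L v m').ι ≫ rLoc 𝒮 ι hι hsym q L v hv m'
    have e1 : ⊤ ≤ (pullback.fst (Xm L v m).ι (Xm L v m').ι ≫ (Xm L v m).ι) ⁻¹ᵁ Xm L v m := by
      intro x _
      exact ((pullback.fst (Xm L v m).ι (Xm L v m').ι) x).2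
    have e2 : ⊤ ≤ (pullback.snd (Xm L v m).ι (Xm L v m').ι ≫ (Xm L v m').ι) ⁻¹ᵁ Xm L v m' := by
      intro x _
      exact ((pullback.snd (Xm L v m).ι (Xm L v m').ι) x).2
    have e3 : ⊤ ≤ (pullback.snd (Xm L v m).ι (Xm L v m').ι ≫ (Xm L v m').ι) ⁻¹ᵁ Xm L v m := by
      rw [← pullback.condition]
      exact e1
    rw [rLoc, rLoc, ρ_comp 𝒮 ι hι hsym q L v hv _ m _ _ e1, ρ_comp 𝒮 ι hι hsym q L v hv _ m' _ _ e2,
      ρ_congr 𝒮 ι hι hsym q L v hv _ m e1 pullback.condition e3]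
    exact ρ_indep 𝒮 ι hι hsym q L v hv _ m e3 m' e2)

lemma ι_rGlue (m : M) :
    (Xm L v m).ι ≫ rGlue 𝒮 ι hι hsym q L v hv hL hgen = rLoc 𝒮 ι hι hsym q L v hv m :=
  (cov L v hL hgen).ι_glueMorphisms _ _ m

/-- (Q0) the glued morphism is a morphism over `Spec A`. -/
theorem rGlue_projStr : rGlue 𝒮 ι hι hsym q L v hv hL hgen ≫ projStr 𝒮 = q := by
  refine (cov L v hL hgen).hom_ext _ _ fun m => ?_
  change (Xm L v m).ι ≫ rGlue 𝒮 ι hι hsym q L v hv hL hgen ≫ projStr 𝒮 = (Xm L v m).ι ≫ q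
  rw [← Category.assoc, ι_rGlue, rLoc, ρ, FG_projStr]
  apply ext_of_isAffine
  rw [Scheme.Hom.comp_appTop, Scheme.Hom.comp_appTop, Scheme.toSpecΓ_appTop,
    Scheme.ΓSpecIso_naturality]
  ext a
  change gπ ι hsym q L v hv (Xm L v m).ι m _ (algebraMap A S
    ((Scheme.ΓSpecIso (CommRingCat.of A)).hom.hom a)) = _
  rw [gπ_algebraMap, ProjUP.toGlobal, RingHom.comp_apply]
  change (Xm L v m).ι.appTop.hom (q.appTop.hom (((Scheme.ΓSpecIso (CommRingCat.of A)).hom ≫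
    (Scheme.ΓSpecIso (CommRingCat.of A)).inv).hom a)) = _
  rw [Iso.hom_inv_id]
  rfl

lemma gπ_ι_self {P : Scheme.{u}} (π : P ⟶ X) (m : M) (e : ⊤ ≤ π ⁻¹ᵁ Xm L v m) :
    gπ ι hsym q L v hv π m e (ι m) = 1 := by
  rw [gπ_ι, coord_self, map_one]

lemma top_le_rLoc_preimage (m : M) :
    ⊤ ≤ rLoc 𝒮 ι hι hsym q L v hv m ⁻¹ᵁ Proj.basicOpen 𝒮 (ι m) := by
  have h := FG_le_preimage 𝒮 ι hι (gπ ι hsym q L v hv (Xm L v m).ι m (le_ι_preimage L v m))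
    (gπ_irr 𝒮 ι hι hsym q L v hv (Xm L v m).ι m (le_ι_preimage L v m)) m
  rw [gπ_ι_self, Scheme.basicOpen_of_isUnit _ isUnit_one] at h
  exact h

/-- (Q1) the chart `Xm m` maps into `D₊(ι m)`. -/
theorem Xm_le_preimage (m : M) :
    Xm L v m ≤ rGlue 𝒮 ι hι hsym q L v hv hL hgen ⁻¹ᵁ Proj.basicOpen 𝒮 (ι m) := by
  intro x hx
  have h := top_le_rLoc_preimage 𝒮 ι hι hsym q L v hv m (show (⟨x, hx⟩ : Xm L v m) ∈ ⊤ from trivial)
  rw [← ι_rGlue 𝒮 ι hι hsym q L v hv hL hgen m] at h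
  exact h

lemma FG_chartHom_top {P : Scheme.{u}} (g : S →+* Γ(P, ⊤))
    (hg : (HomogeneousIdeal.irrelevant 𝒮).toIdeal.map g = ⊤) (m m' : M) (h1 : g (ι m) = 1)
    (e : ⊤ ≤ Proj.fromOfGlobalSections 𝒮 g hg ⁻¹ᵁ Proj.basicOpen 𝒮 (ι m)) :
    chartHom 𝒮 (Proj.fromOfGlobalSections 𝒮 g hg) (ι m) e (frac1 𝒮 ι hι (hι m) m') =
      g (ι m') := by
  have h := FG_chartHom' 𝒮 ι hι g hg m m' (V := ⊤)
    (by rw [h1, Scheme.basicOpen_of_isUnit _ isUnit_one])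
  have hid : ∀ t : Γ(P, ⊤),
      P.presheaf.map (homOfLE (le_top : (⊤ : P.Opens) ≤ ⊤)).op t = t := by
    intro t
    change (P.presheaf.map (𝟙 _)).hom t = t
    rw [CategoryTheory.Functor.map_id]
    rfl
  rw [hid, hid] at h
  refine Eq.trans ?_ h
  refine (mul_one _).symm.trans ?_
  exact congrArg (_ * ·) h1.symm

lemma chartHom_congr {X : Scheme.{u}} {r r' : X ⟶ Proj 𝒮} (h : r = r') (f : S) {U : X.Opens}
    (e : U ≤ r ⁻¹ᵁ Proj.basicOpen 𝒮 f) (e' : U ≤ r' ⁻¹ᵁ Proj.basicOpen 𝒮 f) (x : Away 𝒮 f) :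
    chartHom 𝒮 r f e x = chartHom 𝒮 r' f e' x := by
  subst h
  rfl

/-- (Q2) the chart values of the glued morphism. -/
theorem chartHom_rGlue (m m' : M) :
    chartHom 𝒮 (rGlue 𝒮 ι hι hsym q L v hv hL hgen) (ι m)
      (Xm_le_preimage 𝒮 ι hι hsym q L v hv hL hgen m) (frac1 𝒮 ι hι (hι m) m') =
      coord L v m m' := by
  have hinj : Function.Injective ((Xm L v m).ι.appLE (Xm L v m) ⊤ (le_ι_preimage L v m)) :=
    ((ConcreteCategory.isIso_iff_bijective _).mp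
      (inferInstanceAs (IsIso ((Xm L v m).ι.appLE (Xm L v m) ⊤
        (Xm L v m).ι_preimage_self.ge)))).1
  apply hinj
  have h1 := FG_chartHom_top 𝒮 ι hι (gπ ι hsym q L v hv (Xm L v m).ι m (le_ι_preimage L v m))
    (gπ_irr 𝒮 ι hι hsym q L v hv (Xm L v m).ι m (le_ι_preimage L v m)) m m'
    (gπ_ι_self ι hsym q L v hv _ m _) (top_le_rLoc_preimage 𝒮 ι hι hsym q L v hv m)
  rw [gπ_ι] at h1
  rw [← h1]
  have h2 := Scheme.Hom.appLE_comp_appLE (Xm L v m).ι (rGlue 𝒮 ι hι hsym q L v hv hL hgen)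
    (Proj.basicOpen 𝒮 (ι m)) (Xm L v m) ⊤
    (Xm_le_preimage 𝒮 ι hι hsym q L v hv hL hgen m) (le_ι_preimage L v m)
  rw [chartHom_apply, chartHom_apply]
  refine (congr($h2 _)).trans ?_
  have h3 := chartHom_congr 𝒮 (ι_rGlue 𝒮 ι hι hsym q L v hv hL hgen m) (ι m) (U := ⊤)
    ((le_ι_preimage L v m).trans ((Opens.map (Xm L v m).ι.base).monotone
      (Xm_le_preimage 𝒮 ι hι hsym q L v hv hL hgen m)))
    (top_le_rLoc_preimage 𝒮 ι hι hsym q L v hv m) (frac1 𝒮 ι hι (hι m) m')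
  rw [chartHom_apply, chartHom_apply] at h3
  exact h3

end glue


end Groth.Agent.H2.PUP
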