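import Groth.Agent.Lib.Helper2.ProjUPI
import Groth.Agent.Lib.Helper2.ModGlueIso

/-! # Existence part of the universal property of `Proj (Sym M)`. -/

universe u
open CategoryTheory CategoryTheory.Limits AlgebraicGeometry HomogeneousLocalization Opposite
  TopologicalSpace

namespace Groth.Agent.H2.PUP

open Groth.Agent.LD Twist

variable {A : Type u} [CommRing A] {S : Type u} [CommRing S] [Algebra A S]
  (𝒮 : ℕ → Submodule A S) [GradedAlgebra 𝒮]
  {M : Type u} [AddCommGroup M] [Module A M] (ι : M →ₗ[A] S)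
  (hι : ∀ m, ι m ∈ 𝒮 1) (hsym : IsSymmetricAlgebra ι)
variable {X : Scheme.{u}} (q : X ⟶ Spec (CommRingCat.of A)) (L : X.Modules)
  (v : M →+ ProjUP.Γm L)
  (hv : ∀ (a : A) (m : M), v (a • m) = ProjUP.toGlobal q a • v m)
  (hL : PicF.IsInvertible L) (hgen : ProjUP.GeneratedBy L v)

include hsym hv hL hgen in
/-- **existence**: the morphism to `Proj (Sym M)` attached to generating sections. -/
theorem exists_hom_iso :
    ∃ (r : X ⟶ Proj 𝒮) (_ : r ≫ projStr 𝒮 = q)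
      (τ : (Scheme.Modules.pullback r).obj (twist 𝒮 1) ≅ L),
      ∀ m : M, τ.hom.app ⊤ (ProjUP.pullSec r (twist 𝒮 1) (sec1 𝒮 (hι m))) = v m := by
  refine ⟨rGlue 𝒮 ι hι hsym q L v hv hL hgen, rGlue_projStr 𝒮 ι hι hsym q L v hv hL hgen, ?_⟩
  refine ModGlue.exists_iso_of_bases (Xm L v) (iSup_Xm L v hL hgen) _ L
    (fun m => ProjUP.pullSec (rGlue 𝒮 ι hι hsym q L v hv hL hgen) (twist 𝒮 1) (sec1 𝒮 (hι m)))
    (fun m => v m) ?_ ?_ (coord L v) ?_ ?_
  · intro m
    exact isBasisOver_res_pullSec_sec1 𝒮 ι hι hsym _ (hι m)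
      (Xm_le_preimage 𝒮 ι hι hsym q L v hv hL hgen m)
  · intro m
    exact isBasisOver_eB L v m
  · intro m m'
    have h := res_pullSec_sec1_eq_smul 𝒮 (rGlue 𝒮 ι hι hsym q L v hv hL hgen) (hι m) (hι m')
      (Xm_le_preimage 𝒮 ι hι hsym q L v hv hL hgen m)
    rw [h]
    congr 1
    exact chartHom_rGlue 𝒮 ι hι hsym q L v hv hL hgen m m'
  · intro m m'
    exact coord_spec L v m m'

end Groth.Agent.H2.PUP
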