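import Groth.Agent.Lib.Helper2.ProjUPD
import Groth.Agent.Lib.Lead.QC.LocalBase

/-! # Sections of `Proj (Sym M)` over an affine scheme are determined by their relations. -/

universe u
open CategoryTheory CategoryTheory.Limits AlgebraicGeometry HomogeneousLocalization Opposite
  TopologicalSpace

namespace Groth.Agent.H2.PUP

open Groth.Agent.LD Twist

variable {A : Type u} [CommRing A] {S : Type u} [CommRing S] [Algebra A S]
  (𝒮 : ℕ → Submodule A S) [GradedAlgebra 𝒮]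
  {M : Type u} [AddCommGroup M] [Module A M] (ι : M →ₗ[A] S)
  (hι : ∀ m, ι m ∈ 𝒮 1) (hsym : IsSymmetricAlgebra ι)
variable {X : Scheme.{u}}

/-- the pullback of the section `ι m` of `O(1)`. -/
noncomputable abbrev pT (r : X ⟶ Proj 𝒮) (m : M) :
    Γ((Scheme.Modules.pullback r).obj (twist 𝒮 1), ⊤) :=
  ProjUP.pullSec r (twist 𝒮 1) (sec1 𝒮 (hι m))

lemma le_iSup_basicOpen_sub [IsAffine X] (U : X.Opens) :
    U ≤ ⨆ f : {f : Γ(X, ⊤) // X.basicOpen f ≤ U}, X.basicOpen f.1 := by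
  intro x hx
  obtain ⟨V, ⟨f, rfl⟩, hxV, hVU⟩ := Opens.isBasis_iff_nbhd.mp (isBasis_basicOpen X) hx
  exact Opens.mem_iSup.mpr ⟨⟨f, hVU⟩, hxV⟩

include hι hsym in
/-- Step 1: a relation between pulled back sections for `r₁` holding on the chart transfers
to `r₂`. -/
lemma rel_transfer [IsAffine X] (r₁ r₂ : X ⟶ Proj 𝒮) (m₀ m : M)
    (hrel : ∀ g₁ g₂ : Γ(X, ⊤), g₁ • pT 𝒮 ι hι r₁ m = g₂ • pT 𝒮 ι hι r₁ m₀ →
      g₁ • pT 𝒮 ι hι r₂ m = g₂ • pT 𝒮 ι hι r₂ m₀) :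
    ((Scheme.Modules.pullback r₂).obj (twist 𝒮 1)).presheaf.map
        (homOfLE (le_top : r₁ ⁻¹ᵁ Proj.basicOpen 𝒮 (ι m₀) ≤ ⊤)).op (pT 𝒮 ι hι r₂ m) =
      chartHom 𝒮 r₁ (ι m₀) le_rfl (frac1 𝒮 ι hι (hι m₀) m) •
        ((Scheme.Modules.pullback r₂).obj (twist 𝒮 1)).presheaf.map
          (homOfLE (le_top : r₁ ⁻¹ᵁ Proj.basicOpen 𝒮 (ι m₀) ≤ ⊤)).op (pT 𝒮 ι hι r₂ m₀) := by
  set U := r₁ ⁻¹ᵁ Proj.basicOpen 𝒮 (ι m₀) with hU
  set c := chartHom 𝒮 r₁ (ι m₀) (le_refl U) (frac1 𝒮 ι hι (hι m₀) m) with hc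
  set N₁ := (Scheme.Modules.pullback r₁).obj (twist 𝒮 1) with hN₁
  set N₂ := (Scheme.Modules.pullback r₂).obj (twist 𝒮 1) with hN₂
  haveI : N₁.IsQuasicoherent :=
    QC.qc_of_isInvertible _ (QC.isInvertible_pullback r₁ (isInvertible_twist 𝒮 ι hι hsym 1))
  have e1 : N₁.presheaf.map (homOfLE (le_top : U ≤ ⊤)).op (pT 𝒮 ι hι r₁ m) =
      c • N₁.presheaf.map (homOfLE (le_top : U ≤ ⊤)).op (pT 𝒮 ι hι r₁ m₀) :=
    res_pullSec_sec1_eq_smul 𝒮 r₁ (hι m₀) (hι m) (le_refl U)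
  apply QC.section_ext_of_cover N₂ (fun f : {f : Γ(X, ⊤) // X.basicOpen f ≤ U} => X.basicOpen f.1)
    (fun f => f.2) (le_iSup_basicOpen_sub U)
  rintro ⟨f, hf⟩
  rw [QC.res_res, QC.smul_res, QC.res_res]
  -- write `c` on `D(f)` as a fraction
  obtain ⟨n, a, ha⟩ := IsLocalization.Away.surj (S := Γ(X, X.basicOpen f)) f
    (X.presheaf.map (homOfLE hf).op c)
  set ρf : Γ(X, ⊤) →+* Γ(X, X.basicOpen f) :=
    (X.presheaf.map (homOfLE (X.basicOpen_le f)).op).hom with hρf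
  have ha' : X.presheaf.map (homOfLE hf).op c * ρf f ^ n = ρf a := ha
  have hfu : IsUnit (ρf f) := X.toRingedSpace.isUnit_res_basicOpen f
  -- the relation for `r₁` on `D(f)`
  have e2 : N₁.presheaf.map (homOfLE (X.basicOpen_le f)).op
      (f ^ n • pT 𝒮 ι hι r₁ m - a • pT 𝒮 ι hι r₁ m₀) = 0 := by
    rw [map_sub, QC.smul_res, QC.smul_res, sub_eq_zero]
    have e3 := congrArg (N₁.presheaf.map (homOfLE hf).op) e1
    rw [QC.res_res, QC.smul_res, QC.res_res] at e3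
    change ρf (f ^ n) • _ = ρf a • _
    rw [e3, ← ha', smul_smul, map_pow, mul_comm]
  obtain ⟨k, hk⟩ := QC.affine_inj N₁ (isAffineOpen_top X) f _ e2
  rw [smul_sub, sub_eq_zero, smul_smul, smul_smul] at hk
  have e4 := congrArg (N₂.presheaf.map (homOfLE (X.basicOpen_le f)).op) (hrel _ _ hk)
  rw [QC.smul_res, QC.smul_res] at e4
  change ρf (f ^ k * f ^ n) • _ = ρf (f ^ k * a) • _ at e4
  rw [map_mul, map_mul, mul_smul, mul_smul] at e4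
  have hku : IsUnit (ρf (f ^ k)) := by
    rw [map_pow]
    exact hfu.pow k
  have e5 := hku.smul_left_cancel.mp e4
  rw [← ha', mul_comm, mul_smul, map_pow] at e5
  exact (hfu.pow n).smul_left_cancel.mp e5

include hι hsym in
/-- Step 2: where all pulled-back sections are multiples of the pullback of `ι m₀`, the
morphism lands in `D₊(ι m₀)`. -/
lemma le_preimage_of_multiples (r : X ⟶ Proj 𝒮) {J : Type*} (ν : J → M)
    (hν : Submodule.span A (Set.range ν) = ⊤) (m₀ : M) (U : X.Opens) (c : J → Γ(X, U))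
    (hc : ∀ j, ((Scheme.Modules.pullback r).obj (twist 𝒮 1)).presheaf.map
        (homOfLE (le_top : U ≤ ⊤)).op (pT 𝒮 ι hι r (ν j)) =
      c j • ((Scheme.Modules.pullback r).obj (twist 𝒮 1)).presheaf.map
        (homOfLE (le_top : U ≤ ⊤)).op (pT 𝒮 ι hι r m₀)) :
    U ≤ r ⁻¹ᵁ Proj.basicOpen 𝒮 (ι m₀) := by
  apply le_preimage_basicOpen_of_isBasisOver 𝒮 ι hι hsym r (hι m₀)
  set N := (Scheme.Modules.pullback r).obj (twist 𝒮 1) with hN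
  have hval := QC.val_homOfSection N (pT 𝒮 ι hι r m₀) U
  rw [← hval, ← QC.le_genLocus_iff_isBasisOver]
  intro x hx
  -- pick a chart containing `r x`
  have hcov := iSup_basicOpen_eq_top' 𝒮 ι hι hsym ν hν
  have hx' : r x ∈ ⨆ j, Proj.basicOpen 𝒮 (ι (ν j)) := hcov ▸ (show r x ∈ (⊤ : (Proj 𝒮).Opens) from trivial)
  obtain ⟨j, hj⟩ := Opens.mem_iSup.mp hx'
  set W := U ⊓ r ⁻¹ᵁ Proj.basicOpen 𝒮 (ι (ν j)) with hW
  have hxW : x ∈ W := ⟨hx, hj⟩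
  have hb := isBasisOver_res_pullSec_sec1 𝒮 ι hι hsym r (hι (ν j)) (U := W) inf_le_right
  have hcW := congrArg (N.presheaf.map (homOfLE (inf_le_left : W ≤ U)).op) (hc j)
  rw [QC.res_res, QC.smul_res, QC.res_res] at hcW
  obtain ⟨b, hb'⟩ := hb.exists_coord (N.presheaf.map (homOfLE (le_top : W ≤ ⊤)).op (pT 𝒮 ι hι r m₀))
  have h1 : (X.presheaf.map (homOfLE (inf_le_left : W ≤ U)).op (c j) * b) •
      N.presheaf.map (homOfLE (le_top : W ≤ ⊤)).op (pT 𝒮 ι hι r (ν j)) =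
      (1 : Γ(X, W)) • N.presheaf.map (homOfLE (le_top : W ≤ ⊤)).op (pT 𝒮 ι hι r (ν j)) := by
    rw [mul_smul, ← hb', ← hcW, one_smul]
  have h2 := hb.coord_injective h1
  have hbu : IsUnit b := IsUnit.of_mul_eq_one _ ((mul_comm _ _).trans h2)
  have hb2 : QC.IsBasisOver N W (N.presheaf.map (homOfLE (le_top : W ≤ ⊤)).op (pT 𝒮 ι hι r m₀)) := by
    rw [hb']
    exact (hb.smul_iff b).mpr hbu
  rw [← QC.val_homOfSection N (pT 𝒮 ι hι r m₀) W, ← QC.le_genLocus_iff_isBasisOver] at hb2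
  exact hb2 hxW

include hι hsym in
/-- **Morphisms from an affine scheme to `Proj (Sym M)` over `A` are determined by the relations
among the pulled-back sections.** -/
theorem hom_ext_of_rel [IsAffine X] (r₁ r₂ : X ⟶ Proj 𝒮)
    (hrr : r₁ ≫ projStr 𝒮 = r₂ ≫ projStr 𝒮) {J : Type*} (ν : J → M)
    (hν : Submodule.span A (Set.range ν) = ⊤)
    (hrel : ∀ (j k : J) (g₁ g₂ : Γ(X, ⊤)),
      g₁ • pT 𝒮 ι hι r₁ (ν j) = g₂ • pT 𝒮 ι hι r₁ (ν k) →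
      g₁ • pT 𝒮 ι hι r₂ (ν j) = g₂ • pT 𝒮 ι hι r₂ (ν k)) :
    r₁ = r₂ := by
  have h1 := fun k j => rel_transfer 𝒮 ι hι hsym r₁ r₂ (ν k) (ν j) (hrel j k)
  have hU' : ∀ k, r₁ ⁻¹ᵁ Proj.basicOpen 𝒮 (ι (ν k)) ≤ r₂ ⁻¹ᵁ Proj.basicOpen 𝒮 (ι (ν k)) :=
    fun k => le_preimage_of_multiples 𝒮 ι hι hsym r₂ ν hν (ν k) _ _ (h1 k)
  refine hom_ext_of_chart 𝒮 ι hι hsym r₁ r₂ hrr
    (fun k : J => r₁ ⁻¹ᵁ Proj.basicOpen 𝒮 (ι (ν k))) ν ?_ (fun _ => le_rfl) hU' ν hν ?_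
  · rw [← Scheme.Hom.preimage_iSup, iSup_basicOpen_eq_top' 𝒮 ι hι hsym ν hν]
    rfl
  · intro k j
    have e2 := res_pullSec_sec1_eq_smul 𝒮 r₂ (hι (ν k)) (hι (ν j)) (hU' k)
    exact (isBasisOver_res_pullSec_sec1 𝒮 ι hι hsym r₂ (hι (ν k)) (hU' k)).coord_injective
      ((h1 k j).symm.trans e2)

end Groth.Agent.H2.PUP
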