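import Groth.Agent.Lib.Helper2.ProjUPL
import Groth.Agent.Lib.Helper2.ProjUPE

/-! # Sections of projective space over an affine base are determined by their kernels. -/

universe u
open CategoryTheory CategoryTheory.Limits AlgebraicGeometry HomogeneousLocalization Opposite
  TopologicalSpace

namespace Groth.Agent.H2.PUP

open Groth.Agent.LD Twist

variable (n : ℕ) (R : Type u) [CommRing R]

/-- the pulled back coordinate. -/
noncomputable abbrev pC (s : Spec (CommRingCat.of R) ⟶ CohB1.ProjSpace n R) (i : Fin (n + 1)) :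
    ProjUP.Γm ((Scheme.Modules.pullback s).obj (Twist.twistProjSpace n R 1)) :=
  ProjUP.pullSec s (Twist.twistProjSpace n R 1) (ProjUP.coord n R i)

lemma mem_secKernel_iff (s : Spec (CommRingCat.of R) ⟶ CohB1.ProjSpace n R)
    (c : Fin (n + 1) → R) :
    c ∈ ProjUP.secKernel n R s ↔
      ∑ i, (Scheme.ΓSpecIso (CommRingCat.of R)).inv.hom (c i) • pC n R s i = 0 := by
  letI : Module R (ProjUP.Γm ((Scheme.Modules.pullback s).obj (Twist.twistProjSpace n R 1))) :=
    Module.compHom _ (Scheme.ΓSpecIso (CommRingCat.of R)).inv.hom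
  change c ∈ LinearMap.ker (Fintype.linearCombination R (fun i => pC n R s i)) ↔ _
  rw [LinearMap.mem_ker, Fintype.linearCombination_apply]
  rfl

lemma sum_single_smul (s : Spec (CommRingCat.of R) ⟶ CohB1.ProjSpace n R) (j : Fin (n + 1))
    (a : R) :
    ∑ i, (Scheme.ΓSpecIso (CommRingCat.of R)).inv.hom ((Pi.single j a : Fin (n + 1) → R) i) •
      pC n R s i = (Scheme.ΓSpecIso (CommRingCat.of R)).inv.hom a • pC n R s j := by
  rw [Finset.sum_eq_single j]
  · rw [Pi.single_eq_same]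
  · intro i _ hi
    rw [Pi.single_eq_of_ne hi, map_zero, zero_smul]
  · intro h
    exact absurd (Finset.mem_univ j) h

lemma rel_iff_mem (s : Spec (CommRingCat.of R) ⟶ CohB1.ProjSpace n R) (j k : Fin (n + 1))
    (g₁ g₂ : Γ(Spec (CommRingCat.of R), ⊤)) :
    g₁ • pC n R s j = g₂ • pC n R s k ↔
      (Pi.single j ((Scheme.ΓSpecIso (CommRingCat.of R)).hom.hom g₁) -
        Pi.single k ((Scheme.ΓSpecIso (CommRingCat.of R)).hom.hom g₂) : Fin (n + 1) → R) ∈
        ProjUP.secKernel n R s := by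
  rw [mem_secKernel_iff]
  simp only [Pi.sub_apply, map_sub, sub_smul, Finset.sum_sub_distrib]
  rw [sum_single_smul, sum_single_smul, sub_eq_zero]
  have e : ∀ g : Γ(Spec (CommRingCat.of R), ⊤), (Scheme.ΓSpecIso (CommRingCat.of R)).inv.hom
      ((Scheme.ΓSpecIso (CommRingCat.of R)).hom.hom g) = g := by
    intro g
    change ((Scheme.ΓSpecIso (CommRingCat.of R)).hom ≫
      (Scheme.ΓSpecIso (CommRingCat.of R)).inv).hom g = g
    rw [Iso.hom_inv_id]
    rfl
  rw [e, e]

/-- **a section of projective space over `Spec R` is determined by its module of relations**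
(one inclusion suffices). -/
theorem section_ext_of_secKernel_le (s₁ s₂ : Spec (CommRingCat.of R) ⟶ CohB1.ProjSpace n R)
    (h₁ : s₁ ≫ CohB1.ProjSpace.toSpec n R = 𝟙 _) (h₂ : s₂ ≫ CohB1.ProjSpace.toSpec n R = 𝟙 _)
    (h : ProjUP.secKernel n R s₁ ≤ ProjUP.secKernel n R s₂) : s₁ = s₂ := by
  refine hom_ext_of_rel (CohB1.polyGrading n R) (ιPn n R) (ιPn_mem n R)
    (isSymmetricAlgebra_ιPn n R) s₁ s₂ (h₁.trans h₂.symm)
    (fun i : Fin (n + 1) => (Pi.single i 1 : Fin (n + 1) → R)) (span_single n R) ?_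
  intro j k g₁ g₂ hg
  rw [pT, pT, sec1_single, sec1_single] at hg ⊢
  exact (rel_iff_mem n R s₂ j k g₁ g₂).mpr (h ((rel_iff_mem n R s₁ j k g₁ g₂).mp hg))

end Groth.Agent.H2.PUP
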