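import Groth.Agent.Lib.Helper2.LocTransfer
import Groth.Agent.Lib.Lead.QC.Rank
import Groth.Agent.Lib.Lead.QC.FiniteFree
import Groth.Prelude.Def_ProjUP

/-! # Stalk ranks of quasi-coherent modules on `Spec R` in terms of `R`-modules. -/

set_option linter.style.haveILetI false

universe u
open CategoryTheory CategoryTheory.Limits AlgebraicGeometry Opposite TopologicalSpace

namespace Groth.Agent.H2.PUP

open Groth.Agent.LD Groth.Agent.LD.QC

variable {R : Type u} [CommRing R]

/-- the ring isomorphism `R ≃ Γ(Spec R, ⊤)`. -/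
noncomputable def eΓ (R : Type u) [CommRing R] : R ≃+* Γ(Spec (CommRingCat.of R), ⊤) :=
  (Scheme.ΓSpecIso (CommRingCat.of R)).symm.commRingCatIsoToRingEquiv

lemma eΓ_apply (r : R) : eΓ R r = (Scheme.ΓSpecIso (CommRingCat.of R)).inv.hom r := rfl

/-- the `R`-module structure on the global sections of a module on `Spec R`. -/
noncomputable abbrev modΓ (L : (Spec (CommRingCat.of R)).Modules) : Module R (ProjUP.Γm L) :=
  Module.compHom _ (Scheme.ΓSpecIso (CommRingCat.of R)).inv.hom

lemma modΓ_smul (L : (Spec (CommRingCat.of R)).Modules) (r : R) (m : ProjUP.Γm L) :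
    letI := modΓ L
    r • m = eΓ R r • m := rfl

lemma mem_primeCompl_iff (x : Spec (CommRingCat.of R)) (s : R) :
    s ∈ (x : PrimeSpectrum R).asIdeal.primeCompl ↔
      eΓ R s ∈ ((isAffineOpen_top (Spec (CommRingCat.of R))).primeIdealOf
        ⟨x, trivial⟩).asIdeal.primeCompl := by
  have hb : (Spec (CommRingCat.of R)).basicOpen (eΓ R s) = PrimeSpectrum.basicOpen s :=
    basicOpen_eq_of_affine (R := CommRingCat.of R) s
  constructor
  · intro hs
    apply mem_primeCompl_of_mem_basicOpen (isAffineOpen_top _) x trivial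
    rw [hb]
    exact hs
  · intro hs
    have h := mem_basicOpen_of_mem_primeCompl (isAffineOpen_top _) x trivial _ hs
    rw [hb] at h
    exact h

/-- **the rank of the stalk of a quasi-coherent module on `Spec R`** in terms of an `R`-module
isomorphic to its global sections. -/
theorem finrank_stalk_eq (L : (Spec (CommRingCat.of R)).Modules) [L.IsQuasicoherent]
    {Q : Type u} [AddCommGroup Q] [Module R Q]
    (θ : letI := modΓ L; Q ≃ₗ[R] ProjUP.Γm L) (x : Spec (CommRingCat.of R)) :
    Module.finrank ((Spec (CommRingCat.of R)).presheaf.stalk x) (L.presheaf.stalk x) =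
      Module.finrank (Localization.AtPrime (x : PrimeSpectrum R).asIdeal)
        (LocalizedModule (x : PrimeSpectrum R).asIdeal.primeCompl Q) := by
  letI := modΓ L
  let X := Spec (CommRingCat.of R)
  have hU : IsAffineOpen (⊤ : X.Opens) := isAffineOpen_top X
  have hx : x ∈ (⊤ : X.Opens) := trivial
  letI := stalkΓModule L x ⊤ hx
  haveI := isLocalizedModule_germ L hU x hx
  letI algΓ : Algebra Γ(X, ⊤) (X.presheaf.stalk x) :=
    TopCat.Presheaf.algebra_section_stalk X.presheaf ⟨x, hx⟩
  haveI := hU.isLocalization_stalk ⟨x, hx⟩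
  -- `R`-structures
  let ρ : R →+* X.presheaf.stalk x := (X.presheaf.germ ⊤ x hx).hom.comp (eΓ R).toRingHom
  letI algR : Algebra R (X.presheaf.stalk x) := ρ.toAlgebra
  letI modR : Module R (L.presheaf.stalk x) := Module.compHom _ ρ
  haveI : IsScalarTower R (X.presheaf.stalk x) (L.presheaf.stalk x) :=
    IsScalarTower.of_algebraMap_smul fun r m => rfl
  set p := (x : PrimeSpectrum R).asIdeal with hp
  haveI : IsLocalization p.primeCompl (X.presheaf.stalk x) :=
    LocTransfer.isLocalization_of_ringEquiv (eΓ R)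
      (hU.primeIdealOf ⟨x, hx⟩).asIdeal.primeCompl p.primeCompl (mem_primeCompl_iff x)
      (fun r => rfl)
  -- the germ map as an `R`-linear map
  let g₀ : ProjUP.Γm L →ₗ[R] L.presheaf.stalk x :=
    { toFun := fun s => germLinear L x ⊤ hx s
      map_add' := fun a b => map_add _ a b
      map_smul' := fun r s => (germLinear L x ⊤ hx).map_smul (eΓ R r) s }
  haveI : IsLocalizedModule p.primeCompl g₀ :=
    LocTransfer.isLocalizedModule_of_ringEquiv (eΓ R)
      (hU.primeIdealOf ⟨x, hx⟩).asIdeal.primeCompl p.primeCompl (mem_primeCompl_iff x)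
      (fun r n => rfl) (fun r n => rfl) (germLinear L x ⊤ hx) g₀ (fun n => rfl)
  haveI : IsLocalizedModule p.primeCompl (g₀ ∘ₗ θ.toLinearMap) :=
    IsLocalizedModule.of_linearEquiv_right p.primeCompl g₀ θ
  symm
  exact finrank_eq_of_semilinear
    (IsLocalization.algEquiv p.primeCompl (Localization.AtPrime p)
      (X.presheaf.stalk x)).toRingEquiv
    (IsLocalizedModule.linearEquiv p.primeCompl
      (LocalizedModule.mkLinearMap p.primeCompl Q) (g₀ ∘ₗ θ.toLinearMap)).toAddEquiv
    (fun a n => isLocalizedModule_equiv_semilinear p.primeCompl _ _ a n)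

end Groth.Agent.H2.PUP
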