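import Groth.Agent.Lib.Helper2.ProjUPL

/-! # On an affine scheme the pulled-back sections span the global sections of `r^*O(1)`. -/

universe u
open CategoryTheory CategoryTheory.Limits AlgebraicGeometry HomogeneousLocalization Opposite
  TopologicalSpace

namespace Groth.Agent.H2.PUP

open Groth.Agent.LD Twist

variable {A : Type u} [CommRing A] {S : Type u} [CommRing S] [Algebra A S]
  (𝒮 : ℕ → Submodule A S) [GradedAlgebra 𝒮]
  {M : Type u} [AddCommGroup M] [Module A M] (ι : M →ₗ[A] S)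
  (hι : ∀ m, ι m ∈ 𝒮 1) (hsym : IsSymmetricAlgebra ι)
variable {X : Scheme.{u}}

include hsym in
/-- **on an affine scheme, the pullbacks of the sections `ι (ν j)` span the global sections of
`r^*O(1)`.** -/
theorem span_pT_eq_top [IsAffine X] (r : X ⟶ Proj 𝒮) {J : Type*} (ν : J → M)
    (hν : Submodule.span A (Set.range ν) = ⊤) :
    Submodule.span Γ(X, ⊤) (Set.range fun j => pT 𝒮 ι hι r (ν j)) = ⊤ := by
  set N := (Scheme.Modules.pullback r).obj (twist 𝒮 1) with hN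
  haveI : N.IsQuasicoherent :=
    QC.qc_of_isInvertible _ (QC.isInvertible_pullback r (isInvertible_twist 𝒮 ι hι hsym 1))
  set Γ' : Submodule Γ(X, ⊤) Γ(N, ⊤) :=
    Submodule.span Γ(X, ⊤) (Set.range fun j => pT 𝒮 ι hι r (ν j)) with hΓ'
  rw [eq_top_iff]
  intro σ _
  -- the ideal of functions multiplying `σ` into `Γ'`
  set I : Ideal Γ(X, ⊤) := Γ'.colon {σ} with hI
  suffices h : I = ⊤ by
    have h1 : (1 : Γ(X, ⊤)) ∈ I := h ▸ Submodule.mem_top
    rw [hI, Submodule.mem_colon_singleton, one_smul] at h1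
    exact h1
  have hU : IsAffineOpen (⊤ : X.Opens) := isAffineOpen_top X
  rw [← Ideal.span_eq I, ← hU.self_le_iSup_basicOpen_iff]
  intro x _
  -- a chart around `r x`
  have hcov := iSup_basicOpen_eq_top' 𝒮 ι hι hsym ν hν
  have hx' : r x ∈ ⨆ j, Proj.basicOpen 𝒮 (ι (ν j)) :=
    hcov ▸ (show r x ∈ (⊤ : (Proj 𝒮).Opens) from trivial)
  obtain ⟨j, hj⟩ := Opens.mem_iSup.mp hx'
  set U := r ⁻¹ᵁ Proj.basicOpen 𝒮 (ι (ν j)) with hUdef
  have hxU : x ∈ U := hj
  have hb := isBasisOver_res_pullSec_sec1 𝒮 ι hι hsym r (hι (ν j)) (le_refl U)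
  obtain ⟨V, ⟨f, rfl⟩, hxf, hfU⟩ := Opens.isBasis_iff_nbhd.mp (isBasis_basicOpen X) hxU
  obtain ⟨c, hc⟩ := hb.exists_coord (N.presheaf.map (homOfLE (le_top : U ≤ ⊤)).op σ)
  obtain ⟨k, a, ha⟩ := IsLocalization.Away.surj (S := Γ(X, X.basicOpen f)) f
    (X.presheaf.map (homOfLE hfU).op c)
  set ρf : Γ(X, ⊤) →+* Γ(X, X.basicOpen f) :=
    (X.presheaf.map (homOfLE (X.basicOpen_le f)).op).hom with hρf
  have ha' : X.presheaf.map (homOfLE hfU).op c * ρf f ^ k = ρf a := ha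
  have e2 : N.presheaf.map (homOfLE (X.basicOpen_le f)).op
      (f ^ k • σ - a • pT 𝒮 ι hι r (ν j)) = 0 := by
    rw [map_sub, QC.smul_res, QC.smul_res, sub_eq_zero]
    have e3 := congrArg (N.presheaf.map (homOfLE hfU).op) hc
    rw [QC.res_res, QC.smul_res, QC.res_res] at e3
    change ρf (f ^ k) • _ = ρf a • _
    rw [e3, ← ha', smul_smul, map_pow, mul_comm]
  obtain ⟨k', hk'⟩ := QC.affine_inj N hU f _ e2
  rw [smul_sub, sub_eq_zero, smul_smul, smul_smul] at hk'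
  -- `g = f^(k'+k+1)` lies in `I`
  have hg : f ^ (k' + k + 1) ∈ I := by
    rw [hI, Submodule.mem_colon_singleton, pow_succ, mul_comm, mul_smul, pow_add, hk', ← mul_smul]
    exact Submodule.smul_mem _ _ (Submodule.subset_span ⟨j, rfl⟩)
  refine Opens.mem_iSup.mpr ⟨⟨f ^ (k' + k + 1), hg⟩, ?_⟩
  rw [X.basicOpen_pow f (Nat.succ_pos _)]
  exact hxf

end Groth.Agent.H2.PUP
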