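import Groth.Agent.Lib.Helper2.ProjUPO
import Groth.Agent.Lib.Helper2.ProjUPN
import Groth.Agent.Lib.Helper2.ProjUPM
import Groth.Agent.Lib.Lead.QC.LocFree3
import Mathlib.RingTheory.Flat.EquationalCriterion

/-! # The module of relations of a section of projective space: the quotient is invertible. -/

set_option linter.style.haveILetI false

universe u
open CategoryTheory CategoryTheory.Limits AlgebraicGeometry HomogeneousLocalization Opposite
  TopologicalSpace

namespace Groth.Agent.H2.PUP

open Groth.Agent.LD Twist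

variable (n : ℕ) (R : Type u) [CommRing R]
  (s : Spec (CommRingCat.of R) ⟶ CohB1.ProjSpace n R)

/-- the pullback of `O(1)` along a section. -/
noncomputable abbrev Ls : (Spec (CommRingCat.of R)).Modules :=
  (Scheme.Modules.pullback s).obj (Twist.twistProjSpace n R 1)

lemma isInvertible_Ls : PicF.IsInvertible (Ls n R s) :=
  QC.isInvertible_pullback s (isInvertible_twist (CohB1.polyGrading n R) (ιPn n R) (ιPn_mem n R)
    (isSymmetricAlgebra_ιPn n R) 1)

/-- the linear map `R^{n+1} → Γ(s^*O(1))`. -/
noncomputable def φs :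
    letI := modΓ (Ls n R s)
    (Fin (n + 1) → R) →ₗ[R] ProjUP.Γm (Ls n R s) :=
  letI := modΓ (Ls n R s)
  Fintype.linearCombination R (fun i => pC n R s i)

lemma secKernel_eq :
    letI := modΓ (Ls n R s)
    ProjUP.secKernel n R s = LinearMap.ker (φs n R s) := rfl

lemma φs_apply (c : Fin (n + 1) → R) :
    φs n R s c = ∑ i, eΓ R (c i) • pC n R s i := by
  letI := modΓ (Ls n R s)
  rw [φs, Fintype.linearCombination_apply]
  rfl

lemma φs_surjective : Function.Surjective (φs n R s) := by
  intro σ
  have h := span_pT_eq_top (CohB1.polyGrading n R) (ιPn n R) (ιPn_mem n R)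
    (isSymmetricAlgebra_ιPn n R) s (fun i : Fin (n + 1) => (Pi.single i 1 : Fin (n + 1) → R))
    (span_single n R)
  have h2 : (fun j : Fin (n + 1) => pT (CohB1.polyGrading n R) (ιPn n R) (ιPn_mem n R) s
      (Pi.single j 1)) = fun j => pC n R s j := by
    funext j
    rw [pT, sec1_single]
    rfl
  rw [h2] at h
  have hσ : σ ∈ Submodule.span Γ(Spec (CommRingCat.of R), ⊤) (Set.range fun j => pC n R s j) := by
    exact h.ge (Submodule.mem_top (x := σ))
  obtain ⟨c, hc⟩ := (Submodule.mem_span_range_iff_exists_fun _).mp hσ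
  refine ⟨fun i => (eΓ R).symm (c i), ?_⟩
  rw [φs_apply, ← hc]
  refine Finset.sum_congr rfl fun i _ => ?_
  rw [RingEquiv.apply_symm_apply]

/-- the quotient by the module of relations is the module of global sections of `s^*O(1)`. -/
noncomputable def quotEquiv (F : Submodule R (Fin (n + 1) → R))
    (h : ProjUP.secKernel n R s = F) :
    letI := modΓ (Ls n R s)
    ((Fin (n + 1) → R) ⧸ F) ≃ₗ[R] ProjUP.Γm (Ls n R s) :=
  letI := modΓ (Ls n R s)
  (Submodule.quotEquivOfEq F (LinearMap.ker (φs n R s)) (h.symm.trans (secKernel_eq n R s))).trans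
    ((φs n R s).quotKerEquivOfSurjective (φs_surjective n R s))

/-- projectivity of the global sections over `R`. -/
lemma projective_Γm_Ls :
    letI := modΓ (Ls n R s)
    Module.Projective R (ProjUP.Γm (Ls n R s)) := by
  letI := modΓ (Ls n R s)
  have hL := isInvertible_Ls n R s
  haveI := QC.qc_of_isInvertible _ hL
  obtain ⟨hfp, hfl⟩ := (QC.isFinLocFree_iff_sections (Ls n R s)).mp
    (QC.isFinLocFree_of_isInvertible _ hL) ⊤ (isAffineOpen_top _)
  haveI : Module.Projective Γ(Spec (CommRingCat.of R), ⊤) Γ(Ls n R s, ⊤) :=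
    Module.Flat.projective_of_finitePresentation
  letI := RingHomInvPair.of_ringEquiv (eΓ R).symm
  letI := RingHomInvPair.of_ringEquiv_symm (eΓ R).symm
  let e₂ : Γ(Ls n R s, ⊤) ≃ₛₗ[((eΓ R).symm : Γ(Spec (CommRingCat.of R), ⊤) →+* R)]
      ProjUP.Γm (Ls n R s) :=
    { AddEquiv.refl _ with
      map_smul' := fun a m => by
        change a • m = eΓ R ((eΓ R).symm a) • m
        rw [RingEquiv.apply_symm_apply] }
  exact Module.Projective.of_equiv e₂

/-- **the quotient of `R^{n+1}` by the module of relations of a section is invertible.** -/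
theorem projective_and_rank_of_section (F : Submodule R (Fin (n + 1) → R))
    (h : ProjUP.secKernel n R s = F) :
    Module.Projective R ((Fin (n + 1) → R) ⧸ F) ∧
      ∀ p : PrimeSpectrum R, Module.finrank (Localization.AtPrime p.asIdeal)
        (LocalizedModule p.asIdeal.primeCompl ((Fin (n + 1) → R) ⧸ F)) = 1 := by
  letI := modΓ (Ls n R s)
  have hL := isInvertible_Ls n R s
  haveI := QC.qc_of_isInvertible _ hL
  refine ⟨?_, fun p => ?_⟩
  · haveI := projective_Γm_Ls n R s
    exact Module.Projective.of_equiv' (quotEquiv n R s F h).symm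
  · have h1 := finrank_stalk_eq (Ls n R s) (quotEquiv n R s F h) p
    rw [← h1]
    exact QC.finrank_stalk_of_isFinLocFreeOfRank 1 _ ((QC.isInvertible_iff _).mp hL) p

end Groth.Agent.H2.PUP
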