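import Groth.Agent.Lib.Helper2.ProjUPP
import Groth.Agent.Lib.Helper2.ProjUPK
import Groth.Agent.Lib.Lead.GS.TildeLF

/-! # Invertible quotients of `R^{n+1}` come from sections of projective space. -/

set_option linter.style.haveILetI false

universe u
open CategoryTheory CategoryTheory.Limits AlgebraicGeometry HomogeneousLocalization Opposite
  TopologicalSpace

namespace Groth.Agent.H2.PUP

open Groth.Agent.LD Twist

variable {R : Type u} [CommRing R] (Q : Type u) [AddCommGroup Q] [Module R Q]

/-- the module on `Spec R` attached to `Q`. -/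
noncomputable abbrev tL : (Spec (CommRingCat.of R)).Modules :=
  tilde (R := CommRingCat.of R) (ModuleCat.of R Q)

/-- `Q` is the module of global sections of `Q^~`. -/
noncomputable def θQ :
    letI := modΓ (tL (R := R) Q)
    Q ≃ₗ[R] ProjUP.Γm (tL (R := R) Q) :=
  letI := modΓ (tL (R := R) Q)
  let ψ := (tilde.isoTop (R := CommRingCat.of R) (ModuleCat.of R Q)).toLinearEquiv
  { toFun := fun q => (show ProjUP.Γm (tL (R := R) Q) from ψ q)
    invFun := fun m => ψ.symm m
    left_inv := fun q => ψ.symm_apply_apply q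
    right_inv := fun m => ψ.apply_symm_apply m
    map_add' := fun a b => map_add ψ a b
    map_smul' := fun r q => map_smul ψ r q }

/-- a finite projective module of rank one everywhere gives an invertible module on `Spec R`. -/
theorem isInvertible_tL [Module.Finite R Q] [Module.Projective R Q]
    (hrank : ∀ p : PrimeSpectrum R, Module.finrank (Localization.AtPrime p.asIdeal)
      (LocalizedModule p.asIdeal.primeCompl Q) = 1) :
    PicF.IsInvertible (tL (R := R) Q) := by
  letI := modΓ (tL (R := R) Q)
  have hflf : FlatMod.IsFinLocFree (tL (R := R) Q) :=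
    (GS.isFinLocFree_tilde_iff (R := CommRingCat.of R) (ModuleCat.of R Q)).mpr
      ⟨inferInstanceAs (Module.Finite R Q), inferInstanceAs (Module.Projective R Q)⟩
  rw [QC.isInvertible_iff]
  intro x
  obtain ⟨U, k, hU, hxU, ⟨ℓ⟩⟩ := (QC.isFinLocFree_iff (tL (R := R) Q)).mp hflf x
  have h1 := QC.finrank_stalk_of_sections_equiv (tL (R := R) Q) hU k ℓ x hxU
  rw [finrank_stalk_eq (tL (R := R) Q) (θQ Q) x, hrank] at h1
  subst h1
  obtain ⟨e⟩ := (QC.restrict_fromSpec_iso_freeMod_iff (tL (R := R) Q) hU 1).mpr ⟨ℓ⟩
  exact ⟨U, hxU, QC.freeMod_of_range_subset (tL (R := R) Q) hU.fromSpec U.ι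
    (QC.range_ι_subset_range_fromSpec hU) 1 e⟩

end Groth.Agent.H2.PUP
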