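import Groth.Agent.Lib.Lead.QC.Stalk
import Groth.Prelude.Def_ProjUP

/-! # On an affine scheme, sections spanning the global sections generate the module. -/

set_option linter.style.haveILetI false

universe u
open CategoryTheory CategoryTheory.Limits AlgebraicGeometry Opposite TopologicalSpace

namespace Groth.Agent.H2.PUP

open Groth.Agent.LD Groth.Agent.LD.QC

attribute [-instance] Groth.Agent.LD.QC.stalkModule

variable {X : Scheme.{u}}

/-- on an affine scheme, a family of global sections spanning the module of global sections of a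
quasi-coherent module generates it. -/
theorem generatedBy_of_span_eq_top [IsAffine X] (L : X.Modules) [L.IsQuasicoherent] {J : Type*}
    (σ : J → ProjUP.Γm L) (hσ : Submodule.span Γ(X, ⊤) (Set.range σ) = ⊤) :
    ProjUP.GeneratedBy L σ := by
  intro x
  have hU : IsAffineOpen (⊤ : X.Opens) := isAffineOpen_top X
  have hx : x ∈ (⊤ : X.Opens) := trivial
  rw [eq_top_iff]
  intro y _
  -- germs of global sections lie in the span
  have key : ∀ m : Γ(L, ⊤), L.presheaf.germ ⊤ x hx m ∈ Submodule.span (X.presheaf.stalk x)
      (Set.range fun i => (L.presheaf.germ ⊤ x trivial).hom (σ i)) := by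
    intro m
    have hm : m ∈ Submodule.span Γ(X, ⊤) (Set.range σ) := hσ ▸ Submodule.mem_top
    induction hm using Submodule.span_induction with
    | mem m hm =>
      obtain ⟨j, rfl⟩ := hm
      exact Submodule.subset_span ⟨j, rfl⟩
    | zero =>
      rw [map_zero]
      exact zero_mem _
    | add a b _ _ ha hb =>
      rw [map_add]
      exact add_mem ha hb
    | smul r a _ ha =>
      rw [germ_smul]
      exact Submodule.smul_mem _ _ ha
  letI := stalkΓModule L x ⊤ hx
  haveI := isLocalizedModule_germ L hU x hx
  obtain ⟨⟨m, s'⟩, h⟩ := IsLocalizedModule.surj (hU.primeIdealOf ⟨x, hx⟩).asIdeal.primeCompl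
    (germLinear L x ⊤ hx) y
  obtain ⟨u, hu⟩ := isUnit_germ_of_notMem hU x hx s'.1 s'.2
  have h' : (u : X.presheaf.stalk x) • y = L.presheaf.germ ⊤ x hx m := by
    rw [hu]
    exact h
  have hy : y = (↑u⁻¹ : X.presheaf.stalk x) • L.presheaf.germ ⊤ x hx m := by
    rw [← h', smul_smul, Units.inv_mul, one_smul]
  rw [hy]
  exact Submodule.smul_mem _ _ (key m)

end Groth.Agent.H2.PUP
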