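import Groth.Agent.Lib.Helper2.ProjUPQ
import Groth.Agent.Lib.Helper2.ProjUPR

/-! # The image of the correspondence between sections of projective space and submodules. -/

set_option linter.style.haveILetI false

universe u
open CategoryTheory CategoryTheory.Limits AlgebraicGeometry HomogeneousLocalization Opposite
  TopologicalSpace

namespace Groth.Agent.H2.PUP

open Groth.Agent.LD Twist

variable (n : ℕ) {R : Type u} [CommRing R] (F : Submodule R (Fin (n + 1) → R))

/-- the sections of `(R^{n+1}/F)^~` given by the images of the basis vectors. -/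
noncomputable def σF (i : Fin (n + 1)) : ProjUP.Γm (tL (R := R) ((Fin (n + 1) → R) ⧸ F)) :=
  θQ ((Fin (n + 1) → R) ⧸ F) (F.mkQ (Pi.single i 1))

lemma θQ_mkQ (c : Fin (n + 1) → R) :
    θQ ((Fin (n + 1) → R) ⧸ F) (F.mkQ c) = ∑ i, eΓ R (c i) • σF n F i := by
  letI := modΓ (tL (R := R) ((Fin (n + 1) → R) ⧸ F))
  have hc : c = ∑ i, c i • (Pi.single i 1 : Fin (n + 1) → R) := by
    ext j
    simp [Finset.sum_apply, Pi.single_apply]
  conv_lhs => rw [hc]
  rw [map_sum, map_sum]
  refine Finset.sum_congr rfl fun i _ => ?_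
  rw [map_smul, map_smul]
  rfl

lemma span_σF : Submodule.span Γ(Spec (CommRingCat.of R), ⊤) (Set.range (σF n F)) = ⊤ := by
  rw [eq_top_iff]
  intro m _
  obtain ⟨q, rfl⟩ := (θQ ((Fin (n + 1) → R) ⧸ F)).surjective m
  obtain ⟨c, rfl⟩ := F.mkQ_surjective q
  rw [θQ_mkQ]
  exact Submodule.sum_mem _ fun i _ => Submodule.smul_mem _ _ (Submodule.subset_span ⟨i, rfl⟩)

/-- **an invertible quotient of `R^{n+1}` is the quotient by the module of relations of a
section of projective space.** -/
theorem exists_section_of_invertible [Module.Projective R ((Fin (n + 1) → R) ⧸ F)]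
    (hrank : ∀ p : PrimeSpectrum R, Module.finrank (Localization.AtPrime p.asIdeal)
      (LocalizedModule p.asIdeal.primeCompl ((Fin (n + 1) → R) ⧸ F)) = 1) :
    ∃ s : Spec (CommRingCat.of R) ⟶ CohB1.ProjSpace n R,
      s ≫ CohB1.ProjSpace.toSpec n R = 𝟙 _ ∧ ProjUP.secKernel n R s = F := by
  set Q := (Fin (n + 1) → R) ⧸ F with hQ
  have hL : PicF.IsInvertible (tL (R := R) Q) := isInvertible_tL Q hrank
  have hgen : ProjUP.GeneratedBy (tL (R := R) Q) (σF n F) :=
    generatedBy_of_span_eq_top (tL (R := R) Q) (σF n F) (span_σF n F)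
  obtain ⟨r, hr, τ, hτ⟩ := exists_hom_iso_Pn n (𝟙 _) (tL (R := R) Q) (σF n F) hL hgen
  refine ⟨r, hr, ?_⟩
  ext c
  rw [mem_secKernel_iff]
  have hinj : Function.Injective (τ.hom.app ⊤) := (QC.app_bijective_of_isIso τ.hom ⊤).1
  have h1 : τ.hom.app ⊤ (∑ i, (Scheme.ΓSpecIso (CommRingCat.of R)).inv.hom (c i) • pC n R r i) =
      θQ Q (F.mkQ c) := by
    rw [θQ_mkQ, map_sum]
    refine Finset.sum_congr rfl fun i _ => ?_
    rw [Scheme.Modules.Hom.app_smul, hτ i]
    rfl
  constructor
  · intro h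
    rw [h, map_zero] at h1
    have h2 := (θQ Q).injective (h1.symm.trans (map_zero _).symm)
    exact (Submodule.Quotient.mk_eq_zero F).mp h2
  · intro h
    apply hinj
    rw [h1, map_zero]
    have h2 : F.mkQ c = 0 := (Submodule.Quotient.mk_eq_zero F).mpr h
    rw [h2, map_zero]

end Groth.Agent.H2.PUP
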