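import Mathlib
import Groth.Agent.Lib.Helper2.PropIntB

set_option autoImplicit false
set_option linter.style.haveILetI false
universe u
open CategoryTheory CategoryTheory.Limits AlgebraicGeometry MorphismProperty TopologicalSpace

namespace Groth.Agent.H2.PropInt

/-- Local form of condition (C), affine case: if the fibre of the integral morphism `f` through
`G u` is the single point `G u`, there are an étale neighbourhood `V` of `f (G u)` and an
`X`-morphism `X ×_Y V ⟶ U` whose image contains `u`. -/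
theorem keyIntC {X Y U : Scheme.{u}} [IsAffine Y] [IsAffine U] (f : X ⟶ Y) [IsIntegralHom f]
    (G : U ⟶ X) [Etale G] (u : U) (hu : ∀ p : X, f p = f (G u) → p = G u) :
    ∃ (V : Scheme.{u}) (e : V ⟶ Y) (_ : Etale e) (h : pullback f e ⟶ U),
      h ≫ G = pullback.fst f e ∧ u ∈ Set.range h := by
  obtain ⟨X', U', f', a, G', c, hfin, hEt, hU'aff, ha, hU, hasurj⟩ := descend f G
  haveI := hfin
  haveI := hEt
  haveI := hU'aff
  haveI : IsSeparated (G' ≫ f') := inferInstance
  have hGa : ∀ z : U, G' (c z) = a (G z) := by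
    intro z
    rw [← Scheme.Hom.comp_apply, hU.w, Scheme.Hom.comp_apply]
  have hfa : ∀ p : X, f' (a p) = f p := by
    intro p
    rw [← Scheme.Hom.comp_apply, ha]
  obtain ⟨V, e, v, he, hev, h', hh', hpt⟩ := keyFin f' G' (f (G u)) (fun _ : Unit => c u)
    (Function.injective_of_subsingleton _) (fun _ => by rw [hGa, hfa])
    (fun p' hp' => by
      obtain ⟨p, rfl⟩ := hasurj p'
      rw [hfa] at hp'
      exact ⟨(), by rw [hGa, hu p hp']⟩)
  obtain ⟨h, hh, hpt'⟩ := transfer f f' a ha G G' c hU e h' hh'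
  have hy : f' (G' (c u)) = e v := by rw [hGa, hfa, hev]
  obtain ⟨q', hq'1, hq'2⟩ := Scheme.Pullback.exists_preimage_pullback (f := f') (g := e) _ _ hy
  obtain ⟨q, hq, -⟩ := hpt' u q' (hpt () q' hq'2 hq'1)
  exact ⟨V, e, he, h, hh, q, hq⟩

/-- Condition (C) for integral morphisms which are injective on points. -/
theorem propC_of_integral {X Y : Scheme.{u}} (f : X ⟶ Y) [IsIntegralHom f]
    (hf : Function.Injective f) : BigSite.PropC f := by
  intro U g _
  -- local data
  have key : ∀ u : U, ∃ (V : Scheme.{u}) (ε : V ⟶ Y) (_ : Etale ε) (h : pullback f ε ⟶ U),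
      h ≫ g = pullback.fst f ε ∧ u ∈ Set.range h := by
    intro u
    obtain ⟨Y₁, hY₁aff, hyY₁, -⟩ :=
      exists_isAffineOpen_mem_and_subset (x := f (g u)) (U := (⊤ : Y.Opens)) trivial
    let X₁ : X.Opens := f ⁻¹ᵁ Y₁
    obtain ⟨U₁, hU₁aff, huU₁, hU₁le⟩ :=
      exists_isAffineOpen_mem_and_subset (x := u) (U := g ⁻¹ᵁ X₁) hyY₁
    haveI : IsAffine (Y₁ : Scheme.{u}) := hY₁aff
    haveI : IsAffine (U₁ : Scheme.{u}) := hU₁aff
    let f₁ : (X₁ : Scheme.{u}) ⟶ (Y₁ : Scheme.{u}) := f ∣_ Y₁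
    let g₁ : (U₁ : Scheme.{u}) ⟶ (X₁ : Scheme.{u}) := g.resLE X₁ U₁ hU₁le
    have hg₁ : g₁ ≫ X₁.ι = U₁.ι ≫ g := Scheme.Hom.resLE_comp_ι _ _
    have hf₁ : f₁ ≫ Y₁.ι = X₁.ι ≫ f := morphismRestrict_ι f Y₁
    let u₁ : ↥U₁ := ⟨u, huU₁⟩
    have hu₁ : ∀ p : ↥X₁, f₁ p = f₁ (g₁ u₁) → p = g₁ u₁ := by
      intro p hp
      apply X₁.ι.injective
      apply hf
      have h1 := congrArg (fun z => Y₁.ι z) hp
      simp only at h1
      rw [← Scheme.Hom.comp_apply, ← Scheme.Hom.comp_apply, hf₁, Scheme.Hom.comp_apply,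
        Scheme.Hom.comp_apply] at h1
      exact h1
    obtain ⟨V, e, he, h₁, hh₁, w₁, hw₁⟩ := keyIntC f₁ g₁ u₁ hu₁
    haveI := he
    have hpb := isPullback_restrict f Y₁ e
    let θ : pullback f₁ e ≅ pullback f (e ≫ Y₁.ι) := hpb.isoPullback
    have hθ1 : θ.hom ≫ pullback.fst f (e ≫ Y₁.ι) = pullback.fst f₁ e ≫ X₁.ι :=
      hpb.isoPullback_hom_fst
    refine ⟨V, e ≫ Y₁.ι, inferInstance, θ.inv ≫ h₁ ≫ U₁.ι, ?_, ?_⟩
    · simp only [Category.assoc]
      rw [← hg₁, reassoc_of% hh₁, ← hθ1, Iso.inv_hom_id_assoc]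
    · refine ⟨θ.hom w₁, ?_⟩
      change (θ.inv ≫ h₁ ≫ U₁.ι) (θ.hom w₁) = u
      rw [← Scheme.Hom.comp_apply, Iso.hom_inv_id_assoc, Scheme.Hom.comp_apply, hw₁]
      rfl
  choose V ε hε h hh hu using key
  haveI := hε
  -- the coproduct
  let E : (∐ V) ⟶ Y := Sigma.desc ε
  haveI : Etale E := IsZariskiLocalAtSource.sigmaDesc (P := @Etale) (fun u => hε u)
  have hιE : ∀ u, Sigma.ι V u ≫ E = ε u := fun u => Sigma.ι_desc _ _
  have key' : ∀ u : U, ∃ h' : pullback f (Sigma.ι V u ≫ E) ⟶ U,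
      h' ≫ g = pullback.fst f (Sigma.ι V u ≫ E) ∧ u ∈ Set.range h' := by
    intro u
    rw [hιE u]
    exact ⟨h u, hh u, hu u⟩
  choose h' hh' hu' using key'
  let 𝒰 : (∐ V).OpenCover := sigmaOpenCover V
  let 𝒲 : (pullback f E).OpenCover := Scheme.Pullback.openCoverOfRight 𝒰 f E
  let j : ∀ u : U, pullback f (Sigma.ι V u ≫ E) ⟶ pullback f E := fun u =>
    pullback.map f (Sigma.ι V u ≫ E) f E (𝟙 X) (Sigma.ι V u) (𝟙 Y) (by simp) (Category.comp_id _)
  have hj𝒲 : ∀ u : U, 𝒲.f u = j u := fun u => rfl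
  have hjfst : ∀ u : U, j u ≫ pullback.fst f E = pullback.fst f (Sigma.ι V u ≫ E) := by
    intro u
    exact (pullback.lift_fst _ _ _).trans (Category.comp_id _)
  have hjsnd : ∀ u : U, j u ≫ pullback.snd f E =
      pullback.snd f (Sigma.ι V u ≫ E) ≫ Sigma.ι V u := by
    intro u
    exact pullback.lift_snd _ _ _
  haveI : ∀ u : U, Mono (j u) := fun u => by
    haveI : IsOpenImmersion (j u) := 𝒲.map_prop u
    infer_instance
  have hc : ∀ k l : U, pullback.fst (j k) (j l) ≫ h' k =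
      pullback.snd (j k) (j l) ≫ h' l := by
    intro k l
    by_cases hkl : k = l
    · subst hkl
      have : pullback.fst (j k) (j k) = pullback.snd (j k) (j k) := by
        rw [← cancel_mono (j k)]
        exact pullback.condition
      rw [this]
    · haveI : IsEmpty ↥(pullback (j k) (j l)) := by
        constructor
        intro z
        have h1 : (pullback.fst (j k) (j l) ≫ j k ≫ pullback.snd f E) z =
            (pullback.snd (j k) (j l) ≫ j l ≫ pullback.snd f E) z := by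
          rw [← Category.assoc, pullback.condition, Category.assoc]
        rw [hjsnd, hjsnd] at h1
        have h2 := disjoint_opensRange_sigmaι V k l hkl
        have h3 : Disjoint (Set.range (Sigma.ι V k)) (Set.range (Sigma.ι V l)) := by
          have := h2
          rw [disjoint_iff] at this ⊢
          have h4 := congrArg (fun W : (∐ V).Opens => (W : Set ↥(∐ V))) this
          simpa using h4
        refine Set.disjoint_left.mp h3
          ⟨(pullback.snd f (Sigma.ι V k ≫ E)) (pullback.fst (j k) (j l) z), ?_⟩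
          ⟨(pullback.snd f (Sigma.ι V l ≫ E)) (pullback.snd (j k) (j l) z), rfl⟩
        exact h1
      exact (isInitialOfIsEmpty).hom_ext _ _
  let H : pullback f E ⟶ U := 𝒲.glueMorphisms h' hc
  have hH : ∀ u : U, j u ≫ H = h' u := fun u => 𝒲.ι_glueMorphisms h' hc u
  refine ⟨∐ V, E, inferInstance, H, ?_, ⟨?_⟩⟩
  · apply 𝒲.hom_ext
    intro (u : U)
    change j u ≫ H ≫ g = j u ≫ pullback.fst f E
    rw [← Category.assoc, hH u, hh' u]
    exact (hjfst u).symm
  · intro u
    obtain ⟨w, hw⟩ := hu' u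
    refine ⟨j u w, ?_⟩
    rw [← Scheme.Hom.comp_apply, hH u]
    exact hw

end Groth.Agent.H2.PropInt
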