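import Mathlib.AlgebraicGeometry.Morphisms.Proper
import Mathlib.AlgebraicGeometry.PullbackCarrier

/-! Universal closedness / properness can be checked on a finite jointly surjective family. -/

universe u

namespace Groth.Agent.H2

open AlgebraicGeometry CategoryTheory Limits

theorem universallyClosed_of_finite_jointly_surjective {X Y : Scheme.{u}} (f : X ⟶ Y)
    {ι : Type*} [Finite ι] (Xi : ι → Scheme.{u}) (j : ∀ i, Xi i ⟶ X)
    (hcov : ∀ x : X, ∃ i, x ∈ Set.range (j i)) (h : ∀ i, UniversallyClosed (j i ≫ f)) :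
    UniversallyClosed f := by
  constructor
  intro X' Y' i₁ i₂ f' H
  have hcl : ∀ k, IsClosedMap (pullback.fst i₁ (j k) ≫ f') := fun k =>
    (h k).universally_isClosedMap _ _ _ ((IsPullback.of_hasPullback i₁ (j k)).paste_horiz H)
  intro Z hZ
  have : f' '' Z = ⋃ k, (pullback.fst i₁ (j k) ≫ f') '' ((pullback.fst i₁ (j k)) ⁻¹' Z) := by
    ext y
    simp only [Set.mem_image, Set.mem_iUnion, Set.mem_preimage]
    constructor
    · rintro ⟨x, hxZ, rfl⟩
      obtain ⟨k, hk⟩ := hcov (i₁ x)
      have : x ∈ Set.range (pullback.fst i₁ (j k)) := by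
        rw [Scheme.Pullback.range_fst]; exact hk
      obtain ⟨w, rfl⟩ := this
      exact ⟨k, w, hxZ, by rw [Scheme.Hom.comp_apply]⟩
    · rintro ⟨k, w, hwZ, rfl⟩
      exact ⟨pullback.fst i₁ (j k) w, hwZ, by rw [Scheme.Hom.comp_apply]⟩
  rw [this]
  exact isClosed_iUnion_of_finite fun k =>
    hcl k _ (hZ.preimage (pullback.fst i₁ (j k)).continuous)

theorem isProper_iff_of_finite_closed_cover {X Y : Scheme.{u}} (f : X ⟶ Y) [IsSeparated f]
    [LocallyOfFiniteType f]
    (ι : Type*) [Finite ι] (Xi Yi : ι → Scheme.{u}) (j : ∀ i, Xi i ⟶ X) (h : ∀ i, Yi i ⟶ Y)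
    (fi : ∀ i, Xi i ⟶ Yi i)
    [∀ i, IsClosedImmersion (j i)] [∀ i, IsClosedImmersion (h i)]
    (hcomm : ∀ i, j i ≫ f = fi i ≫ h i)
    (hcov : ∀ x : X, ∃ i, x ∈ Set.range (j i)) : IsProper f ↔ ∀ i, IsProper (fi i) := by
  constructor
  · intro hf i
    have : IsProper (fi i ≫ h i) := by rw [← hcomm i]; infer_instance
    exact IsProper.of_comp (fi i) (h i)
  · intro hfi
    have huc : UniversallyClosed f := by
      refine universallyClosed_of_finite_jointly_surjective f Xi j hcov fun i => ?_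
      have := hfi i
      rw [hcomm i]
      infer_instance
    exact { }

end Groth.Agent.H2
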