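import Mathlib

/-!
The field `k^{p^{-e}}` inside an algebraically closed field and separability of the compositum.
-/

namespace Groth.Agent.H2.PthRoot

open Polynomial

universe u

section general

variable {A B Ω : Type*} [CommRing A] [CommRing B] [CommRing Ω] (p : ℕ) [Fact p.Prime] [CharP Ω p]
  (e : ℕ) (ιA : A →+* Ω) (ιB : B →+* Ω) (φ : A →+* B)

theorem eval₂_pow (hφ : ∀ y, ιB (φ y) = ιA y ^ p ^ e) (g : A[X]) (z : Ω) :
    (eval₂ ιA z g) ^ p ^ e = eval₂ ιB (z ^ p ^ e) (g.map φ) := by
  rw [eval₂_map, eval₂_eq_sum_range, eval₂_eq_sum_range, sum_pow_char_pow]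
  apply Finset.sum_congr rfl
  intro i _
  rw [mul_pow, RingHom.comp_apply, hφ, ← pow_mul, ← pow_mul, mul_comm i]

end general

variable {k : Type u} [Field k] (p : ℕ) [Fact p.Prime] [CharP k p]
  {Ω : Type u} [Field Ω] [Algebra k Ω] (e : ℕ)

/-- the field of `p^e`-th roots of elements of `k` -/
abbrev Lf : IntermediateField k Ω :=
  IntermediateField.adjoin k {y : Ω | y ^ (p ^ e) ∈ Set.range (algebraMap k Ω)}

theorem charP_Ω (k : Type u) [Field k] (p : ℕ) [CharP k p] (Ω : Type u) [Field Ω] [Algebra k Ω] :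
    CharP Ω p := charP_of_injective_algebraMap (algebraMap k Ω).injective p

theorem mem_Lf (y : Ω) (hy : y ∈ Lf (k := k) p e) : y ^ (p ^ e) ∈ Set.range (algebraMap k Ω) := by
  have : CharP Ω p := charP_Ω k p Ω
  induction hy using IntermediateField.adjoin_induction with
  | mem x hx => exact hx
  | algebraMap x => exact ⟨x ^ p ^ e, by rw [map_pow]⟩
  | add x y _ _ hx hy =>
    obtain ⟨a, ha⟩ := hx
    obtain ⟨b, hb⟩ := hy
    exact ⟨a + b, by rw [map_add, ha, hb, add_pow_char_pow]⟩
  | inv x _ hx =>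
    obtain ⟨a, ha⟩ := hx
    exact ⟨a⁻¹, by rw [map_inv₀, ha, inv_pow]⟩
  | mul x y _ _ hx hy =>
    obtain ⟨a, ha⟩ := hx
    obtain ⟨b, hb⟩ := hy
    exact ⟨a * b, by rw [map_mul, ha, hb, mul_pow]⟩

/-- the `p^e`-power map `L → k` -/
noncomputable def phiFun (y : Lf (k := k) (Ω := Ω) p e) : k := Classical.choose (mem_Lf p e y.1 y.2)

theorem phiFun_spec (y : Lf (k := k) (Ω := Ω) p e) :
    algebraMap k Ω (phiFun p e y) = (y : Ω) ^ p ^ e :=
  Classical.choose_spec (mem_Lf p e y.1 y.2)

noncomputable def phi : Lf (k := k) (Ω := Ω) p e →+* k where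
  toFun := phiFun p e
  map_one' := by
    apply (algebraMap k Ω).injective
    rw [phiFun_spec]; simp
  map_mul' x y := by
    apply (algebraMap k Ω).injective
    rw [map_mul, phiFun_spec, phiFun_spec, phiFun_spec]; simp [mul_pow]
  map_zero' := by
    apply (algebraMap k Ω).injective
    rw [phiFun_spec, map_zero, ZeroMemClass.coe_zero,
      zero_pow (pow_ne_zero e (Fact.out : p.Prime).ne_zero)]
  map_add' x y := by
    have : CharP Ω p := charP_Ω k p Ω
    apply (algebraMap k Ω).injective
    rw [map_add, phiFun_spec, phiFun_spec, phiFun_spec]; simp [add_pow_char_pow]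

theorem phi_spec (y : Lf (k := k) (Ω := Ω) p e) :
    algebraMap k Ω (phi p e y) = (y : Ω) ^ p ^ e := phiFun_spec p e y

theorem phi_bijective [IsAlgClosed Ω] : Function.Bijective (phi (k := k) (Ω := Ω) p e) := by
  have : CharP Ω p := charP_Ω k p Ω
  constructor
  · exact (phi (k := k) (Ω := Ω) p e).injective
  · intro c
    obtain ⟨y, hy⟩ := IsAlgClosed.exists_pow_nat_eq (algebraMap k Ω c)
      (Nat.pos_of_ne_zero (pow_ne_zero e (Fact.out : p.Prime).ne_zero))
    have hyL : y ∈ Lf (k := k) p e := IntermediateField.subset_adjoin _ _ ⟨c, hy.symm⟩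
    refine ⟨⟨y, hyL⟩, ?_⟩
    apply (algebraMap k Ω).injective
    rw [phi_spec, hy]

/-- the ring isomorphism `L ≃ k` -/
noncomputable def phiEquiv [IsAlgClosed Ω] : Lf (k := k) (Ω := Ω) p e ≃+* k :=
  RingEquiv.ofBijective (phi p e) (phi_bijective p e)

theorem aeval_pow (g : (Lf (k := k) (Ω := Ω) p e)[X]) (z : Ω) :
    (aeval z g) ^ p ^ e = aeval (z ^ p ^ e) (g.map (phi p e)) := by
  have : CharP Ω p := charP_Ω k p Ω
  rw [aeval_def, aeval_def]
  exact eval₂_pow p e _ _ (phi p e) (phi_spec p e) g z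

variable {K : Type u} [Field K] [Algebra k K] [Algebra K Ω] [IsScalarTower k K Ω]

theorem main [IsAlgClosed Ω] :
    (∀ x : Ω, x ∈ IntermediateField.adjoin k {y : Ω | y ^ (p ^ e) ∈ Set.range (algebraMap k Ω)} ⊔
        IntermediateField.adjoin k (Set.range (algebraMap K Ω)) →
      IsSeparable (IntermediateField.adjoin k {y : Ω | y ^ (p ^ e) ∈ Set.range (algebraMap k Ω)}) x) ↔
    ∀ x : K, x ^ (p ^ e) ∈ separableClosure k K := by
  have : CharP Ω p := charP_Ω k p Ω
  constructor
  · intro h x
    rw [mem_separableClosure_iff]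
    set z : Ω := algebraMap K Ω x with hz
    have hzmem : z ∈ Lf (k := k) p e ⊔ IntermediateField.adjoin k (Set.range (algebraMap K Ω)) :=
      (le_sup_right : _ ≤ Lf (k := k) p e ⊔ _) (IntermediateField.subset_adjoin _ _ ⟨x, rfl⟩)
    have hsep : IsSeparable (Lf (k := k) (Ω := Ω) p e) z := h z hzmem
    set g := minpoly (Lf (k := k) (Ω := Ω) p e) z with hg
    have hgsep : g.Separable := hsep
    have hfsep : (g.map (phi p e)).Separable := hgsep.map
    have hroot : aeval (z ^ p ^ e) (g.map (phi p e)) = 0 := by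
      rw [← aeval_pow, hg, minpoly.aeval, zero_pow]
      exact pow_ne_zero e (Fact.out : p.Prime).ne_zero
    have hroot' : aeval (x ^ p ^ e) (g.map (phi p e)) = 0 := by
      apply (algebraMap K Ω).injective
      rw [map_zero, ← aeval_algebraMap_apply, map_pow]
      exact hroot
    exact hfsep.of_dvd (minpoly.dvd k _ hroot')
  · intro h
    have key : ∀ x : K, IsSeparable (Lf (k := k) (Ω := Ω) p e) (algebraMap K Ω x) := by
      intro x
      have hs : IsSeparable k (x ^ p ^ e) := mem_separableClosure_iff.mp (h x)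
      set f := minpoly k (x ^ p ^ e) with hf
      have hfsep : f.Separable := hs
      set g := f.map ((phiEquiv (k := k) (Ω := Ω) p e).symm : k →+* Lf (k := k) (Ω := Ω) p e) with hg
      have hgsep : g.Separable := hfsep.map
      have hgf : g.map (phi p e) = f := by
        rw [hg, Polynomial.map_map]
        have : (phi (k := k) (Ω := Ω) p e).comp
            ((phiEquiv (k := k) (Ω := Ω) p e).symm : k →+* Lf (k := k) (Ω := Ω) p e) = RingHom.id k := by
          ext c
          exact (phiEquiv (k := k) (Ω := Ω) p e).apply_symm_apply c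
        rw [this, Polynomial.map_id]
      have hroot : aeval (algebraMap K Ω x) g = 0 := by
        have h1 := aeval_pow p e g (algebraMap K Ω x)
        have h2 : (algebraMap K Ω x) ^ p ^ e = algebraMap K Ω (x ^ p ^ e) := (map_pow _ _ _).symm
        rw [hgf, h2, aeval_algebraMap_apply Ω (x ^ p ^ e) f, hf, minpoly.aeval, map_zero] at h1
        exact pow_eq_zero_iff (pow_ne_zero e (Fact.out : p.Prime).ne_zero) |>.mp h1
      exact hgsep.of_dvd (minpoly.dvd _ _ hroot)
    intro z hz
    have hle : Lf (k := k) p e ⊔ IntermediateField.adjoin k (Set.range (algebraMap K Ω)) ≤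
        (separableClosure (Lf (k := k) (Ω := Ω) p e) Ω).restrictScalars k := by
      apply sup_le
      · intro y hy
        rw [IntermediateField.mem_restrictScalars, mem_separableClosure_iff]
        exact isSeparable_algebraMap (⟨y, hy⟩ : Lf (k := k) (Ω := Ω) p e)
      · rw [IntermediateField.adjoin_le_iff]
        rintro _ ⟨x, rfl⟩
        exact key x
    exact hle hz

end Groth.Agent.H2.PthRoot
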