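import Mathlib

/-! Ideal of points in the plane: the two-variable key inequality. (helper2, S12914) -/

namespace Groth.Agent.H2.PtsGen

open MvPolynomial Module

variable {k : Type*} [Field k]

/-- multiplication by a variable, as a `k`-linear map -/
noncomputable abbrev mulX {σ : Type*} (i : σ) : MvPolynomial σ k →ₗ[k] MvPolynomial σ k :=
  LinearMap.mulLeft k (X i)

lemma mulX_injective {σ : Type*} (i : σ) : Function.Injective (mulX (k := k) i) := by
  intro a b hab
  simp only [LinearMap.mulLeft_apply] at hab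
  exact mul_left_cancel₀ (X_ne_zero i) hab

/-- key inequality in two variables: `dim (yV + zV) ≥ dim V + 1` for nonzero `V`. -/
theorem key2 (V : Submodule k (MvPolynomial (Fin 2) k)) [FiniteDimensional k V] (hV0 : V ≠ ⊥) :
    finrank k V + 1 ≤ finrank k ((V.map (mulX 0) ⊔ V.map (mulX 1) :
      Submodule k (MvPolynomial (Fin 2) k))) := by
  classical
  -- the least exponent of `y = X 0` occurring in `V`
  have hex : ∃ j : ℕ, ∃ g ∈ V, ∃ m : Fin 2 →₀ ℕ, m 0 = j ∧ coeff m g ≠ 0 := by
    obtain ⟨g, hg, hg0⟩ := (Submodule.ne_bot_iff V).mp hV0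
    obtain ⟨m, hm⟩ := ne_zero_iff.mp hg0
    exact ⟨m 0, g, hg, m, rfl, hm⟩
  obtain ⟨g₀, hg₀, m₀, hm₀, hc₀⟩ := Nat.find_spec hex
  have hmin : ∀ g ∈ V, ∀ m : Fin 2 →₀ ℕ, m 0 < Nat.find hex → coeff m g = 0 := by
    intro g hg m hm
    by_contra hne
    exact Nat.find_min hex hm ⟨g, hg, m, rfl, hne⟩
  have hnot : X 1 * g₀ ∉ V.map (mulX 0) := by
    rintro ⟨g₁, hg₁, h⟩
    simp only [LinearMap.mulLeft_apply] at h
    have h1 : coeff (Finsupp.single 1 1 + m₀) (X 1 * g₀) = coeff m₀ g₀ := coeff_X_mul m₀ 1 g₀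
    rw [← h, coeff_X_mul'] at h1
    split_ifs at h1 with hs
    · have h2 : (Finsupp.single 1 1 + m₀ - Finsupp.single 0 1 : Fin 2 →₀ ℕ) 0 < Nat.find hex := by
        have h3 : m₀ 0 ≠ 0 := by
          have := Finsupp.mem_support_iff.mp hs
          simpa using this
        simp only [Finsupp.coe_tsub, Finsupp.coe_add, Pi.sub_apply, Pi.add_apply,
          Finsupp.single_eq_same]
        rw [Finsupp.single_eq_of_ne (by decide)]
        omega
      rw [hmin g₁ hg₁ _ h2] at h1
      exact hc₀ h1.symm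
    · exact hc₀ h1.symm
  have hmem : X 1 * g₀ ∈ V.map (mulX 1) := ⟨g₀, hg₀, rfl⟩
  have hlt : V.map (mulX 0) < V.map (mulX 0) ⊔ V.map (mulX 1) := by
    refine lt_of_le_of_ne le_sup_left ?_
    intro heq
    apply hnot
    rw [heq]
    exact Submodule.mem_sup_right hmem
  have h1 : finrank k (V.map (mulX 0)) = finrank k V :=
    (LinearEquiv.finrank_eq (Submodule.equivMapOfInjective _ (mulX_injective 0) V)).symm
  have := Submodule.finrank_lt_finrank_of_lt hlt
  omega

end Groth.Agent.H2.PtsGen
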