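import Groth.Agent.Lib.Helper2.PtsGen1

/-! Ideal of points in the plane: generation of a homogeneous ideal by complements of
`𝔪₁ I_{t}` in `I_{t+1}`. (helper2, S12914) -/

namespace Groth.Agent.H2.PtsGen

open MvPolynomial Module

variable {k : Type*} [Field k] {σ : Type*} [Fintype σ]

/-- graded piece of an ideal -/
noncomputable def Igr (I : Ideal (MvPolynomial σ k)) (t : ℕ) : Submodule k (MvPolynomial σ k) :=
  (I.restrictScalars k) ⊓ homogeneousSubmodule σ k t

/-- `𝔪₁ · V = ∑ X_i V`. -/
noncomputable def mV (V : Submodule k (MvPolynomial σ k)) : Submodule k (MvPolynomial σ k) :=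
  ⨆ i : σ, V.map (mulX i)

omit [Fintype σ] in
lemma mem_Igr {I : Ideal (MvPolynomial σ k)} {t : ℕ} {f : MvPolynomial σ k} :
    f ∈ Igr I t ↔ f ∈ I ∧ f.IsHomogeneous t := by
  simp [Igr]

omit [Fintype σ] in
lemma Igr_le_homog (I : Ideal (MvPolynomial σ k)) (t : ℕ) :
    Igr I t ≤ homogeneousSubmodule σ k t := inf_le_right

instance finiteDimensional_homog (t : ℕ) :
    FiniteDimensional k (homogeneousSubmodule σ k t) :=
  Module.Finite.iff_fg.mpr (homogeneousSubmodule_fg _ _ _)

instance finiteDimensional_Igr (I : Ideal (MvPolynomial σ k)) (t : ℕ) :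
    FiniteDimensional k (Igr I t) :=
  Submodule.finiteDimensional_of_le (Igr_le_homog I t)

omit [Fintype σ] in
lemma mV_Igr_le (I : Ideal (MvPolynomial σ k)) (t : ℕ) : mV (Igr I t) ≤ Igr I (t + 1) := by
  unfold mV
  apply iSup_le
  rintro i _ ⟨g, hg, rfl⟩
  rw [SetLike.mem_coe, mem_Igr] at hg
  rw [mem_Igr]
  refine ⟨I.mul_mem_left _ hg.1, ?_⟩
  have := (isHomogeneous_X k i).mul hg.2
  rwa [add_comm] at this

instance finiteDimensional_mV (I : Ideal (MvPolynomial σ k)) (t : ℕ) :
    FiniteDimensional k (mV (Igr I t)) :=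
  Submodule.finiteDimensional_of_le (mV_Igr_le I t)

omit [Fintype σ] in
/-- generation lemma -/
theorem gen_of_complements (I : Ideal (MvPolynomial σ k))
    (hhom : ∀ f ∈ I, ∀ j, homogeneousComponent j f ∈ I)
    (G : ℕ → Set (MvPolynomial σ k)) (hG : ∀ t, G t ⊆ Igr I t)
    (h0 : Igr I 0 ≤ Submodule.span k (G 0))
    (hs : ∀ t, Igr I (t + 1) ≤ Submodule.span k (G (t + 1)) ⊔ mV (Igr I t)) :
    I = Ideal.span (⋃ t, G t) := by
  apply le_antisymm
  · have key : ∀ t, ∀ f ∈ Igr I t, f ∈ Ideal.span (⋃ t, G t) := by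
      intro t
      induction t with
      | zero =>
        intro f hf
        have := h0 hf
        refine Submodule.span_induction ?_ ?_ ?_ ?_ this
        · intro x hx
          exact Ideal.subset_span (Set.mem_iUnion.mpr ⟨0, hx⟩)
        · exact Ideal.zero_mem _
        · intro x y _ _ hx hy; exact Ideal.add_mem _ hx hy
        · intro a x _ hx
          rw [Algebra.smul_def]
          exact Ideal.mul_mem_left _ _ hx
      | succ t ih =>
        intro f hf
        have := hs t hf
        obtain ⟨a, ha, b, hb, rfl⟩ := Submodule.mem_sup.mp this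
        apply Ideal.add_mem
        · refine Submodule.span_induction ?_ ?_ ?_ ?_ ha
          · intro x hx
            exact Ideal.subset_span (Set.mem_iUnion.mpr ⟨t + 1, hx⟩)
          · exact Ideal.zero_mem _
          · intro x y _ _ hx hy; exact Ideal.add_mem _ hx hy
          · intro a x _ hx
            rw [Algebra.smul_def]
            exact Ideal.mul_mem_left _ _ hx
        · unfold mV at hb
          refine Submodule.iSup_induction _ (motive := fun x => x ∈ Ideal.span (⋃ t, G t)) hb
            ?_ ?_ ?_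
          · rintro i _ ⟨g, hg, rfl⟩
            exact Ideal.mul_mem_left _ _ (ih g hg)
          · exact Ideal.zero_mem _
          · intro x y hx hy; exact Ideal.add_mem _ hx hy
    intro f hf
    rw [← sum_homogeneousComponent f]
    apply Ideal.sum_mem
    intro j _
    exact key j _ (mem_Igr.mpr ⟨hhom f hf j, homogeneousComponent_isHomogeneous j f⟩)
  · rw [Ideal.span_le]
    intro x hx
    obtain ⟨t, ht⟩ := Set.mem_iUnion.mp hx
    exact (mem_Igr.mp (hG t ht)).1

/-- complement lemma -/
lemma exists_complement {V : Type*} [AddCommGroup V] [Module k V] (U W : Submodule k V)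
    [FiniteDimensional k W] (hUW : U ≤ W) :
    ∃ G : Finset V, (↑G : Set V) ⊆ W ∧ W ≤ Submodule.span k (↑G : Set V) ⊔ U ∧
      G.card + finrank k U ≤ finrank k W := by
  classical
  set U' : Submodule k W := U.comap W.subtype with hU'
  obtain ⟨C, hC⟩ := Submodule.exists_isCompl U'
  have hfin : finrank k U' + finrank k C = finrank k W := Submodule.finrank_add_eq_of_isCompl hC
  have hU'eq : finrank k U' = finrank k U := by
    have : U'.map W.subtype = U := by
      rw [hU', Submodule.map_comap_eq, Submodule.range_subtype, inf_eq_right.mpr hUW]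
    rw [← this]
    exact (LinearEquiv.finrank_eq
      (Submodule.equivMapOfInjective _ (Submodule.injective_subtype W) U'))
  let b := Module.finBasis k C
  refine ⟨Finset.univ.image (fun i => ((b i : W) : V)), ?_, ?_, ?_⟩
  · intro x hx
    simp only [Finset.coe_image, Finset.coe_univ, Set.image_univ, Set.mem_range] at hx
    obtain ⟨i, rfl⟩ := hx
    exact (b i : W).2
  · intro w hw
    have hw' : (⟨w, hw⟩ : W) ∈ C ⊔ U' := by rw [hC.symm.sup_eq_top]; trivial
    obtain ⟨c, hc, u, hu, hcu⟩ := Submodule.mem_sup.mp hw'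
    have hw2 : w = (c : V) + (u : V) := by
      have := congrArg Subtype.val hcu
      simpa using this.symm
    rw [hw2]
    apply Submodule.add_mem
    · apply Submodule.mem_sup_left
      have hcspan : (⟨c, hc⟩ : C) ∈ Submodule.span k (Set.range b) := by
        rw [b.span_eq]; trivial
      have : (c : V) = (W.subtype ∘ₗ C.subtype) ⟨c, hc⟩ := rfl
      rw [this]
      have h2 := Submodule.apply_mem_span_image_of_mem_span (W.subtype ∘ₗ C.subtype) hcspan
      refine Submodule.span_mono ?_ h2
      rintro _ ⟨_, ⟨i, rfl⟩, rfl⟩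
      simp
    · apply Submodule.mem_sup_right
      exact hu
  · calc (Finset.univ.image (fun i => ((b i : W) : V))).card + finrank k U
        ≤ Fintype.card (Fin (finrank k C)) + finrank k U := by
          gcongr
          exact Finset.card_image_le.trans (by simp)
      _ = finrank k C + finrank k U := by simp
      _ = finrank k W := by rw [← hfin, hU'eq, add_comm]
      _ ≤ _ := le_rfl

lemma exists_max_of_bounded (s : ℕ → ℕ) (B : ℕ) (hB : ∀ N, s N ≤ B) : ∃ N₀, ∀ N, s N ≤ s N₀ := by
  by_contra h
  push Not at h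
  have : ∀ m : ℕ, ∃ N, m ≤ s N := by
    intro m
    induction m with
    | zero => exact ⟨0, Nat.zero_le _⟩
    | succ m ih =>
      obtain ⟨N, hN⟩ := ih
      obtain ⟨N', hN'⟩ := h N
      exact ⟨N', by omega⟩
  obtain ⟨N, hN⟩ := this (B + 1)
  have := hB N
  omega

theorem spanFinrank_le (I : Ideal (MvPolynomial σ k))
    (hhom : ∀ f ∈ I, ∀ j, homogeneousComponent j f ∈ I) (B : ℕ) (c : ℕ → ℕ)
    (hc0 : finrank k (Igr I 0) ≤ c 0)
    (hcs : ∀ t, finrank k (Igr I (t + 1)) ≤ c (t + 1) + finrank k (mV (Igr I t)))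
    (hB : ∀ N, ∑ t ∈ Finset.range (N + 1), c t ≤ B) : Submodule.spanFinrank I ≤ B := by
  classical
  -- choose the complements
  have h0 := exists_complement (k := k) (⊥ : Submodule k (MvPolynomial σ k)) (Igr I 0) bot_le
  have hs := fun t => exists_complement (k := k) (mV (Igr I t)) (Igr I (t + 1)) (mV_Igr_le I t)
  obtain ⟨G0, hG0a, hG0b, hG0c⟩ := h0
  choose Gs hGsa hGsb hGsc using hs
  obtain ⟨G, hGd0, hGds⟩ : ∃ G : ℕ → Finset (MvPolynomial σ k), G 0 = G0 ∧ ∀ t, G (t + 1) = Gs t :=
    ⟨fun t => Nat.casesOn t G0 Gs, rfl, fun _ => rfl⟩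
  have hGsub : ∀ t, (↑(G t) : Set (MvPolynomial σ k)) ⊆ Igr I t := by
    intro t
    cases t with
    | zero => rw [hGd0]; exact hG0a
    | succ t => rw [hGds]; exact hGsa t
  have hcard : ∀ t, (G t).card ≤ c t := by
    intro t
    cases t with
    | zero =>
      rw [hGd0]
      rw [finrank_bot, add_zero] at hG0c
      omega
    | succ t =>
      rw [hGds]
      have := hGsc t
      have := hcs t
      omega
  have hgen : I = Ideal.span (⋃ t, (↑(G t) : Set (MvPolynomial σ k))) := by
    apply gen_of_complements I hhom (fun t => (↑(G t) : Set (MvPolynomial σ k))) hGsub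
    · rw [hGd0]
      rw [sup_bot_eq] at hG0b
      exact hG0b
    · intro t
      rw [hGds]
      exact hGsb t
  obtain ⟨N₀, hN₀⟩ := exists_max_of_bounded (fun N => ∑ t ∈ Finset.range (N + 1), c t) B hB
  have hzero : ∀ t, N₀ < t → G t = ∅ := by
    intro t ht
    have h1 : ∑ u ∈ Finset.range (t + 1), c u ≤ ∑ u ∈ Finset.range (N₀ + 1), c u := hN₀ t
    have h2 : ∑ u ∈ Finset.range (N₀ + 1), c u + c t ≤ ∑ u ∈ Finset.range (t + 1), c u := by
      rw [Finset.sum_range_succ _ t]
      have : ∑ u ∈ Finset.range (N₀ + 1), c u ≤ ∑ u ∈ Finset.range t, c u := by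
        apply Finset.sum_le_sum_of_subset
        intro u hu
        rw [Finset.mem_range] at hu ⊢
        omega
      omega
    have h3 : c t = 0 := by omega
    have := hcard t
    rw [h3] at this
    exact Finset.card_eq_zero.mp (by omega)
  have hunion : (⋃ t, (↑(G t) : Set (MvPolynomial σ k))) =
      ↑((Finset.range (N₀ + 1)).biUnion G) := by
    ext x
    simp only [Set.mem_iUnion, Finset.mem_coe, Finset.mem_biUnion, Finset.mem_range]
    constructor
    · rintro ⟨t, ht⟩
      refine ⟨t, ?_, ht⟩
      by_contra hlt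
      rw [hzero t (by omega)] at ht
      simp at ht
    · rintro ⟨t, _, ht⟩
      exact ⟨t, ht⟩
  rw [hgen, hunion]
  have h1 := Submodule.spanFinrank_span_le_ncard_of_finite (R := MvPolynomial σ k)
    ((Finset.range (N₀ + 1)).biUnion G).finite_toSet
  refine h1.trans ?_
  rw [Set.ncard_coe_finset]
  calc ((Finset.range (N₀ + 1)).biUnion G).card ≤ ∑ t ∈ Finset.range (N₀ + 1), (G t).card :=
        Finset.card_biUnion_le
    _ ≤ ∑ t ∈ Finset.range (N₀ + 1), c t := Finset.sum_le_sum (fun t _ => hcard t)
    _ ≤ B := hB N₀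

end Groth.Agent.H2.PtsGen
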