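import Groth.Agent.Lib.Helper2.PtsGen2
import Groth.Agent.Lib.Helper2.HypHilb

/-! Ideal of points in the plane: the linear form `ℓ = x₀ + a x₁ + b x₂` and the quotient map
`ψ : k[x₀,x₁,x₂] → k[y,z]`. (helper2, S12914) -/

namespace Groth.Agent.H2.PtsGen

open MvPolynomial Module

variable {k : Type*} [Field k]

/-- the linear form `x₀ + a x₁ + b x₂`. -/
noncomputable def ell (a b : k) : MvPolynomial (Fin 3) k := X 0 + C a * X 1 + C b * X 2

/-- the quotient map by `ℓ`. -/
noncomputable def psi (a b : k) : MvPolynomial (Fin 3) k →ₐ[k] MvPolynomial (Fin 2) k :=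
  aeval ![-(C a * X 0 + C b * X 1), X 0, X 1]

/-- the section `y ↦ x₁, z ↦ x₂`. -/
noncomputable def iota : MvPolynomial (Fin 2) k →ₐ[k] MvPolynomial (Fin 3) k :=
  aeval ![X 1, X 2]

@[simp] lemma psi_X0 (a b : k) : psi a b (X 0) = -(C a * X 0 + C b * X 1) := by simp [psi]
@[simp] lemma psi_X1 (a b : k) : psi a b (X 1) = X 0 := by simp [psi]
@[simp] lemma psi_X2 (a b : k) : psi a b (X 2) = X 1 := by simp [psi]
@[simp] lemma iota_X0 : iota (k := k) (X 0) = X 1 := by simp [iota]
@[simp] lemma iota_X1 : iota (k := k) (X 1) = X 2 := by simp [iota]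

lemma psi_ell (a b : k) : psi a b (ell a b) = 0 := by
  simp [ell]

lemma isHomogeneous_ell (a b : k) : (ell a b).IsHomogeneous 1 := by
  unfold ell
  exact ((isHomogeneous_X k 0).add ((isHomogeneous_X k 1).C_mul a)).add
    ((isHomogeneous_X k 2).C_mul b)

lemma ell_ne_zero (a b : k) : ell a b ≠ 0 := by
  intro h
  have := congrArg (coeff (Finsupp.single 0 1)) h
  simp [ell, coeff_X', coeff_C_mul, Finsupp.single_left_inj] at this

lemma eval_ell (a b : k) (p : Fin 3 → k) : eval p (ell a b) = p 0 + a * p 1 + b * p 2 := by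
  simp [ell]

lemma isHomogeneous_psi (a b : k) {g : MvPolynomial (Fin 3) k} {t : ℕ} (hg : g.IsHomogeneous t) :
    (psi a b g).IsHomogeneous t := by
  have := hg.aeval (S := k) (n := 1)
    (![-(C a * X 0 + C b * X 1), X 0, X 1] : Fin 3 → MvPolynomial (Fin 2) k) (by
    intro i
    fin_cases i
    · exact (((isHomogeneous_X k 0).C_mul a).add ((isHomogeneous_X k 1).C_mul b)).neg
    · exact isHomogeneous_X k 0
    · exact isHomogeneous_X k 1)
  rw [one_mul] at this
  unfold psi
  exact this

lemma sub_iota_psi_mem (a b : k) (g : MvPolynomial (Fin 3) k) :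
    g - iota (psi a b g) ∈ Ideal.span {ell a b} := by
  rw [← Ideal.Quotient.eq]
  have h : (Ideal.Quotient.mkₐ k (Ideal.span {ell a b})) =
      (Ideal.Quotient.mkₐ k (Ideal.span {ell a b})).comp (iota.comp (psi a b)) := by
    apply MvPolynomial.algHom_ext
    intro i
    fin_cases i
    · simp only [Fin.zero_eta, AlgHom.comp_apply, psi_X0, map_neg, map_add, map_mul, iota_X0,
        iota_X1, Ideal.Quotient.mkₐ_eq_mk]
      rw [← sub_eq_zero, sub_neg_eq_add]
      have : iota (k := k) (C a) = C a := by simp [iota]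
      have : iota (k := k) (C b) = C b := by simp [iota]
      rw [‹iota (k := k) (C a) = C a›, ‹iota (k := k) (C b) = C b›, ← map_mul, ← map_mul,
        ← map_add, ← map_add, Ideal.Quotient.eq_zero_iff_mem, ← add_assoc]
      exact Ideal.subset_span rfl
    · simp
    · simp
  exact congrFun (congrArg DFunLike.coe h) g

lemma mem_span_ell_of_psi_eq_zero (a b : k) (g : MvPolynomial (Fin 3) k) (hg : psi a b g = 0) :
    g ∈ Ideal.span {ell a b} := by
  have := sub_iota_psi_mem a b g
  rwa [hg, map_zero, sub_zero] at this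

lemma psi_C (a b c : k) : psi a b (C c) = C c := by simp [psi]

end Groth.Agent.H2.PtsGen
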