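import Groth.Agent.Lib.Helper2.PtsGen3

/-! Ideal of points in the plane: the vanishing ideal, the non-zero-divisor `ℓ`, and the rank
identities. (helper2, S12914) -/

namespace Groth.Agent.H2.PtsGen

open MvPolynomial Module

variable {k : Type*} [Field k]

section rank

variable {M N : Type*} [AddCommGroup M] [Module k M] [AddCommGroup N] [Module k N]

lemma finrank_map_add_finrank_inf_ker (φ : M →ₗ[k] N) (W : Submodule k M) [FiniteDimensional k W] :
    finrank k (W.map φ) + finrank k (W ⊓ LinearMap.ker φ : Submodule k M) = finrank k W := by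
  have h := LinearMap.finrank_range_add_finrank_ker (φ.domRestrict W)
  rw [LinearMap.range_domRestrict, LinearMap.ker_domRestrict] at h
  have h2 : finrank k ((LinearMap.ker φ).comap W.subtype) =
      finrank k (W ⊓ LinearMap.ker φ : Submodule k M) := by
    have : ((LinearMap.ker φ).comap W.subtype).map W.subtype = W ⊓ LinearMap.ker φ := by
      rw [Submodule.map_comap_eq, Submodule.range_subtype]
    rw [← this]
    exact LinearEquiv.finrank_eq
      (Submodule.equivMapOfInjective _ (Submodule.injective_subtype W) _)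
  rw [← h2]
  exact h

end rank

section vanishing

variable (Z : Finset (Fin 3 → k)) (I : Ideal (MvPolynomial (Fin 3) k))
  (hI : ∀ f : MvPolynomial (Fin 3) k, f ∈ I ↔
      ∀ p ∈ Z, ∀ j : ℕ, MvPolynomial.eval p (MvPolynomial.homogeneousComponent j f) = 0)

include hI in
lemma hhom_of_vanishing : ∀ f ∈ I, ∀ j, homogeneousComponent j f ∈ I := by
  intro f hf j
  rw [hI] at hf ⊢
  intro p hp i
  rw [homogeneousComponent_of_mem (homogeneousComponent_mem j f)]
  split_ifs
  · exact hf p hp j
  · exact map_zero _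

include hI in
lemma mem_of_homogeneous {g : MvPolynomial (Fin 3) k} {t : ℕ} (hg : g.IsHomogeneous t) :
    g ∈ I ↔ ∀ p ∈ Z, eval p g = 0 := by
  rw [hI]
  constructor
  · intro h p hp
    have := h p hp t
    rwa [homogeneousComponent_eq_self hg] at this
  · intro h p hp j
    rw [homogeneousComponent_of_mem hg]
    split_ifs
    · exact h p hp
    · exact map_zero _

include hI in
lemma mem_of_ell_mul_mem (a b : k) (hab : ∀ p ∈ Z, eval p (ell a b) ≠ 0)
    {s : MvPolynomial (Fin 3) k} (hs : ell a b * s ∈ I) : s ∈ I := by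
  rw [hI] at hs ⊢
  intro p hp j
  have h1 := hs p hp (j + 1)
  rw [HypHilb.homogeneousComponent_mul_of_left (ell a b) s 1 (j + 1) (isHomogeneous_ell a b)
    (by omega), map_mul, Nat.add_sub_cancel] at h1
  exact (mul_eq_zero.mp h1).resolve_left (hab p hp)

/-- the map "multiply by `ℓ`" -/
noncomputable abbrev mulEll (a b : k) : MvPolynomial (Fin 3) k →ₗ[k] MvPolynomial (Fin 3) k :=
  LinearMap.mulLeft k (ell a b)

lemma mulEll_injective (a b : k) : Function.Injective (mulEll a b) := by
  intro x y hxy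
  simp only [LinearMap.mulLeft_apply] at hxy
  exact mul_left_cancel₀ (ell_ne_zero a b) hxy

include hI in
lemma Igr_inf_ker (a b : k) (hab : ∀ p ∈ Z, eval p (ell a b) ≠ 0) (t : ℕ) :
    (Igr I (t + 1) ⊓ LinearMap.ker (psi a b).toLinearMap : Submodule k (MvPolynomial (Fin 3) k)) =
      (Igr I t).map (mulEll a b) := by
  apply le_antisymm
  · rintro g ⟨hg1, hg2⟩
    rw [SetLike.mem_coe, mem_Igr] at hg1
    rw [SetLike.mem_coe, LinearMap.mem_ker, AlgHom.toLinearMap_apply] at hg2
    have h1 := mem_span_ell_of_psi_eq_zero a b g hg2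
    obtain ⟨s', hs'⟩ := Ideal.mem_span_singleton'.mp h1
    have h2 : g = ell a b * homogeneousComponent t s' := by
      have := HypHilb.homogeneousComponent_mul_of_left (ell a b) s' 1 (t + 1)
        (isHomogeneous_ell a b) (by omega)
      rw [Nat.add_sub_cancel, mul_comm, hs', homogeneousComponent_eq_self hg1.2] at this
      exact this
    refine ⟨homogeneousComponent t s', ?_, h2.symm⟩
    rw [SetLike.mem_coe, mem_Igr]
    refine ⟨?_, homogeneousComponent_isHomogeneous t s'⟩
    apply mem_of_ell_mul_mem Z I hI a b hab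
    rw [← h2]
    exact hg1.1
  · rintro _ ⟨s, hs, rfl⟩
    rw [SetLike.mem_coe, mem_Igr] at hs
    refine ⟨?_, ?_⟩
    · rw [SetLike.mem_coe, mem_Igr]
      refine ⟨I.mul_mem_left _ hs.1, ?_⟩
      have := (isHomogeneous_ell a b).mul hs.2
      rwa [add_comm] at this
    · rw [SetLike.mem_coe, LinearMap.mem_ker, AlgHom.toLinearMap_apply, LinearMap.mulLeft_apply,
        map_mul, psi_ell, zero_mul]

lemma Igr_zero_inf_ker (a b : k) :
    (Igr I 0 ⊓ LinearMap.ker (psi a b).toLinearMap : Submodule k (MvPolynomial (Fin 3) k)) = ⊥ := by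
  rw [eq_bot_iff]
  rintro g ⟨hg1, hg2⟩
  rw [SetLike.mem_coe, mem_Igr] at hg1
  rw [SetLike.mem_coe, LinearMap.mem_ker, AlgHom.toLinearMap_apply] at hg2
  have hg : g = C (coeff 0 g) := by
    have := homogeneousComponent_zero (φ := g)
    rw [homogeneousComponent_eq_self hg1.2] at this
    exact this
  rw [hg, psi_C] at hg2
  have h0 : coeff 0 g = 0 := C_injective (Fin 2) k (hg2.trans C_0.symm)
  rw [Submodule.mem_bot, hg, h0, C_0]

include hI in
lemma mV_inf_ker (a b : k) (hab : ∀ p ∈ Z, eval p (ell a b) ≠ 0) (t : ℕ) :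
    (mV (Igr I t) ⊓ LinearMap.ker (psi a b).toLinearMap : Submodule k (MvPolynomial (Fin 3) k)) =
      (Igr I t).map (mulEll a b) := by
  apply le_antisymm
  · rw [← Igr_inf_ker Z I hI a b hab t]
    exact inf_le_inf_right _ (mV_Igr_le I t)
  · rintro _ ⟨s, hs, rfl⟩
    refine ⟨?_, ?_⟩
    · have : mulEll a b s = mulX 0 s + a • mulX 1 s + b • mulX 2 s := by
        simp only [LinearMap.mulLeft_apply, ell, smul_eq_C_mul]
        ring
      rw [this]
      unfold mV
      refine Submodule.add_mem _ (Submodule.add_mem _ ?_ (Submodule.smul_mem _ _ ?_))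
        (Submodule.smul_mem _ _ ?_)
      · exact Submodule.mem_iSup_of_mem 0 ⟨s, hs, rfl⟩
      · exact Submodule.mem_iSup_of_mem 1 ⟨s, hs, rfl⟩
      · exact Submodule.mem_iSup_of_mem 2 ⟨s, hs, rfl⟩
    · rw [SetLike.mem_coe, LinearMap.mem_ker, AlgHom.toLinearMap_apply, LinearMap.mulLeft_apply,
        map_mul, psi_ell, zero_mul]

/-- the image of `I_t` in `k[y,z]`. -/
noncomputable def Vt (a b : k) (t : ℕ) : Submodule k (MvPolynomial (Fin 2) k) :=
  (Igr I t).map (psi a b).toLinearMap

lemma map_mV (a b : k) (t : ℕ) :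
    (mV (Igr I t)).map (psi a b).toLinearMap =
      (Vt I a b t).map (mulX 0) ⊔ (Vt I a b t).map (mulX 1) := by
  apply le_antisymm
  · rw [Submodule.map_le_iff_le_comap]
    unfold mV
    apply iSup_le
    rintro i _ ⟨g, hg, rfl⟩
    rw [Submodule.mem_comap, AlgHom.toLinearMap_apply, LinearMap.mulLeft_apply, map_mul]
    have hgV : psi a b g ∈ Vt I a b t := ⟨g, hg, rfl⟩
    fin_cases i
    · simp only [Fin.zero_eta, psi_X0]
      have : -(C a * X 0 + C b * X 1) * psi a b g =
          (-a) • mulX 0 (psi a b g) + (-b) • mulX 1 (psi a b g) := by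
        simp only [LinearMap.mulLeft_apply, smul_eq_C_mul, map_neg]
        ring
      rw [this]
      exact Submodule.add_mem _
        (Submodule.smul_mem _ _ (Submodule.mem_sup_left ⟨_, hgV, rfl⟩))
        (Submodule.smul_mem _ _ (Submodule.mem_sup_right ⟨_, hgV, rfl⟩))
    · simp only [Fin.mk_one, psi_X1]
      exact Submodule.mem_sup_left ⟨_, hgV, rfl⟩
    · simp only [Fin.reduceFinMk, psi_X2]
      exact Submodule.mem_sup_right ⟨_, hgV, rfl⟩
  · apply sup_le
    · rintro _ ⟨_, ⟨g, hg, rfl⟩, rfl⟩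
      refine ⟨mulX 1 g, Submodule.mem_iSup_of_mem 1 ⟨g, hg, rfl⟩, ?_⟩
      simp
    · rintro _ ⟨_, ⟨g, hg, rfl⟩, rfl⟩
      refine ⟨mulX 2 g, Submodule.mem_iSup_of_mem 2 ⟨g, hg, rfl⟩, ?_⟩
      simp

end vanishing

end Groth.Agent.H2.PtsGen
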