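import Groth.Agent.Lib.Helper2.PtsGen4

/-! Ideal of points in the plane: the numerical bound over an infinite field. (helper2, S12914) -/

namespace Groth.Agent.H2.PtsGen

open MvPolynomial Module

variable {k : Type*} [Field k]

lemma exists_good [Infinite k] (Z : Finset (Fin 3 → k)) (hZ : ∀ p ∈ Z, p ≠ 0) :
    ∃ a b : k, ∀ p ∈ Z, p 0 + a * p 1 + b * p 2 ≠ 0 := by
  classical
  let q : (Fin 3 → k) → Polynomial k := fun p =>
    Polynomial.C (p 0) + Polynomial.C (p 1) * Polynomial.X + Polynomial.C (p 2) * Polynomial.X ^ 2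
  have hq : ∀ p ∈ Z, q p ≠ 0 := by
    intro p hp h0
    apply hZ p hp
    funext i
    have hc : ∀ n, (q p).coeff n = 0 := by intro n; rw [h0]; simp
    fin_cases i
    · have := hc 0
      simpa [q] using this
    · have := hc 1
      simpa [q, Polynomial.coeff_X, Polynomial.coeff_C] using this
    · have := hc 2
      simpa [q, Polynomial.coeff_X, Polynomial.coeff_C] using this
  obtain ⟨s, hs⟩ := Infinite.exists_notMem_finset (Z.biUnion (fun p => (q p).roots.toFinset))
  refine ⟨s, s ^ 2, ?_⟩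
  intro p hp h0
  apply hs
  rw [Finset.mem_biUnion]
  refine ⟨p, hp, ?_⟩
  rw [Multiset.mem_toFinset, Polynomial.mem_roots (hq p hp), Polynomial.IsRoot.def]
  simp only [q, Polynomial.eval_add, Polynomial.eval_C, Polynomial.eval_mul, Polynomial.eval_X,
    Polynomial.eval_pow]
  rw [← h0]
  ring

/-- the count function: `c_t = dim I_t - dim 𝔪₁ I_{t-1}`. -/
noncomputable def cfun (I : Ideal (MvPolynomial (Fin 3) k)) : ℕ → ℕ
  | 0 => finrank k (Igr I 0)
  | t + 1 => finrank k (Igr I (t + 1)) - finrank k (mV (Igr I t))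

section bound

variable (Z : Finset (Fin 3 → k)) (I : Ideal (MvPolynomial (Fin 3) k))
  (hI : ∀ f : MvPolynomial (Fin 3) k, f ∈ I ↔
      ∀ p ∈ Z, ∀ j : ℕ, MvPolynomial.eval p (MvPolynomial.homogeneousComponent j f) = 0)
  (a b : k) (hab : ∀ p ∈ Z, eval p (ell a b) ≠ 0)

instance finiteDimensional_Vt (t : ℕ) : FiniteDimensional k (Vt I a b t) := by
  unfold Vt
  infer_instance

include hI hab in
lemma A_succ (t : ℕ) :
    finrank k (Igr I (t + 1)) = finrank k (Vt I a b (t + 1)) + finrank k (Igr I t) := by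
  have h := finrank_map_add_finrank_inf_ker (psi a b).toLinearMap (Igr I (t + 1))
  rw [Igr_inf_ker Z I hI a b hab t] at h
  have h2 : finrank k ((Igr I t).map (mulEll a b)) = finrank k (Igr I t) :=
    (LinearEquiv.finrank_eq (Submodule.equivMapOfInjective _ (mulEll_injective a b) _)).symm
  rw [h2] at h
  exact h.symm

lemma A_zero : finrank k (Igr I 0) = finrank k (Vt I a b 0) := by
  have h := finrank_map_add_finrank_inf_ker (psi a b).toLinearMap (Igr I 0)
  rw [Igr_zero_inf_ker I a b, finrank_bot, add_zero] at h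
  exact h.symm

include hI hab in
lemma m_eq (t : ℕ) :
    finrank k (mV (Igr I t)) =
      finrank k ((Vt I a b t).map (mulX 0) ⊔ (Vt I a b t).map (mulX 1) :
        Submodule k (MvPolynomial (Fin 2) k)) + finrank k (Igr I t) := by
  have h := finrank_map_add_finrank_inf_ker (psi a b).toLinearMap (mV (Igr I t))
  rw [mV_inf_ker Z I hI a b hab t, map_mV I a b t] at h
  have h2 : finrank k ((Igr I t).map (mulEll a b)) = finrank k (Igr I t) :=
    (LinearEquiv.finrank_eq (Submodule.equivMapOfInjective _ (mulEll_injective a b) _)).symm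
  rw [h2] at h
  exact h.symm

lemma Vt_le_homog (t : ℕ) : Vt I a b t ≤ homogeneousSubmodule (Fin 2) k t := by
  rintro _ ⟨g, hg, rfl⟩
  rw [SetLike.mem_coe, mem_Igr] at hg
  exact isHomogeneous_psi a b hg.2

lemma v_le (t : ℕ) : finrank k (Vt I a b t) ≤ t + 1 := by
  have h1 := Submodule.finrank_mono (Vt_le_homog I a b t)
  have h2 := HypHilb.finrank_homogeneousSubmodule (k := k) 1 t
  rw [h2] at h1
  simpa using h1

lemma w_le (t : ℕ) :
    finrank k ((Vt I a b t).map (mulX 0) ⊔ (Vt I a b t).map (mulX 1) :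
        Submodule k (MvPolynomial (Fin 2) k)) ≤ finrank k (Vt I a b (t + 1)) := by
  rw [← map_mV I a b t]
  exact Submodule.finrank_mono (Submodule.map_mono (mV_Igr_le I t))

lemma Vt_succ_ne_bot (t : ℕ) (h : Vt I a b t ≠ ⊥) : Vt I a b (t + 1) ≠ ⊥ := by
  obtain ⟨g, hg, hg0⟩ := (Submodule.ne_bot_iff _).mp h
  rw [Submodule.ne_bot_iff]
  refine ⟨mulX 0 g, ?_, ?_⟩
  · have : mulX 0 g ∈ ((Vt I a b t).map (mulX 0) ⊔ (Vt I a b t).map (mulX 1) :
        Submodule k (MvPolynomial (Fin 2) k)) := Submodule.mem_sup_left ⟨g, hg, rfl⟩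
    rw [← map_mV I a b t] at this
    exact Submodule.map_mono (mV_Igr_le I t) this
  · intro h0
    exact hg0 (mulX_injective 0 (h0.trans (map_zero _).symm))

end bound

lemma numeric (A v w m c : ℕ → ℕ) (d₀ : ℕ)
    (hA0 : A 0 = v 0) (hAs : ∀ t, A (t + 1) = v (t + 1) + A t)
    (hm : ∀ t, m t = w t + A t)
    (hvw : ∀ t, d₀ ≤ t → v t + 1 ≤ w t) (hwv : ∀ t, w t ≤ v (t + 1))
    (hv : ∀ t, v t ≤ t + 1) (hlow : ∀ t, t < d₀ → A t = 0)
    (hc0 : c 0 = A 0) (hcs : ∀ t, c (t + 1) = A (t + 1) - m t) :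
    ∀ N, ∑ t ∈ Finset.range (N + 1), c t ≤ d₀ + 1 := by
  have key : ∀ N, (N < d₀ → ∑ t ∈ Finset.range (N + 1), c t = 0) ∧
      (d₀ ≤ N → ∑ t ∈ Finset.range (N + 1), c t + N ≤ v N + d₀) := by
    intro N
    induction N with
    | zero =>
      rw [Finset.sum_range_one, hc0]
      constructor
      · intro h; exact hlow 0 h
      · intro h; omega
    | succ N ih =>
      rw [Finset.sum_range_succ _ (N + 1), hcs N]
      have h1 := hAs N
      have h2 := hm N
      have h3 := hwv N
      constructor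
      · intro h
        have := hlow (N + 1) h
        have := ih.1 (by omega)
        omega
      · intro h
        rcases Nat.lt_or_ge N d₀ with hN | hN
        · have := ih.1 hN
          have := hlow N hN
          omega
        · have := ih.2 hN
          have := hvw N hN
          omega
  intro N
  rcases Nat.lt_or_ge N d₀ with hN | hN
  · rw [(key N).1 hN]; omega
  · have := (key N).2 hN
    have := hv N
    omega

theorem partII [Infinite k] (Z : Finset (Fin 3 → k)) (hZ : ∀ p ∈ Z, p ≠ 0)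
    (I : Ideal (MvPolynomial (Fin 3) k))
    (hI : ∀ f : MvPolynomial (Fin 3) k, f ∈ I ↔
      ∀ p ∈ Z, ∀ j : ℕ, MvPolynomial.eval p (MvPolynomial.homogeneousComponent j f) = 0)
    (d : ℕ) (hf : ∃ f ∈ I, MvPolynomial.IsHomogeneous f d ∧ f ≠ 0) :
    ∀ N, ∑ t ∈ Finset.range (N + 1), cfun I t ≤ d + 1 := by
  classical
  obtain ⟨a, b, hab0⟩ := exists_good Z hZ
  have hab : ∀ p ∈ Z, eval p (ell a b) ≠ 0 := by
    intro p hp
    rw [eval_ell]
    exact hab0 p hp
  have hex : ∃ t, Igr I t ≠ ⊥ := by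
    obtain ⟨f, hfI, hfh, hf0⟩ := hf
    exact ⟨d, (Submodule.ne_bot_iff _).mpr ⟨f, mem_Igr.mpr ⟨hfI, hfh⟩, hf0⟩⟩
  set d₀ := Nat.find hex with hd₀
  have hd₀d : d₀ ≤ d := by
    obtain ⟨f, hfI, hfh, hf0⟩ := hf
    exact Nat.find_min' hex ((Submodule.ne_bot_iff _).mpr ⟨f, mem_Igr.mpr ⟨hfI, hfh⟩, hf0⟩)
  have hlow : ∀ t, t < d₀ → finrank k (Igr I t) = 0 := by
    intro t ht
    have := Nat.find_min hex ht
    push Not at this
    rw [this, finrank_bot]
  have hAd₀ : finrank k (Igr I d₀) ≠ 0 := by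
    intro h
    have := Nat.find_spec hex
    apply this
    exact Submodule.finrank_eq_zero.mp h
  have haux : ∀ t, Vt I a b t = ⊥ → (∀ s, s < t → finrank k (Igr I s) = 0) →
      finrank k (Igr I t) = 0 := by
    intro t h hl
    cases t with
    | zero => rw [A_zero I a b, h, finrank_bot]
    | succ e => rw [A_succ Z I hI a b hab e, h, finrank_bot, hl e (by omega)]
  have hVd₀ : Vt I a b d₀ ≠ ⊥ := by
    intro h
    exact hAd₀ (haux d₀ h hlow)
  have hV : ∀ t, d₀ ≤ t → Vt I a b t ≠ ⊥ := by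
    intro t ht
    induction t, ht using Nat.le_induction with
    | base => exact hVd₀
    | succ t _ ih => exact Vt_succ_ne_bot I a b t ih
  have := numeric (fun t => finrank k (Igr I t)) (fun t => finrank k (Vt I a b t))
    (fun t => finrank k ((Vt I a b t).map (mulX 0) ⊔ (Vt I a b t).map (mulX 1) :
        Submodule k (MvPolynomial (Fin 2) k)))
    (fun t => finrank k (mV (Igr I t))) (cfun I) d₀
    (A_zero I a b) (A_succ Z I hI a b hab) (m_eq Z I hI a b hab)
    (fun t ht => key2 (Vt I a b t) (hV t ht)) (w_le I a b) (v_le I a b) hlow rfl (fun _ => rfl)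
  intro N
  exact (this N).trans (by omega)

end Groth.Agent.H2.PtsGen
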