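import Groth.Agent.Lib.Helper2.PtsGen5

/-! Ideal of points in the plane: base change to a larger field. (helper2, S12914) -/

namespace Groth.Agent.H2.PtsGen

open MvPolynomial Module

section BC

variable {k K : Type*} [Field k] [Field K] [Algebra k K] {σ : Type*}

/-- the base change map on polynomials -/
noncomputable abbrev phi : MvPolynomial σ k →ₐ[k] MvPolynomial σ K :=
  mapAlgHom (Algebra.ofId k K)

lemma phi_apply (h : MvPolynomial σ k) :
    (phi (K := K) h : MvPolynomial σ K) = map (algebraMap k K) h := rfl

lemma coeff_phi (m : σ →₀ ℕ) (h : MvPolynomial σ k) :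
    coeff m (phi (K := K) h) = algebraMap k K (coeff m h) := by
  rw [phi_apply, coeff_map]

lemma phi_injective : Function.Injective (phi (k := k) (K := K) (σ := σ)) := by
  intro a b hab
  rw [phi_apply, phi_apply] at hab
  exact map_injective _ (algebraMap k K).injective hab

/-- the underlying function of `pushF`. -/
noncomputable def pushFun (lam : K →ₗ[k] k) (g : MvPolynomial σ K) : MvPolynomial σ k :=
  g.support.sum fun m => monomial m (lam (coeff m g))

lemma coeff_pushFun (lam : K →ₗ[k] k) (g : MvPolynomial σ K) (m : σ →₀ ℕ) :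
    coeff m (pushFun lam g) = lam (coeff m g) := by
  classical
  unfold pushFun
  rw [coeff_sum]
  simp only [coeff_monomial]
  rw [Finset.sum_ite_eq']
  split_ifs with h
  · rfl
  · rw [notMem_support_iff.mp h, map_zero]

/-- coefficientwise application of a `k`-linear functional. -/
noncomputable def pushF (lam : K →ₗ[k] k) : MvPolynomial σ K →ₗ[k] MvPolynomial σ k where
  toFun := pushFun lam
  map_add' x y := by
    ext m
    simp only [coeff_pushFun, coeff_add, map_add]
  map_smul' c x := by
    ext m
    simp only [coeff_pushFun, coeff_smul, map_smul, RingHom.id_apply]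

lemma coeff_pushF (lam : K →ₗ[k] k) (g : MvPolynomial σ K) (m : σ →₀ ℕ) :
    coeff m (pushF lam g) = lam (coeff m g) := coeff_pushFun lam g m

lemma pushF_smul_phi (lam : K →ₗ[k] k) (c : K) (h : MvPolynomial σ k) :
    pushF lam (c • phi h) = lam c • h := by
  ext m
  rw [coeff_pushF, coeff_smul, coeff_smul, coeff_phi, smul_eq_mul, smul_eq_mul, mul_comm,
    ← Algebra.smul_def, map_smul, smul_eq_mul, mul_comm]

lemma isHomogeneous_pushF (lam : K →ₗ[k] k) {g : MvPolynomial σ K} {t : ℕ}
    (hg : g.IsHomogeneous t) : (pushF lam g).IsHomogeneous t := by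
  intro m hm
  apply hg
  intro h0
  apply hm
  rw [coeff_pushF, h0, map_zero]

lemma eval_pushF (lam : K →ₗ[k] k) (g : MvPolynomial σ K) (p : σ → k) :
    eval p (pushF lam g) = lam (eval (fun i => algebraMap k K (p i)) g) := by
  change eval p (pushFun lam g) = _
  unfold pushFun
  rw [map_sum, eval_eq, map_sum]
  apply Finset.sum_congr rfl
  intro m _
  rw [eval_monomial]
  have : (∏ i ∈ m.support, (algebraMap k K (p i)) ^ m i) =
      algebraMap k K (∏ i ∈ m.support, p i ^ m i) := by
    rw [map_prod]
    simp only [map_pow]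
  rw [this, mul_comm (coeff m g), ← Algebra.smul_def, map_smul, smul_eq_mul, mul_comm]
  rfl

lemma isHomogeneous_phi {h : MvPolynomial σ k} {t : ℕ} (hh : h.IsHomogeneous t) :
    (phi (K := K) h).IsHomogeneous t := hh.map _

lemma eval_phi (h : MvPolynomial σ k) (p : σ → k) :
    eval (fun i => algebraMap k K (p i)) (phi (K := K) h) = algebraMap k K (eval p h) := by
  rw [phi_apply, eval_map]
  induction h using MvPolynomial.induction_on with
  | C a => simp
  | add p q hp hq => rw [eval₂_add, hp, hq, map_add, map_add]
  | mul_X p i hp => rw [eval₂_mul, hp, eval₂_X, map_mul, map_mul, eval_X]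

/-- decomposition along a `k`-basis of `K`. -/
lemma exists_decomp {J : Type*} (B : Basis J k K) (g : MvPolynomial σ K) :
    ∃ T : Finset J, g = ∑ j ∈ T, B j • phi (pushF (B.coord j) g) := by
  classical
  refine ⟨g.support.biUnion (fun m => (B.repr (coeff m g)).support), ?_⟩
  ext m
  rw [coeff_sum]
  simp only [coeff_smul, coeff_phi, coeff_pushF, Basis.coord_apply, smul_eq_mul]
  have h1 := B.linearCombination_repr (coeff m g)
  rw [Finsupp.linearCombination_apply, Finsupp.sum] at h1
  have h2 : ∀ j : J, B j * algebraMap k K (B.repr (coeff m g) j) = B.repr (coeff m g) j • B j := by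
    intro j
    rw [Algebra.smul_def, mul_comm]
  simp only [h2]
  by_cases hm : m ∈ g.support
  · conv_lhs => rw [← h1]
    apply Finset.sum_subset
    · intro j hj
      exact Finset.mem_biUnion.mpr ⟨m, hm, hj⟩
    · intro j _ hj
      rw [Finsupp.notMem_support_iff.mp hj, zero_smul]
  · rw [notMem_support_iff.mp hm]
    simp

end BC

end Groth.Agent.H2.PtsGen
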