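import Groth.Agent.Lib.Helper2.PtsGen6

/-! Ideal of points in the plane: the vanishing ideal and its base change. (helper2, S12914) -/

namespace Groth.Agent.H2.PtsGen

open MvPolynomial Module

section VanI

variable {F : Type*} [Field F] {σ : Type*}

attribute [local instance] MvPolynomial.gradedAlgebra

lemma homogeneousComponent_mul_of_left_lt (f h : MvPolynomial σ F) (m t : ℕ)
    (hf : f.IsHomogeneous m) (ht : t < m) :
    homogeneousComponent t (f * h) = 0 := by
  have := DirectSum.coe_decompose_mul_of_left_mem_of_not_le (homogeneousSubmodule σ F) (a := f)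
    (b := h) (i := m) (n := t) hf (by omega)
  have e1 : ∀ (φ : MvPolynomial σ F) (i : ℕ),
      ((DirectSum.decompose (homogeneousSubmodule σ F) φ) i : MvPolynomial σ F) =
        homogeneousComponent i φ := fun φ i => decomposition.decompose'_apply φ i
  rw [e1] at this
  exact this

/-- the homogeneous vanishing ideal of a finite set of vectors. -/
noncomputable def vanI (Z : Finset (σ → F)) : Ideal (MvPolynomial σ F) where
  carrier := {f | ∀ p ∈ Z, ∀ j, eval p (homogeneousComponent j f) = 0}
  add_mem' := by
    intro a b ha hb p hp j
    rw [map_add, map_add, ha p hp j, hb p hp j, add_zero]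
  zero_mem' := by
    intro p hp j
    rw [map_zero, map_zero]
  smul_mem' := by
    intro c f hf p hp j
    rw [smul_eq_mul]
    conv_lhs => rw [← sum_homogeneousComponent c]
    rw [Finset.sum_mul, map_sum, map_sum]
    apply Finset.sum_eq_zero
    intro a _
    rcases Nat.lt_or_ge j a with h | h
    · rw [homogeneousComponent_mul_of_left_lt _ _ a j (homogeneousComponent_isHomogeneous a c) h,
        map_zero]
    · rw [HypHilb.homogeneousComponent_mul_of_left _ _ a j (homogeneousComponent_isHomogeneous a c)
        h, map_mul, hf p hp (j - a), mul_zero]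

lemma mem_vanI {Z : Finset (σ → F)} {f : MvPolynomial σ F} :
    f ∈ vanI Z ↔ ∀ p ∈ Z, ∀ j, eval p (homogeneousComponent j f) = 0 := Iff.rfl

end VanI

section BC2

variable {k K : Type*} [Field k] [Field K] [Algebra k K] {σ : Type*}

/-- the `K`-span of the image of a `k`-subspace. -/
noncomputable def VK (V : Submodule k (MvPolynomial σ k)) : Submodule K (MvPolynomial σ K) :=
  Submodule.span K (phi (K := K) '' (V : Set (MvPolynomial σ k)))

lemma VK_span (A : Set (MvPolynomial σ k)) :
    VK (K := K) (Submodule.span k A) = Submodule.span K (phi (K := K) '' A) := by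
  apply le_antisymm
  · unfold VK
    rw [Submodule.span_le]
    rintro _ ⟨x, hx, rfl⟩
    refine Submodule.span_induction ?_ ?_ ?_ ?_ hx
    · intro a ha
      exact Submodule.subset_span ⟨a, ha, rfl⟩
    · rw [map_zero]; exact Submodule.zero_mem _
    · intro a b _ _ ha hb
      rw [map_add]; exact Submodule.add_mem _ ha hb
    · intro c a _ ha
      rw [map_smul, ← algebraMap_smul K c (phi a)]
      exact Submodule.smul_mem _ _ ha
  · exact Submodule.span_mono (Set.image_mono Submodule.subset_span)

lemma VK_iSup {ι : Type*} (W : ι → Submodule k (MvPolynomial σ k)) :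
    VK (K := K) (⨆ i, W i) = ⨆ i, VK (K := K) (W i) := by
  apply le_antisymm
  · unfold VK
    rw [Submodule.span_le]
    rintro _ ⟨x, hx, rfl⟩
    refine Submodule.iSup_induction W (motive := fun x => phi (K := K) x ∈
      ⨆ i, Submodule.span K (phi (K := K) '' (W i : Set (MvPolynomial σ k)))) hx ?_ ?_ ?_
    · intro i a ha
      exact Submodule.mem_iSup_of_mem i (Submodule.subset_span ⟨a, ha, rfl⟩)
    · rw [map_zero]; exact Submodule.zero_mem _
    · intro a b ha hb
      rw [map_add]; exact Submodule.add_mem _ ha hb
  · apply iSup_le
    intro i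
    exact Submodule.span_mono (Set.image_mono (le_iSup W i))

lemma VK_map_mulX (V : Submodule k (MvPolynomial σ k)) (i : σ) :
    VK (K := K) (V.map (mulX i)) = (VK (K := K) V).map (mulX i) := by
  unfold VK
  rw [Submodule.map_span, Submodule.map_coe, Set.image_image, Set.image_image]
  congr 1
  apply Set.image_congr
  intro a _
  simp only [LinearMap.mulLeft_apply, map_mul]
  congr 1
  rw [phi_apply, map_X]

lemma VK_mV (V : Submodule k (MvPolynomial σ k)) :
    VK (K := K) (mV V) = mV (VK (K := K) V) := by
  unfold mV
  rw [VK_iSup]
  congr 1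
  funext i
  exact VK_map_mulX V i

lemma finrank_VK (V : Submodule k (MvPolynomial σ k)) [FiniteDimensional k V] :
    finrank K (VK (K := K) V) = finrank k V := by
  classical
  let b := Module.finBasis k V
  have hspan : VK (K := K) V =
      Submodule.span K (Set.range (fun i => phi (K := K) ((b i : V) : MvPolynomial σ k))) := by
    have h1 : V = Submodule.span k (Set.range (fun i => ((b i : V) : MvPolynomial σ k))) := by
      have := b.span_eq
      have h2 := congrArg (Submodule.map V.subtype) this
      rw [Submodule.map_span, Submodule.map_top, Submodule.range_subtype] at h2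
      have h3 : (V.subtype '' Set.range b) =
          Set.range (fun i => ((b i : V) : MvPolynomial σ k)) := by
        ext x
        simp
      rw [h3] at h2
      exact h2.symm
    have h4 : VK (K := K) V = VK (K := K)
        (Submodule.span k (Set.range (fun i => ((b i : V) : MvPolynomial σ k)))) :=
      congrArg _ h1
    rw [h4, VK_span]
    congr 1
    ext x
    simp
  have hli : LinearIndependent K (fun i => phi (K := K) ((b i : V) : MvPolynomial σ k)) := by
    rw [linearIndependent_iff']
    intro s c hc i hi
    let B := Basis.ofVectorSpace k K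
    have hj : ∀ j, B.coord j (c i) = 0 := by
      intro j
      have h1 := congrArg (pushF (B.coord j)) hc
      rw [map_sum, map_zero] at h1
      simp only [pushF_smul_phi] at h1
      have h2 : ∑ x ∈ s, (B.coord j) (c x) • b x = 0 := by
        apply Subtype.ext
        rw [Submodule.coe_sum]
        simpa using h1
      exact (linearIndependent_iff'.mp b.linearIndependent) s _ h2 i hi
    have : B.repr (c i) = 0 := by
      ext j
      exact hj j
    exact (LinearEquiv.map_eq_zero_iff _).mp this
  rw [hspan, finrank_span_eq_card hli, Fintype.card_fin]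

end BC2

section BC3
variable {k K : Type*} [Field k] [Field K] [Algebra k K] {σ : Type*}

/-- base change of the set of points. -/
noncomputable def ZK [DecidableEq (σ → K)] (Z : Finset (σ → k)) : Finset (σ → K) :=
  Z.image (fun p i => algebraMap k K (p i))

lemma Igr_vanI_eq [DecidableEq (σ → K)] (Z : Finset (σ → k)) (I : Ideal (MvPolynomial σ k))
    (hI : ∀ f : MvPolynomial σ k, f ∈ I ↔
      ∀ p ∈ Z, ∀ j : ℕ, eval p (homogeneousComponent j f) = 0) (t : ℕ) :
    Igr (vanI (ZK (K := K) Z)) t = VK (K := K) (Igr I t) := by
  apply le_antisymm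
  · intro g hg
    rw [mem_Igr] at hg
    obtain ⟨hgI, hgh⟩ := hg
    have hgv : ∀ p ∈ Z, eval (fun i => algebraMap k K (p i)) g = 0 := by
      intro p hp
      have := hgI _ (Finset.mem_image_of_mem _ hp) t
      rwa [homogeneousComponent_eq_self hgh] at this
    obtain ⟨T, hT⟩ := exists_decomp (Basis.ofVectorSpace k K) g
    rw [hT]
    apply Submodule.sum_mem
    intro j _
    apply Submodule.smul_mem
    apply Submodule.subset_span
    refine ⟨_, ?_, rfl⟩
    rw [SetLike.mem_coe, mem_Igr]
    have hh := isHomogeneous_pushF ((Basis.ofVectorSpace k K).coord j) hgh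
    refine ⟨?_, hh⟩
    rw [hI]
    intro p hp j'
    rw [homogeneousComponent_of_mem hh]
    split_ifs
    · rw [eval_pushF, hgv p hp, map_zero]
    · exact map_zero _
  · unfold VK
    rw [Submodule.span_le]
    rintro _ ⟨h, hh, rfl⟩
    rw [SetLike.mem_coe, mem_Igr] at hh
    rw [SetLike.mem_coe, mem_Igr]
    have hhom := isHomogeneous_phi (K := K) hh.2
    refine ⟨?_, hhom⟩
    intro p' hp' j
    obtain ⟨p, hp, rfl⟩ := Finset.mem_image.mp hp'
    rw [homogeneousComponent_of_mem hhom]
    split_ifs
    · rw [eval_phi]
      have := (hI h).mp hh.1 p hp t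
      rw [homogeneousComponent_eq_self hh.2] at this
      rw [this, map_zero]
    · exact map_zero _

end BC3

end Groth.Agent.H2.PtsGen
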