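import Groth.Agent.Lib.Helper2.PtsGen7

/-! Ideal of points in the plane: main theorem. (helper2, S12914) -/

namespace Groth.Agent.H2.PtsGen
open MvPolynomial Module

section Main
universe u
variable {k : Type u} [Field k]

theorem main (Z : Finset (Fin 3 → k)) (hZ : ∀ p ∈ Z, p ≠ 0)
    (I : Ideal (MvPolynomial (Fin 3) k))
    (hI : ∀ f : MvPolynomial (Fin 3) k, f ∈ I ↔
      ∀ p ∈ Z, ∀ j : ℕ, MvPolynomial.eval p (MvPolynomial.homogeneousComponent j f) = 0)
    (d : ℕ) (hf : ∃ f ∈ I, MvPolynomial.IsHomogeneous f d ∧ f ≠ 0) :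
    Submodule.spanFinrank I ≤ d + 1 := by
  classical
  have hcf : ∀ t, cfun I t = cfun (vanI (ZK (K := AlgebraicClosure k) Z)) t := by
    intro t
    cases t with
    | zero =>
      change finrank k (Igr I 0) = finrank (AlgebraicClosure k) (Igr (vanI (ZK Z)) 0)
      rw [Igr_vanI_eq Z I hI 0, finrank_VK]
    | succ t =>
      change finrank k (Igr I (t + 1)) - finrank k (mV (Igr I t)) =
        finrank (AlgebraicClosure k) (Igr (vanI (ZK Z)) (t + 1)) -
          finrank (AlgebraicClosure k) (mV (Igr (vanI (ZK Z)) t))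
      rw [Igr_vanI_eq Z I hI (t + 1), Igr_vanI_eq Z I hI t, ← VK_mV, finrank_VK, finrank_VK]
  have hZK : ∀ p ∈ ZK (K := AlgebraicClosure k) Z, p ≠ 0 := by
    intro p' hp'
    obtain ⟨p, hp, rfl⟩ := Finset.mem_image.mp hp'
    intro h0
    apply hZ p hp
    funext i
    have := congrFun h0 i
    simp only [Pi.zero_apply] at this
    exact (algebraMap k (AlgebraicClosure k)).injective (this.trans (map_zero _).symm)
  have hfK : ∃ f ∈ vanI (ZK (K := AlgebraicClosure k) Z), f.IsHomogeneous d ∧ f ≠ 0 := by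
    obtain ⟨f, hfI, hfh, hf0⟩ := hf
    have hmem : phi (K := AlgebraicClosure k) f ∈ Igr (vanI (ZK (K := AlgebraicClosure k) Z)) d := by
      rw [Igr_vanI_eq Z I hI d]
      exact Submodule.subset_span ⟨f, mem_Igr.mpr ⟨hfI, hfh⟩, rfl⟩
    rw [mem_Igr] at hmem
    refine ⟨_, hmem.1, hmem.2, ?_⟩
    intro h0
    exact hf0 (phi_injective (h0.trans (map_zero _).symm))
  have hbound := partII (ZK (K := AlgebraicClosure k) Z) hZK (vanI (ZK Z)) (fun f => mem_vanI) d hfK
  apply spanFinrank_le I (hhom_of_vanishing Z I hI) (d + 1) (cfun I) le_rfl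
  · intro t
    change _ ≤ (finrank k (Igr I (t + 1)) - finrank k (mV (Igr I t))) + _
    omega
  · intro N
    rw [Finset.sum_congr rfl (fun t _ => hcf t)]
    exact hbound N

end Main

end Groth.Agent.H2.PtsGen
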