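import Mathlib

/-! A matrix lemma behind the degree inequalities of a Hilbert–Burch matrix: if a `(t+1) × t`
matrix `D` over a domain is injective, is annihilated on the left by a matrix `G` with no zero
column, and has zero entries wherever the degree `b q - a p` is nonpositive (degrees
non-increasing), then the two principal diagonals have positive degree. -/

namespace Groth.Agent.H2.PtsRes

open Matrix

variable {S : Type*} [CommRing S] {t : ℕ}

lemma sum_eq_sum_subtype {ι : Type*} [Fintype ι] (P : ι → Prop) [DecidablePred P] (f : ι → S)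
    (hf : ∀ q, ¬ P q → f q = 0) : ∑ q, f q = ∑ q : {q // P q}, f q.1 := by
  rw [← Finset.sum_subtype (Finset.univ.filter P) (by simp) f]
  rw [Finset.sum_filter]
  refine Finset.sum_congr rfl (fun q _ => ?_)
  split_ifs with h
  · rfl
  · exact hf q h

/-- The lower-right block. -/
def blk (D : Matrix (Fin (t + 1)) (Fin t) S) (i : Fin t) :
    Matrix {q : Fin t // i ≤ q} {q : Fin t // i ≤ q} S :=
  fun q' q => D q'.1.succ q.1

lemma sum_rows (f : Fin (t + 1) → S) (i : Fin t) (hf : ∀ p : Fin (t + 1), p.val ≤ i.val → f p = 0) :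
    ∑ p, f p = ∑ q : {q : Fin t // i ≤ q}, f q.1.succ := by
  rw [Fin.sum_univ_succ, hf 0 (by simp), zero_add]
  exact sum_eq_sum_subtype (fun q : Fin t => i ≤ q) (fun q => f q.succ)
    (fun q hq => hf q.succ (by
      have : q < i := not_le.1 hq
      have h2 : q.val < i.val := this
      simp only [Fin.val_succ]
      omega))

variable [IsDomain S]

lemma det_blk_ne_zero (D : Matrix (Fin (t + 1)) (Fin t) S) (hinj : ∀ v, D *ᵥ v = 0 → v = 0)
    (i : Fin t) (hD : ∀ (p : Fin (t + 1)) (q : Fin t), p.val ≤ i.val → i ≤ q → D p q = 0) :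
    (blk D i).det ≠ 0 := by
  classical
  intro hdet
  obtain ⟨v, hv, hCv⟩ := Matrix.exists_mulVec_eq_zero_iff.2 hdet
  let w : Fin t → S := fun q => if h : i ≤ q then v ⟨q, h⟩ else 0
  have hw : D *ᵥ w = 0 := by
    funext p
    show ∑ q, D p q * w q = 0
    rw [sum_eq_sum_subtype (fun q : Fin t => i ≤ q) (fun q => D p q * w q)
      (fun q hq => by simp only [w, dif_neg hq, mul_zero])]
    have hwq : ∀ q : {q : Fin t // i ≤ q}, w q.1 = v q := fun q => by
      simp only [w, dif_pos q.2]
    simp_rw [hwq]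
    by_cases hp : p.val ≤ i.val
    · exact Finset.sum_eq_zero (fun q _ => by rw [hD p q.1 hp q.2, zero_mul])
    · have hp0 : p ≠ 0 := by
        intro h
        apply hp
        rw [h]
        simp
      obtain ⟨q', rfl⟩ := Fin.exists_succ_eq.2 hp0
      have hq' : i ≤ q' := by
        rw [Fin.le_def]
        simp only [Fin.val_succ] at hp
        omega
      have := congrFun hCv ⟨q', hq'⟩
      exact this
  have hw0 := hinj w hw
  apply hv
  funext q
  have := congrFun hw0 q.1
  simp only [w, dif_pos q.2] at this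
  exact this

theorem main_ineq (n0 n1 n2 : ℕ) (h1 : n1 = t + 1) (h2 : n2 = t)
    (G : Matrix (Fin n0) (Fin n1) S) (D : Matrix (Fin n1) (Fin n2) S)
    (a : Fin n1 → ℤ) (b : Fin n2 → ℤ)
    (hGD : G * D = 0) (hinj : ∀ v, D *ᵥ v = 0 → v = 0) (hG : ∀ p, ∃ c, G c p ≠ 0)
    (hD : ∀ p q, b q - a p ≤ 0 → D p q = 0)
    (ha : ∀ i j : Fin (t + 1), i ≤ j → a (Fin.cast h1.symm j) ≤ a (Fin.cast h1.symm i))
    (hb : ∀ i j : Fin t, i ≤ j → b (Fin.cast h2.symm j) ≤ b (Fin.cast h2.symm i)) (i : Fin t) :
    1 ≤ b (Fin.cast h2.symm i) - a (Fin.cast h1.symm i.castSucc) ∧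
      1 ≤ b (Fin.cast h2.symm i) - a (Fin.cast h1.symm i.succ) := by
  subst h1 h2
  simp only [Fin.cast_eq_self] at ha hb ⊢
  have hkey : ∀ (p : Fin (n2 + 1)) (q : Fin n2), b i ≤ a p → i ≤ q → D p q = 0 := by
    intro p q hp hq
    apply hD
    have := hb i q hq
    omega
  constructor
  · by_contra hlt
    have hle : b i ≤ a i.castSucc := by omega
    have hDz : ∀ (p : Fin (n2 + 1)) (q : Fin n2), p.val ≤ i.val → i ≤ q → D p q = 0 := by
      intro p q hp hq
      apply hkey p q _ hq
      have : p ≤ i.castSucc := by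
        rw [Fin.le_def]
        simpa using hp
      have := ha p i.castSucc this
      omega
    have hdet := det_blk_ne_zero D hinj i hDz
    obtain ⟨c, hc⟩ := hG i.succ
    apply hc
    have hg : (fun q' : {q : Fin n2 // i ≤ q} => G c q'.1.succ) ᵥ* blk D i = 0 := by
      funext q
      show ∑ q' : {q : Fin n2 // i ≤ q}, G c q'.1.succ * D q'.1.succ q.1 = 0
      rw [← sum_rows (fun p => G c p * D p q.1) i (fun p hp => by rw [hDz p q.1 hp q.2, mul_zero])]
      have := congrFun (congrFun hGD c) q.1
      exact this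
    have := Matrix.eq_zero_of_vecMul_eq_zero hdet hg
    exact congrFun this ⟨i, le_refl i⟩
  · by_contra hlt
    have hle : b i ≤ a i.succ := by omega
    have hDz : ∀ (p : Fin (n2 + 1)) (q : Fin n2), p.val ≤ i.val + 1 → i ≤ q → D p q = 0 := by
      intro p q hp hq
      apply hkey p q _ hq
      have : p ≤ i.succ := by
        rw [Fin.le_def]
        simpa using hp
      have := ha p i.succ this
      omega
    have hdet := det_blk_ne_zero D hinj i (fun p q hp hq => hDz p q (by omega) hq)
    apply hdet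
    apply Matrix.det_eq_zero_of_row_eq_zero ⟨i, le_refl i⟩
    intro q
    exact hDz i.succ q.1 (by simp) q.2

end Groth.Agent.H2.PtsRes
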