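import Mathlib
import Groth.Prelude.Def_GrSyz
import Groth.Agent.Lib.Helper2.StdGrDim

/-! Numerics for the Hilbert function of a module over `k[x_0, x_1, x_2]` with a finite graded
free resolution of length two: boundedness of the Hilbert function forces the alternating sums
of ranks and of degrees to vanish. -/

universe u

namespace Groth.Agent.H2.PtsRes

lemma two_mul_choose_two (n : ℕ) : 2 * Nat.choose (n + 2) 2 = (n + 2) * (n + 1) := by
  induction n with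
  | zero => simp
  | succ n ih =>
    rw [show n + 1 + 2 = (n + 2) + 1 by ring, Nat.choose_succ_succ' (n + 2) 1, Nat.choose_one_right,
      mul_add, ih]
    ring

variable (k : Type u) [Field k]

lemma two_mul_finrank (j : ℤ) (hj : 0 ≤ j) :
    2 * (Module.finrank k (GrSyz.stdGr k (Fin 3) j) : ℤ) = (j + 2) * (j + 1) := by
  have h := StdGrDim.finrank_stdGr k 2 j
  rw [if_pos hj] at h
  have h3 : GrSyz.stdGr k (Fin 3) j = GrSyz.stdGr k (Fin (2 + 1)) j := rfl
  rw [h3, h]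
  obtain ⟨n, rfl⟩ := Int.eq_ofNat_of_zero_le hj
  simp only [Int.toNat_natCast]
  have := two_mul_choose_two n
  rw [add_comm 2 n]
  exact_mod_cast this

/-- The sum of the dimensions of the shifted pieces. -/
noncomputable def T {n : ℕ} (e : Fin n → ℤ) (d : ℤ) : ℤ :=
  ∑ b, (Module.finrank k (GrSyz.stdGr k (Fin 3) (d - e b)) : ℤ)

lemma two_mul_T {n : ℕ} (e : Fin n → ℤ) (d : ℤ) (hd : ∀ b, e b ≤ d) :
    2 * T k e d = (n : ℤ) * d ^ 2 + (3 * n - 2 * ∑ b, e b) * d + ∑ b, (e b ^ 2 - 3 * e b + 2) := by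
  unfold T
  rw [Finset.mul_sum]
  have h1 : ∀ b, 2 * (Module.finrank k (GrSyz.stdGr k (Fin 3) (d - e b)) : ℤ) =
      (d ^ 2 + 3 * d) - (2 * d) * e b + (e b ^ 2 - 3 * e b + 2) := by
    intro b
    rw [two_mul_finrank k (d - e b) (by have := hd b; omega)]
    ring
  rw [Finset.sum_congr rfl (fun b _ => h1 b), Finset.sum_add_distrib, Finset.sum_sub_distrib,
    ← Finset.mul_sum, Finset.sum_const, Finset.card_univ, Fintype.card_fin]
  simp only [nsmul_eq_mul]
  ring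

lemma quad_bounded (A B Γ N d0 : ℤ)
    (h : ∀ d, d0 ≤ d → 0 ≤ A * d ^ 2 + B * d + Γ ∧ A * d ^ 2 + B * d + Γ ≤ N) :
    A = 0 ∧ B = 0 := by
  have hN : 0 ≤ N := le_trans (h d0 le_rfl).1 (h d0 le_rfl).2
  set m := N + 1 with hm
  have hm0 : 0 < m := by omega
  have h0 := h d0 le_rfl
  have h1 := h (d0 + m) (by omega)
  have h2 := h (d0 + 2 * m) (by omega)
  have hA : A = 0 := by
    have hid : (A * (d0 + 2 * m) ^ 2 + B * (d0 + 2 * m) + Γ) - 2 * (A * (d0 + m) ^ 2 + B * (d0 + m) + Γ)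
        + (A * d0 ^ 2 + B * d0 + Γ) = 2 * A * m ^ 2 := by ring
    have hmm : m ≤ m ^ 2 := by nlinarith
    rcases lt_trichotomy A 0 with hA | hA | hA
    · exfalso
      have : 2 * A * m ^ 2 ≤ -2 * m ^ 2 := by nlinarith
      nlinarith
    · exact hA
    · exfalso
      have : 2 * m ^ 2 ≤ 2 * A * m ^ 2 := by nlinarith
      nlinarith
  refine ⟨hA, ?_⟩
  subst hA
  have hid : (0 * (d0 + m) ^ 2 + B * (d0 + m) + Γ) - (0 * d0 ^ 2 + B * d0 + Γ) = B * m := by ring
  rcases lt_trichotomy B 0 with hB | hB | hB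
  · exfalso
    have : B * m ≤ -m := by nlinarith
    nlinarith
  · exact hB
  · exfalso
    have : m ≤ B * m := by nlinarith
    nlinarith

/-- Boundedness of the Hilbert function of a module with a length-two resolution over
`k[x_0, x_1, x_2]`. -/
theorem numeric {n0 n1 n2 : ℕ} (e0 : Fin n0 → ℤ) (e1 : Fin n1 → ℤ) (e2 : Fin n2 → ℤ) (N : ℤ)
    (h : ∀ d : ℤ, 0 ≤ T k e0 d - T k e1 d + T k e2 d ∧ T k e0 d - T k e1 d + T k e2 d ≤ N) :
    (n0 : ℤ) - n1 + n2 = 0 ∧ (∑ b, e0 b) - (∑ b, e1 b) + ∑ b, e2 b = 0 := by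
  set d0 : ℤ := (∑ b, |e0 b|) + (∑ b, |e1 b|) + ∑ b, |e2 b| with hd0
  have hs0 : 0 ≤ ∑ b, |e0 b| := Finset.sum_nonneg (fun b _ => abs_nonneg _)
  have hs1 : 0 ≤ ∑ b, |e1 b| := Finset.sum_nonneg (fun b _ => abs_nonneg _)
  have hs2 : 0 ≤ ∑ b, |e2 b| := Finset.sum_nonneg (fun b _ => abs_nonneg _)
  have hb0 : ∀ b, e0 b ≤ d0 := fun b => by
    have h1 : |e0 b| ≤ ∑ b, |e0 b| :=
      Finset.single_le_sum (f := fun b => |e0 b|) (fun b _ => abs_nonneg _) (Finset.mem_univ b)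
    have := le_abs_self (e0 b)
    omega
  have hb1 : ∀ b, e1 b ≤ d0 := fun b => by
    have h1 : |e1 b| ≤ ∑ b, |e1 b| :=
      Finset.single_le_sum (f := fun b => |e1 b|) (fun b _ => abs_nonneg _) (Finset.mem_univ b)
    have := le_abs_self (e1 b)
    omega
  have hb2 : ∀ b, e2 b ≤ d0 := fun b => by
    have h1 : |e2 b| ≤ ∑ b, |e2 b| :=
      Finset.single_le_sum (f := fun b => |e2 b|) (fun b _ => abs_nonneg _) (Finset.mem_univ b)
    have := le_abs_self (e2 b)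
    omega
  have key := quad_bounded (((n0 : ℤ) - n1 + n2))
    ((3 * n0 - 2 * ∑ b, e0 b) - (3 * n1 - 2 * ∑ b, e1 b) + (3 * n2 - 2 * ∑ b, e2 b))
    ((∑ b, (e0 b ^ 2 - 3 * e0 b + 2)) - (∑ b, (e1 b ^ 2 - 3 * e1 b + 2)) +
      ∑ b, (e2 b ^ 2 - 3 * e2 b + 2)) (2 * N) d0 (by
      intro d hd
      have t0 := two_mul_T k e0 d (fun b => le_trans (hb0 b) hd)
      have t1 := two_mul_T k e1 d (fun b => le_trans (hb1 b) hd)
      have t2 := two_mul_T k e2 d (fun b => le_trans (hb2 b) hd)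
      have hh := h d
      constructor
      · nlinarith
      · nlinarith)
  obtain ⟨hA, hB⟩ := key
  refine ⟨hA, ?_⟩
  linarith

end Groth.Agent.H2.PtsRes
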