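import Mathlib
import Groth.Agent.Lib.Helper2.HypHilb

/-! The homogeneous vanishing ideal of a finite set of points of the projective plane is
saturated, and some element of the ideal of the variables is a nonzerodivisor modulo it. -/

universe u

namespace Groth.Agent.H2.PtsRes

open MvPolynomial

variable {k : Type u} [Field k] (Z : Finset (Fin 3 → k)) (I : Ideal (MvPolynomial (Fin 3) k))
  (hI : ∀ f : MvPolynomial (Fin 3) k, f ∈ I ↔
    ∀ p ∈ Z, ∀ j : ℕ, eval p (homogeneousComponent j f) = 0)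

include hI

lemma saturated (hZ : ∀ p ∈ Z, p ≠ 0) {f : MvPolynomial (Fin 3) k}
    (h : ∀ i : Fin 3, X i * f ∈ I) : f ∈ I := by
  rw [hI]
  intro p hp j
  obtain ⟨i, hi⟩ : ∃ i, p i ≠ 0 := by
    by_contra hcon
    push Not at hcon
    exact hZ p hp (funext hcon)
  have h1 := (hI _).1 (h i) p hp (j + 1)
  rw [HypHilb.homogeneousComponent_mul_of_left (X i) f 1 (j + 1) (isHomogeneous_X k i)
    (by omega), map_mul, Nat.add_sub_cancel, eval_X] at h1
  exact (mul_eq_zero.1 h1).resolve_left hi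

theorem exists_regular (hZ : ∀ p ∈ Z, p ≠ 0) :
    ∃ g : MvPolynomial (Fin 3) k, constantCoeff g = 0 ∧ ∀ f, g * f ∈ I → f ∈ I := by
  classical
  set 𝔪 : Ideal (MvPolynomial (Fin 3) k) := RingHom.ker (constantCoeff (R := k) (σ := Fin 3))
    with h𝔪
  have hmax : 𝔪.IsMaximal :=
    RingHom.ker_isMaximal_of_surjective _ (fun c => ⟨C c, constantCoeff_C _ c⟩)
  have hfin : (associatedPrimes (MvPolynomial (Fin 3) k) (MvPolynomial (Fin 3) k ⧸ I)).Finite :=
    associatedPrimes.finite _ _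
  have hnot : ¬ ((𝔪 : Set (MvPolynomial (Fin 3) k)) ⊆
      ⋃ p ∈ associatedPrimes (MvPolynomial (Fin 3) k) (MvPolynomial (Fin 3) k ⧸ I),
        (p : Set (MvPolynomial (Fin 3) k))) := by
    intro hsub
    have hsub' : (𝔪 : Set (MvPolynomial (Fin 3) k)) ⊆
        ⋃ p ∈ (↑hfin.toFinset : Set (Ideal (MvPolynomial (Fin 3) k))),
          ((id p : Ideal (MvPolynomial (Fin 3) k)) : Set (MvPolynomial (Fin 3) k)) := by
      simpa using hsub
    obtain ⟨P, hP, hle⟩ := (Ideal.subset_union_prime (s := hfin.toFinset) (f := id) ⊥ ⊥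
      (fun P hP _ _ => (hfin.mem_toFinset.1 hP).isPrime)).1 hsub'
    have hPa := hfin.mem_toFinset.1 hP
    have hPp : P.IsPrime := hPa.isPrime
    have hPm : 𝔪 = P := hmax.eq_of_le hPp.ne_top hle
    obtain ⟨-, x, hx⟩ := (isAssociatedPrime_iff (I := P)
      (M := MvPolynomial (Fin 3) k ⧸ I)).1 hPa
    obtain ⟨f, rfl⟩ := Ideal.Quotient.mk_surjective x
    have hfI : f ∈ I := by
      apply saturated Z I hI hZ
      intro i
      have hXi : (X i : MvPolynomial (Fin 3) k) ∈ P := by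
        rw [← hPm, h𝔪, RingHom.mem_ker, constantCoeff_X]
      rw [hx, Submodule.mem_colon_singleton, Submodule.mem_bot] at hXi
      rw [← Ideal.Quotient.eq_zero_iff_mem, map_mul]
      exact hXi
    have h1 : (1 : MvPolynomial (Fin 3) k) ∈ P := by
      rw [hx, Submodule.mem_colon_singleton, Submodule.mem_bot, one_smul]
      exact Ideal.Quotient.eq_zero_iff_mem.2 hfI
    exact hPp.ne_top ((Ideal.eq_top_iff_one _).2 h1)
  rw [Set.not_subset] at hnot
  obtain ⟨g, hg𝔪, hg⟩ := hnot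
  refine ⟨g, hg𝔪, fun f hgf => ?_⟩
  by_contra hfI
  apply hg
  rw [biUnion_associatedPrimes_eq_zero_divisors]
  refine ⟨Ideal.Quotient.mk I f, ?_, ?_⟩
  · rwa [Ne, Ideal.Quotient.eq_zero_iff_mem]
  · show g • Ideal.Quotient.mk I f = 0
    have : g • Ideal.Quotient.mk I f = Ideal.Quotient.mk I (g * f) := rfl
    rw [this]
    exact Ideal.Quotient.eq_zero_iff_mem.2 hgf

end Groth.Agent.H2.PtsRes
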