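import Mathlib
import Groth.Prelude.Def_GrSyz
import Groth.Agent.Lib.Helper2.PtsGen4
import Groth.Agent.Lib.Helper2.PtsRes3
import Groth.Agent.Lib.Helper2.PtsRes4
import Groth.Agent.Lib.Helper2.MatRes2
import Groth.Agent.Lib.Helper2.MatRes3
import Groth.Agent.Lib.Helper2.GrSyzExist

/-! The homogeneous vanishing ideal of a finite set of points of the projective plane has a free
resolution of length one. -/

universe u

namespace Groth.Agent.H2.PtsRes

open MvPolynomial

section Std

variable {k : Type u} [Field k] {σ : Type*}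

lemma mem_stdGr_of_isHomogeneous {n : ℕ} {p : MvPolynomial σ k} (hp : p.IsHomogeneous n) :
    p ∈ GrSyz.stdGr k σ (n : ℤ) := by
  intro d hd
  have h := hp hd
  rw [Finsupp.weight_apply, Finsupp.sum] at h ⊢
  simp only [smul_eq_mul, mul_one, Pi.one_apply, nsmul_eq_mul] at h ⊢
  exact_mod_cast h

lemma smul_one_mk (I : Ideal (MvPolynomial σ k)) (x : MvPolynomial σ k) :
    x • (1 : MvPolynomial σ k ⧸ I) = Ideal.Quotient.mk I x := by
  have : x • (1 : MvPolynomial σ k ⧸ I) = Ideal.Quotient.mk I (x * 1) := rfl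
  rw [this, mul_one]

end Std

variable {k : Type u} [Field k] (Z : Finset (Fin 3 → k)) (I : Ideal (MvPolynomial (Fin 3) k))
  (hI : ∀ f : MvPolynomial (Fin 3) k, f ∈ I ↔
    ∀ p ∈ Z, ∀ j : ℕ, eval p (homogeneousComponent j f) = 0)

include hI

lemma isHomogeneous_I : I.IsHomogeneous (GrSyz.stdGr k (Fin 3)) := by
  classical
  intro j f hf
  have hsum := sum_homogeneousComponent f
  have h1 : (DirectSum.decompose (GrSyz.stdGr k (Fin 3)) f j : MvPolynomial (Fin 3) k) =
      ∑ n ∈ Finset.range (f.totalDegree + 1),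
        (DirectSum.decompose (GrSyz.stdGr k (Fin 3)) (homogeneousComponent n f) j :
          MvPolynomial (Fin 3) k) := by
    conv_lhs => rw [← hsum]
    rw [DirectSum.decompose_sum, DFinsupp.finsetSum_apply, AddSubmonoidClass.coe_finsetSum]
  rw [h1]
  refine I.sum_mem (fun n _ => ?_)
  have hmem : homogeneousComponent n f ∈ GrSyz.stdGr k (Fin 3) (n : ℤ) :=
    mem_stdGr_of_isHomogeneous (homogeneousComponent_isHomogeneous n f)
  by_cases hnj : (n : ℤ) = j
  · subst hnj
    rw [DirectSum.decompose_of_mem_same _ hmem]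
    exact PtsGen.hhom_of_vanishing Z I hI f hf n
  · rw [DirectSum.decompose_of_mem_ne _ hmem hnj]
    exact I.zero_mem

lemma I_ne_bot : I ≠ ⊥ := by
  classical
  set d := Z.card with hd
  let ev : homogeneousSubmodule (Fin 3) k d →ₗ[k] (Z → k) :=
    LinearMap.pi (fun p => ((aeval (R := k) p.1).toLinearMap).domRestrict
      (homogeneousSubmodule (Fin 3) k d))
  have hev : ∀ x (p : Z), ev x p = eval p.1 x.1 := fun x p => by
    show aeval p.1 x.1 = _
    exact congrFun (aeval_eq_eval (p.1)) x.1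
  have hfr : Module.finrank k (homogeneousSubmodule (Fin 3) k d) = (d + 2).choose 2 :=
    HypHilb.finrank_homogeneousSubmodule 2 d
  have hfd : FiniteDimensional k (homogeneousSubmodule (Fin 3) k d) := by
    apply Module.finite_of_finrank_pos
    rw [hfr]
    exact Nat.choose_pos (by omega)
  have hlt : Module.finrank k (Z → k) < Module.finrank k (homogeneousSubmodule (Fin 3) k d) := by
    rw [Module.finrank_fintype_fun_eq_card, Fintype.card_coe, hfr, ← hd]
    have h2 : (d + 2).choose 2 = (d + 1).choose 1 + (d + 1).choose 2 := Nat.choose_succ_succ' (d + 1) 1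
    rw [Nat.choose_one_right] at h2
    omega
  have hker := LinearMap.ker_ne_bot_of_finrank_lt (f := ev) hlt
  obtain ⟨x, hx, hx0⟩ := (Submodule.ne_bot_iff _).1 hker
  intro hbot
  apply hx0
  apply Subtype.ext
  have hxI : x.1 ∈ I := by
    rw [PtsGen.mem_of_homogeneous Z I hI ((mem_homogeneousSubmodule d x.1).1 x.2)]
    intro p hp
    have := congrFun (LinearMap.mem_ker.1 hx) ⟨p, hp⟩
    rw [hev] at this
    exact this
  rw [hbot] at hxI
  exact hxI

theorem main (hZ : ∀ p ∈ Z, p ≠ 0) :
    ∃ (n1 n2 : ℕ) (Ψ : Matrix (Fin n1) (Fin n2) (MvPolynomial (Fin 3) k))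
      (π : (Fin n1 → MvPolynomial (Fin 3) k) →ₗ[MvPolynomial (Fin 3) k] MvPolynomial (Fin 3) k),
      LinearMap.ker Ψ.mulVecLin = ⊥ ∧ LinearMap.ker π = LinearMap.range Ψ.mulVecLin ∧
        LinearMap.range π = I := by
  classical
  have hIh := isHomogeneous_I Z I hI
  let aug0 : Fin 1 → MvPolynomial (Fin 3) k ⧸ I := fun _ => 1
  have hInv : GrSyzExist.Inv (GrSyz.stdGr k (Fin 3))
      ⟨1, fun _ => 0, LinearMap.ker (Fintype.linearCombination (MvPolynomial (Fin 3) k) aug0)⟩ := by
    intro v hv j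
    have hv0 : v 0 ∈ I := by
      rw [LinearMap.mem_ker, Fintype.linearCombination_apply] at hv
      simp only [Finset.univ_unique, Fin.default_eq_zero, Finset.sum_singleton, aug0] at hv
      rw [← Ideal.Quotient.eq_zero_iff_mem]
      rw [← smul_one_mk I (v 0)]
      exact hv
    show (GrComp.free (GrSyz.stdGr k (Fin 3)) (fun _ : Fin 1 => (0 : ℤ))).comp j v ∈
      LinearMap.ker (Fintype.linearCombination (MvPolynomial (Fin 3) k) aug0)
    rw [LinearMap.mem_ker, Fintype.linearCombination_apply]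
    simp only [Finset.univ_unique, Fin.default_eq_zero, Finset.sum_singleton, aug0]
    rw [GrComp.free_comp_apply]
    have h2 : GradedRing.proj (GrSyz.stdGr k (Fin 3)) (j - 0) (v 0) ∈ I := hIh _ hv0
    rw [smul_one_mk]
    exact Ideal.Quotient.eq_zero_iff_mem.2 h2
  obtain ⟨rk, deg, d, aug, ⟨hrk0, haug⟩, hz, hs, hgood⟩ := ResRec.exists_resolution
    (R := MvPolynomial (Fin 3) k) (Inv := GrSyzExist.Inv (GrSyz.stdGr k (Fin 3)))
    (Good := GrSyzExist.Good (GrSyz.stdGr k (Fin 3))) (GrSyzExist.step (GrSyz.stdGr k (Fin 3)))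
    (fun n _ aug => n = 1 ∧ ∀ b, aug b = (1 : MvPolynomial (Fin 3) k ⧸ I)) 1 (fun _ => 0) aug0
    ⟨rfl, fun _ => rfl⟩ hInv
  -- the range of `d 0`
  have hrange0 : ∀ w : Fin (rk 0) → MvPolynomial (Fin 3) k,
      w ∈ LinearMap.range (Matrix.mulVecLin (d 0)) ↔ ∑ b, w b ∈ I := by
    intro w
    rw [← hz, LinearMap.mem_ker, Fintype.linearCombination_apply]
    have : ∑ b, w b • aug b = Ideal.Quotient.mk I (∑ b, w b) := by
      rw [map_sum]
      refine Finset.sum_congr rfl (fun b _ => ?_)
      rw [haug b, smul_one_mk]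
    rw [this, Ideal.Quotient.eq_zero_iff_mem]
  have hex : ∀ i, MatRes.ExactAt (fun i => Fin (rk i)) d i := hs
  -- the regular element
  obtain ⟨g, hg0, hgreg⟩ := exists_regular Z I hI hZ
  have hreg : ∀ w : Fin (rk 0) → MvPolynomial (Fin 3) k,
      (∃ v, Matrix.mulVec (d 0) v = g • w) → ∃ u, Matrix.mulVec (d 0) u = w := by
    rintro w ⟨v, hv⟩
    have h1 : g • w ∈ LinearMap.range (Matrix.mulVecLin (d 0)) := ⟨v, hv⟩
    rw [hrange0] at h1
    have h2 : ∑ b, w b ∈ I := by
      apply hgreg
      rw [Finset.mul_sum]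
      exact h1
    exact (hrange0 w).2 h2
  -- minimality beyond the first matrix
  have hmin : ∀ i a b, constantCoeff (d (i + 1) a b) = 0 := by
    intro i a b
    by_contra hne
    have hnot : d (i + 1) a b ∉ (GrSyz.irrel (GrSyz.stdGr k (Fin 3))).toIdeal := by
      rw [GrSyzBasic.mem_irrel_iff]
      exact hne
    have hu : IsUnit (d (i + 1) a b) :=
      GrSyzMin.isUnit_of_mem_stdGr_of_notMem_irrel _ _ ((hgood (i + 1)).1 a b) hnot
    have hcol : (fun a' => d (i + 1) a' b) = Matrix.mulVecLin (d (i + 1)) (Pi.single b 1) := by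
      ext a'
      simp
    have hker : (fun a' => d (i + 1) a' b) ∈ LinearMap.ker (Matrix.mulVecLin (d i)) := by
      rw [hs i, hcol]
      exact ⟨_, rfl⟩
    rw [LinearMap.mem_ker, ← GrSyzMin.linearCombination_columns] at hker
    exact (hgood i).2 a (GrSyzMin.mem_span_of_relation _ _ a hu hker)
  -- Hilbert's syzygy theorem on the cone
  have hcone := MatRes.hs k 3 (MatRes.coneι (fun i => Fin (rk i)))
    (MatRes.coneD (fun i => Fin (rk i)) d g) 0
    (fun i _ => MatRes.cone_exactAt hex hreg i)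
    (fun i hi => by
      obtain ⟨i', rfl⟩ : ∃ i', i = i' + 1 := ⟨i - 1, by omega⟩
      obtain ⟨i'', rfl⟩ : ∃ i'', i' = i'' + 1 := ⟨i' - 1, by omega⟩
      intro a b
      have := MatRes.coneD_mem (ι := fun i => Fin (rk i)) (D := d) (g := g)
        (RingHom.ker (constantCoeff (R := k) (σ := Fin 3))) hg0 (i'' + 1)
        (fun a b => hmin (i'' + 1) a b) (fun a b => hmin i'' a b) a b
      exact this)
    3 (by omega)
  have hrk3 : IsEmpty (Fin (rk 3)) := by
    have h4 : IsEmpty (Fin (rk 4) ⊕ Fin (rk 3)) := hcone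
    exact (isEmpty_sum.1 h4).2
  -- the unique index of the zeroth term
  have hb0 : ∀ b : Fin (rk 0), b = ⟨0, by omega⟩ := by
    intro b
    apply Fin.ext
    have := b.2
    show b.val = 0
    omega
  refine ⟨rk 1, rk 2, d 1,
    (LinearMap.proj (⟨0, by omega⟩ : Fin (rk 0))) ∘ₗ Matrix.mulVecLin (d 0), ?_, ?_, ?_⟩
  · rw [hs 1, LinearMap.range_eq_bot]
    apply LinearMap.ext
    intro v
    funext a
    show Matrix.mulVec (d 2) v a = 0
    simp only [Matrix.mulVec, dotProduct]
    exact Finset.sum_of_isEmpty _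
  · rw [← hs 0]
    ext v
    rw [LinearMap.mem_ker, LinearMap.mem_ker, LinearMap.comp_apply, LinearMap.proj_apply]
    constructor
    · intro h
      funext b
      rw [hb0 b]
      exact h
    · intro h
      rw [h]
      rfl
  · ext y
    constructor
    · rintro ⟨v, rfl⟩
      have h1 : Matrix.mulVecLin (d 0) v ∈ LinearMap.range (Matrix.mulVecLin (d 0)) := ⟨v, rfl⟩
      rw [hrange0] at h1
      have h2 : ∑ b, Matrix.mulVecLin (d 0) v b =
          Matrix.mulVecLin (d 0) v (⟨0, by omega⟩ : Fin (rk 0)) := by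
        rw [Finset.sum_eq_single (⟨0, by omega⟩ : Fin (rk 0))]
        · intro b _ hb
          exact absurd (hb0 b) hb
        · intro h
          exact absurd (Finset.mem_univ _) h
      rw [h2] at h1
      exact h1
    · intro hy
      have h1 : (fun _ : Fin (rk 0) => y) ∈ LinearMap.range (Matrix.mulVecLin (d 0)) := by
        rw [hrange0]
        rw [Finset.sum_eq_single (⟨0, by omega⟩ : Fin (rk 0))]
        · exact hy
        · intro b _ hb
          exact absurd (hb0 b) hb
        · intro h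
          exact absurd (Finset.mem_univ _) h
      obtain ⟨v, hv⟩ := h1
      refine ⟨v, ?_⟩
      rw [LinearMap.comp_apply, hv]
      rfl

end Groth.Agent.H2.PtsRes
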