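import Groth.Agent.Lib.Helper2.PFAlgA
import Groth.Agent.Lib.Helper2.PFCohD
import Groth.Agent.Lib.Helper2.PFFinD
import Groth.Agent.Lib.Helper2.GXBaseB
import Groth.Agent.Lib.Lead.CohLES.DualLin
import Groth.Agent.Lib.Lead.CohLES.H0Lin
import Groth.Agent.Lib.Lead.CohLES.Euler
import Groth.Agent.Lib.Lead.SC.Restrict
import Groth.Agent.Lib.Helper3.ZClosLib

/-!
# Linear dimension shifting for `H^p(U, N~|_U)` on an open of `Spec A` (helper2)
-/

set_option autoImplicit false
set_option linter.style.haveILetI false
universe u
open CategoryTheory Limits Opposite TopologicalSpace AlgebraicGeometry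

noncomputable section

namespace Groth.Agent.H2.PunctLin

open Groth.Agent.H2.PFAlg Groth.Agent.LD Groth.Agent.LD.CL

variable (A : Type u) [CommRing A] (U : (Spec (CommRingCat.of A)).Opens)

/-- `N ↦ N~|_U` carries short exact sequences to short exact sequences. -/
theorem shortExact_TF {S : ShortComplex (ModuleCat.{u} A)} (hS : S.ShortExact) :
    (S.map (TF A U)).ShortExact := by
  have h0 : (S.map (tilde.functor (CommRingCat.of A))).ShortExact :=
    Groth.Agent.H2.PFCoh.shortExact_tilde (CommRingCat.of A) hS
  haveI : PreservesFiniteLimits (Scheme.Modules.restrictFunctor U.ι) :=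
    Groth.Agent.H3.ZClosLib.preservesFiniteLimits_restrictFunctor U
  haveI : (Scheme.Modules.restrictFunctor U.ι).Additive :=
    (Scheme.Modules.restrictAdjunction U.ι).left_adjoint_additive
  haveI : PreservesFiniteColimits (Scheme.Modules.restrictFunctor U.ι) := by
    haveI : PreservesColimitsOfSize.{0, 0} (Scheme.Modules.restrictFunctor U.ι) :=
      (Scheme.Modules.restrictAdjunction U.ι).leftAdjoint_preservesColimits
    exact PreservesColimitsOfSize.preservesFiniteColimits _
  exact h0.map_of_exact (Scheme.Modules.restrictFunctor U.ι)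

/-- higher cohomology of `E~|_U` vanishes for `E` injective (over a Noetherian ring). -/
theorem subsingleton_HH_TF_of_injective [IsNoetherianRing A] (E : ModuleCat.{u} A) [Injective E]
    (p : ℕ) : Subsingleton (Coh.HH (U : Scheme.{u}) ((TF A U).obj E) (p + 1)) := by
  obtain ⟨e⟩ := Groth.Agent.LD.SC.HH_restrict_equiv U.ι
    (tilde (R := CommRingCat.of A) E) (p + 1)
  haveI := Groth.Agent.H2.PFCoh.isFlasque_tilde_of_injective A E
  haveI := Groth.Agent.LD.SC.subsingleton_ext_of_isFlasque p
    (Coh.toAb (tilde (R := CommRingCat.of A) E)) U.ι.opensRange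
  exact e.toEquiv.subsingleton

end Groth.Agent.H2.PunctLin
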