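import Groth.Agent.Lib.Helper2.PunctLinA
import Groth.Agent.Lib.Helper2.PFSecL

/-!
# `H^0(U, N~|_U)` is the ideal transform, linearly and naturally (helper2)
-/

set_option autoImplicit false
set_option linter.style.haveILetI false
universe u
open CategoryTheory Limits Opposite TopologicalSpace AlgebraicGeometry

noncomputable section

namespace Groth.Agent.H2.PunctLin

open Groth.Agent.H2.PFAlg Groth.Agent.LD Groth.Agent.LD.CL Groth.Agent.H2.AlgzAff
  Groth.Agent.H2.PFSec Groth.Agent.H2.PFFin Groth.Agent.H6 Groth.Agent.H6.TildePunct LocCoh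

variable (A : Type u) [CommRing A] (U : (Spec (CommRingCat.of A)).Opens)

section Smul

attribute [local instance 2000] idOver

lemma TF_map_smul (L : ModuleCat.{u} A) (a : A) :
    (TF A U).map (a • 𝟙 L) = Formal.smulMod A ((TF A U).obj L) a := by
  change (Scheme.Modules.restrictFunctor U.ι).map
    ((tilde.functor (CommRingCat.of A)).map (a • 𝟙 L)) = _
  rw [tilde_map_smul]
  exact Groth.Agent.H2.GX.restrict_map_smulMod U _ a

end Smul

variable [IsNoetherianRing A] (I : Ideal A) (hU : IsPunct I (cv U))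

/-- `H⁰(U, N~|_U) → D_I(N)` -/
def ι0 (N : Type u) [AddCommGroup N] [Module A N] :
    Coh.HH (U : Scheme.{u}) ((TF A U).obj (ModuleCat.of A N)) 0 → DT I N :=
  fun x => ΘW A I (U.ι ''ᵁ ⊤) (isPunct_image A U I hU) N
    (show TSec A N (U.ι ''ᵁ ⊤) from HH0Equiv ((TF A U).obj (ModuleCat.of A N)) x)

variable {N N' : Type u} [AddCommGroup N] [Module A N] [AddCommGroup N'] [Module A N']

theorem ι0_map (φ : N →ₗ[A] N') (x : Coh.HH (U : Scheme.{u}) ((TF A U).obj (ModuleCat.of A N)) 0) :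
    ι0 A U I hU N' (HHmap A ((TF A U).map (ModuleCat.ofHom φ)) 0 x) =
      dmap I φ (ι0 A U I hU N x) := by
  unfold ι0
  rw [← ΘW_tmap]
  congr 1
  exact HH0Equiv_map ((TF A U).map (ModuleCat.ofHom φ)) x

variable (N)

theorem ι0_bijective : Function.Bijective (ι0 A U I hU N) :=
  (ΘW A I (U.ι ''ᵁ ⊤) (isPunct_image A U I hU) N).bijective.comp
    (HH0Equiv ((TF A U).obj (ModuleCat.of A N))).bijective

theorem ι0_add (x y : Coh.HH (U : Scheme.{u}) ((TF A U).obj (ModuleCat.of A N)) 0) :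
    ι0 A U I hU N (x + y) = ι0 A U I hU N x + ι0 A U I hU N y := by
  unfold ι0
  rw [map_add, ← ΘWL_apply, ← ΘWL_apply, ← ΘWL_apply]
  exact map_add _ _ _

theorem ι0_smul (a : A) (x : Coh.HH (U : Scheme.{u}) ((TF A U).obj (ModuleCat.of A N)) 0) :
    ι0 A U I hU N (a • x) = a • ι0 A U I hU N x := by
  have h1 : a • x = HHmap A (Formal.smulMod A ((TF A U).obj (ModuleCat.of A N)) a) 0 x := rfl
  have h2 : (TF A U).map (ModuleCat.ofHom (a • (LinearMap.id : N →ₗ[A] N))) =
      Formal.smulMod A ((TF A U).obj (ModuleCat.of A N)) a := by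
    rw [← TF_map_smul]
    rfl
  rw [h1, ← h2, ι0_map, dmap_smul_id]

/-- the linear equivalence `H⁰(U, N~|_U) ≃ D_I(N)` -/
def ι0L : Coh.HH (U : Scheme.{u}) ((TF A U).obj (ModuleCat.of A N)) 0 ≃ₗ[A] DT I N :=
  LinearEquiv.ofBijective
    { toFun := ι0 A U I hU N
      map_add' := ι0_add A U I hU N
      map_smul' := ι0_smul A U I hU N }
    (ι0_bijective A U I hU N)

theorem ι0L_apply (x : Coh.HH (U : Scheme.{u}) ((TF A U).obj (ModuleCat.of A N)) 0) :
    ι0L A U I hU N x = ι0 A U I hU N x := rfl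

end Groth.Agent.H2.PunctLin
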