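import Groth.Agent.Lib.Helper2.PunctLinB

/-!
# A linear surjection `H^{p+1}_I(N) → H^p(U, N~|_U)`, `p ≥ 1`, `U = Spec A ∖ V(I)` (helper2)
-/

set_option autoImplicit false
set_option linter.style.haveILetI false
universe u
open CategoryTheory Limits Opposite TopologicalSpace AlgebraicGeometry

noncomputable section

namespace Groth.Agent.H2.PunctLin

open Groth.Agent.H2.PFAlg Groth.Agent.LD Groth.Agent.LD.CL Groth.Agent.H2.AlgzAff
  Groth.Agent.H2.PFSec Groth.Agent.H2.PFFin Groth.Agent.H6 Groth.Agent.H6.TildePunct LocCoh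

section Alg

variable {R : Type*} [CommRing R] {X Y Z : Type*} [AddCommGroup X] [Module R X]
  [AddCommGroup Y] [Module R Y] [AddCommGroup Z] [Module R Z]

theorem exists_factor_lin (ψ : X →ₗ[R] Y) (hs : Function.Surjective ψ) (d : X →ₗ[R] Z)
    (hle : LinearMap.ker ψ ≤ LinearMap.ker d) : ∃ D : Y →ₗ[R] Z, ∀ x, D (ψ x) = d x := by
  let eqv := LinearMap.quotKerEquivOfSurjective ψ hs
  refine ⟨(Submodule.liftQ (LinearMap.ker ψ) d hle) ∘ₗ eqv.symm.toLinearMap, fun x => ?_⟩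
  have h2 : eqv.symm (ψ x) = Submodule.Quotient.mk x := by
    rw [LinearEquiv.symm_apply_eq]
    rfl
  change (Submodule.liftQ (LinearMap.ker ψ) d hle) (eqv.symm (ψ x)) = _
  rw [h2]
  rfl

end Alg

variable (A : Type u) [CommRing A] (U : (Spec (CommRingCat.of A)).Opens)
  (I : Ideal A)

variable {N₁ N₂ N₃ : Type u} [AddCommGroup N₁] [Module A N₁] [AddCommGroup N₂] [Module A N₂]
  [AddCommGroup N₃] [Module A N₃] {f : N₁ →ₗ[A] N₂} {g : N₂ →ₗ[A] N₃}
  {w : ModuleCat.ofHom f ≫ ModuleCat.ofHom g = 0}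
  (hS : (ShortComplex.mk (ModuleCat.ofHom f) (ModuleCat.ofHom g) w).ShortExact)

/-- the connecting map of local cohomology. -/
def dL (j : ℕ) : LocCoh.H I j N₃ →ₗ[A] LocCoh.H I (j + 1) N₁ := LC.δ hS I j

/-- the connecting map of local cohomology is bijective when the middle term is acyclic. -/
theorem dL_bijective (j : ℕ) (h1 : Subsingleton (LocCoh.H I j N₂))
    (h2 : Subsingleton (LocCoh.H I (j + 1) N₂)) : Function.Bijective (dL A I hS j) := by
  constructor
  · rw [injective_iff_map_eq_zero]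
    intro z hz
    obtain ⟨y, hy⟩ := LC.exact₃ hS z hz
    have hy0 : y = 0 := @Subsingleton.elim _ h1 _ _
    rw [← hy, hy0, map_zero]
  · intro x
    exact LC.exact₁ hS x (@Subsingleton.elim _ h2 _ _)

/-- the connecting map of the cohomology of `N~|_U`. -/
def dT (j : ℕ) : Coh.HH (U : Scheme.{u}) ((TF A U).obj (ModuleCat.of A N₃)) j →ₗ[A]
    Coh.HH (U : Scheme.{u}) ((TF A U).obj (ModuleCat.of A N₁)) (j + 1) :=
  HHδ (shortExact_TF A U hS) A j

/-- the connecting map of the cohomology of `N~|_U` is surjective when the middle term is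
acyclic. -/
theorem dT_surjective (j : ℕ)
    (h : Subsingleton (Coh.HH (U : Scheme.{u}) ((TF A U).obj (ModuleCat.of A N₂)) (j + 1))) :
    Function.Surjective (dT A U hS j) := by
  intro x
  exact exact₁ (shortExact_TF A U hS) A j x (@Subsingleton.elim _ h _ _)

theorem dT_g (j : ℕ) (x : Coh.HH (U : Scheme.{u}) ((TF A U).obj (ModuleCat.of A N₂)) j) :
    dT A U hS j (HHmap A ((TF A U).map (ModuleCat.ofHom g)) j x) = 0 :=
  HHδ_g A (shortExact_TF A U hS) j x

include hS in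
/-- the inductive step. -/
theorem step (p : ℕ) (h1 : Subsingleton (LocCoh.H I (p + 1) N₂))
    (h2 : Subsingleton (LocCoh.H I (p + 2) N₂))
    (h3 : Subsingleton (Coh.HH (U : Scheme.{u}) ((TF A U).obj (ModuleCat.of A N₂)) (p + 1)))
    (σ : LocCoh.H I (p + 1) N₃ →ₗ[A] Coh.HH (U : Scheme.{u}) ((TF A U).obj (ModuleCat.of A N₃)) p)
    (hσ : Function.Surjective σ) :
    ∃ τ : LocCoh.H I (p + 2) N₁ →ₗ[A]
      Coh.HH (U : Scheme.{u}) ((TF A U).obj (ModuleCat.of A N₁)) (p + 1),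
      Function.Surjective τ := by
  let e := LinearEquiv.ofBijective (dL A I hS (p + 1)) (dL_bijective A I hS (p + 1) h1 h2)
  refine ⟨(dT A U hS p) ∘ₗ σ ∘ₗ e.symm.toLinearMap, ?_⟩
  exact (dT_surjective A U hS p h3).comp (hσ.comp e.symm.surjective)

variable [IsNoetherianRing A] (hU : IsPunct I (cv U))

include hU hS in
/-- the base case. -/
theorem base (hg : Function.Surjective g) (h1 : Subsingleton (LocCoh.H I 1 N₂))
    (h2 : Subsingleton (LocCoh.H I 2 N₂))
    (h3 : Subsingleton (Coh.HH (U : Scheme.{u}) ((TF A U).obj (ModuleCat.of A N₂)) 1)) :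
    ∃ τ : LocCoh.H I 2 N₁ →ₗ[A]
      Coh.HH (U : Scheme.{u}) ((TF A U).obj (ModuleCat.of A N₁)) 1,
      Function.Surjective τ := by
  let e := LinearEquiv.ofBijective (dL A I hS 1) (dL_bijective A I hS 1 h1 h2)
  let ψ : Coh.HH (U : Scheme.{u}) ((TF A U).obj (ModuleCat.of A N₃)) 0 →ₗ[A] LocCoh.H I 1 N₃ :=
    (LC.dtToH1 I N₃) ∘ₗ (ι0L A U I hU N₃).toLinearMap
  have hψ : Function.Surjective ψ :=
    (LC.dtToH1_surjective I N₃).comp (ι0L A U I hU N₃).surjective
  have hle : LinearMap.ker ψ ≤ LinearMap.ker (dT A U hS 0) := by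
    intro x hx
    have hx1 : ι0 A U I hU N₃ x ∈ LinearMap.ker (LC.dtToH1 I N₃) := hx
    rw [LC.ker_dtToH1] at hx1
    obtain ⟨q₀, hq₀⟩ := hx1
    obtain ⟨e₀, rfl⟩ := hg q₀
    have hx2 : x = HHmap A ((TF A U).map (ModuleCat.ofHom g)) 0
        ((ι0L A U I hU N₂).symm (LocCoh.toDT I N₂ e₀)) := by
      apply (ι0_bijective A U I hU N₃).1
      have h5 : ι0 A U I hU N₂ ((ι0L A U I hU N₂).symm (LocCoh.toDT I N₂ e₀)) =
          LocCoh.toDT I N₂ e₀ := (ι0L A U I hU N₂).apply_symm_apply _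
      rw [ι0_map, h5, dmap_toDT, hq₀]
    rw [LinearMap.mem_ker, hx2]
    exact dT_g A U hS 0 _
  obtain ⟨D, hD⟩ := exists_factor_lin ψ hψ (dT A U hS 0) hle
  refine ⟨D ∘ₗ e.symm.toLinearMap, ?_⟩
  have hDs : Function.Surjective D := by
    intro y
    obtain ⟨x, rfl⟩ := dT_surjective A U hS 0 h3 y
    exact ⟨ψ x, hD x⟩
  exact hDs.comp e.symm.surjective

end Groth.Agent.H2.PunctLin
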