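import Groth.Agent.Lib.Helper2.PunctLinC

/-!
# The linear surjection `H^{p+2}_I(N) → H^{p+1}(U, N~|_U)` by dimension shifting (helper2)
-/

set_option autoImplicit false
set_option linter.style.haveILetI false
universe u
open CategoryTheory Limits Opposite TopologicalSpace AlgebraicGeometry

noncomputable section

namespace Groth.Agent.H2.PunctLin

open Groth.Agent.H2.PFAlg Groth.Agent.LD Groth.Agent.LD.CL Groth.Agent.H2.AlgzAff
  Groth.Agent.H2.PFSec Groth.Agent.H2.PFFin Groth.Agent.H6 Groth.Agent.H6.TildePunct LocCoh

variable (A : Type u) [CommRing A] [IsNoetherianRing A] (U : (Spec (CommRingCat.of A)).Opens)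
  (I : Ideal A) (hU : IsPunct I (cv U))

include hU in
theorem exists_surj (p : ℕ) :
    ∀ (N : Type u) [AddCommGroup N] [Module A N],
      ∃ τ : LocCoh.H I (p + 2) N →ₗ[A]
        Coh.HH (U : Scheme.{u}) ((TF A U).obj (ModuleCat.of A N)) (p + 1),
        Function.Surjective τ := by
  induction p with
  | zero =>
    intro N _ _
    let E := Injective.under (ModuleCat.of A N)
    let f : N →ₗ[A] ↑E := (Injective.ι (ModuleCat.of A N)).hom
    have hf : Function.Injective f :=
      (ModuleCat.mono_iff_injective (Injective.ι (ModuleCat.of A N))).mp inferInstance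
    obtain ⟨w, hS⟩ := Depth.shortExact_mk f (LinearMap.range f).mkQ hf
      (Submodule.mkQ_surjective _) (LinearMap.exact_map_mkQ_range f)
    exact base A U I hS hU (Submodule.mkQ_surjective _) (LC.subsingleton_of_injective E 0)
      (LC.subsingleton_of_injective E 1) (subsingleton_HH_TF_of_injective A U E 0)
  | succ p ih =>
    intro N _ _
    let E := Injective.under (ModuleCat.of A N)
    let f : N →ₗ[A] ↑E := (Injective.ι (ModuleCat.of A N)).hom
    have hf : Function.Injective f :=
      (ModuleCat.mono_iff_injective (Injective.ι (ModuleCat.of A N))).mp inferInstance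
    obtain ⟨w, hS⟩ := Depth.shortExact_mk f (LinearMap.range f).mkQ hf
      (Submodule.mkQ_surjective _) (LinearMap.exact_map_mkQ_range f)
    obtain ⟨σ, hσ⟩ := ih (↑E ⧸ LinearMap.range f)
    exact step A U I hS (p + 1) (LC.subsingleton_of_injective E (p + 1))
      (LC.subsingleton_of_injective E (p + 2)) (subsingleton_HH_TF_of_injective A U E (p + 1)) σ hσ

end Groth.Agent.H2.PunctLin
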