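import Groth.Agent.Lib.Helper2.PunctLinD
import Groth.Agent.Lib.Helper2.AlgzFin7

/-!
# Coherent modules on `Spec A ∖ V(𝔞)` are restrictions of tildes of finite modules (helper2)
-/

set_option autoImplicit false
set_option linter.style.haveILetI false
universe u
open CategoryTheory Limits Opposite TopologicalSpace AlgebraicGeometry

namespace Groth.Agent.H2.PunctLin

open Groth.Agent.LD.FF Groth.Agent.H2.FormalQ Groth.Agent.H2.FormalEq Groth.Agent.LD
  Groth.Agent.H2.AlgzAff Groth.Agent.H2.LimAdic Groth.Agent.LD.QC Groth.Agent.H2.AR ARSys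
  Groth.Agent.H2.AlgzEpi Groth.Agent.H2.Mum Groth.Agent.H2.LimSec Groth.Agent.H2.AlgzCan
  Groth.Agent.H2.AlgzFin Groth.Agent.H2.AlgzExt Groth.Agent.H2.PFAlg

attribute [local instance 2000] idOver

variable {A : Type u} [CommRing A] [IsNoetherianRing A] (𝔞 : Ideal A)

/-- finitely generated cofinal submodule of the module of sections of a coherent module. -/
lemma exists_fg_cof_single (F : (↑(LocCoh.puncturedOpen A 𝔞) : Scheme.{u}).Modules)
    (hF : Coh.IsCoh F) :
    ∃ N' : Submodule A ((moduleSpecΓFunctor (R := CommRingCat.of A)).obj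
      ((Scheme.Modules.pushforward (LocCoh.puncturedOpen A 𝔞).ι).obj F)),
      N'.FG ∧ Cof 𝔞 N' := by
  classical
  let U := LocCoh.puncturedOpen A 𝔞
  let Z : (Spec (CommRingCat.of A)).Modules :=
    (Scheme.Modules.pushforward U.ι).obj F
  haveI hq : F.IsQuasicoherent := hF.1
  haveI : Z.IsQuasicoherent := QC.qc_pushforward U.ι _
  let e : Z.restrict U.ι ≅ F :=
    asIso ((Scheme.Modules.restrictAdjunction U.ι).counit.app F)
  have hft : (Z.restrict U.ι).IsFiniteType := isFiniteType_of_iso e.symm hF.2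
  obtain ⟨S, hS⟩ := (isNoetherianRing_iff_ideal_fg A).1 inferInstance 𝔞
  have hT : ∀ f : A, ∃ T : Finset ((modulesSpecToSheaf.obj Z).obj.obj (op ⊤)), f ∈ S →
      ∀ m : (modulesSpecToSheaf.obj Z).obj.obj (op ⊤), ∃ k : ℕ, f ^ k • m ∈
        Submodule.span A (T : Set ((modulesSpecToSheaf.obj Z).obj.obj (op ⊤))) := by
    intro f
    by_cases hf : f ∈ S
    · have hf𝔞 : f ∈ 𝔞 := hS ▸ Ideal.subset_span hf
      haveI := finite_sections_of_restrict_isFiniteType Z U hft
        (isAffineOpen_basicOpen_spec (R := CommRingCat.of A) f)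
        (basicOpen_le_puncturedOpen 𝔞 f hf𝔞)
      obtain ⟨T, hT⟩ := exists_finset_pow_smul_mem_top (R := CommRingCat.of A) Z f
      exact ⟨T, fun _ => hT⟩
    · exact ⟨∅, fun h => absurd h hf⟩
  choose T hT using hT
  refine ⟨Submodule.span A ((S.biUnion T : Finset ((modulesSpecToSheaf.obj Z).obj.obj (op ⊤))) :
    Set ((modulesSpecToSheaf.obj Z).obj.obj (op ⊤))), ⟨S.biUnion T, rfl⟩, ?_⟩
  have h𝔞 : (Ideal.span (S : Set A)).FG := ⟨S, rfl⟩
  have key : ∀ 𝔟 : Ideal A, 𝔟 = Ideal.span (S : Set A) → Cof 𝔟 (Submodule.span A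
      ((S.biUnion T : Finset ((modulesSpecToSheaf.obj Z).obj.obj (op ⊤))) :
        Set ((modulesSpecToSheaf.obj Z).obj.obj (op ⊤)))) := by
    intro 𝔟 h𝔟
    subst h𝔟
    apply cof_of_forall_pow_span _ h𝔞
    intro f hf x
    obtain ⟨k, hk⟩ := hT f hf x
    refine ⟨k, Submodule.span_mono ?_ hk⟩
    intro y hy
    exact Finset.mem_biUnion.mpr ⟨f, hf, hy⟩
  exact key 𝔞 hS.symm

/-- a coherent module on `Spec A ∖ V(𝔞)` is the restriction of the tilde of a finite module. -/
theorem exists_iso_TF_finite (F : (↑(LocCoh.puncturedOpen A 𝔞) : Scheme.{u}).Modules)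
    (hF : Coh.IsCoh F) :
    ∃ (N : Type u) (_ : AddCommGroup N) (_ : Module A N), Module.Finite A N ∧
      Nonempty ((TF A (LocCoh.puncturedOpen A 𝔞)).obj (ModuleCat.of A N) ≅ F) := by
  obtain ⟨N', hfg, hcof⟩ := exists_fg_cof_single 𝔞 F hF
  let U := LocCoh.puncturedOpen A 𝔞
  let Z : (Spec (CommRingCat.of A)).Modules :=
    (Scheme.Modules.pushforward U.ι).obj F
  haveI hq : F.IsQuasicoherent := hF.1
  haveI : Z.IsQuasicoherent := QC.qc_pushforward U.ι _
  haveI h1 := isIso_restrict_tilde_subIncl 𝔞 N' hcof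
  haveI h2 : IsIso (Scheme.Modules.fromTildeΓ (R := CommRingCat.of A) Z) :=
    Scheme.Modules.isIso_fromTildeΓ_of_isQuasicoherent (R := CommRingCat.of A) Z
  let e1 := asIso ((Scheme.Modules.restrictFunctor U.ι).map ((Tf A).map (subIncl N')))
  let e2 := (Scheme.Modules.restrictFunctor U.ι).mapIso
    (asIso (Scheme.Modules.fromTildeΓ (R := CommRingCat.of A) Z))
  let e3 : Z.restrict U.ι ≅ F :=
    asIso ((Scheme.Modules.restrictAdjunction U.ι).counit.app F)
  exact ⟨N', inferInstance, inferInstance, Module.Finite.iff_fg.2 hfg, ⟨e1 ≪≫ e2 ≪≫ e3⟩⟩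

end Groth.Agent.H2.PunctLin
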