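import Groth.Agent.Lib.Helper2.PunctLinE
import Groth.Agent.Lib.Helper6.LCArtinian

/-!
# Cohomology of coherent modules on the punctured spectrum of a Noetherian local ring is Artinian
(helper2)
-/

set_option autoImplicit false
set_option linter.style.haveILetI false
universe u
open CategoryTheory Limits Opposite TopologicalSpace AlgebraicGeometry

namespace Groth.Agent.H2.PunctLin

open Groth.Agent.H2.PFAlg Groth.Agent.LD Groth.Agent.LD.CL Groth.Agent.H6.TildePunct

/-- `H^i(U, F)`, `i > 0`, is Artinian for `F` coherent on the punctured spectrum `U` of a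
Noetherian local ring. -/
theorem isArtinian_HH (A : Type u) [CommRing A] [IsNoetherianRing A] [IsLocalRing A]
    (F : (↑(LocCoh.puncturedOpen A (IsLocalRing.maximalIdeal A)) : Scheme.{u}).Modules)
    (hF : Coh.IsCoh F) (i : ℕ) (hi : 0 < i) :
    IsArtinian A (Coh.HH (↑(LocCoh.puncturedOpen A (IsLocalRing.maximalIdeal A)) : Scheme.{u})
      F i) := by
  obtain ⟨N, _, _, hfin, ⟨e⟩⟩ := exists_iso_TF_finite (IsLocalRing.maximalIdeal A) F hF
  obtain ⟨p, rfl⟩ : ∃ p, i = p + 1 := ⟨i - 1, by omega⟩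
  obtain ⟨τ, hτ⟩ := exists_surj A (LocCoh.puncturedOpen A (IsLocalRing.maximalIdeal A))
    (IsLocalRing.maximalIdeal A) (isPunct (IsLocalRing.maximalIdeal A)) p N
  haveI : IsArtinian A (LocCoh.H (IsLocalRing.maximalIdeal A) (p + 2) N) :=
    Groth.Agent.H6.LC.isArtinian_H (IsLocalRing.maximalIdeal A) (p + 2) N
  have hs : Function.Surjective (HHmap A e.hom (p + 1)) := by
    intro y
    refine ⟨HHmap A e.inv (p + 1) y, ?_⟩
    rw [← LinearMap.comp_apply, ← HHmap_comp, e.inv_hom_id, HHmap_id]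
    rfl
  exact isArtinian_of_surjective _ ((HHmap A e.hom (p + 1)) ∘ₗ τ) (hs.comp hτ)

/-- an inverse system of modules whose cohomology in degree `i` is Artinian over a base ring is
Mittag-Leffler in cohomology of degree `i`. -/
theorem ml_of_isArtinian {X : Scheme.{u}} (A : Type u) [CommRing A]
    [X.Over (Spec (CommRingCat.of A))] (G : ℕᵒᵖ ⥤ X.Modules) (i n : ℕ)
    (hA : IsArtinian A (Coh.HH X (G.obj (op n)) i)) :
    ∃ (r : ℕ) (hnr : n ≤ r), ∀ (s : ℕ) (hrs : r ≤ s),
      Set.range (Sheaf.H.map ((SheafOfModules.toSheaf _).map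
        (G.map (homOfLE (hnr.trans hrs : n ≤ s)).op)) i) =
      Set.range (Sheaf.H.map ((SheafOfModules.toSheaf _).map
        (G.map (homOfLE (hnr : n ≤ r)).op)) i) := by
  let R : ℕ → Submodule A (Coh.HH X (G.obj (op n)) i) := fun k =>
    LinearMap.range (HHmap A (G.map (homOfLE (Nat.le_add_right n k)).op) i)
  have hanti : ∀ k l, k ≤ l → R l ≤ R k := by
    intro k l hkl
    rintro _ ⟨x, rfl⟩
    refine ⟨HHmap A (G.map (homOfLE (Nat.add_le_add_left hkl n)).op) i x, ?_⟩
    rw [← LinearMap.comp_apply, ← HHmap_comp, ← G.map_comp]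
    rfl
  let f : ℕ →o (Submodule A (Coh.HH X (G.obj (op n)) i))ᵒᵈ :=
    ⟨fun k => OrderDual.toDual (R k), fun k l hkl => hanti k l hkl⟩
  obtain ⟨k₀, hk₀⟩ := IsArtinian.monotone_stabilizes f
  refine ⟨n + k₀, Nat.le_add_right n k₀, fun s hrs => ?_⟩
  obtain ⟨k, rfl⟩ := Nat.exists_eq_add_of_le ((Nat.le_add_right n k₀).trans hrs)
  have hk : k₀ ≤ k := by omega
  have h1 : f k₀ = f k := hk₀ k hk
  have h2 : R k = R k₀ := (congrArg OrderDual.ofDual h1).symm
  exact congrArg (fun S : Submodule A (Coh.HH X (G.obj (op n)) i) =>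
    (S : Set (Coh.HH X (G.obj (op n)) i))) h2

end Groth.Agent.H2.PunctLin
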