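import Mathlib
import Groth.Agent.Lib.Helper5.Cons.C2

/-!
# The locus where the fibre maps are quasi-finite
-/

set_option autoImplicit false

universe u

open AlgebraicGeometry CategoryTheory CategoryTheory.Limits Topology

namespace Groth.Agent.H2.QFFib

section top

variable {X' X Y' Y : Type*} [TopologicalSpace X'] [TopologicalSpace X] [TopologicalSpace Y']
  [TopologicalSpace Y]

/-- Fibres of a "cartesian" map of embeddings are homeomorphic; discreteness is transported. -/
lemma isDiscrete_fibre_iff {p : X' → X} {q : Y' → Y} {F : X' → Y'} {f : X → Y}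
    (hp : IsEmbedding p) (hq : Function.Injective q)
    (comm : ∀ x', f (p x') = q (F x'))
    (cart : ∀ x y', f x = q y' → ∃ x', p x' = x ∧ F x' = y') (y' : Y') :
    IsDiscrete (F ⁻¹' {y'}) ↔ IsDiscrete (f ⁻¹' {q y'}) := by
  have himg : p '' (F ⁻¹' {y'}) = f ⁻¹' {q y'} := by
    ext x
    constructor
    · rintro ⟨x', hx', rfl⟩
      simp only [Set.mem_preimage, Set.mem_singleton_iff] at hx' ⊢
      rw [comm, hx']
    · intro hx
      obtain ⟨x', rfl, hx'⟩ := cart x y' hx
      exact ⟨x', hx', rfl⟩
  constructor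
  · intro h
    rw [← himg]
    exact h.image hp.isInducing
  · intro h
    have h2 : F ⁻¹' {y'} = p ⁻¹' (f ⁻¹' {q y'}) := by
      ext x'
      simp only [Set.mem_preimage, Set.mem_singleton_iff]
      rw [comm]
      exact ⟨fun h => by rw [h], fun h => hq h⟩
    rw [h2]
    exact h.preimage hp.continuous.continuousOn hp.injective

end top

variable {X Y : Scheme.{u}} (f : X ⟶ Y)

lemma quasiFiniteAt_iff_isOpen_singleton [LocallyOfFiniteType f] (x : X) :
    f.QuasiFiniteAt x ↔ IsOpen ({⟨x, rfl⟩} : Set (f ⁻¹' {f x})) := by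
  rw [Scheme.Hom.quasiFiniteAt_iff_isOpen_singleton_asFiber,
    ← (f.fiberHomeo (f x)).isOpen_image]
  simp only [Set.image_singleton, Scheme.Hom.asFiber, Homeomorph.apply_symm_apply]

lemma isDiscrete_preimage_iff [LocallyOfFiniteType f] (y : Y) :
    _root_.IsDiscrete (f ⁻¹' {y}) ↔ ∀ x : X, f x = y → f.QuasiFiniteAt x := by
  rw [isDiscrete_iff_discreteTopology, discreteTopology_iff_isOpen_singleton]
  constructor
  · intro h x hx
    subst hx
    rw [quasiFiniteAt_iff_isOpen_singleton]
    exact h ⟨x, rfl⟩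
  · rintro h ⟨x, hx⟩
    have hx' : f x = y := hx
    subst hx'
    exact (quasiFiniteAt_iff_isOpen_singleton f x).1 (h x rfl)

end Groth.Agent.H2.QFFib
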