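import Mathlib

/-!
# Quasi-finiteness at a point and base change
-/

set_option autoImplicit false

universe u

open AlgebraicGeometry CategoryTheory CategoryTheory.Limits Topology

namespace Groth.Agent.H2.QFFib

variable {X' X Y' Y : Scheme.{u}} {π : X' ⟶ X} {f' : X' ⟶ Y'} {f : X ⟶ Y} {ρ : Y' ⟶ Y}

/-- Quasi-finiteness at a point is preserved by base change. -/
theorem quasiFiniteAt_of_isPullback (H : IsPullback π f' f ρ) [LocallyOfFiniteType f]
    (x' : X') (hx : f.QuasiFiniteAt (π x')) : f'.QuasiFiniteAt x' := by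
  haveI : LocallyOfFiniteType f' :=
    MorphismProperty.of_isPullback (P := @LocallyOfFiniteType) H inferInstance
  let U := f.quasiFiniteLocus
  have hU : LocallyQuasiFinite (U.ι ≫ f) := by
    rw [← Scheme.Hom.quasiFiniteLocus_eq_top_iff, Scheme.Hom.quasiFiniteLocus_comp]
    exact Scheme.Opens.ι_preimage_self U
  have H2 : IsPullback (π ∣_ U) ((π ⁻¹ᵁ U).ι ≫ f') (U.ι ≫ f) ρ :=
    (isPullback_morphismRestrict π U).paste_vert H
  have hU' : LocallyQuasiFinite ((π ⁻¹ᵁ U).ι ≫ f') :=
    MorphismProperty.of_isPullback (P := @LocallyQuasiFinite) H2 hU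
  have hmem : x' ∈ π ⁻¹ᵁ U := hx
  have h1 := Scheme.Hom.quasiFiniteAt ((π ⁻¹ᵁ U).ι ≫ f') ⟨x', hmem⟩
  rw [Scheme.Hom.quasiFiniteAt_comp_iff_of_isOpenImmersion] at h1
  exact h1

/-- The point `x` as a point of the fibre over `y = f x`. -/
noncomputable def asFib (f : X ⟶ Y) (x : X) (y : Y) (h : f x = y) : f.fiber y :=
  (f.fiberHomeo y).symm ⟨x, h⟩

lemma fiberι_asFib (f : X ⟶ Y) (x : X) (y : Y) (h : f x = y) :
    f.fiberι y (asFib f x y h) = x :=
  f.fiberι_fiberHomeo_symm _ _

lemma quasiFiniteAt_iff_isOpen_asFib (f : X ⟶ Y) [LocallyOfFiniteType f] (x : X) (y : Y)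
    (h : f x = y) : f.QuasiFiniteAt x ↔ IsOpen ({asFib f x y h} : Set (f.fiber y)) := by
  subst h
  exact Scheme.Hom.quasiFiniteAt_iff_isOpen_singleton_asFiber

/-- Quasi-finiteness at a point descends along base change. -/
theorem quasiFiniteAt_of_isPullback' (H : IsPullback π f' f ρ) [LocallyOfFiniteType f]
    (x' : X') (hx : f'.QuasiFiniteAt x') : f.QuasiFiniteAt (π x') := by
  haveI : LocallyOfFiniteType f' :=
    MorphismProperty.of_isPullback (P := @LocallyOfFiniteType) H inferInstance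
  have hy : f (π x') = ρ (f' x') := by
    rw [← Scheme.Hom.comp_apply, ← Scheme.Hom.comp_apply, H.w]
  have H3 := isPullback_fiberToSpecResidueField_of_isPullback H (f' x')
  let φ : f'.fiber (f' x') ⟶ f.fiber (ρ (f' x')) :=
    pullback.map f' (Y'.fromSpecResidueField (f' x')) f (Y.fromSpecResidueField (ρ (f' x')))
      π (Spec.map (ρ.residueFieldMap (f' x'))) ρ H.w.symm (by simp)
  have H3' : IsPullback φ (f'.fiberToSpecResidueField (f' x'))
      (f.fiberToSpecResidueField (ρ (f' x'))) (Spec.map (ρ.residueFieldMap (f' x'))) := H3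
  haveI : UniversallyOpen φ :=
    MorphismProperty.of_isPullback (P := @UniversallyOpen) H3'.flip inferInstance
  rw [quasiFiniteAt_iff_isOpen_asFib f' x' (f' x') rfl] at hx
  rw [quasiFiniteAt_iff_isOpen_asFib f (π x') (ρ (f' x')) hy]
  have h1 : φ ≫ f.fiberι (ρ (f' x')) = f'.fiberι (f' x') ≫ π :=
    pullback.lift_fst _ _ _
  have key : asFib f (π x') (ρ (f' x')) hy = φ (asFib f' x' (f' x') rfl) := by
    apply (f.fiberι (ρ (f' x'))).isEmbedding.injective
    rw [fiberι_asFib, ← Scheme.Hom.comp_apply, h1, Scheme.Hom.comp_apply, fiberι_asFib]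
  rw [key]
  have himg : ({φ (asFib f' x' (f' x') rfl)} : Set (f.fiber (ρ (f' x')))) =
      φ '' ({asFib f' x' (f' x') rfl} : Set (f'.fiber (f' x'))) := by
    rw [Set.image_singleton]
  rw [himg]
  exact φ.isOpenMap _ hx

end Groth.Agent.H2.QFFib
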