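import Mathlib
import Groth.Agent.Lib.Helper2.QFFib3

/-!
# Noetherian models of finitely presented algebras and constructibility of the quasi-finite locus
-/

set_option autoImplicit false

universe u

open AlgebraicGeometry CategoryTheory CategoryTheory.Limits Topology TensorProduct

namespace Groth.Agent.H2.QFFib

/-- A finitely presented algebra is a base change of a finite type algebra over a
Noetherian ring. -/
theorem exists_noetherian_model (R S : Type u) [CommRing R] [CommRing S] [Algebra R S]
    [Algebra.FinitePresentation R S] :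
    ∃ (R₀ S₀ : CommRingCat.{u}) (φ₀ : R₀ ⟶ S₀) (a : R₀ ⟶ CommRingCat.of R)
      (b : S₀ ⟶ CommRingCat.of S),
      IsNoetherianRing S₀ ∧ φ₀.hom.FiniteType ∧
        IsPushout a φ₀ (CommRingCat.ofHom (algebraMap R S)) b := by
  let P := Algebra.Presentation.ofFinitePresentation R S
  let R₀ := P.Core
  let S₀ := P.ModelOfHasCoeffs R₀
  haveI : IsNoetherianRing R₀ := Algebra.FiniteType.isNoetherianRing ℤ R₀
  haveI : Algebra.FinitePresentation R₀ S₀ := inferInstance
  haveI : Algebra.FiniteType R₀ S₀ := inferInstance
  haveI : IsNoetherianRing S₀ := Algebra.FiniteType.isNoetherianRing R₀ S₀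
  let e : R ⊗[R₀] S₀ ≃ₐ[R] S := P.tensorModelOfHasCoeffsEquiv R₀
  have H := CommRingCat.isPushout_tensorProduct R₀ R S₀
  refine ⟨CommRingCat.of R₀, CommRingCat.of S₀, CommRingCat.ofHom (algebraMap R₀ S₀),
    CommRingCat.ofHom (algebraMap R₀ R),
    CommRingCat.ofHom ((e : R ⊗[R₀] S₀ →+* S).comp
      (Algebra.TensorProduct.includeRight (R := R₀) (A := R) (B := S₀)).toRingHom),
    ‹_›, ?_, ?_⟩
  · rw [CommRingCat.hom_ofHom, RingHom.finiteType_algebraMap]
    infer_instance
  · refine H.of_iso (Iso.refl _) (Iso.refl _) (Iso.refl _) e.toRingEquiv.toCommRingCatIso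
      (by simp) (by simp) ?_ ?_
    · ext r
      have := e.commutes r
      rw [Algebra.TensorProduct.algebraMap_apply] at this
      simpa using this
    · rw [Iso.refl_hom, Category.id_comp]
      rfl

end Groth.Agent.H2.QFFib
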