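import Mathlib
import Groth.Agent.Lib.Helper2.QFFib4

/-!
# The quasi-finite locus of a morphism locally of finite presentation is locally constructible
-/

set_option autoImplicit false

universe u

open AlgebraicGeometry CategoryTheory CategoryTheory.Limits Topology TensorProduct

namespace Groth.Agent.H2.QFFib

theorem isConstructible_of_isPullback {X X₀ Y Y₀ : Scheme.{u}} {π : X ⟶ X₀} {f : X ⟶ Y}
    {f₀ : X₀ ⟶ Y₀} {ρ : Y ⟶ Y₀} (H : IsPullback π f f₀ ρ) [LocallyOfFiniteType f₀]
    [TopologicalSpace.NoetherianSpace X₀] :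
    IsConstructible {x : X | f.QuasiFiniteAt x} := by
  have h0 : IsConstructible {x : X₀ | f₀.QuasiFiniteAt x} := by
    refine IsRetrocompact.isConstructible f₀.isOpen_quasiFiniteAt ?_
    intro U _ _
    exact TopologicalSpace.NoetherianSpace.isCompact _
  have h1 := π.isConstructible_preimage h0
  convert h1 using 1
  ext x
  exact ⟨fun h => quasiFiniteAt_of_isPullback' H x h, fun h => quasiFiniteAt_of_isPullback H x h⟩

theorem isConstructible_of_isAffine {A B : Scheme.{u}} (g : A ⟶ B) [IsAffine A] [IsAffine B]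
    [LocallyOfFinitePresentation g] : IsConstructible {x : A | g.QuasiFiniteAt x} := by
  have hφ : (g.appTop).hom.FinitePresentation :=
    (HasRingHomProperty.iff_of_isAffine (P := @LocallyOfFinitePresentation)).1 inferInstance
  algebraize [(g.appTop).hom]
  have : Algebra.FinitePresentation Γ(B, ⊤) Γ(A, ⊤) := hφ
  obtain ⟨R₀, S₀, φ₀, a, b, hS₀, hφ₀, hpush⟩ := exists_noetherian_model Γ(B, ⊤) Γ(A, ⊤)
  have H1 := (isPullback_SpecMap_of_isPushout a φ₀ _ b hpush).flip
  have H0 : IsPullback A.isoSpec.hom g (Spec.map g.appTop) B.isoSpec.hom :=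
    IsPullback.of_horiz_isIso ⟨(Scheme.isoSpec_hom_naturality g)⟩
  have H := H0.paste_horiz H1
  have : LocallyOfFiniteType (Spec.map φ₀) :=
    (HasRingHomProperty.Spec_iff (P := @LocallyOfFiniteType)).2 hφ₀
  have : TopologicalSpace.NoetherianSpace (Spec S₀) := by
    change TopologicalSpace.NoetherianSpace (PrimeSpectrum S₀)
    infer_instance
  exact isConstructible_of_isPullback H

end Groth.Agent.H2.QFFib

namespace Groth.Agent.H2.QFFib

/-- The quasi-finite locus of a morphism locally of finite presentation is locally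
constructible. -/
theorem isLocallyConstructible_quasiFiniteAt {X Y : Scheme.{u}} (f : X ⟶ Y)
    [LocallyOfFinitePresentation f] : IsLocallyConstructible {x : X | f.QuasiFiniteAt x} := by
  intro x
  obtain ⟨_, ⟨U : Y.Opens, hU, rfl⟩, hxU, -⟩ := Y.isBasis_affineOpens.exists_subset_of_mem_open
    (Set.mem_univ (f x)) isOpen_univ
  obtain ⟨_, ⟨V : X.Opens, hV, rfl⟩, hxV, hVU⟩ := X.isBasis_affineOpens.exists_subset_of_mem_open
    hxU (f ⁻¹ᵁ U).2
  refine ⟨V, V.2.mem_nhds hxV, V.2, ?_⟩
  have : IsAffine U.toScheme := hU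
  have : IsAffine V.toScheme := hV
  have h := isConstructible_of_isAffine (f.resLE U V hVU)
  have heq : ((Subtype.val : ↥(V : Set X) → X) ⁻¹' {x : X | f.QuasiFiniteAt x}) =
      {v : V.toScheme | (f.resLE U V hVU).QuasiFiniteAt v} := by
    ext v
    change f.QuasiFiniteAt v.1 ↔ (f.resLE U V hVU).QuasiFiniteAt v
    rw [← Scheme.Hom.quasiFiniteAt_comp_iff (f := f.resLE U V hVU) (g := U.ι),
      Scheme.Hom.resLE_comp_ι, Scheme.Hom.quasiFiniteAt_comp_iff_of_isOpenImmersion]
    rfl
  rw [heq]
  exact h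

end Groth.Agent.H2.QFFib
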