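import Mathlib
import Groth.Agent.Lib.Helper2.QFFib1
import Groth.Agent.Lib.Helper2.QFFib5
import Groth.Agent.Lib.Helper5.Cons.C3

/-!
# The locus where the fibre maps are quasi-finite (main)
-/

set_option autoImplicit false

universe u

open AlgebraicGeometry CategoryTheory CategoryTheory.Limits Topology

namespace Groth.Agent.H2.QFFib

open H5.Cons

variable {X Y S : Scheme.{u}} (f : X ⟶ Y) (g : Y ⟶ S)

lemma fibMap_locallyQuasiFinite_iff [LocallyOfFiniteType f] (s : S) :
    LocallyQuasiFinite (fibMap f g s) ↔ (f ≫ g) ⁻¹' {s} ⊆ {x | f.QuasiFiniteAt x} := by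
  have H1 := isPullback_fibMap f g s
  haveI : LocallyOfFiniteType (fibMap f g s) :=
    MorphismProperty.of_isPullback (P := @LocallyOfFiniteType) H1 inferInstance
  rw [locallyQuasiFinite_iff_isDiscrete_preimage_singleton]
  have hp : IsEmbedding (pullback.fst (f ≫ g) (S.fromSpecResidueField s)) :=
    ((f ≫ g).fiberι s).isEmbedding
  have hq : Function.Injective (pullback.fst g (S.fromSpecResidueField s)) :=
    (g.fiberι s).isEmbedding.injective
  have comm : ∀ x', f (pullback.fst (f ≫ g) (S.fromSpecResidueField s) x') =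
      pullback.fst g (S.fromSpecResidueField s) (fibMap f g s x') := by
    intro x'
    rw [← Scheme.Hom.comp_apply, ← Scheme.Hom.comp_apply, H1.w]
  have cart : ∀ x y', f x = pullback.fst g (S.fromSpecResidueField s) y' →
      ∃ x', pullback.fst (f ≫ g) (S.fromSpecResidueField s) x' = x ∧ fibMap f g s x' = y' := by
    intro x y' h
    obtain ⟨z, hz1, hz2⟩ := Scheme.Pullback.exists_preimage_pullback
      (f := f) (g := pullback.fst g (S.fromSpecResidueField s)) x y' h
    refine ⟨H1.isoPullback.inv z, ?_, ?_⟩
    · rw [← Scheme.Hom.comp_apply, H1.isoPullback_inv_fst, hz1]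
    · rw [← Scheme.Hom.comp_apply, H1.isoPullback_inv_snd, hz2]
  have hrange := range_fst_fromSpecResidueField g s
  constructor
  · intro h x hx
    have hx' : g (f x) = s := by
      have : (f ≫ g) x = s := hx
      rwa [Scheme.Hom.comp_apply] at this
    have hmem : f x ∈ Set.range (pullback.fst g (S.fromSpecResidueField s)) := by
      rw [hrange]
      exact hx'
    obtain ⟨y', hy'⟩ := hmem
    have h1 := (isDiscrete_fibre_iff hp hq comm cart y').1 (h y')
    exact (isDiscrete_preimage_iff f _).1 h1 x hy'.symm
  · intro h y'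
    rw [isDiscrete_fibre_iff hp hq comm cart y', isDiscrete_preimage_iff]
    intro x hx
    apply h
    have hmem : pullback.fst g (S.fromSpecResidueField s) y' ∈ g ⁻¹' {s} := by
      rw [← hrange]
      exact ⟨y', rfl⟩
    change (f ≫ g) x = s
    rw [Scheme.Hom.comp_apply, hx]
    exact hmem

theorem main3445 [LocallyOfFinitePresentation g] [QuasiCompact g] [QuasiSeparated g]
    [LocallyOfFinitePresentation (f ≫ g)] [QuasiCompact (f ≫ g)] [QuasiSeparated (f ≫ g)] :
    IsLocallyConstructible {s : S | LocallyQuasiFinite (fibMap f g s)} := by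
  haveI : LocallyOfFinitePresentation f :=
    Groth.Agent.H5.EtSrc.locallyOfFinitePresentation_of_comp f g inferInstance inferInstance
  have hT : IsLocallyConstructible {x : X | f.QuasiFiniteAt x} :=
    isLocallyConstructible_quasiFiniteAt f
  convert isLocallyConstructible_fibre_subset (f ≫ g) hT using 1
  ext s
  exact fibMap_locallyQuasiFinite_iff f g s

end Groth.Agent.H2.QFFib
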