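import Mathlib
import Groth.Prelude.Def_Flat
import Groth.Prelude.Def_CAlg2
import Groth.Agent.Lib.Helper2.QNormA
import Groth.Agent.Lib.Helper1.UnivHomeo
import Groth.Agent.Lib.Helper8.Hens.EtaleGU

/-! # Normalization of a geometrically unibranch integral scheme in a purely inseparable
extension of its function field is a universal homeomorphism (S13836), scheme level. -/

set_option autoImplicit false
set_option linter.style.haveILetI false
universe u

open AlgebraicGeometry CategoryTheory

namespace Groth.Agent.H2.QNorm

/-- A Zariski-local-at-target property holds for `f.fromNormalization` iff it holds for all the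
`Spec` of the integral closures over affine opens. -/
theorem fromNormalization_iff {X Y : Scheme.{u}} (f : X ⟶ Y) [QuasiCompact f] [QuasiSeparated f]
    (P : MorphismProperty Scheme.{u}) [IsZariskiLocalAtTarget P] :
    P f.fromNormalization ↔
      ∀ U : Y.affineOpens, P (Spec.map (f.normalizationDiagramMap.app (.op U.1))) := by
  rw [IsZariskiLocalAtTarget.iff_of_iSup_eq_top (P := P) _ (iSup_affineOpens_eq_top _)]
  refine forall_congr' fun U => ?_
  let e := IsOpenImmersion.isoOfRangeEq (f.fromNormalization ⁻¹ᵁ U).ι
      (f.normalizationOpenCover.f U)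
      (by simpa using congr($(f.fromNormalization_preimage U).1))
  rw [← MorphismProperty.cancel_left_of_respectsIso P e.inv,
    ← MorphismProperty.cancel_right_of_respectsIso P _ U.2.isoSpec.hom]
  have : e.inv ≫ (f.fromNormalization ∣_ U.1) ≫ U.2.isoSpec.hom =
      Spec.map (f.normalizationDiagramMap.app (.op U.1)) := by
    rw [← cancel_mono U.2.fromSpec]
    simp [IsAffineOpen.isoSpec_hom, e, Scheme.Hom.ι_fromNormalization]
    rfl
  rw [← this]
  exact Iff.rfl

section Main

variable (Y : Scheme.{u}) [IsIntegral Y] (L : Type u) [Field L] [Algebra Y.functionField L]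

/-- the morphism `Spec L → Spec K → Y`. -/
noncomputable abbrev specToY : Spec (CommRingCat.of L) ⟶ Y :=
  Spec.map (CommRingCat.ofHom (algebraMap Y.functionField L)) ≫ Y.fromSpecStalk (genericPoint Y)

lemma specToY_apply (x : Spec (CommRingCat.of L)) : (specToY Y L) x = genericPoint Y := by
  rw [specToY, Scheme.Hom.comp_apply]
  have : (Spec.map (CommRingCat.ofHom (algebraMap Y.functionField L))) x =
      IsLocalRing.closedPoint (Y.presheaf.stalk (genericPoint Y)) := Subsingleton.elim _ _
  rw [this]
  exact Scheme.fromSpecStalk_closedPoint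

theorem surjective_fromNormalization [QuasiCompact (specToY Y L)] [QuasiSeparated (specToY Y L)] :
    Surjective (specToY Y L).fromNormalization := by
  haveI : IsDominant (specToY Y L) := by
    constructor
    have hx : genericPoint Y ∈ Set.range (specToY Y L) :=
      ⟨IsLocalRing.closedPoint L, specToY_apply Y L _⟩
    have hd : Dense ({genericPoint Y} : Set Y) := dense_iff_closure_eq.mpr (genericPoint_spec Y)
    exact hd.mono (Set.singleton_subset_iff.mpr hx)
  haveI : IsDominant ((specToY Y L).toNormalization ≫ (specToY Y L).fromNormalization) := by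
    rw [Scheme.Hom.toNormalization_fromNormalization]; infer_instance
  haveI : IsDominant (specToY Y L).fromNormalization :=
    IsDominant.of_comp (specToY Y L).toNormalization _
  exact surjective_of_isDominant_of_isClosed_range _
    ((specToY Y L).fromNormalization.isClosedMap.isClosed_range)

theorem universallyInjective_fromNormalization [IsPurelyInseparable Y.functionField L]
    (hY : ∀ y : Y, CAlg2.IsGeomUnibranch (Y.presheaf.stalk y))
    [QuasiCompact (specToY Y L)] [QuasiSeparated (specToY Y L)] :
    UniversallyInjective (specToY Y L).fromNormalization := by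
  rw [fromNormalization_iff (specToY Y L) @UniversallyInjective]
  intro U
  by_cases hU : (genericPoint Y) ∈ U.1
  · haveI : Nonempty U.1 := ⟨⟨_, hU⟩⟩
    letI := ((specToY Y L).app U.1).hom.toAlgebra
    haveI := functionField_isFractionRing_of_isAffineOpen Y U.1 U.2
    have hA : ∀ (p : Ideal Γ(Y, U.1)) [p.IsPrime],
        CAlg2.IsGeomUnibranch (Localization.AtPrime p) := by
      intro p hp
      have hy : U.2.fromSpec ⟨p, hp⟩ ∈ U.1 := (U.2.isoSpec.inv _).2
      letI := TopCat.Presheaf.algebra_section_stalk Y.presheaf ⟨U.2.fromSpec ⟨p, hp⟩, hy⟩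
      haveI : IsLocalization.AtPrime (Y.presheaf.stalk (U.2.fromSpec ⟨p, hp⟩)) p :=
        U.2.isLocalization_stalk' ⟨p, hp⟩ hy
      exact Groth.Agent.H8.Hens.isGeomUnibranch_of_ringEquiv
        (IsLocalization.algEquiv p.primeCompl (Y.presheaf.stalk (U.2.fromSpec ⟨p, hp⟩))
          (Localization.AtPrime p)).toRingEquiv (hY _)
    let s := Spec.map (CommRingCat.ofHom (algebraMap Y.functionField L))
    let g := Y.fromSpecStalk (genericPoint Y)
    have hW : (⊤ : (Spec (CommRingCat.of L)).Opens) = (specToY Y L) ⁻¹ᵁ U.1 := by
      ext x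
      refine ⟨fun _ => ?_, fun _ => trivial⟩
      show (specToY Y L) x ∈ U.1
      rw [specToY_apply]; exact hU
    let k₀ : Y.functionField ⟶ Γ(Spec (CommRingCat.of L), (specToY Y L) ⁻¹ᵁ U.1) :=
      CommRingCat.ofHom (algebraMap Y.functionField L) ≫
        (Scheme.ΓSpecIso (CommRingCat.of L)).inv ≫
          (Spec (CommRingCat.of L)).presheaf.map (homOfLE le_top).op
    let k'₀ : Γ(Spec (CommRingCat.of L), (specToY Y L) ⁻¹ᵁ U.1) ⟶ CommRingCat.of L :=
      (Spec (CommRingCat.of L)).presheaf.map (eqToHom hW).op ≫
        (Scheme.ΓSpecIso (CommRingCat.of L)).hom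
    have hk : Y.germToFunctionField U.1 ≫ k₀ = (specToY Y L).app U.1 := by
      show _ = (Spec.map (CommRingCat.ofHom (algebraMap Y.functionField L)) ≫
        Y.fromSpecStalk (genericPoint Y)).app U.1
      rw [Scheme.Hom.comp_app, Scheme.fromSpecStalk_app hU]
      simp [k₀]
      rfl
    have hk' : k₀ ≫ k'₀ = CommRingCat.ofHom (algebraMap Y.functionField L) := by
      simp only [k₀, k'₀, Category.assoc]
      rw [← Functor.map_comp_assoc]
      simp
      rfl
    have hkinj : Function.Injective k'₀.hom := by
      haveI : IsIso k'₀ := by dsimp only [k'₀]; infer_instance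
      exact (ConcreteCategory.bijective_of_isIso k'₀).1
    exact universallyInjective_integralClosure (A := Γ(Y, U.1)) (K := Y.functionField) (L := L)
      (M := Γ(Spec (CommRingCat.of L), (specToY Y L) ⁻¹ᵁ U.1)) hA k₀.hom
      (congrArg CommRingCat.Hom.hom hk) k'₀.hom hkinj (congrArg CommRingCat.Hom.hom hk')
  · have hW : (specToY Y L) ⁻¹ᵁ U.1 = ⊥ := by
      ext x
      refine ⟨fun h => ?_, fun h => h.elim⟩
      have h' : (specToY Y L) x ∈ U.1 := h
      rw [specToY_apply] at h'
      exact hU h'
    letI := ((specToY Y L).app U.1).hom.toAlgebra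
    haveI : Subsingleton Γ(Spec (CommRingCat.of L), (specToY Y L) ⁻¹ᵁ U.1) := by
      rw [hW]; infer_instance
    show UniversallyInjective (Spec.map (CommRingCat.ofHom (algebraMap Γ(Y, U.1)
      (integralClosure Γ(Y, U.1) Γ(Spec (CommRingCat.of L), (specToY Y L) ⁻¹ᵁ U.1)))))
    apply Groth.Agent.H8.FinIC.universallyInjective_specMap
    intro Ω _ g₁ g₂ _
    ext x
    have : x = 0 := Subsingleton.elim _ _
    rw [this, map_zero, map_zero]

/-- **S13836**: the normalization of an integral scheme with geometrically unibranch local
rings in a purely inseparable extension of its function field is a universal homeomorphism. -/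
theorem main [IsPurelyInseparable Y.functionField L]
    (hY : ∀ y : Y, CAlg2.IsGeomUnibranch (Y.presheaf.stalk y))
    [QuasiCompact (specToY Y L)] [QuasiSeparated (specToY Y L)] :
    FlatMor.IsUnivHomeo (specToY Y L).fromNormalization := by
  rw [Groth.Agent.H1.isUnivHomeo_iff_integral]
  exact ⟨inferInstance, universallyInjective_fromNormalization Y L hY,
    surjective_fromNormalization Y L⟩

end Main

end Groth.Agent.H2.QNorm
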