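import Mathlib
import Groth.Prelude.Def_CAlgX
import Groth.Agent.Lib.Helper2.QReg

/-!
# Quasi-regular sequences and the cotangent module `I/I²` (helper2)
-/

open MvPolynomial

namespace Groth.Agent.H2.QReg

universe u

variable {R : Type u} [CommRing R]

/-- The classes of a quasi-regular generating sequence of `I` are linearly independent in `I/I²`
over `R/I`. -/
lemma linearIndependent_toCotangent (I : Ideal R) {m : ℕ} (f : Fin m → I)
    (hq : CAlgX.IsQuasiRegular (fun i => (f i : R)))
    (hspan : Ideal.span (Set.range fun i => (f i : R)) = I) :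
    LinearIndependent (R ⧸ I) (fun i => I.toCotangent (f i)) := by
  rw [Fintype.linearIndependent_iff]
  intro g hg i
  have hsurj : ∀ j, ∃ a : R, Ideal.Quotient.mk I a = g j := fun j =>
    Ideal.Quotient.mk_surjective (g j)
  choose a ha using hsurj
  have h1 : ∑ j, g j • I.toCotangent (f j) = I.toCotangent (∑ j, a j • f j) := by
    rw [map_sum]
    refine Finset.sum_congr rfl fun j _ => ?_
    rw [map_smul, ← ha j]
    rfl
  rw [h1, Ideal.toCotangent_eq_zero] at hg
  have h2 : ((∑ j, a j • f j : I) : R) = ∑ j, a j * (f j : R) := by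
    simp
  rw [h2] at hg
  have hg' : ∑ j, a j * (f j : R) ∈ Ideal.span (Set.range fun i => (f i : R)) ^ 2 := by
    rw [hspan]; exact hg
  have := coeff_mem_of_sum_mem_sq _ hq a hg' i
  rw [hspan] at this
  rw [← ha i]
  exact Ideal.Quotient.eq_zero_iff_mem.mpr this

/-- The classes of a generating sequence of `I` span `I/I²` over `R/I`. -/
lemma span_toCotangent_eq_top (I : Ideal R) {m : ℕ} (f : Fin m → I)
    (hspan : Ideal.span (Set.range fun i => (f i : R)) = I) :
    Submodule.span (R ⧸ I) (Set.range fun i => I.toCotangent (f i)) = ⊤ := by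
  rw [eq_top_iff]
  rintro z -
  obtain ⟨x, rfl⟩ := I.toCotangent_surjective z
  have hx : (x : R) ∈ Ideal.span (Set.range fun i => (f i : R)) := by rw [hspan]; exact x.2
  obtain ⟨a, ha⟩ := Ideal.mem_span_range_iff_exists_fun.mp hx
  have hx' : x = ∑ j, a j • f j := by
    ext
    simp [← ha]
  rw [hx', map_sum]
  refine Submodule.sum_mem _ fun j _ => ?_
  rw [map_smul]
  have : a j • I.toCotangent (f j) = (Ideal.Quotient.mk I (a j)) • I.toCotangent (f j) := rfl
  rw [this]
  exact Submodule.smul_mem _ _ (Submodule.subset_span ⟨j, rfl⟩)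

/-- Nakayama: if `I` is finitely generated, contained in the Jacobson radical, and the classes of
`f` span `I/I²`, then `f` generates `I`. -/
lemma span_eq_of_span_toCotangent_eq_top (I : Ideal R) (hfg : I.FG)
    (hjac : I ≤ Ideal.jacobson ⊥) {m : ℕ} (f : Fin m → I)
    (hspan : Submodule.span (R ⧸ I) (Set.range fun i => I.toCotangent (f i)) = ⊤) :
    Ideal.span (Set.range fun i => (f i : R)) = I := by
  apply le_antisymm
  · rw [Ideal.span_le]
    rintro _ ⟨i, rfl⟩
    exact (f i).2
  · refine Submodule.le_of_le_smul_of_le_jacobson_bot (I := I) hfg hjac ?_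
    intro x hx
    have hz : I.toCotangent ⟨x, hx⟩ ∈
        Submodule.span (R ⧸ I) (Set.range fun i => I.toCotangent (f i)) := by
      rw [hspan]; trivial
    obtain ⟨g, hg⟩ := (Submodule.mem_span_range_iff_exists_fun _).mp hz
    have hsurj : ∀ j, ∃ a : R, Ideal.Quotient.mk I a = g j := fun j =>
      Ideal.Quotient.mk_surjective (g j)
    choose a ha using hsurj
    have h1 : ∑ j, g j • I.toCotangent (f j) = I.toCotangent (∑ j, a j • f j) := by
      rw [map_sum]
      refine Finset.sum_congr rfl fun j _ => ?_
      rw [map_smul, ← ha j]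
      rfl
    rw [h1, Ideal.toCotangent_eq] at hg
    have h2 : ((∑ j, a j • f j : I) : R) = ∑ j, a j * (f j : R) := by
      simp
    rw [h2] at hg
    have hx2 : x = ∑ j, a j * (f j : R) + (x - ∑ j, a j * (f j : R)) := by ring
    rw [hx2]
    refine Submodule.add_mem_sup ?_ ?_
    · refine Ideal.sum_mem _ fun j _ => ?_
      exact Ideal.mul_mem_left _ _ (Ideal.subset_span ⟨j, rfl⟩)
    · have : x - ∑ j, a j * (f j : R) = -(∑ j, a j * (f j : R) - x) := by ring
      rw [this]
      refine Submodule.neg_mem _ ?_
      rw [smul_eq_mul, ← pow_two]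
      exact hg

end Groth.Agent.H2.QReg
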