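import Mathlib
import Groth.Prelude.Def_CAlgX
import Groth.Agent.Lib.Helper2.QReg

/-!
# Intersections `J ∩ Rⁿ` for a sequence regular modulo `J` (helper2)
-/

open MvPolynomial

namespace Groth.Agent.H2.QReg

universe u

variable {A : Type u} [CommRing A]

/-- If the images of `f` in `A/J` are quasi-regular, then
`J ∩ Rᵏ ≤ J Rᵏ + J ∩ Rᵏ⁺¹`, where `R = (f)`. -/
lemma inf_pow_le_step (J : Ideal A) {r : ℕ} (f : Fin r → A)
    (hq : CAlgX.IsQuasiRegular (fun i => Ideal.Quotient.mk J (f i))) (k : ℕ) :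
    J ⊓ Ideal.span (Set.range f) ^ k ≤
      J * Ideal.span (Set.range f) ^ k ⊔ J ⊓ Ideal.span (Set.range f) ^ (k + 1) := by
  intro x hx
  obtain ⟨hxJ, hxR⟩ := hx
  obtain ⟨P, hP, rfl⟩ := (Ideal.mem_span_pow_iff_exists_isHomogeneous f _).mp hxR
  set π := Ideal.Quotient.mk J with hπ
  set Rf := Ideal.span (Set.range f) with hRf
  have hmapspan : Ideal.span (Set.range fun i => π (f i)) = Rf.map π := by
    rw [hRf, Ideal.map_span]
    congr 1
    ext y
    constructor
    · rintro ⟨i, rfl⟩; exact ⟨f i, ⟨i, rfl⟩, rfl⟩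
    · rintro ⟨_, ⟨i, rfl⟩, rfl⟩; exact ⟨i, rfl⟩
  have heval : eval (fun i => π (f i)) (map π P) = π (eval f P) := by
    rw [eval_map]
    exact (eval₂_comp_left π (RingHom.id A) f P).symm
  have hcoef := hq k (map π P) (hP.map π) (by
    rw [heval, Ideal.Quotient.eq_zero_iff_mem.mpr hxJ]
    exact Ideal.zero_mem _)
  have hdec : ∀ d, ∃ j ∈ J, ∃ s ∈ Rf, P.coeff d = j + s := by
    intro d
    have h1 := hcoef d
    rw [coeff_map, hmapspan] at h1
    have h2 : P.coeff d ∈ (Rf.map π).comap π := h1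
    rw [Ideal.comap_map_of_surjective π Ideal.Quotient.mk_surjective, ← RingHom.ker_eq_comap_bot,
      Ideal.mk_ker] at h2
    obtain ⟨s, hs, j, hj, hsj⟩ := Submodule.mem_sup.mp h2
    exact ⟨j, hj, s, hs, by rw [← hsj]; ring⟩
  choose jd hjd sd hsd hdec' using hdec
  have hmon : ∀ d ∈ P.support, (∏ i ∈ d.support, f i ^ d i) ∈ Rf ^ k := by
    intro d hd
    have hdeg : d.degree = k := by
      have := hP (mem_support_iff.mp hd)
      simpa [Finsupp.weight_apply, Finsupp.degree, Finsupp.sum] using this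
    have h := prod_pow_mem_pow f d
    rwa [hdeg] at h
  have hsplit : eval f P = (∑ d ∈ P.support, jd d * ∏ i ∈ d.support, f i ^ d i) +
      ∑ d ∈ P.support, sd d * ∏ i ∈ d.support, f i ^ d i := by
    rw [eval_eq, ← Finset.sum_add_distrib]
    refine Finset.sum_congr rfl fun d _ => ?_
    rw [hdec' d]; ring
  have h1 : (∑ d ∈ P.support, jd d * ∏ i ∈ d.support, f i ^ d i) ∈ J * Rf ^ k :=
    Ideal.sum_mem _ fun d hd => Ideal.mul_mem_mul (hjd d) (hmon d hd)
  have h2 : (∑ d ∈ P.support, sd d * ∏ i ∈ d.support, f i ^ d i) ∈ Rf ^ (k + 1) := by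
    have hle : Rf * Rf ^ k = Rf ^ (k + 1) := (pow_succ' Rf k).symm
    rw [← hle]
    exact Ideal.sum_mem _ fun d hd => Ideal.mul_mem_mul (hsd d) (hmon d hd)
  have h3 : (∑ d ∈ P.support, sd d * ∏ i ∈ d.support, f i ^ d i) ∈ J := by
    have : (∑ d ∈ P.support, sd d * ∏ i ∈ d.support, f i ^ d i) =
        eval f P - ∑ d ∈ P.support, jd d * ∏ i ∈ d.support, f i ^ d i := by
      rw [hsplit]; ring
    rw [this]
    have h1' : (∑ d ∈ P.support, jd d * ∏ i ∈ d.support, f i ^ d i) ∈ J :=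
      (Ideal.mul_le_left : J * Rf ^ k ≤ J) h1
    have hxJ' : eval f P ∈ J := hxJ
    exact J.sub_mem hxJ' h1'
  rw [hsplit]
  exact Submodule.add_mem_sup h1 ⟨h3, h2⟩

/-- `J ∩ Rⁿ = J Rⁿ + J ∩ R^N` for `n ≤ N`. -/
lemma inf_pow_eq (J : Ideal A) {r : ℕ} (f : Fin r → A)
    (hq : CAlgX.IsQuasiRegular (fun i => Ideal.Quotient.mk J (f i))) (n N : ℕ) (hnN : n ≤ N) :
    J ⊓ Ideal.span (Set.range f) ^ n =
      J * Ideal.span (Set.range f) ^ n ⊔ J ⊓ Ideal.span (Set.range f) ^ N := by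
  apply le_antisymm
  · induction N, hnN using Nat.le_induction with
    | base => exact le_sup_right
    | succ N hN ih =>
      refine ih.trans (sup_le le_sup_left ?_)
      refine (inf_pow_le_step J f hq N).trans (sup_le ?_ le_sup_right)
      exact le_trans (Ideal.mul_mono_right (Ideal.pow_le_pow_right hN)) le_sup_left
  · refine sup_le (Ideal.mul_le_inf) ?_
    exact inf_le_inf_left _ (Ideal.pow_le_pow_right hnN)

/-- Images in `A/J` of a sequence weakly regular on `A/J` are quasi-regular. -/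
lemma isQuasiRegular_mk_of_isWeaklyRegular (J : Ideal A) {r : ℕ} (f : Fin r → A)
    (hf : RingTheory.Sequence.IsWeaklyRegular (A ⧸ J) (List.ofFn f)) :
    CAlgX.IsQuasiRegular (fun i => Ideal.Quotient.mk J (f i)) := by
  apply isQuasiRegular_of_isWeaklyRegular
  have := (RingTheory.Sequence.isWeaklyRegular_map_algebraMap_iff (A ⧸ J) (A ⧸ J)
    (List.ofFn f)).mpr hf
  rw [List.map_ofFn] at this
  exact this

/-- Krull: an element lying in `K + I^N` for all `N` lies in `K`, when `I` is in the radical of a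
Noetherian ring. -/
lemma mem_of_forall_mem_sup_pow [IsNoetherianRing A] (K I : Ideal A)
    (hI : I ≤ Ideal.jacobson ⊥) (x : A) (h : ∀ N, x ∈ K ⊔ I ^ N) : x ∈ K := by
  have hkr := Ideal.iInf_pow_smul_eq_bot_of_le_jacobson (M := A ⧸ K) I hI
  have hx : (Submodule.Quotient.mk x : A ⧸ K) ∈ (⨅ i : ℕ, I ^ i • ⊤ : Submodule A (A ⧸ K)) := by
    rw [Submodule.mem_iInf]
    intro i
    obtain ⟨k, hk, y, hy, rfl⟩ := Submodule.mem_sup.mp (h i)
    have : (Submodule.Quotient.mk (k + y) : A ⧸ K) = y • Submodule.Quotient.mk 1 := by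
      rw [← Submodule.Quotient.mk_smul, smul_eq_mul, mul_one, Submodule.Quotient.mk_add,
        (Submodule.Quotient.mk_eq_zero K).mpr hk, zero_add]
    rw [this]
    exact Submodule.smul_mem_smul hy Submodule.mem_top
  rw [hkr, Submodule.mem_bot] at hx
  exact (Submodule.Quotient.mk_eq_zero K).mp hx

end Groth.Agent.H2.QReg
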