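import Mathlib
import Groth.Prelude.Def_SGA1
import Groth.Prelude.Def_CAlg2
import Groth.Prelude.Def_EGA43
import Groth.Agent.Lib.Helper1.UO14D
import Groth.Agent.Lib.Helper1.QSecA
import Groth.Agent.Lib.Helper1.IntBC
import Groth.Agent.Lib.Helper3.UO4931
import Groth.Agent.Lib.Helper2.BrSepE

/-! # Quasi-finite dominant morphisms over geometrically unibranch bases are universally open;
universally open surjective morphisms are universally submersive (helper2) -/

set_option autoImplicit false
set_option linter.style.haveILetI false
universe u

namespace Groth.Agent.H2.QfhCov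

open AlgebraicGeometry CategoryTheory CategoryTheory.Limits TopologicalSpace Topology

variable {X Y : Scheme.{u}}

/-- the local fibre dimension of a locally quasi-finite morphism vanishes. -/
theorem fibreDimAt_eq_zero_of_locallyQuasiFinite (f : X ⟶ Y) [LocallyOfFiniteType f]
    [LocallyQuasiFinite f] (x : X) : FlatMor.fibreDimAt f x = 0 :=
  Groth.Agent.H1.QSec.fibreDimAt_eq_zero_of_closed_of_maxPt f x
    (fun _ hx' hsp => (Groth.Agent.H2.BrSep.eq_of_specializes_of_locallyQuasiFinite f hsp
      hx'.symm).symm)
    (fun _ hx' hsp => Groth.Agent.H2.BrSep.eq_of_specializes_of_locallyQuasiFinite f hsp hx')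

/-- **EGA IV 14.4.4 (quasi-finite case)**: a dominant locally quasi-finite morphism from an
irreducible scheme to an irreducible locally Noetherian scheme with geometrically unibranch local
rings is universally open. -/
theorem universallyOpen_of_locallyQuasiFinite_of_isGeomUnibranch [IrreducibleSpace X]
    [IrreducibleSpace Y] [IsLocallyNoetherian Y] (f : X ⟶ Y) [LocallyOfFiniteType f]
    [LocallyQuasiFinite f] [IsDominant f]
    (hY : ∀ y : Y, CAlg2.IsGeomUnibranch (Y.presheaf.stalk y)) : UniversallyOpen f := by
  apply Groth.Agent.H3.UO4931.universallyOpen_of_forall_isUnivOpenAt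
  intro x
  refine Groth.Agent.H1.UO14.isUnivOpenAt_of_maxPt f x (genericPoint X) (hY _) ?_
    (genericPoint_specializes x) ?_ ?_
  · intro z hz
    exact (hz.antisymm (genericPoint_specializes z)).eq
  · rw [Groth.Agent.H1.IntBC.map_genericPoint_of_isDominant f, genericPoint_closure]
    rw [irreducibleComponents_eq_singleton]
    exact Set.mem_singleton _
  · rw [fibreDimAt_eq_zero_of_locallyQuasiFinite, fibreDimAt_eq_zero_of_locallyQuasiFinite]

/-- a surjective universally open morphism is universally submersive. -/
theorem univSubmersive_of_universallyOpen_of_surjective (f : X ⟶ Y) [UniversallyOpen f]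
    [Surjective f] : SGA1.UnivSubmersive f := by
  intro X' Y' g₁ g₂ f' sq
  have ho : UniversallyOpen f' := MorphismProperty.of_isPullback sq.flip inferInstance
  have hs : Surjective f' := MorphismProperty.of_isPullback sq.flip inferInstance
  exact f'.isOpenMap.isQuotientMap f'.continuous f'.surjective

/-- if a composite is universally submersive, so is its second factor. -/
theorem univSubmersive_of_comp {Z : Scheme.{u}} (h : Z ⟶ X) (g : X ⟶ Y)
    (hgh : SGA1.UnivSubmersive (h ≫ g)) : SGA1.UnivSubmersive g := by
  intro X' Y' g₁ g₂ g' sq
  have sq' : IsPullback (pullback.fst h g₁) (pullback.snd h g₁) h g₁ := IsPullback.of_hasPullback h g₁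
  have big : IsPullback (pullback.snd h g₁ ≫ g') (pullback.fst h g₁) g₂ (h ≫ g) :=
    sq'.flip.paste_horiz sq
  have hq : IsQuotientMap (pullback.snd h g₁ ≫ g').base := hgh _ _ _ big
  show IsQuotientMap g'.base
  have : (pullback.snd h g₁ ≫ g').base = g'.base ∘ (pullback.snd h g₁).base := by
    ext z; simp
  rw [this] at hq
  exact IsQuotientMap.of_comp (pullback.snd h g₁).continuous g'.continuous hq

end Groth.Agent.H2.QfhCov
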