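import Mathlib
import Groth.Agent.Lib.Helper2.QfhCovA
import Groth.Agent.Lib.Helper1.Subtr7
import Groth.Agent.Lib.Helper8.DVRSch

/-! # qfh-coverings of geometrically unibranch schemes: the dominant members suffice (helper2) -/

set_option autoImplicit false
set_option linter.style.haveILetI false
universe u

namespace Groth.Agent.H2.QfhCov

open AlgebraicGeometry CategoryTheory CategoryTheory.Limits TopologicalSpace Topology

/-- a member of a family hitting the generic point of the irreducible target is dominant. -/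
theorem isDominant_of_map_eq_genericPoint {U X : Scheme.{u}} [IrreducibleSpace X] (f : U ⟶ X)
    (u : U) (hu : f u = genericPoint X) : IsDominant f := by
  refine ⟨?_⟩
  rw [DenseRange, dense_iff_closure_eq, Set.eq_univ_iff_forall]
  have h1 : closure ({genericPoint X} : Set X) ⊆ closure (Set.range f.base) :=
    closure_mono (by rintro _ rfl; exact ⟨u, hu⟩)
  rw [genericPoint_closure] at h1
  exact fun z => h1 (Set.mem_univ z)

/-- the key step: a specialization in the disjoint union starting over the generic point. -/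
theorem exists_dominant_of_specializes {X : Scheme.{u}} [IrreducibleSpace X] {ι : Type u}
    (U : ι → Scheme.{u}) (f : ∀ i, U i ⟶ X) (w' w : ↑(∐ U)) (hsp : w' ⤳ w)
    (hw' : (Sigma.desc f) w' = genericPoint X) :
    ∃ (i : ι) (u : U i), IsDominant (f i) ∧ f i u = (Sigma.desc f) w := by
  obtain ⟨i, u, rfl⟩ := (sigmaOpenCover U).exists_eq w
  have hopen : IsOpen (Set.range (Sigma.ι U i).base) := (Sigma.ι U i).isOpenEmbedding.isOpen_range
  obtain ⟨u', rfl⟩ : w' ∈ Set.range (Sigma.ι U i).base := hsp.mem_open hopen ⟨u, rfl⟩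
  have h1 : ∀ z : U i, (Sigma.desc f) ((Sigma.ι U i) z) = f i z := by
    intro z
    rw [← Scheme.Hom.comp_apply, Sigma.ι_desc]
  refine ⟨i, u, isDominant_of_map_eq_genericPoint (f i) u' ?_, (h1 u).symm⟩
  rw [← h1 u']
  exact hw'

/-- **qfh-coverings of a geometrically unibranch scheme** -/
theorem main {X : Scheme.{u}} [IsNoetherian X] [IrreducibleSpace ↥X]
    (hX : ∀ x : X, CAlg2.IsGeomUnibranch (X.presheaf.stalk x)) {ι : Type u}
    (U : ι → Scheme.{u}) (f : ∀ i, U i ⟶ X) [∀ i, LocallyOfFiniteType (f i)]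
    [∀ i, LocallyQuasiFinite (f i)] [∀ i, IrreducibleSpace ↥(U i)] :
    (SGA1.UnivSubmersive (Sigma.desc f) ↔
      ∀ x : X, ∃ (i : ι) (u : U i), IsDominant (f i) ∧ f i u = x) ∧
    ((∀ x : X, ∃ (i : ι) (u : U i), IsDominant (f i) ∧ f i u = x) →
      SGA1.UnivSubmersive (Sigma.desc fun j : {i : ι // IsDominant (f i)} => f j.1)) := by
  have part2 : (∀ x : X, ∃ (i : ι) (u : U i), IsDominant (f i) ∧ f i u = x) →
      SGA1.UnivSubmersive (Sigma.desc fun j : {i : ι // IsDominant (f i)} => f j.1) := by
    intro hcov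
    haveI ho : UniversallyOpen (Sigma.desc fun j : {i : ι // IsDominant (f i)} => f j.1) := by
      apply IsZariskiLocalAtSource.sigmaDesc (P := @UniversallyOpen)
      intro j
      haveI : IsDominant (f j.1) := j.2
      exact universallyOpen_of_locallyQuasiFinite_of_isGeomUnibranch (f j.1) hX
    haveI hs : Surjective (Sigma.desc fun j : {i : ι // IsDominant (f i)} => f j.1) := by
      refine ⟨fun x => ?_⟩
      obtain ⟨i, u, hdom, hu⟩ := hcov x
      refine ⟨(Sigma.ι (fun j : {i : ι // IsDominant (f i)} => U j.1) ⟨i, hdom⟩) u, ?_⟩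
      rw [← Scheme.Hom.comp_apply, Sigma.ι_desc]
      exact hu
    exact univSubmersive_of_universallyOpen_of_surjective _
  refine ⟨⟨fun hsub x => ?_, fun hcov => ?_⟩, part2⟩
  · -- (⇒)
    have hq : IsQuotientMap (Sigma.desc f).base :=
      hsub (𝟙 _) (𝟙 _) (Sigma.desc f) (IsPullback.id_vert _)
    by_cases hx : x = genericPoint X
    · obtain ⟨w, hw⟩ := hq.surjective x
      obtain ⟨i, u, hdom, hu⟩ := exists_dominant_of_specializes U f w w specializes_rfl
        (hw.trans hx)
      exact ⟨i, u, hdom, hu.trans hw⟩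
    · obtain ⟨B, _, _, _, k, hk1, hk2⟩ := Groth.Agent.H8.DVRSch.exists_dvr_of_specializes
        (genericPoint_specializes x) (Ne.symm hx)
      obtain ⟨w', w, hsp, e1, e2⟩ :=
        Groth.Agent.Lib.Helper1.Subtr7.dvrPairs_of_univSubmersive (Sigma.desc f) hsub B k
      have hc : ∀ z : ↑(pullback k (Sigma.desc f)),
          (Sigma.desc f) ((pullback.snd k (Sigma.desc f)) z) =
            k ((pullback.fst k (Sigma.desc f)) z) := by
        intro z
        rw [← Scheme.Hom.comp_apply, ← Scheme.Hom.comp_apply, pullback.condition]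
      have h1 : (pullback.fst k (Sigma.desc f)) w' = (⊥ : PrimeSpectrum B) :=
        PrimeSpectrum.ext e1
      have h2 : (pullback.fst k (Sigma.desc f)) w = IsLocalRing.closedPoint B :=
        PrimeSpectrum.ext e2
      obtain ⟨i, u, hdom, hu⟩ := exists_dominant_of_specializes U f _ _
        (hsp.map (pullback.snd k (Sigma.desc f)).continuous)
        (by rw [hc, h1]; exact hk2)
      refine ⟨i, u, hdom, hu.trans ?_⟩
      rw [hc, h2]
      exact hk1
  · -- (⇐)
    have h1 := part2 hcov
    have hfac : (Sigma.desc fun j : {i : ι // IsDominant (f i)} => f j.1) =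
        (Sigma.desc fun j : {i : ι // IsDominant (f i)} => Sigma.ι U j.1) ≫ Sigma.desc f := by
      apply Sigma.hom_ext
      intro j
      simp
    rw [hfac] at h1
    exact univSubmersive_of_comp _ _ h1

end Groth.Agent.H2.QfhCov
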