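import Mathlib.AlgebraicGeometry.QuasiAffine
import Mathlib.AlgebraicGeometry.Morphisms.QuasiCompact
import Mathlib.AlgebraicGeometry.Restrict

/-! A quasi-compact scheme topologically embedded in an affine scheme is quasi-affine. -/

universe u

namespace Groth.Agent.H2

open AlgebraicGeometry CategoryTheory TopologicalSpace

theorem isQuasiAffine_of_isEmbedding_of_isAffine {X Y : Scheme.{u}} (f : X ⟶ Y) [IsAffine Y]
    [CompactSpace X] (hf : Topology.IsEmbedding f) : X.IsQuasiAffine := by
  refine Scheme.IsQuasiAffine.of_forall_exists_mem_basicOpen X fun x => ?_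
  obtain ⟨_, ⟨W, hW, rfl⟩, hxW, -⟩ :=
    X.isBasis_affineOpens.exists_subset_of_mem_open (Set.mem_univ x) isOpen_univ
  obtain ⟨W', hW'o, hW'⟩ := hf.isInducing.isOpen_iff.mp W.2
  have hfx : f x ∈ W' := by
    have : x ∈ f ⁻¹' W' := hW'.symm ▸ hxW
    exact this
  obtain ⟨_, ⟨_, ⟨a, rfl⟩, rfl⟩, hxa, haW'⟩ :=
    (isBasis_basicOpen Y).exists_subset_of_mem_open hfx hW'o
  refine ⟨f.appTop a, ?_, ?_⟩
  · have hle : X.basicOpen (f.appTop a) ≤ W := by
      rw [← Scheme.preimage_basicOpen_top]
      intro z hz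
      have : z ∈ f ⁻¹' W' := haW' hz
      rw [hW'] at this
      exact this
    have h1 : X.basicOpen (X.presheaf.map (homOfLE (le_top : W ≤ ⊤)).op (f.appTop a)) =
        X.basicOpen (f.appTop a) := by
      rw [Scheme.basicOpen_res]
      exact inf_eq_right.mpr hle
    rw [← h1]
    exact hW.basicOpen _
  · rw [← Scheme.preimage_basicOpen_top]
    exact hxa

end Groth.Agent.H2
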