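import Groth.Agent.Lib.Helper2.QuasiReg
import Groth.Prelude.Def_CAlgX

/-!
# Quasi-regular sequences (helper2)

* `QReg f`: ideal-theoretic form of `CAlgX.IsQuasiRegular f`.
* `qReg_of_isWeaklyRegular`: weakly regular sequences are quasi-regular.
-/

namespace Groth.Agent.H2.QuasiReg

open MvPolynomial

variable {A : Type*} [CommRing A]

/-- Ideal-theoretic quasi-regularity. -/
def QReg {c : ℕ} (f : Fin c → A) : Prop :=
  ∀ (n : ℕ) (P : MvPolynomial (Fin c) A), P.IsHomogeneous n →
    eval f P ∈ Ideal.span (Set.range f) ^ (n + 1) →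
      P ∈ Ideal.map C (Ideal.span (Set.range f))

theorem qReg_iff {R : Type*} [CommRing R] {c : ℕ} (f : Fin c → R) :
    CAlgX.IsQuasiRegular f ↔ QReg f := by
  unfold CAlgX.IsQuasiRegular QReg
  simp only [mem_map_C_iff]

theorem eval_mem_pow_of_isHomogeneous {c n : ℕ} (f : Fin c → A) {P : MvPolynomial (Fin c) A}
    (hP : P.IsHomogeneous n) : eval f P ∈ Ideal.span (Set.range f) ^ n :=
  (Ideal.mem_span_pow_iff_exists_isHomogeneous f _).mpr ⟨P, hP, rfl⟩

theorem eval_mem_pow_succ_of_mem_map_C {c n : ℕ} (f : Fin c → A) {P : MvPolynomial (Fin c) A}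
    (hP : P.IsHomogeneous n) (hPJ : P ∈ Ideal.map C (Ideal.span (Set.range f))) :
    eval f P ∈ Ideal.span (Set.range f) ^ (n + 1) := by
  rw [mem_map_C_iff] at hPJ
  have hsum : eval f P = ∑ m ∈ P.support, eval f (monomial m (coeff m P)) := by
    conv_lhs => rw [← support_sum_monomial_coeff P]
    rw [map_sum]
  rw [hsum]
  refine Ideal.sum_mem _ (fun m hm => ?_)
  have h1 : monomial m (coeff m P) = C (coeff m P) * monomial m 1 := by
    rw [C_mul_monomial, mul_one]
  rw [h1, map_mul, eval_C, pow_succ']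
  refine Ideal.mul_mem_mul (hPJ m) ?_
  apply eval_mem_pow_of_isHomogeneous
  apply isHomogeneous_monomial
  rw [Finsupp.degree_eq_weight_one]
  exact hP (mem_support_iff.mp hm)

/-- Weakly regular sequences are quasi-regular. -/
theorem qReg_of_isWeaklyRegular {c : ℕ} (f : Fin c → A)
    (hf : RingTheory.Sequence.IsWeaklyRegular A (List.ofFn f)) : QReg f := by
  classical
  intro n P hP hev
  rw [pow_succ] at hev
  have hev' : eval f P ∈ Ideal.span (Set.range f) ^ n • Submodule.span A (Set.range f) := hev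
  rw [Submodule.mem_ideal_smul_span_iff_exists_sum] at hev'
  obtain ⟨q, hq, hqs⟩ := hev'
  rw [Finsupp.sum_fintype _ _ (by simp)] at hqs
  have hQ : ∀ i, ∃ Q : MvPolynomial (Fin c) A, Q.IsHomogeneous n ∧ eval f Q = q i :=
    fun i => (Ideal.mem_span_pow_iff_exists_isHomogeneous f _).mp (hq i)
  choose Q hQhom hQev using hQ
  set Q' : MvPolynomial (Fin c) A := ∑ i, C (f i) * Q i with hQ'
  have hQ'hom : Q'.IsHomogeneous n := IsHomogeneous.sum _ _ _ (fun i _ => (hQhom i).C_mul _)
  have hQ'J : Q' ∈ Ideal.map C (Ideal.span (Set.range f)) :=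
    Ideal.sum_mem _ (fun i _ => Ideal.mul_mem_right _ _
      (Ideal.mem_map_of_mem _ (Ideal.subset_span (Set.mem_range_self i))))
  have hQ'ev : eval f Q' = eval f P := by
    rw [← hqs, hQ', map_sum]
    refine Finset.sum_congr rfl (fun i _ => ?_)
    rw [map_mul, eval_C, hQev, smul_eq_mul, mul_comm]
  have h0 : aeval f (P - Q') = 0 := by
    rw [aeval_eq_eval, map_sub]
    exact sub_eq_zero.mpr hQ'ev.symm
  have h1 := Jb_le_map_C f (rees_of_isWeaklyRegular f hf (hP.sub hQ'hom) h0)
  have : P = (P - Q') + Q' := by ring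
  rw [this]
  exact add_mem h1 hQ'J

theorem isQuasiRegular_of_isWeaklyRegular {R : Type*} [CommRing R] {c : ℕ} (f : Fin c → R)
    (hf : RingTheory.Sequence.IsWeaklyRegular R (List.ofFn f)) : CAlgX.IsQuasiRegular f :=
  (qReg_iff f).mpr (qReg_of_isWeaklyRegular f hf)

end Groth.Agent.H2.QuasiReg
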