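import Groth.Agent.Lib.Helper2.QuasiReg2

/-!
# Quasi-regular sequences in the Jacobson radical of a Noetherian ring are regular (helper2)
-/

namespace Groth.Agent.H2.QuasiReg

open MvPolynomial Pointwise

variable {A : Type*} [CommRing A]

theorem mem_map_C_of_X_mul_mem {σ : Type*} (J : Ideal A) (i : σ) {H : MvPolynomial σ A}
    (h : X i * H ∈ Ideal.map C J) : H ∈ Ideal.map C J := by
  rw [mem_map_C_iff] at h ⊢
  intro m
  have := h (Finsupp.single i 1 + m)
  rwa [coeff_X_mul] at this

/-- Key descent: for a quasi-regular sequence, `f 0 * ω ∈ J ^ (k + 1)` implies `ω ∈ J ^ k`. -/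
theorem mem_pow_of_mul_mem_pow {c : ℕ} (f : Fin (c + 1) → A) (hq : QReg f) (k : ℕ) (ω : A)
    (h : f 0 * ω ∈ Ideal.span (Set.range f) ^ (k + 1)) : ω ∈ Ideal.span (Set.range f) ^ k := by
  have key : ∀ i, i ≤ k → ω ∈ Ideal.span (Set.range f) ^ i := by
    intro i
    induction i with
    | zero => intro _; simp
    | succ i ih =>
      intro hi
      obtain ⟨H, hH, hHev⟩ :=
        (Ideal.mem_span_pow_iff_exists_isHomogeneous f _).mp (ih (by omega))
      have hXH : (X 0 * H).IsHomogeneous (i + 1) := by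
        have := (isHomogeneous_X A (0 : Fin (c + 1))).mul hH
        exact (add_comm 1 i) ▸ this
      have hev : eval f (X 0 * H) ∈ Ideal.span (Set.range f) ^ (i + 1 + 1) := by
        rw [map_mul, eval_X, hHev]
        exact Ideal.pow_le_pow_right (by omega) h
      have h1 := mem_map_C_of_X_mul_mem _ _ (hq (i + 1) _ hXH hev)
      rw [← hHev]
      exact eval_mem_pow_succ_of_mem_map_C f hH h1
  exact key k le_rfl

theorem eq_zero_of_mul_eq_zero {c : ℕ} [IsNoetherianRing A] (f : Fin (c + 1) → A)
    (hf : ∀ i, f i ∈ Ideal.jacobson (⊥ : Ideal A)) (hq : QReg f) (ξ : A) (h : f 0 * ξ = 0) :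
    ξ = 0 := by
  have hJ : Ideal.span (Set.range f) ≤ Ideal.jacobson (⊥ : Ideal A) := by
    rw [Ideal.span_le]
    rintro _ ⟨i, rfl⟩
    exact hf i
  have hk := Ideal.iInf_pow_smul_eq_bot_of_le_jacobson (M := A) _ hJ
  have hmem : ξ ∈ (⨅ i : ℕ, Ideal.span (Set.range f) ^ i • ⊤ : Submodule A A) := by
    rw [Submodule.mem_iInf]
    intro k
    rw [smul_eq_mul, Ideal.mul_top]
    apply mem_pow_of_mul_mem_pow f hq k ξ
    rw [h]
    exact zero_mem _
  rw [hk] at hmem
  exact hmem

theorem map_homogeneousComponent {B : Type*} [CommRing B] {σ : Type*} (φ : A →+* B) (k : ℕ)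
    (L : MvPolynomial σ A) :
    map φ (homogeneousComponent k L) = homogeneousComponent k (map φ L) := by
  ext m
  rw [coeff_map, coeff_homogeneousComponent, coeff_homogeneousComponent, coeff_map]
  split_ifs <;> simp

theorem span_range_quotient {c : ℕ} (f : Fin (c + 1) → A) :
    Ideal.span (Set.range fun i : Fin c => Ideal.Quotient.mk (Ideal.span {f 0}) (f i.succ)) =
      (Ideal.span (Set.range f)).map (Ideal.Quotient.mk (Ideal.span {f 0})) := by
  apply le_antisymm
  · rw [Ideal.span_le]
    rintro _ ⟨i, rfl⟩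
    exact Ideal.mem_map_of_mem _ (Ideal.subset_span (Set.mem_range_self i.succ))
  · rw [Ideal.map_le_iff_le_comap, Ideal.span_le]
    rintro _ ⟨i, rfl⟩
    induction i using Fin.cases with
    | zero =>
      rw [SetLike.mem_coe, Ideal.mem_comap]
      have : Ideal.Quotient.mk (Ideal.span {f 0}) (f 0) = 0 :=
        Ideal.Quotient.eq_zero_iff_mem.mpr (Ideal.mem_span_singleton_self _)
      rw [this]
      exact zero_mem _
    | succ j =>
      exact Ideal.subset_span ⟨j, rfl⟩

theorem aeval_cons_zero_mem {c : ℕ} (J : Ideal A) {P : MvPolynomial (Fin (c + 1)) A}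
    (hP : P ∈ Ideal.map C J) :
    aeval (Fin.cons 0 X : Fin (c + 1) → MvPolynomial (Fin c) A) P ∈ Ideal.map C J := by
  have hle : Ideal.map C J ≤ Ideal.comap
      (aeval (Fin.cons 0 X : Fin (c + 1) → MvPolynomial (Fin c) A)) (Ideal.map C J) := by
    rw [Ideal.map_le_iff_le_comap]
    intro a ha
    rw [Ideal.mem_comap, Ideal.mem_comap, aeval_C]
    exact Ideal.mem_map_of_mem _ ha
  exact hle hP

/-- If `f` is quasi-regular then the images of `f 1, …, f c` in `A / (f 0)` are quasi-regular. -/
theorem qReg_quotient {c : ℕ} (f : Fin (c + 1) → A) (hq : QReg f) :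
    QReg (fun i : Fin c => Ideal.Quotient.mk (Ideal.span {f 0}) (f i.succ)) := by
  intro k Pb hPb hev
  rw [span_range_quotient] at hev ⊢
  set mk := Ideal.Quotient.mk (Ideal.span {f 0}) with hmk
  set J := Ideal.span (Set.range f) with hJ
  -- homogeneous lift
  obtain ⟨L, hL⟩ := map_surjective mk Ideal.Quotient.mk_surjective Pb
  set P := homogeneousComponent k L with hPdef
  have hP : P.IsHomogeneous k := homogeneousComponent_isHomogeneous k L
  have hPmap : map mk P = Pb := by
    rw [hPdef, map_homogeneousComponent, hL, homogeneousComponent_eq_self hPb]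
  -- it suffices to show `P ∈ J[X]`
  suffices hPJ : P ∈ Ideal.map C J by
    rw [mem_map_C_iff] at hPJ ⊢
    intro m
    rw [← hPmap, coeff_map]
    exact Ideal.mem_map_of_mem _ (hPJ m)
  have hevP : eval (fun i : Fin c => mk (f i.succ)) Pb = mk (eval (fun i : Fin c => f i.succ) P) := by
    rw [← hPmap, eval_map, eval₂_comp]
    rfl
  rw [hevP, ← Ideal.map_pow, Ideal.mem_map_iff_of_surjective mk Ideal.Quotient.mk_surjective] at hev
  obtain ⟨y, hy, hyP⟩ := hev
  rw [Ideal.Quotient.eq, Ideal.mem_span_singleton'] at hyP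
  obtain ⟨ω', hω'⟩ := hyP
  -- `eval (tail f) P = y - ω' * f 0`
  have hrn : eval f (rename Fin.succ P) = eval (fun i : Fin c => f i.succ) P := by
    rw [eval_rename]; rfl
  rcases Nat.eq_zero_or_pos k with hk | hk
  · -- degree zero
    subst hk
    have hPC : P = C (coeff 0 P) := by
      rw [← totalDegree_eq_zero_iff_eq_C]
      exact Nat.le_zero.mp hP.totalDegree_le
    rw [hPC] at hω' ⊢
    rw [eval_C] at hω'
    apply Ideal.mem_map_of_mem
    have : coeff 0 P = y - ω' * f 0 := by rw [hω']; ring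
    rw [this]
    refine sub_mem ?_ (Ideal.mul_mem_left _ _ (Ideal.subset_span (Set.mem_range_self 0)))
    simpa using hy
  · obtain ⟨k', rfl⟩ : ∃ k', k = k' + 1 := ⟨k - 1, by omega⟩
    set ω := -ω' with hω
    have hfω : f 0 * ω = eval (fun i : Fin c => f i.succ) P - y := by
      rw [hω, mul_neg, mul_comm, hω']; ring
    have h1 : f 0 * ω ∈ J ^ (k' + 1) := by
      rw [hfω]
      refine sub_mem ?_ (Ideal.pow_le_pow_right (by omega) hy)
      rw [← hrn]
      exact eval_mem_pow_of_isHomogeneous f hP.rename_isHomogeneous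
    have h2 := mem_pow_of_mul_mem_pow f hq k' ω h1
    obtain ⟨H, hH, hHev⟩ := (Ideal.mem_span_pow_iff_exists_isHomogeneous f _).mp h2
    have hXH : (X 0 * H).IsHomogeneous (k' + 1) :=
      (add_comm 1 k') ▸ (isHomogeneous_X A (0 : Fin (c + 1))).mul hH
    have hP' : (rename Fin.succ P - X 0 * H).IsHomogeneous (k' + 1) :=
      hP.rename_isHomogeneous.sub hXH
    have hevP' : eval f (rename Fin.succ P - X 0 * H) ∈ J ^ (k' + 1 + 1) := by
      rw [map_sub, map_mul, eval_X, hHev, hrn, hfω]
      simpa using hy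
    have h3 := aeval_cons_zero_mem J (hq (k' + 1) _ hP' hevP')
    have h4 : aeval (Fin.cons 0 X : Fin (c + 1) → MvPolynomial (Fin c) A)
        (rename Fin.succ P - X 0 * H) = P := by
      rw [map_sub, map_mul, aeval_X, aeval_rename, Fin.cons_zero, zero_mul, sub_zero]
      have : (Fin.cons 0 X : Fin (c + 1) → MvPolynomial (Fin c) A) ∘ Fin.succ = X := by
        funext i; simp
      rw [this, aeval_X_left, AlgHom.id_apply]
    rwa [h4] at h3

universe u

theorem quotSMulTop_congr {A : Type u} [CommRing A] (r : A) (rs : List A)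
    (h : RingTheory.Sequence.IsWeaklyRegular (A ⧸ Ideal.span {r})
      (rs.map (Ideal.Quotient.mk (Ideal.span {r})))) :
    RingTheory.Sequence.IsWeaklyRegular (QuotSMulTop r A) rs := by
  have hsub : (r • (⊤ : Submodule A A)) = Ideal.span {r} := by
    rw [← Submodule.ideal_span_singleton_smul, smul_eq_mul, Ideal.mul_top]
  let e : QuotSMulTop r A ≃+ A ⧸ Ideal.span {r} :=
    (Submodule.quotEquivOfEq _ _ hsub).toAddEquiv
  refine (AddEquiv.isWeaklyRegular_congr (e := e) ?_).mpr h
  rw [List.forall₂_map_right_iff, List.forall₂_same]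
  intro a _ x
  induction x using Submodule.Quotient.induction_on with
  | H b => rfl

theorem isWeaklyRegular_of_qReg : ∀ (c : ℕ) (A : Type u) [CommRing A] [IsNoetherianRing A]
    (f : Fin c → A), (∀ i, f i ∈ Ideal.jacobson (⊥ : Ideal A)) → QReg f →
      RingTheory.Sequence.IsWeaklyRegular A (List.ofFn f) := by
  intro c
  induction c with
  | zero =>
    intro A _ _ f _ _
    rw [List.ofFn_zero]
    exact RingTheory.Sequence.IsWeaklyRegular.nil A A
  | succ c ih =>
    intro A _ _ f hf hq
    rw [List.ofFn_succ, RingTheory.Sequence.isWeaklyRegular_cons_iff]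
    refine ⟨?_, ?_⟩
    · rw [isSMulRegular_iff_right_eq_zero_of_smul]
      intro x hx
      exact eq_zero_of_mul_eq_zero f hf hq x hx
    · apply quotSMulTop_congr
      rw [List.map_ofFn]
      apply ih (A ⧸ Ideal.span {f 0}) _ ?_ (qReg_quotient f hq)
      intro i
      have h1 := hf i.succ
      rw [Ideal.mem_jacobson_bot] at h1 ⊢
      intro y
      obtain ⟨y, rfl⟩ := Ideal.Quotient.mk_surjective y
      have := (h1 y).map (Ideal.Quotient.mk (Ideal.span {f 0}))
      simpa using this

end Groth.Agent.H2.QuasiReg
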