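import Groth.Agent.Lib.Helper2.QuasiRegHom

/-!
# Derivations of polynomial rings via partial derivatives (helper2)
-/

namespace Groth.Agent.H2.QuasiReg

open MvPolynomial

universe u

/-- Any derivation of a polynomial ring in finitely many variables is `∑ ∂p/∂X_j • D X_j`. -/
theorem derivation_eq_sum_pderiv {R : Type*} [CommRing R] {σ : Type*} [Fintype σ]
    {M : Type*} [AddCommGroup M] [Module R M] [Module (MvPolynomial σ R) M]
    [IsScalarTower R (MvPolynomial σ R) M]
    (D : Derivation R (MvPolynomial σ R) M) (p : MvPolynomial σ R) :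
    D p = ∑ j, pderiv j p • D (X j) := by
  classical
  have hsum : ∀ (s : Finset σ) (F : σ → Derivation R (MvPolynomial σ R) M) (q : MvPolynomial σ R),
      (∑ j ∈ s, F j) q = ∑ j ∈ s, F j q := by
    intro s F q
    induction s using Finset.induction_on with
    | empty => simp
    | insert a s ha ih => rw [Finset.sum_insert ha, Finset.sum_insert ha, Derivation.add_apply, ih]
  set D' : Derivation R (MvPolynomial σ R) M :=
    ∑ j, (LinearMap.toSpanSingleton (MvPolynomial σ R) M (D (X j))).compDer (pderiv j) with hD'
  have hcomp : ∀ (j : σ) (q : MvPolynomial σ R),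
      ((LinearMap.toSpanSingleton (MvPolynomial σ R) M (D (X j))).compDer (pderiv j)) q =
        pderiv j q • D (X j) := fun j q => rfl
  have h : D = D' := by
    apply derivation_ext
    intro i
    rw [hD', hsum]
    simp only [hcomp, pderiv_X]
    rw [Finset.sum_eq_single i]
    · simp
    · intro j _ hj
      rw [Pi.single_eq_of_ne (Ne.symm hj), zero_smul]
    · intro h; exact absurd (Finset.mem_univ i) h
  conv_lhs => rw [h]
  rw [hD', hsum]
  simp only [hcomp]

end Groth.Agent.H2.QuasiReg
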