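import Groth.Agent.Lib.Helper2.QuasiReg

/-!
# `Hom(J, A/J)` for an ideal generated by a regular sequence (helper2)
-/

namespace Groth.Agent.H2.QuasiReg

open MvPolynomial

variable {A : Type*} [CommRing A]

/-- The surjection `A^n → J`, `c ↦ ∑ c i • x i`. -/
noncomputable def genMap {n : ℕ} (x : Fin n → A) :
    (Fin n → A) →ₗ[A] ↥(Ideal.span (Set.range x)) :=
  Fintype.linearCombination A
    (fun i => (⟨x i, Ideal.subset_span (Set.mem_range_self i)⟩ : ↥(Ideal.span (Set.range x))))

theorem genMap_coe {n : ℕ} (x : Fin n → A) (c : Fin n → A) :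
    ((genMap x c : ↥(Ideal.span (Set.range x))) : A) = ∑ i, c i * x i := by
  simp [genMap, Fintype.linearCombination_apply]

theorem genMap_surjective {n : ℕ} (x : Fin n → A) : Function.Surjective (genMap x) := by
  rintro ⟨y, hy⟩
  obtain ⟨c, hc⟩ := Ideal.mem_span_range_iff_exists_fun.mp hy
  exact ⟨c, Subtype.ext (by rw [genMap_coe, hc])⟩

theorem genMap_single {n : ℕ} [DecidableEq (Fin n)] (x : Fin n → A) (i : Fin n) :
    genMap x (Pi.single i 1) = ⟨x i, Ideal.subset_span (Set.mem_range_self i)⟩ := by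
  apply Subtype.ext
  rw [genMap_coe]
  simp [Pi.single_apply]

/-- Evaluation at the generators: `Hom_A(J, A/J) → (A/J)^n`. -/
noncomputable def evGen {n : ℕ} (x : Fin n → A) :
    (↥(Ideal.span (Set.range x)) →ₗ[A] A ⧸ Ideal.span (Set.range x)) →ₗ[A]
      (Fin n → A ⧸ Ideal.span (Set.range x)) where
  toFun φ := fun i => φ ⟨x i, Ideal.subset_span (Set.mem_range_self i)⟩
  map_add' φ ψ := by funext i; simp
  map_smul' c φ := by funext i; simp

theorem evGen_injective {n : ℕ} (x : Fin n → A) : Function.Injective (evGen x) := by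
  classical
  intro φ ψ h
  apply LinearMap.ext
  intro y
  obtain ⟨c, rfl⟩ := genMap_surjective x y
  have hc : c = ∑ i, c i • (Pi.single i (1 : A) : Fin n → A) := by
    funext j
    simp [Finset.sum_apply, Pi.single_apply]
  rw [hc, map_sum, map_sum, map_sum]
  refine Finset.sum_congr rfl (fun i _ => ?_)
  rw [map_smul, map_smul, map_smul, genMap_single]
  congr 1
  exact congrFun h i

theorem evGen_surjective {n : ℕ} (x : Fin n → A)
    (hx : RingTheory.Sequence.IsWeaklyRegular A (List.ofFn x)) :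
    Function.Surjective (evGen x) := by
  classical
  intro b
  set ψ : (Fin n → A) →ₗ[A] A ⧸ Ideal.span (Set.range x) := Fintype.linearCombination A b with hψ
  have hker : LinearMap.ker (genMap x) ≤ LinearMap.ker ψ := by
    intro c hc
    rw [LinearMap.mem_ker] at hc ⊢
    have h0 : ∑ i, c i * x i = 0 := by
      rw [← genMap_coe, hc]; rfl
    have hcJ : ∀ i, c i ∈ Ideal.span (Set.range x) :=
      coeff_mem_of_sum_mem_sq x hx c (by rw [h0]; exact zero_mem _)
    rw [hψ, Fintype.linearCombination_apply]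
    refine Finset.sum_eq_zero (fun i _ => ?_)
    obtain ⟨bi, hbi⟩ := Ideal.Quotient.mk_surjective (b i)
    rw [← hbi, ← Ideal.Quotient.mk_eq_mk, ← Submodule.Quotient.mk_smul,
      Ideal.Quotient.mk_eq_mk, Ideal.Quotient.eq_zero_iff_mem, smul_eq_mul]
    exact Ideal.mul_mem_right _ _ (hcJ i)
  let φ : ↥(Ideal.span (Set.range x)) →ₗ[A] A ⧸ Ideal.span (Set.range x) :=
    ((LinearMap.ker (genMap x)).liftQ ψ hker).comp
      ((genMap x).quotKerEquivOfSurjective (genMap_surjective x)).symm.toLinearMap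
  refine ⟨φ, ?_⟩
  funext i
  change φ ⟨x i, _⟩ = b i
  have h1 : ((genMap x).quotKerEquivOfSurjective (genMap_surjective x)).symm
      ⟨x i, Ideal.subset_span (Set.mem_range_self i)⟩ =
      Submodule.Quotient.mk (Pi.single i 1) := by
    rw [LinearEquiv.symm_apply_eq, LinearMap.quotKerEquivOfSurjective_apply_mk, genMap_single]
  simp only [φ, LinearMap.comp_apply, LinearEquiv.coe_coe, h1, Submodule.liftQ_apply, hψ,
    Fintype.linearCombination_apply]
  simp [Pi.single_apply]

/-- For a weakly regular sequence `x` generating `J`, `Hom_A(J, A/J) ≃ (A/J)^n`. -/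
noncomputable def homEquiv {n : ℕ} (x : Fin n → A)
    (hx : RingTheory.Sequence.IsWeaklyRegular A (List.ofFn x)) :
    (↥(Ideal.span (Set.range x)) →ₗ[A] A ⧸ Ideal.span (Set.range x)) ≃ₗ[A]
      (Fin n → A ⧸ Ideal.span (Set.range x)) :=
  LinearEquiv.ofBijective (evGen x) ⟨evGen_injective x, evGen_surjective x hx⟩

theorem homEquiv_apply {n : ℕ} (x : Fin n → A)
    (hx : RingTheory.Sequence.IsWeaklyRegular A (List.ofFn x))
    (φ : ↥(Ideal.span (Set.range x)) →ₗ[A] A ⧸ Ideal.span (Set.range x)) (i : Fin n) :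
    homEquiv x hx φ i = φ ⟨x i, Ideal.subset_span (Set.mem_range_self i)⟩ := rfl

end Groth.Agent.H2.QuasiReg
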