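import Groth.Agent.Lib.Helper2.QuasiRegDer

/-!
# `T^1` of a complete intersection (helper2)
-/

namespace Groth.Agent.H2.QuasiReg

open MvPolynomial

universe u

/-- The restriction of a derivation `P → P/J` to `J` is `P`-linear. -/
noncomputable def derRestrict {k : Type*} [CommRing k] {P : Type*} [CommRing P] [Algebra k P]
    (J : Ideal P) (D : Derivation k P (P ⧸ J)) : ↥J →ₗ[P] (P ⧸ J) where
  toFun a := D (a : P)
  map_add' a b := by simp
  map_smul' p a := by
    have h : ((p • a : ↥J) : P) = p * (a : P) := rfl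
    rw [h, Derivation.leibniz, RingHom.id_apply]
    have h0 : (a : P) • D p = 0 := by
      obtain ⟨q, hq⟩ := Ideal.Quotient.mk_surjective (D p)
      rw [← hq, ← Ideal.Quotient.mk_eq_mk, ← Submodule.Quotient.mk_smul,
        Ideal.Quotient.mk_eq_mk, Ideal.Quotient.eq_zero_iff_mem, smul_eq_mul]
      exact Ideal.mul_mem_right _ _ a.2
    rw [h0, add_zero]

theorem smul_mk_eq {P : Type*} [CommRing P] (J : Ideal P) (a b : P) :
    a • (Ideal.Quotient.mk J b) = Ideal.Quotient.mk J (a * b) := rfl

theorem t1_equiv_gen {k : Type*} [CommRing k] {P : Type*} [CommRing P] [Algebra k P] {d n : ℕ}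
    (f : Fin n → P) (hreg : RingTheory.Sequence.IsWeaklyRegular P (List.ofFn f))
    (x : Fin d → P) (δ : Fin d → Derivation k P P)
    (hδ : ∀ (D : Derivation k P (P ⧸ Ideal.span (Set.range f))) (p : P),
      D p = ∑ j, δ j p • D (x j)) :
    ∃ e : ((↥(Ideal.span (Set.range f)) →ₗ[P] (P ⧸ Ideal.span (Set.range f))) ⧸
            Submodule.span P
              {ψ : ↥(Ideal.span (Set.range f)) →ₗ[P] (P ⧸ Ideal.span (Set.range f)) |
                ∃ D : Derivation k P (P ⧸ Ideal.span (Set.range f)),
                  ∀ a : ↥(Ideal.span (Set.range f)), ψ a = D (a : P)}) ≃ₗ[P]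
          ((Fin n → P ⧸ Ideal.span (Set.range f)) ⧸
            Submodule.span (P ⧸ Ideal.span (Set.range f))
              (Set.range fun j : Fin d => fun i : Fin n =>
                Ideal.Quotient.mk (Ideal.span (Set.range f)) (δ j (f i)))),
      ∀ φ : ↥(Ideal.span (Set.range f)) →ₗ[P] (P ⧸ Ideal.span (Set.range f)),
        e (Submodule.Quotient.mk φ) =
          Submodule.Quotient.mk
            (fun i : Fin n => φ ⟨f i, Ideal.subset_span (Set.mem_range_self i)⟩) := by
  classical
  have hmap : (Submodule.span P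
      {ψ : ↥(Ideal.span (Set.range f)) →ₗ[P] (P ⧸ Ideal.span (Set.range f)) |
        ∃ D : Derivation k P (P ⧸ Ideal.span (Set.range f)),
          ∀ a : ↥(Ideal.span (Set.range f)), ψ a = D (a : P)}).map
      ((homEquiv f hreg : (↥(Ideal.span (Set.range f)) →ₗ[P] (P ⧸ Ideal.span (Set.range f))) ≃ₗ[P]
        (Fin n → P ⧸ Ideal.span (Set.range f))) :
        (↥(Ideal.span (Set.range f)) →ₗ[P] (P ⧸ Ideal.span (Set.range f))) →ₗ[P]
        (Fin n → P ⧸ Ideal.span (Set.range f))) =
      (Submodule.span (P ⧸ Ideal.span (Set.range f))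
        (Set.range fun j : Fin d => fun i : Fin n =>
          Ideal.Quotient.mk (Ideal.span (Set.range f)) (δ j (f i)))).restrictScalars P := by
    rw [Submodule.restrictScalars_span P (P ⧸ Ideal.span (Set.range f))
      Ideal.Quotient.mk_surjective, Submodule.map_span]
    apply le_antisymm
    · rw [Submodule.span_le]
      rintro _ ⟨ψ, ⟨D, hD⟩, rfl⟩
      choose p hp using fun j => Ideal.Quotient.mk_surjective (D (x j))
      have hy : (homEquiv f hreg) ψ =
          ∑ j, p j • (fun i : Fin n =>
            Ideal.Quotient.mk (Ideal.span (Set.range f)) (δ j (f i))) := by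
        funext i
        rw [homEquiv_apply, hD, hδ D (f i), Finset.sum_apply]
        refine Finset.sum_congr rfl (fun j _ => ?_)
        rw [Pi.smul_apply, ← hp j, smul_mk_eq, smul_mk_eq, mul_comm]
      rw [SetLike.mem_coe, LinearEquiv.coe_coe, hy]
      exact Submodule.sum_mem _ (fun j _ => Submodule.smul_mem _ _
        (Submodule.subset_span ⟨j, rfl⟩))
    · rw [Submodule.span_le]
      rintro _ ⟨j, rfl⟩
      apply Submodule.subset_span
      refine ⟨derRestrict (Ideal.span (Set.range f))
        (((Ideal.Quotient.mkₐ P (Ideal.span (Set.range f))).toLinearMap).compDer (δ j)),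
        ⟨((Ideal.Quotient.mkₐ P (Ideal.span (Set.range f))).toLinearMap).compDer (δ j),
          fun a => rfl⟩, ?_⟩
      funext i
      rfl
  refine ⟨(Submodule.Quotient.equiv _ _ (homEquiv f hreg) hmap).trans
    (Submodule.Quotient.restrictScalarsEquiv P _), ?_⟩
  intro φ
  rfl

end Groth.Agent.H2.QuasiReg
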