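import Mathlib

/-! # Matrix core for the blow-up description of products of Quot schemes.

For an `n × m` matrix `S` with an `e × e` minor `Δ` which is a nonzerodivisor dividing all
`e`-minors, and with vanishing `(e+1)`-minors, we produce the matrix of the unique rank `n - e`
quotient of the cokernel of `S`. -/

open Matrix

namespace Groth.Agent.H2.QuotBl

section equiv
variable {n e d : ℕ}

/-- completing an injection to an equivalence (on the left summand). -/
lemma exists_sumEquiv_inl (f : Fin e → Fin n) (hf : Function.Injective f) (hd : e + d = n) :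
    ∃ w : Fin e ⊕ Fin d ≃ Fin n, ∀ k, w (Sum.inl k) = f k := by
  classical
  let s : Set (Fin n) := Set.range f
  let e1 : Fin e ≃ s := Equiv.ofInjective f hf
  have hcard : Fintype.card (sᶜ : Set (Fin n)) = d := by
    rw [Fintype.card_compl_set, Fintype.card_fin, Set.card_range_of_injective hf, Fintype.card_fin]
    omega
  let e2 : Fin d ≃ (sᶜ : Set (Fin n)) := (Fintype.equivFinOfCardEq hcard).symm
  refine ⟨(Equiv.sumCongr e1 e2).trans (Equiv.Set.sumCompl s), fun k => ?_⟩
  rw [Equiv.trans_apply, Equiv.sumCongr_apply, Sum.map_inl, Equiv.Set.sumCompl_apply_inl]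
  rfl

/-- completing an injection to an equivalence (on the right summand). -/
lemma exists_sumEquiv_inr (f : Fin d → Fin n) (hf : Function.Injective f) (hd : e + d = n) :
    ∃ w : Fin e ⊕ Fin d ≃ Fin n, ∀ i, w (Sum.inr i) = f i := by
  obtain ⟨w, hw⟩ := exists_sumEquiv_inl (e := d) (d := e) f hf (by omega)
  exact ⟨(Equiv.sumComm _ _).trans w, fun i => hw i⟩

end equiv

variable {A : Type*} [CommRing A] {n m e d : ℕ}

lemma nzd_cancel {a x y : A} (ha : a ∈ nonZeroDivisors A) (h : a * x = a * y) : x = y := by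
  have h1 : a * (x - y) = 0 := by rw [mul_sub, h, sub_self]
  exact sub_eq_zero.mp ((mem_nonZeroDivisors_iff.mp ha).1 _ h1)

variable (S : Matrix (Fin n) (Fin m) A) (w : Fin e ⊕ Fin d ≃ Fin n) (γ : Fin e → Fin m)

/-- the distinguished `e × e` submatrix. -/
def aM : Matrix (Fin e) (Fin e) A := S.submatrix (fun k => w (Sum.inl k)) γ

/-- Cramer's rule for rows: the entries of `S_γ · adj(a)` are `e`-minors of `S`. -/
lemma cramer_row (r : Fin n) (k : Fin e) :
    ∑ l, S r (γ l) * (aM S w γ).adjugate l k =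
      (S.submatrix (Function.update (fun k => w (Sum.inl k)) k r) γ).det := by
  have h1 : S.submatrix (Function.update (fun k => w (Sum.inl k)) k r) γ =
      (aM S w γ).updateRow k (fun l => S r (γ l)) := by
    ext i j
    rw [submatrix_apply, updateRow_apply]
    by_cases hik : i = k
    · rw [if_pos hik, hik, Function.update_self]
    · rw [if_neg hik, Function.update_of_ne hik]
      rfl
  rw [h1, ← cramer_transpose_apply, cramer_eq_adjugate_mulVec, ← adjugate_transpose, mulVec,
    dotProduct]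
  refine Finset.sum_congr rfl (fun l _ => ?_)
  rw [transpose_apply, mul_comm]

/-- the quotient matrix `C` with `Δ · C = S_γ · adj(a)`. -/
lemma exists_C (H1 : ∀ (ρ' : Fin e → Fin n) (γ' : Fin e → Fin m),
    (aM S w γ).det ∣ (S.submatrix ρ' γ').det) :
    ∃ C : Matrix (Fin n) (Fin e) A, ∀ r k,
      (aM S w γ).det * C r k = ∑ l, S r (γ l) * (aM S w γ).adjugate l k := by
  have h : ∀ r k, ∃ c, (aM S w γ).det * c = ∑ l, S r (γ l) * (aM S w γ).adjugate l k := by
    intro r k
    rw [cramer_row]
    obtain ⟨c, hc⟩ := H1 (Function.update (fun k => w (Sum.inl k)) k r) γ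
    exact ⟨c, hc.symm⟩
  choose C hC using h
  exact ⟨C, hC⟩

/-- the Schur complement identity coming from the vanishing of the `(e+1)`-minors. -/
lemma schur (H2 : ∀ (ρ' : Fin (e + 1) → Fin n) (γ' : Fin (e + 1) → Fin m),
      (S.submatrix ρ' γ').det = 0)
    (hΔ : (aM S w γ).det ∈ nonZeroDivisors A) (r : Fin n) (j : Fin m) :
    (aM S w γ).det * S r j =
      ∑ k, (∑ l, S r (γ l) * (aM S w γ).adjugate l k) * S (w (Sum.inl k)) j := by
  classical
  set a := aM S w γ with ha
  let b : Matrix (Fin e) Unit A := fun k _ => S (w (Sum.inl k)) j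
  let c : Matrix Unit (Fin e) A := fun _ l => S r (γ l)
  let s : Matrix Unit Unit A := fun _ _ => S r j
  let N : Matrix (Fin e ⊕ Unit) (Fin e ⊕ Unit) A := fromBlocks a b c s
  have hN : N.det = 0 := by
    have h1 : N = S.submatrix (Sum.elim (fun k => w (Sum.inl k)) (fun _ => r))
        (Sum.elim γ (fun _ => j)) := by
      ext (i | i) (i' | i') <;> rfl
    let ε : Fin (e + 1) ≃ Fin e ⊕ Unit := Fintype.equivOfCardEq (by simp)
    rw [← det_submatrix_equiv_self ε N, h1, submatrix_submatrix]
    exact H2 _ _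
  let Z : Matrix (Fin e ⊕ Unit) (Fin e ⊕ Unit) A :=
    fromBlocks a.adjugate (-(a.adjugate * b)) 0 (a.det • (1 : Matrix Unit Unit A))
  have hNZ : N * Z = fromBlocks (a.det • (1 : Matrix (Fin e) (Fin e) A)) 0 (c * a.adjugate)
      (a.det • s - c * a.adjugate * b) := by
    rw [fromBlocks_multiply]
    congr 1
    · rw [Matrix.mul_zero, add_zero, mul_adjugate]
    · rw [Matrix.mul_neg, ← Matrix.mul_assoc, mul_adjugate, Matrix.smul_mul, Matrix.one_mul,
        Matrix.mul_smul, Matrix.mul_one, neg_add_cancel]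
    · rw [Matrix.mul_zero, add_zero]
    · rw [Matrix.mul_neg, Matrix.mul_smul, Matrix.mul_one, ← Matrix.mul_assoc]
      abel
  have hdet : (N * Z).det = 0 := by rw [det_mul, hN, zero_mul]
  have hX : (a.det • s - c * a.adjugate * b).det =
      (a.det • s - c * a.adjugate * b) default default := det_unique _
  rw [hNZ, det_fromBlocks_zero₁₂, det_smul, det_one, mul_one, hX] at hdet
  have hpow : a.det ^ Fintype.card (Fin e) ∈ nonZeroDivisors A := pow_mem hΔ _
  have h0 : (a.det • s - c * a.adjugate * b) default default = 0 :=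
    (mem_nonZeroDivisors_iff.mp hpow).1 _ hdet
  rw [Matrix.sub_apply, Matrix.smul_apply, smul_eq_mul, sub_eq_zero, mul_apply] at h0
  rw [show s default default = S r j from rfl] at h0
  rw [h0]
  refine Finset.sum_congr rfl (fun k _ => ?_)
  rw [mul_apply]

variable (C : Matrix (Fin n) (Fin e) A)

/-- the matrix of the quotient map `A^n → A^d`. -/
def tM : Fin n → Fin d → A := fun r =>
  Sum.elim (fun k i => - C (w (Sum.inr i)) k) (fun i' => Pi.single i' 1) (w.symm r)

lemma tM_inr (i : Fin d) : tM w C (w (Sum.inr i)) = Pi.single i 1 := by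
  unfold tM
  rw [Equiv.symm_apply_apply]
  rfl

lemma tM_inl (k : Fin e) (i : Fin d) : tM w C (w (Sum.inl k)) i = - C (w (Sum.inr i)) k := by
  unfold tM
  rw [Equiv.symm_apply_apply]
  rfl

lemma sum_equiv_sum {V : Type*} [AddCommMonoid V] (F : Fin n → V) :
    ∑ r, F r = ∑ k, F (w (Sum.inl k)) + ∑ i, F (w (Sum.inr i)) := by
  rw [← Fintype.sum_equiv w (fun z => F (w z)) F (fun _ => rfl), Fintype.sum_sum_type]

/-- `T · S = 0`. -/
lemma sum_tM (hC : ∀ r k,
      (aM S w γ).det * C r k = ∑ l, S r (γ l) * (aM S w γ).adjugate l k)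
    (H2 : ∀ (ρ' : Fin (e + 1) → Fin n) (γ' : Fin (e + 1) → Fin m),
      (S.submatrix ρ' γ').det = 0)
    (hΔ : (aM S w γ).det ∈ nonZeroDivisors A) (j : Fin m) (i : Fin d) :
    ∑ r, S r j * tM w C r i = 0 := by
  classical
  rw [sum_equiv_sum w]
  simp_rw [tM_inl, tM_inr]
  have h1 : ∑ i', S (w (Sum.inr i')) j * (Pi.single i' (1 : A) : Fin d → A) i =
      S (w (Sum.inr i)) j := by
    rw [Finset.sum_eq_single i]
    · rw [Pi.single_eq_same, mul_one]
    · intro i' _ hne
      rw [Pi.single_eq_of_ne (Ne.symm hne), mul_zero]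
    · intro h
      exact (h (Finset.mem_univ _)).elim
  rw [h1]
  apply (mem_nonZeroDivisors_iff.mp hΔ).1
  rw [mul_add, schur S w γ H2 hΔ, Finset.mul_sum, ← Finset.sum_add_distrib]
  refine Finset.sum_eq_zero (fun k _ => ?_)
  rw [← hC]
  ring

/-- on the distinguished rows `C` is the identity. -/
lemma C_inl (hC : ∀ r k,
      (aM S w γ).det * C r k = ∑ l, S r (γ l) * (aM S w γ).adjugate l k)
    (hΔ : (aM S w γ).det ∈ nonZeroDivisors A) (k' k : Fin e) :
    C (w (Sum.inl k')) k = if k' = k then 1 else 0 := by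
  apply nzd_cancel hΔ
  rw [hC]
  have h1 : ∑ l, S (w (Sum.inl k')) (γ l) * (aM S w γ).adjugate l k =
      ((aM S w γ) * (aM S w γ).adjugate) k' k := by
    rw [mul_apply]
    rfl
  rw [h1, mul_adjugate, Matrix.smul_apply, one_apply, smul_eq_mul]

/-- the generators of the kernel of `T` become combinations of the columns of `S` after
multiplication by `Δ`. -/
lemma smul_col (hC : ∀ r k,
      (aM S w γ).det * C r k = ∑ l, S r (γ l) * (aM S w γ).adjugate l k)
    (hΔ : (aM S w γ).det ∈ nonZeroDivisors A)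
    {V : Type*} [AddCommGroup V] [Module A V] (ε : Fin n → V) (k : Fin e) :
    (aM S w γ).det • (ε (w (Sum.inl k)) - ∑ i, tM w C (w (Sum.inl k)) i • ε (w (Sum.inr i))) =
      ∑ l, (aM S w γ).adjugate l k • ∑ r, S r (γ l) • ε r := by
  classical
  have hR : ∑ l, (aM S w γ).adjugate l k • ∑ r, S r (γ l) • ε r =
      ∑ r, ((aM S w γ).det * C r k) • ε r := by
    simp_rw [Finset.smul_sum, smul_smul]
    rw [Finset.sum_comm]
    refine Finset.sum_congr rfl (fun r _ => ?_)
    rw [hC, Finset.sum_smul]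
    refine Finset.sum_congr rfl (fun l _ => ?_)
    rw [mul_comm]
  rw [hR, sum_equiv_sum w]
  simp_rw [C_inl S w γ C hC hΔ, tM_inl]
  have h1 : ∑ k', ((aM S w γ).det * if k' = k then 1 else 0) • ε (w (Sum.inl k')) =
      (aM S w γ).det • ε (w (Sum.inl k)) := by
    rw [Finset.sum_eq_single k]
    · rw [if_pos rfl, mul_one]
    · intro k' _ hne
      rw [if_neg hne, mul_zero, zero_smul]
    · intro h
      exact (h (Finset.mem_univ _)).elim
  rw [h1, smul_sub, sub_eq_add_neg, Finset.smul_sum, ← Finset.sum_neg_distrib]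
  congr 1
  refine Finset.sum_congr rfl (fun i _ => ?_)
  rw [neg_smul, smul_neg, neg_neg, smul_smul]

end Groth.Agent.H2.QuotBl
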