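import Groth.Agent.Lib.Helper2.QuotBlA

/-! # Matrix core, part 2: factorisation through the complementary rows and columns. -/

open Matrix

namespace Groth.Agent.H2.QuotBl

variable {A : Type*} [CommRing A] {n m e d d' : ℕ}

/-- if `T · S = 0` for a matrix `T` which is the identity on the rows `w ∘ inr`, then `S` factors
through its rows `w ∘ inl`. -/
lemma exists_row_factor (S : Matrix (Fin n) (Fin m) A) (w : Fin e ⊕ Fin d ≃ Fin n)
    (t : Fin n → Fin d → A) (ht : ∀ i, t (w (Sum.inr i)) = Pi.single i 1)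
    (hTS : ∀ j i, ∑ r, S r j * t r i = 0) :
    ∃ ι : Matrix (Fin n) (Fin e) A, S = ι * S.submatrix (fun k => w (Sum.inl k)) id := by
  classical
  refine ⟨fun r k => Sum.elim (fun k' => if k' = k then (1 : A) else 0)
    (fun i => - t (w (Sum.inl k)) i) (w.symm r), ?_⟩
  ext r j
  rw [mul_apply]
  obtain ⟨z, rfl⟩ := w.surjective r
  simp_rw [Equiv.symm_apply_apply, submatrix_apply, id]
  cases z with
  | inl k' =>
    simp_rw [Sum.elim_inl]
    rw [Finset.sum_eq_single k']
    · rw [if_pos rfl, one_mul]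
    · intro k _ hne
      rw [if_neg (Ne.symm hne), zero_mul]
    · intro h
      exact (h (Finset.mem_univ _)).elim
  | inr i =>
    simp_rw [Sum.elim_inr]
    have h := hTS j i
    rw [sum_equiv_sum w] at h
    simp_rw [ht] at h
    have h1 : ∑ i', S (w (Sum.inr i')) j * (Pi.single i' (1 : A) : Fin d → A) i =
        S (w (Sum.inr i)) j := by
      rw [Finset.sum_eq_single i]
      · rw [Pi.single_eq_same, mul_one]
      · intro i' _ hne
        rw [Pi.single_eq_of_ne (Ne.symm hne), mul_zero]
      · intro h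
        exact (h (Finset.mem_univ _)).elim
    rw [h1] at h
    have h2 : S (w (Sum.inr i)) j = - ∑ k, S (w (Sum.inl k)) j * t (w (Sum.inl k)) i :=
      eq_neg_of_add_eq_zero_right h
    rw [h2, ← Finset.sum_neg_distrib]
    refine Finset.sum_congr rfl (fun k _ => ?_)
    ring

/-- **all `e`-minors are multiples of the distinguished one** when both the row and the column
relations are given by chart matrices. -/
theorem det_submatrix_mem_span (S : Matrix (Fin n) (Fin m) A) (w : Fin e ⊕ Fin d ≃ Fin n)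
    (w' : Fin e ⊕ Fin d' ≃ Fin m)
    (t : Fin n → Fin d → A) (ht : ∀ i, t (w (Sum.inr i)) = Pi.single i 1)
    (hTS : ∀ j i, ∑ r, S r j * t r i = 0)
    (t' : Fin m → Fin d' → A) (ht' : ∀ i, t' (w' (Sum.inr i)) = Pi.single i 1)
    (hTS' : ∀ r i, ∑ j, S r j * t' j i = 0)
    (ρ' : Fin e → Fin n) (γ' : Fin e → Fin m) :
    (S.submatrix ρ' γ').det ∈ Ideal.span
      {(S.submatrix (fun k => w (Sum.inl k)) (fun k => w' (Sum.inl k))).det} := by
  obtain ⟨ι, hι⟩ := exists_row_factor S w t ht hTS
  obtain ⟨ι', hι'⟩ := exists_row_factor Sᵀ w' t' ht' (fun r i => by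
    simp_rw [transpose_apply]
    exact hTS' r i)
  have hS2 : S = S.submatrix id (fun k => w' (Sum.inl k)) * ι'ᵀ := by
    have h0 := congrArg transpose hι'
    rw [transpose_transpose, transpose_mul] at h0
    have h1 : (Sᵀ.submatrix (fun k => w' (Sum.inl k)) id)ᵀ =
        S.submatrix id (fun k => w' (Sum.inl k)) := rfl
    exact h0.trans (congrArg (· * ι'ᵀ) h1)
  have hS3 : S.submatrix (fun k => w (Sum.inl k)) id =
      S.submatrix (fun k => w (Sum.inl k)) (fun k => w' (Sum.inl k)) * ι'ᵀ := by
    conv_lhs => rw [hS2]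
    rw [submatrix_mul _ _ _ id _ Function.bijective_id]
    rfl
  have hS4 : S.submatrix ρ' γ' = ι.submatrix ρ' id *
      (S.submatrix (fun k => w (Sum.inl k)) (fun k => w' (Sum.inl k)) * ι'ᵀ.submatrix id γ') := by
    conv_lhs => rw [hι, hS3]
    rw [submatrix_mul _ _ _ id _ Function.bijective_id,
      submatrix_mul _ _ _ id _ Function.bijective_id]
    rfl
  rw [hS4, det_mul, det_mul, Ideal.mem_span_singleton']
  exact ⟨(ι.submatrix ρ' id).det * (ι'ᵀ.submatrix id γ').det, by ring⟩

end Groth.Agent.H2.QuotBl
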