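import Groth.Agent.Lib.Helper2.QuotBlA2
import Groth.Agent.Lib.Helper2.BlGrB

/-! # Points of the Grassmannian functor of a cokernel, in terms of minors of the matrix. -/

universe u
open TensorProduct Module Module.Grassmannian CategoryTheory Matrix

namespace Groth.Agent.H2.QuotBl
open Groth.Agent.H2.GrassAlg Groth.Agent.H2.GrassChart Groth.Agent.H2.BlGr

variable {R : Type u} [CommRing R] {n m : ℕ}
variable (σ : (Fin m → R) →ₗ[R] (Fin n → R))

/-- the matrix of `σ` over an `R`-algebra. -/
def SA (A : Type u) [CommRing A] [Algebra R A] : Matrix (Fin n) (Fin m) A :=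
  fun r j => algebraMap R A (σ (Pi.single j 1) r)

section tensor
variable (A : Type u) [CommRing A] [Algebra R A]

/-- the columns of `σ` in `A ⊗ R^n`. -/
noncomputable def colA (j : Fin m) : A ⊗[R] (Fin n → R) := ∑ r, SA σ A r j • ε R A r

lemma one_tmul_eq (y : Fin n → R) :
    (1 : A) ⊗ₜ[R] y = ∑ r, algebraMap R A (y r) • ε R A r := by
  have hf : y = ∑ i, y i • (Pi.single i (1 : R) : Fin n → R) := by
    funext k
    simp [Finset.sum_apply, Pi.single_apply]
  conv_lhs => rw [hf]
  rw [TensorProduct.tmul_sum]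
  apply Finset.sum_congr rfl
  intro i _
  rw [TensorProduct.tmul_smul, ε, algebraMap_smul]

lemma one_tmul_col (j : Fin m) : (1 : A) ⊗ₜ[R] σ (Pi.single j 1) = colA σ A j :=
  one_tmul_eq A _

lemma one_tmul_σ (u : Fin m → R) :
    (1 : A) ⊗ₜ[R] σ u = ∑ j, algebraMap R A (u j) • colA σ A j := by
  have hu : u = ∑ j, u j • (Pi.single j (1 : R) : Fin m → R) := by
    funext k
    simp [Finset.sum_apply, Pi.single_apply]
  conv_lhs => rw [hu]
  rw [map_sum, TensorProduct.tmul_sum]
  apply Finset.sum_congr rfl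
  intro j _
  rw [map_smul, TensorProduct.tmul_smul, one_tmul_col, algebraMap_smul]

variable {A} {k : ℕ} {x : Fin k → Fin n}

lemma colA_mem_chartPt_iff (t : Fin n → Fin k → A) (ht : Valid A x t) (j : Fin m) :
    colA σ A j ∈ (chartPt R t ht).toSubmodule ↔ ∀ i, ∑ r, SA σ A r j * t r i = 0 := by
  rw [chartPt_toSubmodule, LinearMap.mem_ker, colA, map_sum]
  simp_rw [map_smul, T_ε]
  constructor
  · intro h i
    have := congrFun h i
    rw [Finset.sum_apply] at this
    exact this
  · intro h
    funext i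
    rw [Finset.sum_apply]
    exact h i

end tensor

variable {M' : Type u} [AddCommGroup M'] [Module R M'] (v : (Fin n → R) →ₗ[R] M')

lemma containsKer_iff_col (hσ : LinearMap.range σ = LinearMap.ker v) (A : CommAlgCat.{u} R)
    (d : ℕ) (N : (functor (R := R) (M := Fin n → R) d).obj A) :
    ContainsKer v d A N ↔ ∀ j, colA σ A j ∈ N.toSubmodule := by
  constructor
  · intro h j
    rw [← one_tmul_col]
    apply h
    rw [← hσ]
    exact ⟨_, rfl⟩
  · intro h y hy
    rw [← hσ] at hy
    obtain ⟨u, rfl⟩ := hy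
    rw [one_tmul_σ]
    exact Submodule.sum_mem _ (fun j _ => Submodule.smul_mem _ _ (h j))

/-- **existence and uniqueness of the point** of the Grassmannian functor of the cokernel over a
ring where a nonzerodivisor `e`-minor divides all `e`-minors and the `(e+1)`-minors vanish. -/
theorem existsUnique_point (hσ : LinearMap.range σ = LinearMap.ker v)
    (hv : Function.Surjective v) (A : CommAlgCat.{u} R) {e d : ℕ}
    (w : Fin e ⊕ Fin d ≃ Fin n) (γ : Fin e → Fin m)
    (hΔ : (aM (SA σ A) w γ).det ∈ nonZeroDivisors A)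
    (H1 : ∀ (ρ' : Fin e → Fin n) (γ' : Fin e → Fin m),
      (aM (SA σ A) w γ).det ∣ ((SA σ A).submatrix ρ' γ').det)
    (H2 : ∀ (ρ' : Fin (e + 1) → Fin n) (γ' : Fin (e + 1) → Fin m),
      ((SA σ A).submatrix ρ' γ').det = 0) :
    ∃ N : (functor (R := R) (M := M') d).obj A, ∀ N', N' = N := by
  obtain ⟨C, hC⟩ := exists_C (SA σ A) w γ H1
  set t : Fin n → Fin d → A := tM w C with htdef
  have ht : Valid A (fun i => w (Sum.inr i)) t := fun i => tM_inr w C i
  let N₀ : (functor (R := R) (M := Fin n → R) d).obj A := chartPt R t ht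
  have hN₀ : ContainsKer v d A N₀ := by
    rw [containsKer_iff_col σ v hσ]
    intro j
    rw [colA_mem_chartPt_iff]
    intro i
    exact sum_tM (SA σ A) w γ C hC H2 hΔ j i
  obtain ⟨N₁, hN₁⟩ := (containsKer_iff_range v hv d A N₀).mp hN₀
  refine ⟨N₁, fun N' => ?_⟩
  apply comapNat_injective v hv d A
  rw [hN₁]
  set P' := (comapNat v hv d).app A N' with hP'
  have hcol : ∀ j, colA σ A j ∈ P'.toSubmodule :=
    (containsKer_iff_col σ v hσ A d P').mp ((containsKer_iff_range v hv d A P').mpr ⟨N', rfl⟩)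
  -- the generators of the kernel of `T` lie in `P'`
  have hgen : ∀ k : Fin e, ε R A (w (Sum.inl k)) -
      ∑ i, t (w (Sum.inl k)) i • ε R A (w (Sum.inr i)) ∈ P'.toSubmodule := by
    intro k
    have h1 := smul_col (SA σ A) w γ C hC hΔ (ε R A) k
    have h2 : (aM (SA σ A) w γ).det • (ε R A (w (Sum.inl k)) -
        ∑ i, t (w (Sum.inl k)) i • ε R A (w (Sum.inr i))) ∈ P'.toSubmodule := by
      rw [htdef, h1]
      exact Submodule.sum_mem _ (fun l _ => Submodule.smul_mem _ _ (hcol (γ l)))
    have h3 : (aM (SA σ A) w γ).det • P'.toSubmodule.mkQ (ε R A (w (Sum.inl k)) -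
        ∑ i, t (w (Sum.inl k)) i • ε R A (w (Sum.inr i))) = 0 := by
      rw [← map_smul]
      exact (Submodule.Quotient.mk_eq_zero _).mpr h2
    have h4 := eq_zero_of_smul_eq_zero_of_projective _ hΔ _ h3
    exact (Submodule.Quotient.mk_eq_zero _).mp h4
  have hle : LinearMap.ker (T R A t) ≤ P'.toSubmodule := by
    rw [ker_T_eq_span ht, Submodule.span_le]
    rintro _ ⟨j, rfl⟩
    obtain ⟨z, rfl⟩ := w.surjective j
    cases z with
    | inl k => exact hgen k
    | inr i' =>
      have : ε R A (w (Sum.inr i')) - ∑ i, t (w (Sum.inr i')) i • ε R A (w (Sum.inr i)) = 0 := by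
        rw [ht i', sub_eq_zero, Finset.sum_eq_single i']
        · rw [Pi.single_eq_same, one_smul]
        · intro i _ hne
          rw [Pi.single_eq_of_ne hne, zero_smul]
        · intro h
          exact (h (Finset.mem_univ _)).elim
      change _ - _ ∈ _
      rw [this]
      exact Submodule.zero_mem _
  have hch : P'.toSubmodule ⊔ L R (fun i => w (Sum.inr i)) A = ⊤ := by
    rw [eq_top_iff, ← ker_T_sup_L ht]
    exact sup_le_sup_right hle _
  obtain ⟨t', ht', e'⟩ := exists_chartPt P' hch
  have htt : t' = t := by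
    funext j
    have h1 : ε R A j - ∑ i, t j i • ε R A (w (Sum.inr i)) ∈ LinearMap.ker (T R A t') := by
      have := hle (sub_mem_ker_T ht (ε R A j))
      rw [T_ε] at this
      rw [← chartPt_toSubmodule t' ht', e']
      exact this
    rw [LinearMap.mem_ker, map_sub, map_sum, T_ε] at h1
    simp_rw [map_smul, T_ε, (show ∀ i, t' (w (Sum.inr i)) = Pi.single i 1 from ht')] at h1
    rw [sub_eq_zero] at h1
    rw [h1]
    ext i
    simp [Finset.sum_apply, Pi.single_apply]
  subst htt
  exact e'.symm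

end Groth.Agent.H2.QuotBl
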