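import Groth.Agent.Lib.Helper2.QuotBlB

/-! # The ideal of minors is principal over a ring with chart points of both Quot functors. -/

universe u
open TensorProduct Module Module.Grassmannian CategoryTheory Matrix

namespace Groth.Agent.H2.QuotBl
open Groth.Agent.H2.GrassAlg Groth.Agent.H2.GrassChart Groth.Agent.H2.BlGr

variable {R : Type u} [CommRing R] {n m : ℕ}
variable (σ : (Fin m → R) →ₗ[R] (Fin n → R)) (σT : (Fin n → R) →ₗ[R] (Fin m → R))

lemma SA_transpose (hT : ∀ r j, σT (Pi.single r 1) j = σ (Pi.single j 1) r)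
    (A : Type u) [CommRing A] [Algebra R A] : SA σT A = (SA σ A)ᵀ := by
  ext j r
  rw [transpose_apply, SA, SA, hT]

variable {M' K' : Type u} [AddCommGroup M'] [Module R M'] [AddCommGroup K'] [Module R K']
variable (v : (Fin n → R) →ₗ[R] M') (v' : (Fin m → R) →ₗ[R] K')

/-- over a ring carrying points of both Grassmannian functors which lie in standard charts, every
`e`-minor of the matrix is a multiple of the distinguished one. -/
theorem minor_mem_span_of_isChart (hT : ∀ r j, σT (Pi.single r 1) j = σ (Pi.single j 1) r)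
    (hσ : LinearMap.range σ = LinearMap.ker v) (hv : Function.Surjective v)
    (hσ' : LinearMap.range σT = LinearMap.ker v') (hv' : Function.Surjective v')
    (A : CommAlgCat.{u} R) {e d d' : ℕ}
    (w : Fin e ⊕ Fin d ≃ Fin n) (w' : Fin e ⊕ Fin d' ≃ Fin m)
    (Np : (functor (R := R) (M := M') d).obj A) (Nm : (functor (R := R) (M := K') d').obj A)
    (hp : IsChart R (fun i => w (Sum.inr i)) A ((comapNat v hv d).app A Np))
    (hm : IsChart R (fun i => w' (Sum.inr i)) A ((comapNat v' hv' d').app A Nm))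
    (ρ' : Fin e → Fin n) (γ' : Fin e → Fin m) :
    ((SA σ A).submatrix ρ' γ').det ∈ Ideal.span
      {((SA σ A).submatrix (fun k => w (Sum.inl k)) (fun k => w' (Sum.inl k))).det} := by
  obtain ⟨t, ht, et⟩ := exists_chartPt _ hp
  obtain ⟨t', ht', et'⟩ := exists_chartPt _ hm
  have hcol : ∀ j, colA σ A j ∈ ((comapNat v hv d).app A Np).toSubmodule :=
    (containsKer_iff_col σ v hσ A d _).mp ((containsKer_iff_range v hv d A _).mpr ⟨Np, rfl⟩)
  have hcol' : ∀ r, colA σT A r ∈ ((comapNat v' hv' d').app A Nm).toSubmodule :=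
    (containsKer_iff_col σT v' hσ' A d' _).mp ((containsKer_iff_range v' hv' d' A _).mpr ⟨Nm, rfl⟩)
  have hTS : ∀ j i, ∑ r, SA σ A r j * t r i = 0 := by
    intro j
    apply (colA_mem_chartPt_iff σ t ht j).mp
    rw [et]
    exact hcol j
  have hTS' : ∀ r i, ∑ j, SA σ A r j * t' j i = 0 := by
    intro r
    have h1 := (colA_mem_chartPt_iff σT t' ht' r).mp (by rw [et']; exact hcol' r)
    intro i
    have h2 := h1 i
    rw [SA_transpose σ σT hT] at h2
    simp_rw [transpose_apply] at h2
    exact h2
  exact det_submatrix_mem_span (SA σ A) w w' t ht hTS t' ht' hTS' ρ' γ'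

end Groth.Agent.H2.QuotBl
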