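import Groth.Agent.Lib.Helper2.QuotBlB2
import Groth.Agent.S14347

/-! # Fitting ideals of a cokernel and points of the two Quot functors. -/

universe u
open TensorProduct Module Module.Grassmannian CategoryTheory Matrix

namespace Groth.Agent.H2.QuotBl
open Groth.Agent.H2.GrassAlg Groth.Agent.H2.GrassChart Groth.Agent.S14347

variable {R : Type u} [CommRing R] {n m : ℕ} (σ : (Fin m → R) →ₗ[R] (Fin n → R))

/-- the cokernel of `σ`. -/
abbrev Mσ : Type u := (Fin n → R) ⧸ LinearMap.range σ

/-- the cokernel of the dual of `σ`. -/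
abbrev Kσ : Type u := Module.Dual R (Fin m → R) ⧸ LinearMap.range σ.dualMap

/-- the presentation of the cokernel. -/
abbrev vM : (Fin n → R) →ₗ[R] Mσ σ := (LinearMap.range σ).mkQ

lemma vM_surjective : Function.Surjective (vM σ) := Submodule.mkQ_surjective _

lemma range_eq_ker_vM : LinearMap.range σ = LinearMap.ker (vM σ) := (Submodule.ker_mkQ _).symm

/-- the presentation of the cokernel of the dual, in coordinates. -/
noncomputable def vK : (Fin m → R) →ₗ[R] Kσ σ :=
  (LinearMap.range σ.dualMap).mkQ ∘ₗ (dotProductEquiv R (Fin m)).toLinearMap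

lemma vK_surjective : Function.Surjective (vK σ) :=
  (Submodule.mkQ_surjective _).comp (dotProductEquiv R (Fin m)).surjective

/-- the transpose of `σ`. -/
noncomputable def σT : (Fin n → R) →ₗ[R] (Fin m → R) :=
  Matrix.toLin' (fun j r => σ (Pi.single j 1) r : Matrix (Fin m) (Fin n) R)

lemma σT_single (r : Fin n) (j : Fin m) : σT σ (Pi.single r 1) j = σ (Pi.single j 1) r := by
  unfold σT
  rw [Matrix.toLin'_apply, Matrix.mulVec_single_one]
  rfl

lemma range_σT : LinearMap.range (σT σ) = LinearMap.ker (vK σ) := by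
  have h1 : LinearMap.ker (vK σ) =
      (LinearMap.range σ.dualMap).map (dotProductEquiv R (Fin m)).symm.toLinearMap := by
    unfold vK
    rw [LinearMap.ker_comp, Submodule.ker_mkQ, Submodule.map_equiv_eq_comap_symm]
    rfl
  rw [h1, ← map_symm_range_dualMap, ← range_eq_span (σT σ)]
  congr 2
  funext r
  funext j
  exact σT_single σ r j

section minors
variable (A : Type u) [CommRing A] [Algebra R A]

lemma map_minors (r : ℕ) : (minors σ r).map (algebraMap R A) =
    Ideal.span {x | ∃ (ρ' : Fin r → Fin n) (γ' : Fin r → Fin m),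
      x = ((SA σ A).submatrix ρ' γ').det} := by
  unfold minors
  rw [Ideal.map_span]
  congr 1
  ext x
  constructor
  · rintro ⟨_, ⟨c, e, rfl⟩, rfl⟩
    refine ⟨e, c, ?_⟩
    rw [RingHom.map_det]
    rfl
  · rintro ⟨ρ', γ', rfl⟩
    refine ⟨_, ⟨γ', ρ', rfl⟩, ?_⟩
    rw [RingHom.map_det]
    rfl

lemma minor_mem (r : ℕ) (ρ' : Fin r → Fin n) (γ' : Fin r → Fin m) :
    ((SA σ A).submatrix ρ' γ').det ∈ (minors σ r).map (algebraMap R A) := by
  rw [map_minors]
  exact Ideal.subset_span ⟨ρ', γ', rfl⟩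

end minors

/-- **the ideal `Fit_d(M)·A` is principal** over a ring carrying chart points of both functors. -/
theorem fitt_map_eq_span_of_isChart (A : CommAlgCat.{u} R) {e d d' : ℕ}
    (w : Fin e ⊕ Fin d ≃ Fin n) (w' : Fin e ⊕ Fin d' ≃ Fin m)
    (Np : (functor (R := R) (M := Mσ σ) d).obj A) (Nm : (functor (R := R) (M := Kσ σ) d').obj A)
    (hp : IsChart R (fun i => w (Sum.inr i)) A
      ((comapNat (vM σ) (vM_surjective σ) d).app A Np))
    (hm : IsChart R (fun i => w' (Sum.inr i)) A
      ((comapNat (vK σ) (vK_surjective σ) d').app A Nm)) :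
    (Fitt.ideal R (Mσ σ) d).map (algebraMap R A) = Ideal.span
      {((SA σ A).submatrix (fun k => w (Sum.inl k)) (fun k => w' (Sum.inl k))).det} := by
  have hcard : e + d = n := by
    have := Fintype.card_congr w
    simpa using this
  have he : n - d = e := by omega
  rw [fitt_coker, he, map_minors]
  apply le_antisymm
  · rw [Ideal.span_le]
    rintro _ ⟨ρ', γ', rfl⟩
    exact minor_mem_span_of_isChart σ (σT σ) (vM σ) (vK σ) (σT_single σ) (range_eq_ker_vM σ)
      (vM_surjective σ) (range_σT σ) (vK_surjective σ) A w w' Np Nm hp hm ρ' γ'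
  · rw [Ideal.span_le]
    rintro _ rfl
    exact Ideal.subset_span ⟨_, _, rfl⟩

/-- **existence and uniqueness of the points of both Quot functors** over a ring in which
`Fit_{d-1}(M)` dies and `Fit_d(M)` is generated by a minor which is a nonzerodivisor. -/
theorem existsUnique_points (A : CommAlgCat.{u} R) [Nontrivial A] {δ d e : ℕ} (hn : n = m + δ)
    (hd : δ ≤ d) (he : e = n - d)
    (hY : (⨆ j < d, Fitt.ideal R (Mσ σ) j).map (algebraMap R A) = ⊥)
    (ρ₀ : Fin e → Fin n) (γ₀ : Fin e → Fin m)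
    (hΔ : ((SA σ A).submatrix ρ₀ γ₀).det ∈ nonZeroDivisors A)
    (hgen : (Fitt.ideal R (Mσ σ) d).map (algebraMap R A) =
      Ideal.span {((SA σ A).submatrix ρ₀ γ₀).det}) :
    (∃ N : (functor (R := R) (M := Mσ σ) d).obj A, ∀ N', N' = N) ∧
      (∃ N : (functor (R := R) (M := Kσ σ) (d - δ)).obj A, ∀ N', N' = N) := by
  classical
  have h01 : (0 : A) ≠ 1 := zero_ne_one
  have hnz : ¬ ((0 : A) ∈ nonZeroDivisors A) := by
    intro h
    exact h01 ((mem_nonZeroDivisors_iff.mp h).1 1 (zero_mul 1)).symm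
  -- `d ≤ n`
  have hdn : d ≤ n := by
    by_contra hcon
    push Not at hcon
    have h1 : (1 : R) ∈ Fitt.ideal R (Mσ σ) (d - 1) := by
      rw [fitt_coker, show n - (d - 1) = 0 by omega]
      refine Ideal.subset_span ⟨Fin.elim0, Fin.elim0, ?_⟩
      rw [Matrix.det_isEmpty]
    have h2 : (1 : R) ∈ ⨆ j < d, Fitt.ideal R (Mσ σ) j :=
      (le_iSup₂ (f := fun j (_ : j < d) => Fitt.ideal R (Mσ σ) j) (d - 1) (by omega)) h1
    have h3 : algebraMap R A 1 ∈ (⊥ : Ideal A) := hY ▸ Ideal.mem_map_of_mem _ h2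
    rw [map_one, Ideal.mem_bot] at h3
    exact h01 h3.symm
  have hed : e + d = n := by omega
  have hed' : e + (d - δ) = m := by omega
  -- injectivity of the index maps
  have hρ : Function.Injective ρ₀ := by
    intro k k' hkk
    by_contra hne
    apply hnz
    have : ((SA σ A).submatrix ρ₀ γ₀).det = 0 :=
      Matrix.det_zero_of_row_eq hne (by
        funext l
        rw [submatrix_apply, submatrix_apply, hkk])
    rw [← this]
    exact hΔ
  have hγ : Function.Injective γ₀ := by
    intro k k' hkk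
    by_contra hne
    apply hnz
    have : ((SA σ A).submatrix ρ₀ γ₀).det = 0 :=
      Matrix.det_zero_of_column_eq hne (by
        intro l
        rw [submatrix_apply, submatrix_apply, hkk])
    rw [← this]
    exact hΔ
  obtain ⟨w, hw⟩ := exists_sumEquiv_inl ρ₀ hρ hed
  obtain ⟨w', hw'⟩ := exists_sumEquiv_inl γ₀ hγ hed'
  have hwf : (fun k => w (Sum.inl k)) = ρ₀ := funext hw
  have hwf' : (fun k => w' (Sum.inl k)) = γ₀ := funext hw'
  -- divisibility of the `e`-minors
  have H1 : ∀ (ρ' : Fin e → Fin n) (γ' : Fin e → Fin m),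
      ((SA σ A).submatrix ρ₀ γ₀).det ∣ ((SA σ A).submatrix ρ' γ').det := by
    intro ρ' γ'
    apply Ideal.mem_span_singleton.mp
    rw [← hgen, fitt_coker, ← he]
    exact minor_mem σ A e ρ' γ'
  -- vanishing of the `(e+1)`-minors
  have H2 : ∀ (ρ' : Fin (e + 1) → Fin n) (γ' : Fin (e + 1) → Fin m),
      ((SA σ A).submatrix ρ' γ').det = 0 := by
    intro ρ' γ'
    rcases Nat.eq_zero_or_pos d with hd0 | hdpos
    · have hen : e = n := by omega
      obtain ⟨k, k', hne, hkk⟩ := Fintype.exists_ne_map_eq_of_card_lt ρ' (by simp [hen])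
      exact Matrix.det_zero_of_row_eq hne (by
        funext l
        rw [submatrix_apply, submatrix_apply, hkk])
    · have h1 : ((SA σ A).submatrix ρ' γ').det ∈
          (Fitt.ideal R (Mσ σ) (d - 1)).map (algebraMap R A) := by
        rw [fitt_coker, show n - (d - 1) = e + 1 by omega]
        exact minor_mem σ A (e + 1) ρ' γ'
      have h2 : (Fitt.ideal R (Mσ σ) (d - 1)).map (algebraMap R A) ≤ ⊥ := by
        rw [← hY]
        exact Ideal.map_mono
          (le_iSup₂ (f := fun j (_ : j < d) => Fitt.ideal R (Mσ σ) j) (d - 1) (by omega))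
      exact (Ideal.mem_bot.mp (h2 h1))
  constructor
  · refine existsUnique_point σ (vM σ) (range_eq_ker_vM σ) (vM_surjective σ) A w γ₀ ?_ ?_ H2
    · unfold aM
      rw [hwf]
      exact hΔ
    · intro ρ' γ'
      unfold aM
      rw [hwf]
      exact H1 ρ' γ'
  · have hST := SA_transpose σ (σT σ) (σT_single σ) A
    have hdet : ∀ {r : ℕ} (ρ' : Fin r → Fin m) (γ' : Fin r → Fin n),
        ((SA (σT σ) A).submatrix ρ' γ').det = ((SA σ A).submatrix γ' ρ').det := by
      intro r ρ' γ'
      rw [hST, ← det_transpose]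
      rfl
    refine existsUnique_point (σT σ) (vK σ) (range_σT σ) (vK_surjective σ) A w' ρ₀ ?_ ?_ ?_
    · unfold aM
      rw [hwf', hdet]
      exact hΔ
    · intro ρ' γ'
      unfold aM
      rw [hwf', hdet, hdet]
      exact H1 γ' ρ'
    · intro ρ' γ'
      rw [hdet]
      exact H2 γ' ρ'

end Groth.Agent.H2.QuotBl
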