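import Groth.Agent.Lib.Helper2.QuotBlC
import Groth.Agent.Lib.Helper2.BlBcC
import Groth.Agent.Lib.Helper2.AffRepR
import Groth.Agent.Lib.Helper2.BlGrD

/-! # The product of the two Quot schemes of a module of homological dimension one is the blow-up of
its degeneracy locus. -/

universe u
open CategoryTheory CategoryTheory.Limits AlgebraicGeometry TensorProduct Module Module.Grassmannian

namespace Groth.Agent.H2.QuotBl
open Groth.Agent.H2.AffRep Groth.Agent.H2.GrassAlg Groth.Agent.H2.GrassChart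
open Groth.Agent.H9.BLA Groth.Agent.S14347

section general
variable {A : Type u} [CommRing A]

/-- inverse image of the ideal sheaf of an ideal along `Spec` of a ring map. -/
lemma comap_SpecMap {A' : Type u} [CommRing A'] (I : Ideal A) (φ : A →+* A') :
    (Groth.Agent.H9.BLA.idealSheaf I).comap (Spec.map (CommRingCat.ofHom φ)) =
      Groth.Agent.H9.BLA.idealSheaf (I.map φ) := by
  apply Scheme.IdealSheafData.ext_of_isAffine
  rw [ideal_comap I (Spec.map (CommRingCat.ofHom φ)) ⟨⊤, isAffineOpen_top _⟩, secMap_SpecMap_top]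
  unfold Groth.Agent.H9.BLA.idealSheaf
  rw [Scheme.IdealSheafData.ofIdealTop_ideal, CommRingCat.hom_comp, ← Ideal.map_map]
  have h2 : ∀ (h : (⊤ : (Spec (CommRingCat.of A')).Opens) ≤ ⊤),
      (Spec (CommRingCat.of A')).presheaf.map (homOfLE h).op = 𝟙 _ := by
    intro h
    rw [← (Spec (CommRingCat.of A')).presheaf.map_id]
    rfl
  symm
  erw [h2]
  exact Ideal.map_id _

/-- naturality of `secMap` in the target. -/
lemma secMap_comp_SpecMap {A' : Type u} [CommRing A'] (φ : A →+* A') {Y : Scheme.{u}}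
    (g : Y ⟶ Spec (CommRingCat.of A')) {U : Y.Opens} (hU : IsAffineOpen U) :
    secMap (g ≫ Spec.map (CommRingCat.ofHom φ)) U = CommRingCat.ofHom φ ≫ secMap g U := by
  apply Spec.map_injective
  rw [Spec.map_comp, ← fromSpec_comp _ hU, ← fromSpec_comp _ hU, Category.assoc]

/-- a local generator of an effective Cartier inverse image can be chosen among any given set of
generators of the ideal. -/
theorem exists_genAt_of_span (S : Set A) {Y : Scheme.{u}} (g : Y ⟶ Spec (CommRingCat.of A))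
    (hE : BlowUp.IsEffCartierIdeal ((Groth.Agent.H9.BLA.idealSheaf (Ideal.span S)).comap g))
    (y : Y) : ∃ a ∈ S, ∃ U : Y.Opens, y ∈ U ∧ GenAt (Ideal.span S) g a U := by
  obtain ⟨a₀, ha₀, U₀, hyU₀, -, hG₀⟩ := exists_genAt (Ideal.span S) g hE y ⊤ trivial
  obtain ⟨hU₀, hgen₀, hnzd₀⟩ := hG₀
  set φ₀ := (secMap g U₀).hom with hφ₀
  obtain ⟨k, r, s, hsum⟩ := (Submodule.mem_span_set' (R := A)).mp ha₀
  have hex : ∀ i : Fin k, ∃ ci, ci * φ₀ a₀ = φ₀ (s i : A) := by
    intro i
    apply Ideal.mem_span_singleton'.mp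
    rw [← hgen₀]
    exact Ideal.mem_map_of_mem _ (Ideal.subset_span (s i).2)
  choose c hc using hex
  have hr : ∑ i, φ₀ (r i) * c i = 1 := by
    have h0 : (∑ i, φ₀ (r i) * c i) * φ₀ a₀ = φ₀ a₀ := by
      rw [Finset.sum_mul]
      calc ∑ i, φ₀ (r i) * c i * φ₀ a₀ = ∑ i, φ₀ (r i • (s i : A)) := by
            apply Finset.sum_congr rfl
            intro i _
            rw [mul_assoc, hc, smul_eq_mul, map_mul]
        _ = φ₀ a₀ := by rw [← map_sum, hsum]
    have h1 : (∑ i, φ₀ (r i) * c i - 1) * φ₀ a₀ = 0 := by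
      rw [sub_mul, one_mul, h0, sub_self]
    exact sub_eq_zero.mp ((mem_nonZeroDivisors_iff_right.mp hnzd₀) _ h1)
  have hexj : ∃ j, y ∈ Y.basicOpen (c j) := by
    by_contra hcon
    push Not at hcon
    have h1 : ∀ j, Y.presheaf.germ U₀ y hyU₀ (c j) ∈
        IsLocalRing.maximalIdeal (Y.presheaf.stalk y) := by
      intro j
      rw [IsLocalRing.mem_maximalIdeal, mem_nonunits_iff, ← Scheme.mem_basicOpen _ _ _ hyU₀]
      exact hcon j
    have h2 : Y.presheaf.germ U₀ y hyU₀ (∑ i, φ₀ (r i) * c i) ∈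
        IsLocalRing.maximalIdeal (Y.presheaf.stalk y) := by
      rw [map_sum]
      exact Ideal.sum_mem _ (fun i _ => by
        rw [map_mul]
        exact Ideal.mul_mem_left _ _ (h1 i))
    rw [hr, map_one] at h2
    exact (IsLocalRing.maximalIdeal.isMaximal _).ne_top ((Ideal.eq_top_iff_one _).mpr h2)
  obtain ⟨j, hyj⟩ := hexj
  have hUle : Y.basicOpen (c j) ≤ U₀ := Y.basicOpen_le _
  have hU : IsAffineOpen (Y.basicOpen (c j)) := hU₀.basicOpen (c j)
  obtain ⟨-, hgen, hnzd⟩ :=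
    (GenAt.mono (I := Ideal.span S) (g := g) (a := a₀) ⟨hU₀, hgen₀, hnzd₀⟩ hU hUle)
  have hres : ∀ x : A, (Y.presheaf.map (homOfLE hUle).op).hom (φ₀ x) =
      (secMap g (Y.basicOpen (c j))).hom x := secMap_res_apply g hUle
  have hunit : IsUnit ((Y.presheaf.map (homOfLE hUle).op).hom (c j)) :=
    RingedSpace.isUnit_res_basicOpen Y.toRingedSpace (c j)
  have hsj : (secMap g (Y.basicOpen (c j))).hom (s j : A) =
      (Y.presheaf.map (homOfLE hUle).op).hom (c j) * (secMap g (Y.basicOpen (c j))).hom a₀ := by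
    rw [← hres, ← hres, ← hc, map_mul]
  refine ⟨s j, (s j).2, Y.basicOpen (c j), hyj, hU, ?_, ?_⟩
  · rw [hgen, hsj, Ideal.span_singleton_mul_left_unit hunit]
  · rw [hsj]
    exact mul_mem hunit.mem_nonZeroDivisors hnzd

end general

section main
variable {R : Type u} [CommRing R] {m δ : ℕ} (d : ℕ) (σ : (Fin m → R) →ₗ[R] (Fin (m + δ) → R))

/-- the set of minors generating `Fit_d`. -/
def minorSet : Set R := {x | ∃ (c : Fin (m + δ - d) → Fin m) (e : Fin (m + δ - d) → Fin (m + δ)),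
    x = (Matrix.of fun a b => σ (Pi.single (c b) 1) (e a)).det}

lemma fitt_eq_span : Fitt.ideal R (Mσ σ) d = Ideal.span (minorSet d σ) := fitt_coker σ d

/-- the ideal of the locus where the rank is at least `d`. -/
abbrev IY : Ideal R := ⨆ j < d, Fitt.ideal R (Mσ σ) j

theorem points_of_genAt (hd : δ ≤ d) (T : Over (Spec (CommRingCat.of R))) (U : T.left.Opens)
    (hU : IsAffineOpen U) (hne : Nonempty U)
    (hY : (IY d σ).map (secMap T.hom U).hom = ⊥)
    (a : R) (ha : a ∈ minorSet d σ) (hG : GenAt (Ideal.span (minorSet d σ)) T.hom a U) :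
    (∃ N : (functor (R := R) (M := Mσ σ) d).obj (chartAlg T U hU), ∀ N', N' = N) ∧
      (∃ N : (functor (R := R) (M := Kσ σ) (d - δ)).obj (chartAlg T U hU), ∀ N', N' = N) := by
  obtain ⟨-, hgen, hnzd⟩ := hG
  obtain ⟨c, e, rfl⟩ := ha
  have halg' : ∀ r : R, algebraMap R (chartAlg T U hU) r = (secMap T.hom U).hom r := by
    intro r
    change chartStr T U hU r = _
    rw [BlGr.chartStr_eq_secMap]
  have halg : algebraMap R (chartAlg T U hU) = (secMap T.hom U).hom := RingHom.ext halg'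
  have hdet : ((SA σ (chartAlg T U hU)).submatrix e c).det =
      (secMap T.hom U).hom (Matrix.of fun a b => σ (Pi.single (c b) 1) (e a)).det := by
    rw [← halg', RingHom.map_det]
    rfl
  have hnt : Nontrivial (chartAlg T U hU) := by
    change Nontrivial Γ(T.left, U)
    infer_instance
  refine existsUnique_points σ (chartAlg T U hU) rfl hd rfl ?_ e c ?_ ?_
  · rw [halg]
    exact hY
  · rw [hdet]
    exact hnzd
  · rw [hdet, halg, fitt_eq_span]
    exact hgen

variable {X : Over (Spec (CommRingCat.of R))}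
  (ρ : Rep (prodF (functor (R := R) (M := Mσ σ) d) (functor (R := R) (M := Kσ σ) (d - δ))) X)

include ρ in
/-- uniqueness of lifts. -/
theorem lift_unique (hd : δ ≤ d) (Y : Scheme.{u}) (h₁ h₂ : Y ⟶ X.left)
    (hw : h₁ ≫ X.hom = h₂ ≫ X.hom)
    (c' : Y ⟶ Spec (CommRingCat.of (R ⧸ IY d σ)))
    (hc' : h₁ ≫ X.hom = c' ≫ Spec.map (CommRingCat.ofHom (Ideal.Quotient.mk (IY d σ))))
    (hE : BlowUp.IsEffCartierIdeal
      ((idealSheaf (Fitt.ideal R (Mσ σ) d)).comap (h₁ ≫ X.hom))) : h₁ = h₂ := by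
  apply hom_ext_of_charts
  intro y
  rw [fitt_eq_span] at hE
  obtain ⟨a, ha, U, hyU, hG⟩ := exists_genAt_of_span (minorSet d σ) (h₁ ≫ X.hom) hE y
  have hU := hG.1
  refine ⟨U, hU, hyU, ?_⟩
  let T : Over (Spec (CommRingCat.of R)) := Over.mk (h₁ ≫ X.hom)
  let h₁' : T ⟶ X := Over.homMk h₁ rfl
  let h₂' : T ⟶ X := Over.homMk h₂ hw.symm
  have hU' : IsAffineOpen (X := T.left) U := hU
  have hY : (IY d σ).map (secMap T.hom U).hom = ⊥ := by
    change (IY d σ).map (secMap (h₁ ≫ X.hom) U).hom = ⊥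
    rw [hc', secMap_comp_SpecMap _ _ hU, CommRingCat.hom_comp, ← Ideal.map_map]
    rw [CommRingCat.hom_ofHom, Ideal.map_quotient_self, Ideal.map_bot]
  obtain ⟨⟨Np, hNp⟩, ⟨Nm, hNm⟩⟩ := points_of_genAt d σ hd T U hU' ⟨⟨y, hyU⟩⟩ hY a ha hG
  have key : chart T U hU' ≫ h₁' = chart T U hU' ≫ h₂' := by
    apply (ρ.e (chartAlg T U hU')).injective
    apply Prod.ext
    · exact (hNp _).trans (hNp _).symm
    · exact (hNm _).trans (hNm _).symm
  exact congrArg (fun t => t.left) key

include ρ in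
/-- local existence of lifts. -/
theorem exists_local_lift (hd : δ ≤ d) (Y : Scheme.{u}) (g : Y ⟶ Spec (CommRingCat.of R))
    (c' : Y ⟶ Spec (CommRingCat.of (R ⧸ IY d σ)))
    (hc' : g = c' ≫ Spec.map (CommRingCat.ofHom (Ideal.Quotient.mk (IY d σ))))
    (hE : BlowUp.IsEffCartierIdeal ((idealSheaf (Fitt.ideal R (Mσ σ) d)).comap g)) (y : Y) :
    ∃ (U : Y.Opens) (h : (U : Scheme.{u}) ⟶ X.left), y ∈ U ∧ h ≫ X.hom = U.ι ≫ g := by
  rw [fitt_eq_span] at hE
  obtain ⟨a, ha, U, hyU, hG⟩ := exists_genAt_of_span (minorSet d σ) g hE y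
  have hU := hG.1
  let T : Over (Spec (CommRingCat.of R)) := Over.mk g
  have hU' : IsAffineOpen (X := T.left) U := hU
  have hY : (IY d σ).map (secMap T.hom U).hom = ⊥ := by
    change (IY d σ).map (secMap g U).hom = ⊥
    rw [hc', secMap_comp_SpecMap _ _ hU, CommRingCat.hom_comp, ← Ideal.map_map]
    rw [CommRingCat.hom_ofHom, Ideal.map_quotient_self, Ideal.map_bot]
  obtain ⟨⟨Np, hNp⟩, ⟨Nm, hNm⟩⟩ := points_of_genAt d σ hd T U hU' ⟨⟨y, hyU⟩⟩ hY a ha hG
  let gA : SpecO (chartAlg T U hU') ⟶ X := (ρ.e _).symm (Np, Nm)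
  let gl : Spec Γ(Y, U) ⟶ X.left := gA.left
  have h1 : (SpecO (chartAlg T U hU')).hom = hU.fromSpec ≫ g := SpecMap_chartStr T U hU'
  have hgl : gl ≫ X.hom = hU.fromSpec ≫ g := (Over.w gA).trans h1
  refine ⟨U, hU.isoSpec.hom ≫ gl, hyU, ?_⟩
  rw [Category.assoc, hgl, ← Category.assoc]
  congr 1
  rw [← hU.isoSpec_inv_ι, Iso.hom_inv_id_assoc]

include ρ in
/-- **the product of the two Quot schemes is the blow-up of the degeneracy locus.** -/
theorem isBlowUp_of_rep (hd : δ ≤ d) (c : X.left ⟶ Spec (CommRingCat.of (R ⧸ IY d σ)))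
    (hc : c ≫ Spec.map (CommRingCat.ofHom (Ideal.Quotient.mk (IY d σ))) = X.hom)
    (hE : BlowUp.IsEffCartierIdeal ((idealSheaf (Fitt.ideal R (Mσ σ) d)).comap X.hom)) :
    BlowUp.IsBlowUp c
      (idealSheaf ((Fitt.ideal R (Mσ σ) d).map (Ideal.Quotient.mk (IY d σ)))) := by
  have hK : ∀ {Y : Scheme.{u}} (g : Y ⟶ Spec (CommRingCat.of (R ⧸ IY d σ))),
      (idealSheaf ((Fitt.ideal R (Mσ σ) d).map (Ideal.Quotient.mk (IY d σ)))).comap g =
      (idealSheaf (Fitt.ideal R (Mσ σ) d)).comap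
        (g ≫ Spec.map (CommRingCat.ofHom (Ideal.Quotient.mk (IY d σ)))) := by
    intro Y g
    rw [Scheme.IdealSheafData.comap_comp, comap_SpecMap]
  have hci : IsClosedImmersion (Spec.map (CommRingCat.ofHom (Ideal.Quotient.mk (IY d σ)))) :=
    IsClosedImmersion.spec_of_surjective _ Ideal.Quotient.mk_surjective
  have hmono : Mono (Spec.map (CommRingCat.ofHom (Ideal.Quotient.mk (IY d σ)))) := inferInstance
  apply isBlowUp_of_local
  · rw [hK, hc]
    exact hE
  · intro Y h₁ h₂ hw hE'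
    rw [hK] at hE'
    refine lift_unique d σ ρ hd Y h₁ h₂ ?_ (h₁ ≫ c) ?_ ?_
    · rw [← hc, ← Category.assoc, hw, Category.assoc]
    · rw [← hc, Category.assoc]
    · rw [← hc, ← Category.assoc]
      exact hE'
  · intro Y g hEg y
    rw [hK] at hEg
    obtain ⟨U, h, hyU, hh⟩ := exists_local_lift d σ ρ hd Y
      (g ≫ Spec.map (CommRingCat.ofHom (Ideal.Quotient.mk (IY d σ)))) g rfl hEg y
    refine ⟨U, h, hyU, ?_⟩
    apply (cancel_mono (Spec.map (CommRingCat.ofHom (Ideal.Quotient.mk (IY d σ))))).mp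
    rw [Category.assoc, hc, hh, Category.assoc]

end main

section charts
variable {R : Type u} [CommRing R] {M : Type u} [AddCommGroup M] [Module R M] {n k : ℕ}
  (v : (Fin n → R) →ₗ[R] M) (hv : Function.Surjective v)

/-- the chart condition on the Grassmannian functor of a quotient of a free module. -/
def PChart (x : Fin k → Fin n) (A : CommAlgCat.{u} R)
    (N : (functor (R := R) (M := M) k).obj A) : Prop :=
  IsChart R x A ((comapNat v hv k).app A N)

theorem isOpenPred_PChart (x : Fin k → Fin n) :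
    IsOpenPred (functor (R := R) (M := M) k) (PChart v hv x) := by
  intro A N
  obtain ⟨I, hI⟩ := isOpenPred_isChart (R := R) x A ((comapNat v hv k).app A N)
  refine ⟨I, fun B φ => ?_⟩
  unfold PChart
  rw [τ_map]
  exact hI B φ

variable {B : Over (Spec (CommRingCat.of R))} (ρ : Rep (functor (R := R) (M := M) k) B)

theorem exists_chart_mem (p : B.left) :
    ∃ x : Fin k ↪ Fin n, p ∈ openOf (isOpenPred_PChart v hv x) ρ := by
  obtain ⟨K, _, _, g, y, hy⟩ := exists_field_point B p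
  obtain ⟨x, hx⟩ := exists_isChart_of_field K
    ((comapNat v hv k).app (CommAlgCat.of R K) (ρ.e _ g))
  refine ⟨x, ?_⟩
  rw [← hy]
  exact (mem_openOf_iff (isOpenPred_PChart v hv x) ρ (CommAlgCat.of R K) g).mpr hx y

end charts

section locprin
variable {R : Type u} [CommRing R] {m δ : ℕ} (d : ℕ) (σ : (Fin m → R) →ₗ[R] (Fin (m + δ) → R))
variable {Bp Bm : Over (Spec (CommRingCat.of R))}
  (ρp : Rep (functor (R := R) (M := Mσ σ) d) Bp)
  (ρm : Rep (functor (R := R) (M := Kσ σ) (d - δ)) Bm)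

include ρp ρm in
/-- the inverse image of `Fit_d` on the product of the two Quot schemes is locally principal. -/
theorem isLocPrincipal (hd : δ ≤ d) :
    Curv2.IsLocPrincipal
      ((idealSheaf (Fitt.ideal R (Mσ σ) d)).comap (prodO Bp Bm).hom) := by
  intro x _
  obtain ⟨xp, hxp⟩ := exists_chart_mem (vM σ) (vM_surjective σ) ρp
    ((prodFst (X := Bp) (Y := Bm)).left x)
  obtain ⟨xm, hxm⟩ := exists_chart_mem (vK σ) (vK_surjective σ) ρm
    ((prodSnd (X := Bp) (Y := Bm)).left x)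
  set Up := openOf (isOpenPred_PChart (vM σ) (vM_surjective σ) xp) ρp with hUp
  set Um := openOf (isOpenPred_PChart (vK σ) (vK_surjective σ) xm) ρm with hUm
  let W : (prodO Bp Bm).left.Opens :=
    ((prodFst (X := Bp) (Y := Bm)).left ⁻¹ᵁ Up) ⊓ ((prodSnd (X := Bp) (Y := Bm)).left ⁻¹ᵁ Um)
  have hxW : x ∈ W := ⟨hxp, hxm⟩
  obtain ⟨_, ⟨U, hU, rfl⟩, hxU, hUW⟩ :=
    (prodO Bp Bm).left.isBasis_affineOpens.exists_subset_of_mem_open
      (show x ∈ (W : Set (prodO Bp Bm).left) from hxW) W.2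
  refine ⟨⟨U, hU⟩, hxU, ?_⟩
  set A := chartAlg (prodO Bp Bm) U hU with hA
  set Np := ρp.e A (chart (prodO Bp Bm) U hU ≫ prodFst) with hNp
  set Nm := ρm.e A (chart (prodO Bp Bm) U hU ≫ prodSnd) with hNm
  have hrange : ∀ y, (chart (prodO Bp Bm) U hU).left y ∈ U := by
    intro y
    rw [chart_left]
    have : Set.range hU.fromSpec = (U : Set _) := hU.range_fromSpec
    rw [← SetLike.mem_coe, ← this]
    exact ⟨y, rfl⟩
  have hp : PChart (vM σ) (vM_surjective σ) xp A Np := by
    apply (mem_openOf_iff (isOpenPred_PChart (vM σ) (vM_surjective σ) xp) ρp A _).mp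
    intro y
    exact (hUW (hrange y)).1
  have hm : PChart (vK σ) (vK_surjective σ) xm A Nm := by
    apply (mem_openOf_iff (isOpenPred_PChart (vK σ) (vK_surjective σ) xm) ρm A _).mp
    intro y
    exact (hUW (hrange y)).2
  have hdn : d ≤ m + δ := by
    have := Fintype.card_le_of_embedding xp
    simpa using this
  have hdm : d - δ ≤ m := by
    have := Fintype.card_le_of_embedding xm
    simpa using this
  obtain ⟨w, hw⟩ := exists_sumEquiv_inr (e := m + δ - d) xp xp.injective (by omega)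
  obtain ⟨w', hw'⟩ := exists_sumEquiv_inr (e := m + δ - d) xm xm.injective (by omega)
  have hp' : IsChart R (fun i => w (Sum.inr i)) A
      ((comapNat (vM σ) (vM_surjective σ) d).app A Np) := by
    have : (fun i => w (Sum.inr i)) = xp := funext hw
    rw [this]
    exact hp
  have hm' : IsChart R (fun i => w' (Sum.inr i)) A
      ((comapNat (vK σ) (vK_surjective σ) (d - δ)).app A Nm) := by
    have : (fun i => w' (Sum.inr i)) = xm := funext hw'
    rw [this]
    exact hm
  have key := fitt_map_eq_span_of_isChart σ A w w' Np Nm hp' hm'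
  have halg : algebraMap R A = (secMap (prodO Bp Bm).hom U).hom := by
    apply RingHom.ext
    intro r
    change chartStr (prodO Bp Bm) U hU r = _
    rw [BlGr.chartStr_eq_secMap]
    rfl
  rw [ideal_comap]
  refine ⟨((SA σ A).submatrix (fun k => w (Sum.inl k)) (fun k => w' (Sum.inl k))).det, ?_⟩
  rw [← halg]
  exact key

end locprin

end Groth.Agent.H2.QuotBl
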