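import Groth.Agent.Lib.Helper2.RDer9
import Groth.Agent.S6611

/-!
# Acyclicity of objects of a class of objects adapted to a functor
-/

universe v v' u u'

open CategoryTheory CategoryTheory.Limits

namespace Groth.Agent.H2.RDer

section transport

variable {A : Type u} [Category.{v} A] [Abelian A]
  {B : Type u'} [Category.{v'} B] [Abelian B]
  (F : A ⥤ B) [F.Additive] (L : CochainComplex A ℕ)

/-- The `ℤ`-indexed extension of an `ℕ`-indexed cochain complex. -/
noncomputable def extZ : CochainComplex A ℤ := L.extend ComplexShape.embeddingUpNat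

/-- The comparison isomorphisms between the terms of the `ℤ`-indexed and `ℕ`-indexed complexes. -/
noncomputable def extIso (n : ℤ) (k : ℕ) (h : (k : ℤ) = n) :
    F.obj ((extZ L).X n) ≅ F.obj (L.X k) :=
  F.mapIso (HomologicalComplex.extendXIso L ComplexShape.embeddingUpNat h)

lemma map_d_extIso (n₁ n₂ : ℤ) (k₁ k₂ : ℕ) (h₁ : (k₁ : ℤ) = n₁) (h₂ : (k₂ : ℤ) = n₂) :
    F.map ((extZ L).d n₁ n₂) ≫ (extIso F L n₂ k₂ h₂).hom =
      (extIso F L n₁ k₁ h₁).hom ≫ F.map (L.d k₁ k₂) := by
  dsimp [extIso, extZ]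
  rw [← F.map_comp, ← F.map_comp,
    HomologicalComplex.extend_d_eq L ComplexShape.embeddingUpNat h₁ h₂, Category.assoc,
    Category.assoc, Iso.inv_hom_id, Category.comp_id]

lemma exactAt_extZ_iff (k : ℕ) :
    ((F.mapHomologicalComplex (ComplexShape.up ℤ)).obj (extZ L)).ExactAt ((k + 1 : ℕ) : ℤ) ↔
      ((F.mapHomologicalComplex (ComplexShape.up ℕ)).obj L).ExactAt (k + 1) := by
  rw [HomologicalComplex.exactAt_iff' _ (k : ℤ) ((k + 1 : ℕ) : ℤ) ((k + 2 : ℕ) : ℤ)
    (by simp) (by simp; omega),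
    HomologicalComplex.exactAt_iff' _ k (k + 1) (k + 2) (by simp) (by simp)]
  apply ShortComplex.exact_iff_of_iso
  exact ShortComplex.isoMk (extIso F L _ k rfl) (extIso F L _ (k + 1) rfl)
    (extIso F L _ (k + 2) rfl)
    (map_d_extIso F L _ _ k (k + 1) rfl rfl).symm
    (map_d_extIso F L _ _ (k + 1) (k + 2) rfl rfl).symm

instance : (extZ L).IsStrictlyGE 0 := by
  dsimp [extZ]
  infer_instance

lemma mono_iso_comp {P P' Q Q' : A} (e₁ : P' ≅ P) (m : P ⟶ Q) (e₂ : Q' ≅ Q) (hm : Mono m) :
    Mono (e₁.hom ≫ m ≫ e₂.inv) := by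
  haveI : Mono (m ≫ e₂.inv) := mono_comp _ _
  exact mono_comp _ _

/-- The extension of a morphism. -/
noncomputable def extZMap {K L : CochainComplex A ℕ} (u : K ⟶ L) : extZ K ⟶ extZ L :=
  HomologicalComplex.extendMap u ComplexShape.embeddingUpNat

instance quasiIso_extZMap {K L : CochainComplex A ℕ} (u : K ⟶ L) [QuasiIso u] :
    QuasiIso (extZMap u) := by
  dsimp [extZMap, extZ]
  infer_instance

lemma mono_extZMap_f {K L : CochainComplex A ℕ} (u : K ⟶ L) (hu : ∀ n, Mono (u.f n)) (n : ℤ) :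
    Mono ((extZMap u).f n) := by
  by_cases hn : 0 ≤ n
  · obtain ⟨k, rfl⟩ := Int.eq_ofNat_of_zero_le hn
    dsimp [extZMap]
    rw [HomologicalComplex.extendMap_f u ComplexShape.embeddingUpNat (i := k) (i' := (k : ℤ)) rfl]
    exact mono_iso_comp _ _ _ (hu k)
  · exact ⟨fun _ _ _ =>
      (CochainComplex.isZero_of_isStrictlyGE (extZ K) 0 n (by omega)).eq_of_tgt _ _⟩

instance injective_extZ (K : CochainComplex A ℕ) [∀ n, Injective (K.X n)] (n : ℤ) :
    Injective ((extZ K).X n) := by
  dsimp [extZ]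
  infer_instance

end transport

section resolution

variable {A : Type u} [Category.{v} A] [Abelian A] {X : A} (L : CochainComplex A ℕ)
  (ι : (CochainComplex.single₀ A).obj X ⟶ L) [QuasiIso ι]

include ι in
lemma exactAt_succ_of_quasiIso (n : ℕ) : L.ExactAt (n + 1) := by
  rw [← quasiIsoAt_iff_exactAt ι (n + 1) (CochainComplex.exactAt_succ_single_obj _ _)]
  infer_instance

/-- The augmentation with a clean type. -/
noncomputable def aug : X ⟶ L.X 0 := ι.f 0

lemma aug_d : aug L ι ≫ L.d 0 1 = 0 := by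
  have h := ι.comm 0 1
  simp only [CochainComplex.single₀_obj_zero, HomologicalComplex.single_obj_d] at h
  exact h.trans zero_comp

set_option backward.defeqAttrib.useBackward true in
set_option backward.isDefEq.respectTransparency false in
open HomologicalComplex CochainComplex in
/-- `X` is the kernel of `L.X 0 ⟶ L.X 1`. -/
noncomputable def isLimitKernelForkOfQuasiIso :
    IsLimit (KernelFork.ofι (aug L ι) (aug_d L ι)) := by
  refine IsLimit.ofIsoLimit (L.cyclesIsKernel 0 1 (by simp)) (Iso.symm ?_)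
  refine Fork.ext ((singleObjHomologySelfIso _ _ _).symm ≪≫
    isoOfQuasiIsoAt ι 0 ≪≫ L.isoHomologyπ₀.symm) ?_
  rw [← cancel_epi (singleObjHomologySelfIso (ComplexShape.up ℕ) _ _).hom,
    ← cancel_epi (isoHomologyπ₀ _).hom,
    ← cancel_epi (singleObjCyclesSelfIso (ComplexShape.up ℕ) _ _).inv]
  simp [aug]

lemma aug_exact : (ShortComplex.mk (aug L ι) (L.d 0 1) (aug_d L ι)).Exact :=
  ShortComplex.exact_of_f_is_kernel _ (isLimitKernelForkOfQuasiIso L ι)

lemma mono_aug : Mono (aug L ι) :=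
  mono_of_isLimit_fork (isLimitKernelForkOfQuasiIso L ι)

end resolution

section augment

variable {A : Type u} [Category.{v} A] [Abelian A] {X : A} (L : CochainComplex A ℕ)
  (ι : (CochainComplex.single₀ A).obj X ⟶ L) [QuasiIso ι]

/-- The augmented complex `X ⟶ L⁰ ⟶ L¹ ⟶ …`. -/
noncomputable def augCx : CochainComplex A ℕ := L.augment (aug L ι) (aug_d L ι)

lemma augCx_acyclic : (augCx L ι).Acyclic := by
  intro i
  match i with
  | 0 =>
    rw [HomologicalComplex.exactAt_iff' _ 0 0 1 (by simp) (by simp)]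
    rw [ShortComplex.exact_iff_mono _ ((augCx L ι).shape 0 0 (by simp))]
    exact mono_aug L ι
  | 1 =>
    rw [HomologicalComplex.exactAt_iff' _ 0 1 2 (by simp) (by simp)]
    exact aug_exact L ι
  | n + 2 =>
    rw [HomologicalComplex.exactAt_iff' _ (n + 1) (n + 2) (n + 3) (by simp) (by simp)]
    exact (HomologicalComplex.exactAt_iff' L n (n + 1) (n + 2) (by simp) (by simp)).1
      (exactAt_succ_of_quasiIso L ι n)

end augment

section main

variable {A : Type u} [Category.{v} A] [Abelian A] [EnoughInjectives A]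
  {B : Type u'} [Category.{v'} B] [Abelian B] (f : A ⥤ B) [f.Additive] (𝒪 : ObjectProperty A)
  (h1 : ∀ K : CochainComplex A ℕ, (∀ i, 𝒪 (K.X i)) → K.Acyclic →
    ((f.mapHomologicalComplex (ComplexShape.up ℕ)).obj K).Acyclic)
  (h2 : ∀ X : A, ∃ (Y : A) (i : X ⟶ Y), 𝒪 Y ∧ Mono i)

include h1 h2 in
theorem isZero_rightDerived_succ_of_class (X : A) (hX : 𝒪 X) (k : ℕ) :
    IsZero ((f.rightDerived (k + 1)).obj X) := by
  let R := injectiveResolution X
  let L := Resol.res 𝒪 h2 R.cocomplex
  let u : R.cocomplex ⟶ L := Resol.resMap 𝒪 h2 R.cocomplex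
  haveI hu : QuasiIso u := Resol.quasiIso_resMap 𝒪 h2 R.cocomplex
  haveI : QuasiIso (R.ι ≫ u) := inferInstance
  -- Step 1: `f L` is exact in positive degrees
  have hL : ∀ n : ℕ, ((f.mapHomologicalComplex (ComplexShape.up ℕ)).obj L).ExactAt (n + 1) := by
    intro n
    have hA := h1 (augCx L (R.ι ≫ u)) (fun i => by
      match i with
      | 0 => exact hX
      | i + 1 => exact Resol.res_mem 𝒪 h2 R.cocomplex i) (augCx_acyclic L (R.ι ≫ u)) (n + 2)
    rw [HomologicalComplex.exactAt_iff' _ (n + 1) (n + 2) (n + 3) (by simp) (by simp)] at hA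
    rw [HomologicalComplex.exactAt_iff' _ n (n + 1) (n + 2) (by simp) (by simp)]
    exact hA
  -- Step 2: a retraction
  have hmono : ∀ n : ℤ, Mono ((extZMap u).f n) :=
    mono_extZMap_f u (fun n => inferInstanceAs (Mono ((Resol.resMap 𝒪 h2 R.cocomplex).f n)))
  obtain ⟨β, hβ⟩ := Groth.Agent.S6611.result (extZ R.cocomplex) (extZ L) (extZ R.cocomplex)
    (extZMap u) hmono 0 (fun n => inferInstance) (𝟙 _)
  -- Step 3
  have hK' : ((f.mapHomologicalComplex (ComplexShape.up ℤ)).obj (extZ R.cocomplex)).ExactAt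
      ((k + 1 : ℕ) : ℤ) := by
    rw [HomologicalComplex.exactAt_iff_isZero_homology]
    have hL' : IsZero (((f.mapHomologicalComplex (ComplexShape.up ℤ)).obj (extZ L)).homology
        ((k + 1 : ℕ) : ℤ)) :=
      (HomologicalComplex.exactAt_iff_isZero_homology _ _).1 ((exactAt_extZ_iff f L k).2 (hL k))
    rw [IsZero.iff_id_eq_zero]
    have e : 𝟙 (((f.mapHomologicalComplex (ComplexShape.up ℤ)).obj (extZ R.cocomplex)).homology
        ((k + 1 : ℕ) : ℤ)) =
        HomologicalComplex.homologyMap ((f.mapHomologicalComplex (ComplexShape.up ℤ)).map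
          (extZMap u)) _ ≫
        HomologicalComplex.homologyMap ((f.mapHomologicalComplex (ComplexShape.up ℤ)).map β) _ := by
      rw [← HomologicalComplex.homologyMap_comp, ← Functor.map_comp, hβ,
        CategoryTheory.Functor.map_id, HomologicalComplex.homologyMap_id]
    rw [e, hL'.eq_of_tgt (HomologicalComplex.homologyMap _ _) 0, zero_comp]
  -- Step 4
  have hK := (exactAt_extZ_iff f R.cocomplex k).1 hK'
  exact IsZero.of_iso ((HomologicalComplex.exactAt_iff_isZero_homology _ _).1 hK)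
    (R.isoRightDerivedObj f (k + 1))

end main

end Groth.Agent.H2.RDer
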