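import Groth.Agent.Lib.Helper2.RDer1
import Mathlib.CategoryTheory.Abelian.Refinements

/-!
# Classes of objects adapted to an additive functor: acyclic complexes are preserved
-/

universe v v' u u'

open CategoryTheory CategoryTheory.Limits

namespace Groth.Agent.H2.RDer

open ZeroObject

variable {A : Type u} [Category.{v} A] [Abelian A]
  {B : Type u'} [Category.{v'} B] [Abelian B]
  (F : A ⥤ B) [F.Additive] (I : ObjectProperty A)
  (h2 : ∀ S : ShortComplex A, S.ShortExact → I S.X₁ → I S.X₂ → I S.X₃ ∧ (S.map F).ShortExact)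

include h2

lemma I_zero {X : A} (hX : I X) : I (0 : A) := by
  have hS : (ShortComplex.mk (𝟙 X) (0 : X ⟶ 0) (by simp)).ShortExact := by
    haveI : Epi (0 : X ⟶ (0 : A)) := ⟨fun g h _ => (isZero_zero A).eq_of_src _ _⟩
    refine ShortComplex.ShortExact.mk' ?_ (by dsimp; infer_instance) (by dsimp; infer_instance)
    rw [ShortComplex.exact_iff_epi _ rfl]
    dsimp
    infer_instance
  exact (h2 _ hS hX hX).1

lemma I_of_iso (h0 : I (0 : A)) {P P' : A} (e : P ≅ P') (hP : I P) : I P' := by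
  have hS : (ShortComplex.mk (0 : (0 : A) ⟶ P) e.hom (by simp)).ShortExact := by
    haveI : Mono (0 : (0 : A) ⟶ P) := ⟨fun g h _ => (isZero_zero A).eq_of_tgt _ _⟩
    refine ShortComplex.ShortExact.mk' ?_ (by dsimp; infer_instance) (by dsimp; infer_instance)
    rw [ShortComplex.exact_iff_mono _ rfl]
    dsimp
    infer_instance
  exact (h2 _ hS h0 hP).1

lemma I_of_isZero (h0 : I (0 : A)) {Z : A} (hZ : IsZero Z) : I Z :=
  I_of_iso F I h2 h0 ((isZero_zero A).iso hZ) h0

section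

variable (C : CochainComplex A ℤ)

/-- The short complexes `Zⁿ ⟶ Cⁿ ⟶ Zⁿ⁺¹`. -/
noncomputable def cycSC (n : ℤ) : ShortComplex A :=
  ShortComplex.mk (kernel.ι (C.d n (n + 1)))
    (kernel.lift (C.d (n + 1) (n + 1 + 1)) (C.d n (n + 1)) (C.d_comp_d _ _ _)) (by
      ext
      simp)

omit h2 in
lemma exact_refine_of_exactAt (n : ℤ) (hC : C.ExactAt (n + 1)) {T : A} (y : T ⟶ C.X (n + 1))
    (hy : y ≫ C.d (n + 1) (n + 1 + 1) = 0) :
    ∃ (T' : A) (π : T' ⟶ T) (_ : Epi π) (x : T' ⟶ C.X n), π ≫ y = x ≫ C.d n (n + 1) := by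
  rw [C.exactAt_iff' n (n + 1) (n + 1 + 1) (by simp) (by simp)] at hC
  exact hC.exact_up_to_refinements y hy

omit h2 in
lemma cycSC_shortExact (n : ℤ) (hC : C.ExactAt (n + 1)) : (cycSC C n).ShortExact := by
  have hm : Mono (cycSC C n).f := by
    dsimp [cycSC]
    infer_instance
  have he : Epi (cycSC C n).g := by
    rw [epi_iff_surjective_up_to_refinements]
    intro T z
    let z' : T ⟶ kernel (C.d (n + 1) (n + 1 + 1)) := z
    obtain ⟨T', π, hπ, x, hx⟩ := exact_refine_of_exactAt C n hC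
      (z' ≫ kernel.ι (C.d (n + 1) (n + 1 + 1))) (by
        rw [Category.assoc, kernel.condition, comp_zero])
    refine ⟨T', π, hπ, x, ?_⟩
    have : π ≫ z' = x ≫ kernel.lift (C.d (n + 1) (n + 1 + 1)) (C.d n (n + 1))
        (C.d_comp_d _ _ _) := by
      rw [← cancel_mono (kernel.ι (C.d (n + 1) (n + 1 + 1))), Category.assoc, hx, Category.assoc,
        kernel.lift_ι]
    exact this
  refine ShortComplex.ShortExact.mk' ?_ hm he
  rw [ShortComplex.exact_iff_exact_up_to_refinements]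
  intro T y hy
  let y' : T ⟶ C.X n := y
  have hy1 : y' ≫ kernel.lift (C.d (n + 1) (n + 1 + 1)) (C.d n (n + 1))
      (C.d_comp_d _ _ _) = 0 := hy
  have hy' : y' ≫ C.d n (n + 1) = 0 := by
    have := hy1 =≫ kernel.ι (C.d (n + 1) (n + 1 + 1))
    rw [Category.assoc, kernel.lift_ι, zero_comp] at this
    exact this
  refine ⟨T, 𝟙 T, inferInstance, kernel.lift _ y' hy', ?_⟩
  have : 𝟙 T ≫ y' = kernel.lift _ y' hy' ≫ kernel.ι (C.d n (n + 1)) := by
    rw [Category.id_comp, kernel.lift_ι]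
  exact this

lemma I_kernel (a : ℤ) [C.IsStrictlyGE a] (hC : ∀ n, C.ExactAt n) (hI : ∀ n, I (C.X n))
    (h0 : I (0 : A)) (n : ℤ) : I (kernel (C.d n (n + 1))) := by
  have hz : ∀ n : ℤ, n < a → I (kernel (C.d n (n + 1))) := fun n hn =>
    I_of_isZero F I h2 h0 (IsZero.of_mono (kernel.ι (C.d n (n + 1)))
      (C.isZero_of_isStrictlyGE a n hn))
  have key : ∀ (k : ℕ) (n : ℤ), n + 1 = a + k → I (kernel (C.d n (n + 1))) := by
    intro k
    induction k with
    | zero =>
      intro n hn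
      exact hz n (by simp at hn; omega)
    | succ k ih =>
      intro n hn
      obtain ⟨m, rfl⟩ : ∃ m, n = m + 1 := ⟨n - 1, by omega⟩
      have h1 := ih m (by push_cast at hn; omega)
      exact (h2 (cycSC C m) (cycSC_shortExact C m (hC (m + 1))) h1 (hI m)).1
  by_cases hn : n < a
  · exact hz n hn
  · exact key (n + 1 - a).toNat n (by omega)

lemma cycSC_map_shortExact (a : ℤ) [C.IsStrictlyGE a] (hC : ∀ n, C.ExactAt n)
    (hI : ∀ n, I (C.X n)) (h0 : I (0 : A)) (n : ℤ) : ((cycSC C n).map F).ShortExact :=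
  (h2 (cycSC C n) (cycSC_shortExact C n (hC (n + 1))) (I_kernel F I h2 C a hC hI h0 n) (hI n)).2

/-- The inclusion of the cycles. -/
noncomputable def cycι (n : ℤ) : kernel (C.d n (n + 1)) ⟶ C.X n := kernel.ι _

/-- The map to the cycles. -/
noncomputable def cycLift (n : ℤ) : C.X n ⟶ kernel (C.d (n + 1) (n + 1 + 1)) :=
  kernel.lift (C.d (n + 1) (n + 1 + 1)) (C.d n (n + 1)) (C.d_comp_d _ _ _)

omit h2 in
lemma cycLift_ι (n : ℤ) : cycLift C n ≫ cycι C (n + 1) = C.d n (n + 1) :=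
  kernel.lift_ι _ _ _

/-- An additive functor which is exact on short exact sequences with the first two terms in `I`
preserves acyclicity of bounded below complexes with terms in `I`. -/
theorem exactAt_map_of_acyclic (a : ℤ) [C.IsStrictlyGE a] (hC : ∀ n, C.ExactAt n)
    (hI : ∀ n, I (C.X n)) (h0 : I (0 : A)) (n : ℤ) :
    ((F.mapHomologicalComplex (ComplexShape.up ℤ)).obj C).ExactAt n := by
  obtain ⟨k, rfl⟩ : ∃ k, n = k + 1 := ⟨n - 1, by omega⟩
  have hF := cycSC_map_shortExact F I h2 C a hC hI h0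
  have hmono : ∀ n, Mono (F.map (cycι C n)) := fun n => (hF n).mono_f
  have hepi : ∀ n, Epi (F.map (cycLift C n)) := fun n => (hF n).epi_g
  have hex : ∀ (n : ℤ) {T : B} (y : T ⟶ F.obj (C.X n)), y ≫ F.map (cycLift C n) = 0 →
      ∃ (T' : B) (π : T' ⟶ T) (_ : Epi π) (z : T' ⟶ F.obj (kernel (C.d n (n + 1)))),
        π ≫ y = z ≫ F.map (cycι C n) :=
    fun n T y hy => (hF n).exact.exact_up_to_refinements y hy
  rw [HomologicalComplex.exactAt_iff' _ k (k + 1) (k + 1 + 1) (by simp) (by simp),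
    ShortComplex.exact_iff_exact_up_to_refinements]
  intro T y hy
  let y' : T ⟶ F.obj (C.X (k + 1)) := y
  have hy' : y' ≫ F.map (C.d (k + 1) (k + 1 + 1)) = 0 := hy
  haveI := hmono (k + 1 + 1)
  haveI := hepi k
  have h1 : y' ≫ F.map (cycLift C (k + 1)) = 0 := by
    rw [← cancel_mono (F.map (cycι C (k + 1 + 1))), Category.assoc, ← F.map_comp, cycLift_ι,
      hy', zero_comp]
  obtain ⟨T1, π1, hπ1, z, hz⟩ := hex (k + 1) y' h1
  obtain ⟨T2, π2, hπ2, w, hw⟩ := surjective_up_to_refinements_of_epi (F.map (cycLift C k)) z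
  refine ⟨T2, π2 ≫ π1, inferInstance, w, ?_⟩
  have : (π2 ≫ π1) ≫ y' = w ≫ F.map (C.d k (k + 1)) := by
    rw [Category.assoc, hz, reassoc_of% hw, ← cycLift_ι C k, F.map_comp]
  exact this

end

end Groth.Agent.H2.RDer
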