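import Groth.Agent.Lib.Helper2.RDer4

/-!
# Right acyclicity in terms of the classical right derived functors
-/

universe w w' v v' u u'

open CategoryTheory CategoryTheory.Limits

namespace Groth.Agent.H2.RDer

variable {A : Type u} [Category.{v} A] [Abelian A]
  {B : Type u'} [Category.{v'} B] [Abelian B]
  (F : A ⥤ B) [F.Additive] {X : A} (R : InjectiveResolution X)

/-- The comparison isomorphisms between the terms of the `ℤ`-indexed and `ℕ`-indexed complexes. -/
noncomputable def eIso (n : ℤ) (k : ℕ) (h : (k : ℤ) = n) :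
    F.obj (R.cochainComplex.X n) ≅ F.obj (R.cocomplex.X k) :=
  F.mapIso (R.cochainComplexXIso n k h)

lemma map_d_eIso (n₁ n₂ : ℤ) (k₁ k₂ : ℕ) (h₁ : (k₁ : ℤ) = n₁) (h₂ : (k₂ : ℤ) = n₂) :
    F.map (R.cochainComplex.d n₁ n₂) ≫ (eIso F R n₂ k₂ h₂).hom =
      (eIso F R n₁ k₁ h₁).hom ≫ F.map (R.cocomplex.d k₁ k₂) := by
  dsimp [eIso]
  rw [← F.map_comp, ← F.map_comp, R.cochainComplex_d n₁ n₂ k₁ k₂ h₁ h₂, Category.assoc,
    Category.assoc, Iso.inv_hom_id, Category.comp_id]

lemma exactAt_iff_nat (k : ℕ) :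
    ((F.mapHomologicalComplex (ComplexShape.up ℤ)).obj R.cochainComplex).ExactAt ((k + 1 : ℕ) : ℤ) ↔
      ((F.mapHomologicalComplex (ComplexShape.up ℕ)).obj R.cocomplex).ExactAt (k + 1) := by
  rw [HomologicalComplex.exactAt_iff' _ (k : ℤ) ((k + 1 : ℕ) : ℤ) ((k + 2 : ℕ) : ℤ)
    (by simp) (by simp; omega),
    HomologicalComplex.exactAt_iff' _ k (k + 1) (k + 2) (by simp) (by simp)]
  apply ShortComplex.exact_iff_of_iso
  exact ShortComplex.isoMk (eIso F R _ k rfl) (eIso F R _ (k + 1) rfl) (eIso F R _ (k + 2) rfl)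
    (map_d_eIso F R _ _ k (k + 1) rfl rfl).symm (map_d_eIso F R _ _ (k + 1) (k + 2) rfl rfl).symm

/-- `singleObjXSelf` with a clean type. -/
noncomputable def sIso (X : A) : ((CochainComplex.singleFunctor A 0).obj X).X 0 ≅ X :=
  HomologicalComplex.singleObjXSelf (ComplexShape.up ℤ) 0 X

/-- `R.ι.f 0` with a clean type. -/
noncomputable def ι0 : X ⟶ R.cocomplex.X 0 := R.ι.f 0

lemma ι0_d : ι0 R ≫ R.cocomplex.d 0 1 = 0 := by
  have h := R.ι.comm 0 1
  simp only [CochainComplex.single₀_obj_zero, HomologicalComplex.single_obj_d] at h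
  exact h.trans zero_comp

lemma ι'_f_zero' :
    R.ι'.f 0 = (sIso X).hom ≫ ι0 R ≫
      (R.cochainComplexXIso 0 0 (by simp)).inv := R.ι'_f_zero

lemma map_ι'_f_zero :
    ((F.mapHomologicalComplex (ComplexShape.up ℤ)).map R.ι').f 0 =
      F.map (sIso X).hom ≫
        F.map (ι0 R) ≫ (eIso F R 0 0 (by simp)).inv := by
  change F.map (R.ι'.f 0) = _
  rw [ι'_f_zero', F.map_comp, F.map_comp]
  rfl

lemma isZero_map_single_X (n : ℤ) (hn : n ≠ 0) :
    IsZero (((F.mapHomologicalComplex (ComplexShape.up ℤ)).obj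
      ((CochainComplex.singleFunctor A 0).obj X)).X n) :=
  F.map_isZero (HomologicalComplex.isZero_single_obj_X _ _ _ _ hn)

lemma isZero_map_cochainComplex_X (n : ℤ) (hn : n < 0) :
    IsZero (((F.mapHomologicalComplex (ComplexShape.up ℤ)).obj R.cochainComplex).X n) :=
  F.map_isZero (R.cochainComplex.isZero_of_isStrictlyGE 0 n hn)

lemma map_ι_d : F.map (ι0 R) ≫ F.map (R.cocomplex.d 0 1) = 0 := by
  rw [← F.map_comp, ι0_d, F.map_zero]

/-- `F` maps the injective resolution to a quasi-isomorphism iff `F X ⟶ R⁰F X` is an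
isomorphism and the higher cohomology of `F` applied to the resolution vanishes. -/
theorem quasiIso_map_ι'_iff :
    QuasiIso ((F.mapHomologicalComplex (ComplexShape.up ℤ)).map R.ι') ↔
      IsIso (R.toRightDerivedZero' F) ∧
        ∀ k : ℕ, ((F.mapHomologicalComplex (ComplexShape.up ℕ)).obj R.cocomplex).ExactAt (k + 1) := by
  have hiso : IsIso (R.toRightDerivedZero' F) ↔
      (ShortComplex.mk (F.map (ι0 R)) (F.map (R.cocomplex.d 0 1)) (map_ι_d F R)).Exact ∧
        Mono (F.map (ι0 R)) :=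
    CochainComplex.isIso_liftCycles_iff
      ((F.mapHomologicalComplex (ComplexShape.up ℕ)).obj R.cocomplex) (F.map (ι0 R))
      (map_ι_d F R)
  rw [hiso]
  have hd01 := map_d_eIso F R 0 1 0 1 (by simp) (by simp)
  constructor
  · intro h
    refine ⟨⟨?_, ?_⟩, fun k => ?_⟩
    · rw [ShortComplex.exact_iff_exact_up_to_refinements]
      intro T y hy
      let y' : T ⟶ F.obj (R.cocomplex.X 0) := y
      have hy' : y' ≫ F.map (R.cocomplex.d 0 1) = 0 := hy
      obtain ⟨T', π, hπ, z, hz⟩ := hex_of_quasiIso_single_like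
        ((F.mapHomologicalComplex (ComplexShape.up ℤ)).map R.ι')
        (isZero_map_cochainComplex_X F R (-1) (by omega))
        (y' ≫ (eIso F R 0 0 (by simp)).inv) (by
          change (y' ≫ (eIso F R 0 0 (by simp)).inv) ≫ F.map (R.cochainComplex.d 0 1) = 0
          rw [← cancel_mono (eIso F R 1 1 (by simp)).hom, Category.assoc, Category.assoc, hd01,
            Iso.inv_hom_id_assoc, hy', zero_comp])
      let z' : T' ⟶ F.obj (((CochainComplex.singleFunctor A 0).obj X).X 0) := z
      have hz' : π ≫ y' ≫ (eIso F R 0 0 (by simp)).inv =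
          z' ≫ F.map (sIso X).hom ≫ F.map (ι0 R) ≫ (eIso F R 0 0 (by simp)).inv := by
        rw [← map_ι'_f_zero]
        exact hz
      refine ⟨T', π, hπ, z' ≫ F.map (sIso X).hom, ?_⟩
      have h3 := hz' =≫ (eIso F R 0 0 (by simp)).hom
      simp only [Category.assoc, Iso.inv_hom_id, Category.comp_id] at h3
      change π ≫ y' = (z' ≫ F.map (sIso X).hom) ≫ F.map (ι0 R)
      rw [h3, Category.assoc]
    · have hm := mono_of_quasiIso_single_like
        ((F.mapHomologicalComplex (ComplexShape.up ℤ)).map R.ι') (isZero_map_single_X F)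
      rw [map_ι'_f_zero] at hm
      have hm1 : Mono (F.map (sIso X).hom ≫ F.map (ι0 R) ≫ (eIso F R 0 0 (by simp)).inv) := hm
      have hm2 : Mono (F.map (ι0 R) ≫ (eIso F R 0 0 (by simp)).inv) := by
        have e : F.map (ι0 R) ≫ (eIso F R 0 0 (by simp)).inv =
            F.map (sIso X).inv ≫
              (F.map (sIso X).hom ≫
                F.map (ι0 R) ≫ (eIso F R 0 0 (by simp)).inv) := by
          rw [← Category.assoc, ← F.map_comp, Iso.inv_hom_id, CategoryTheory.Functor.map_id,
            Category.id_comp]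
        rw [e]
        exact mono_comp _ _
      exact mono_of_mono _ (eIso F R 0 0 _).inv
    · rw [← exactAt_iff_nat]
      exact exactAt_of_quasiIso_single_like
        ((F.mapHomologicalComplex (ComplexShape.up ℤ)).map R.ι') (isZero_map_single_X F) _
        (by push_cast; omega)
  · rintro ⟨⟨hex, hmono⟩, hk⟩
    apply quasiIso_of_single_like _ (isZero_map_single_X F)
      (isZero_map_cochainComplex_X F R (-1) (by omega))
    · intro n hn
      by_cases hn' : n < 0
      · exact HomologicalComplex.ExactAt.of_isZero (isZero_map_cochainComplex_X F R n hn')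
      · obtain ⟨k, rfl⟩ : ∃ k : ℕ, n = ((k + 1 : ℕ) : ℤ) := ⟨(n - 1).toNat, by
          push_cast
          omega⟩
        rw [exactAt_iff_nat]
        exact hk k
    · rw [map_ι'_f_zero]
      have h1 : Mono (F.map (ι0 R) ≫ (eIso F R 0 0 (by simp)).inv) := mono_comp _ _
      have h2 : IsIso (F.map (sIso X).hom) := (F.mapIso (sIso X)).isIso_hom
      have h3 : Mono (F.map (sIso X).hom) := inferInstance
      have h4 : Mono (F.map (sIso X).hom ≫ F.map (ι0 R) ≫ (eIso F R 0 0 (by simp)).inv) :=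
        mono_comp _ _
      exact h4
    · intro T y hy
      let y' : T ⟶ F.obj (R.cochainComplex.X 0) := y
      have hy' : y' ≫ F.map (R.cochainComplex.d 0 1) = 0 := hy
      obtain ⟨T', π, hπ, z, hz⟩ := hex.exact_up_to_refinements
        (y' ≫ (eIso F R 0 0 (by simp)).hom) (by
          change (y' ≫ (eIso F R 0 0 (by simp)).hom) ≫ F.map (R.cocomplex.d 0 1) = 0
          rw [Category.assoc, ← hd01, reassoc_of% hy', zero_comp])
      let z' : T' ⟶ F.obj X := z
      have hz' : π ≫ y' ≫ (eIso F R 0 0 (by simp)).hom = z' ≫ F.map (ι0 R) := hz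
      refine ⟨T', π, hπ,
        z' ≫ F.map (sIso X).inv, ?_⟩
      rw [map_ι'_f_zero]
      have e : π ≫ y' = (z' ≫ F.map (sIso X).inv) ≫
          F.map (sIso X).hom ≫
            F.map (ι0 R) ≫ (eIso F R 0 0 (by simp)).inv := by
        rw [← cancel_mono (eIso F R 0 0 (by simp)).hom]
        simp only [Category.assoc, Iso.inv_hom_id, Category.comp_id]
        rw [hz', ← F.map_comp_assoc, Iso.inv_hom_id, F.map_id, Category.id_comp]
      exact e

end Groth.Agent.H2.RDer
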