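import Groth.Agent.Lib.Helper2.RDer7

/-!
# Consequences of the long exact sequence of right derived functors
-/

universe v v' u u'

open CategoryTheory CategoryTheory.Limits

namespace Groth.Agent.H2.RDer

variable {A : Type u} [Category.{v} A] [Abelian A] [HasInjectiveResolutions A]
  {B : Type u'} [Category.{v'} B] [Abelian B]
  (F : A ⥤ B) [F.Additive]

/-- The right derived functors are additive. -/
theorem rightDerived_additive (n : ℕ) : (F.rightDerived n).Additive where
  map_add {X Y f g} := by
    let P := injectiveResolution X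
    let Q := injectiveResolution Y
    let φf := InjectiveResolution.desc f Q P
    let φg := InjectiveResolution.desc g Q P
    have wf : P.ι ≫ φf = (CochainComplex.single₀ A).map f ≫ Q.ι :=
      InjectiveResolution.desc_commutes f Q P
    have wg : P.ι ≫ φg = (CochainComplex.single₀ A).map g ≫ Q.ι :=
      InjectiveResolution.desc_commutes g Q P
    have w : P.ι ≫ (φf + φg) = (CochainComplex.single₀ A).map (f + g) ≫ Q.ι := by
      rw [Preadditive.comp_add, wf, wg, Functor.map_add, Preadditive.add_comp]
    rw [F.rightDerived_map_eq n (f + g) (φf + φg) w, F.rightDerived_map_eq n f φf wf,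
      F.rightDerived_map_eq n g φg wg, Functor.map_add, Preadditive.add_comp,
      Preadditive.comp_add]

/-- `R⁰F` is left exact. -/
theorem preservesFiniteLimits_rightDerived_zero : PreservesFiniteLimits (F.rightDerived 0) := by
  haveI := rightDerived_additive F 0
  rw [Functor.preservesFiniteLimits_iff_forall_exact_map_and_mono]
  intro S hS
  exact ⟨LES.exact₂ F hS 0, LES.mono_zero F hS⟩

/-- `F` is left exact iff `F ⟶ R⁰F` is an isomorphism. -/
theorem isIso_toRightDerivedZero_iff :
    IsIso F.toRightDerivedZero ↔ PreservesFiniteLimits F := by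
  constructor
  · intro h
    haveI := preservesFiniteLimits_rightDerived_zero F
    exact preservesFiniteLimits_of_natIso (asIso F.toRightDerivedZero).symm
  · intro h
    infer_instance

section acyclic

variable [PreservesFiniteLimits F] {S : ShortComplex A} (hS : S.ShortExact)

include hS in
lemma epi_map_g_iff : Epi (F.map S.g) ↔ Epi ((F.rightDerived 0).map S.g) := by
  have e : Arrow.mk (F.map S.g) ≅ Arrow.mk ((F.rightDerived 0).map S.g) :=
    Arrow.isoMk ((asIso F.toRightDerivedZero).app S.X₂) ((asIso F.toRightDerivedZero).app S.X₃)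
      (by simp)
  exact (MorphismProperty.epimorphisms B).arrow_mk_iso_iff e

include hS in
lemma epi_map_g_of_isZero (h : IsZero ((F.rightDerived 1).obj S.X₁)) : Epi (F.map S.g) := by
  rw [epi_map_g_iff F hS]
  exact (LES.exact₃ F hS 0).epi_f (h.eq_of_tgt _ _)

include hS in
lemma shortExact_map_of_epi (h : Epi (F.map S.g)) : (S.map F).ShortExact := by
  obtain ⟨h1, h2⟩ := (Functor.preservesFiniteLimits_iff_forall_exact_map_and_mono F).1
    inferInstance S hS
  exact ShortComplex.ShortExact.mk' h1 h2 h

include hS in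
lemma isZero_X₂ (i : ℕ) (h₁ : IsZero ((F.rightDerived i).obj S.X₁))
    (h₃ : IsZero ((F.rightDerived i).obj S.X₃)) : IsZero ((F.rightDerived i).obj S.X₂) :=
  (LES.exact₂ F hS i).isZero_X₂ (h₁.eq_of_src _ _) (h₃.eq_of_tgt _ _)

include hS in
lemma isZero_X₃ (i : ℕ) (h₂ : IsZero ((F.rightDerived i).obj S.X₂))
    (h₁ : IsZero ((F.rightDerived (i + 1)).obj S.X₁)) : IsZero ((F.rightDerived i).obj S.X₃) :=
  (LES.exact₃ F hS i).isZero_X₂ (h₂.eq_of_src _ _) (h₁.eq_of_tgt _ _)

include hS in
lemma isZero_X₁ (i : ℕ) (h₃ : IsZero ((F.rightDerived i).obj S.X₃))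
    (h₂ : IsZero ((F.rightDerived (i + 1)).obj S.X₂)) :
    IsZero ((F.rightDerived (i + 1)).obj S.X₁) :=
  (LES.exact₁ F hS i).isZero_X₂ (h₃.eq_of_src _ _) (h₂.eq_of_tgt _ _)

include hS in
lemma isZero_X₁_one (h : Epi (F.map S.g)) (h₂ : IsZero ((F.rightDerived 1).obj S.X₂)) :
    IsZero ((F.rightDerived 1).obj S.X₁) := by
  rw [epi_map_g_iff F hS] at h
  have h0 : LES.δ F hS 0 = 0 := by
    rw [← cancel_epi ((F.rightDerived 0).map S.g), LES.map_g_δ, comp_zero]
  exact (LES.exact₁ F hS 0).isZero_X₂ h0 (h₂.eq_of_tgt _ _)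

end acyclic

end Groth.Agent.H2.RDer
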