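import Mathlib
import Groth.Agent.Lib.Helper1.PushO3
import Groth.Agent.Lib.Helper2.AssSch1

/-!
# An integral morphism to a normal scheme with a rational section is an isomorphism (helper2): S2347
-/

set_option autoImplicit false
set_option linter.style.haveILetI false
universe u
open CategoryTheory Limits AlgebraicGeometry TopologicalSpace Opposite

namespace Groth.Agent.H2.RatSec

open Groth.Agent.H1.PushO Groth.Agent.H2.AssSch

variable {X X' Y : Scheme.{u}} [IsIntegral X] [IsIntegral X'] [IsIntegral Y]

theorem stalkSpecializes_surjective (x y : X) (h : y ⤳ x) (hxy : y = x) :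
    Function.Surjective (X.presheaf.stalkSpecializes h).hom := by
  subst hxy
  rw [TopCat.Presheaf.stalkSpecializes_refl]
  exact Function.surjective_id

theorem core (hX : Pi1.IsNormalScheme X) (g : X' ⟶ X) [IsIntegralHom g] (s : Y ⟶ X')
    [IsOpenImmersion (s ≫ g)] : IsIso g := by
  have h1 : g (s (genericPoint Y)) = genericPoint X :=
    genericPoint_eq_of_isOpenImmersion (s ≫ g)
  have hspec : genericPoint X' ⤳ s (genericPoint Y) := genericPoint_specializes _
  have h2 : g (genericPoint X') ⤳ genericPoint X := by
    have := hspec.map g.continuous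
    rwa [h1] at this
  have h3 : g (genericPoint X') = genericPoint X :=
    (Specializes.antisymm h2 (genericPoint_specializes _)).eq
  have h4 : s (genericPoint Y) = genericPoint X' :=
    eq_of_specializes_of_isIntegralHom g (s (genericPoint Y)) (genericPoint X') hspec
      (h1.trans h3.symm)
  have hcomp : (s ≫ g).stalkMap (genericPoint Y) =
      g.stalkMap (s (genericPoint Y)) ≫ s.stalkMap (genericPoint Y) :=
    Scheme.Hom.stalkMap_comp s g (genericPoint Y)
  have hbij : Function.Bijective ((s ≫ g).stalkMap (genericPoint Y)).hom :=
    (ConcreteCategory.isIso_iff_bijective _).mp inferInstance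
  have hfield : IsField (X'.presheaf.stalk (s (genericPoint Y))) := by
    rw [h4]
    exact Field.toIsField X'.functionField
  have hsinj : Function.Injective (s.stalkMap (genericPoint Y)).hom := by
    letI := hfield.toField
    exact RingHom.injective _
  have hgsurj : Function.Surjective (g.stalkMap (s (genericPoint Y))).hom := by
    intro b
    obtain ⟨a, ha⟩ := hbij.2 ((s.stalkMap (genericPoint Y)).hom b)
    refine ⟨a, hsinj ?_⟩
    rw [← ha, hcomp]
    rfl
  have hgsurj' : Function.Surjective (g.stalkMap (genericPoint X')).hom := by
    have : ∀ x' : X', x' = s (genericPoint Y) → Function.Surjective (g.stalkMap x').hom := by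
      rintro _ rfl
      exact hgsurj
    exact this _ h4.symm
  have hφ : Function.Surjective (CohIII.stalkToFunctionField g (genericPoint X) h2) := by
    unfold CohIII.stalkToFunctionField
    rw [RingHom.coe_comp]
    exact hgsurj'.comp (stalkSpecializes_surjective _ _ h2 h3)
  change MorphismProperty.isomorphisms Scheme g
  rw [IsZariskiLocalAtTarget.iff_of_iSup_eq_top (P := MorphismProperty.isomorphisms Scheme) _
    (iSup_affineOpens_eq_top X)]
  intro V
  change IsIso (g ∣_ V.1)
  rw [isIso_morphismRestrict_iff_isIso_app g V.2, ConcreteCategory.isIso_iff_bijective]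
  by_cases hV : genericPoint X ∈ V.1
  · refine ⟨app_injective g h2 V.1 hV, fun b => ?_⟩
    exact exists_app_eq_of_isIntegral g h2 hX V.1 V.2 hV b
      (IsIntegralHom.isIntegral_app g V.1 V.2 b) (hφ _)
  · have hVbot : V.1 = ⊥ := by
      by_contra hne
      apply hV
      have hne' : (V.1 : Set X).Nonempty := by
        rw [Set.nonempty_iff_ne_empty]
        intro h0
        apply hne
        ext y
        simp [h0]
      exact ((genericPoint_spec X).mem_open_set_iff V.1.isOpen).mpr (by simpa using hne')
    haveI : Subsingleton Γ(X, V.1) := by rw [hVbot]; infer_instance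
    haveI : Subsingleton Γ(X', g ⁻¹ᵁ V.1) := by
      have : g ⁻¹ᵁ V.1 = ⊥ := by rw [hVbot]; rfl
      rw [this]
      infer_instance
    exact ⟨fun a b _ => Subsingleton.elim a b, fun b => ⟨0, Subsingleton.elim _ _⟩⟩

end Groth.Agent.H2.RatSec
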