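import Mathlib
import Groth.Agent.Lib.Helper2.RatSecC

/-! helper2: S5995, S5996 — consequences of the extension theorem for rational sections of separated
unramified morphisms (EGA IV 18.10.?). -/

set_option linter.style.haveILetI false
set_option linter.unusedSectionVars false

universe u

open AlgebraicGeometry CategoryTheory Limits

namespace Groth.Agent.H2.RatSec

variable {X Y : Scheme.{u}}

/-- S5996. -/
theorem s5996 [IsReduced Y]
    (hcomp : LocallyFinite (fun Z : ↥(irreducibleComponents ↥Y) => (Z : Set ↥Y)))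
    (f : X ⟶ Y) [IsSeparated f] [LocallyOfFiniteType f] [FormallyUnramified f]
    (U : Y.Opens) (hU : Dense (U : Set ↥Y)) (u : (U : Scheme.{u}) ⟶ X) (hu : u ≫ f = U.ι)
    (hcl : ∀ T : Set ↥X, IsClosed T → IsIrreducible T → IsClosed (f '' T))
    (y : Y) (hy : CAlg2.IsGeomUnibranch (Y.presheaf.stalk y)) :
    ∃ (V : Y.Opens) (v : (V : Scheme.{u}) ⟶ X), y ∈ V ∧ v ≫ f = V.ι ∧
      Y.homOfLE (inf_le_left : U ⊓ V ≤ U) ≫ u = Y.homOfLE (inf_le_right : U ⊓ V ≤ V) ≫ v := by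
  apply s5994 hcomp f U u hu y hy
  obtain ⟨V₀, hyV₀, hV₀⟩ := exists_preirreducible_nhd Y hcomp y
    (Groth.Agent.H8.Hens.isPrime_nilradical_of_isGeomUnibranch hy)
  -- the nonempty irreducible open `U ∩ V₀`
  obtain ⟨p, hpV₀, hpU⟩ := hU.inter_open_nonempty V₀ V₀.2 ⟨y, hyV₀⟩
  let S : Set X := u '' (U.ι ⁻¹' (V₀ : Set Y))
  have hSirr : IsIrreducible S := by
    have h1 : IsIrreducible (U.ι ⁻¹' (V₀ : Set Y)) := by
      exact ⟨⟨⟨p, hpU⟩, hpV₀⟩, hV₀.preimage U.ι.isOpenEmbedding⟩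
    exact h1.image u u.continuous.continuousOn
  have hTcl := hcl (closure S) isClosed_closure hSirr.closure
  have hsub : ((U : Set Y) ∩ V₀) ⊆ f '' closure S := by
    rintro q ⟨hqU, hqV₀⟩
    refine ⟨u ⟨q, hqU⟩, subset_closure ⟨⟨q, hqU⟩, hqV₀, rfl⟩, ?_⟩
    rw [← Scheme.Hom.comp_apply, hu]
    rfl
  have hy' : y ∈ f '' closure S := by
    have h1 : closure ((U : Set Y) ∩ V₀) ⊆ f '' closure S := hTcl.closure_subset_iff.mpr hsub
    apply h1
    -- `U ∩ V₀` is dense in `V₀`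
    have h2 : (V₀ : Set Y) ⊆ closure ((U : Set Y) ∩ V₀) := by
      have := hU.open_subset_closure_inter V₀.2
      rw [Set.inter_comm] at this
      exact this
    exact h2 hyV₀
  obtain ⟨z, hz, hzy⟩ := hy'
  refine ⟨z, closure_mono ?_ hz, hzy⟩
  rintro _ ⟨t, -, rfl⟩
  exact ⟨t, rfl⟩

/-- S5995. -/
theorem s5995 [IsReduced Y]
    (hcomp : LocallyFinite (fun Z : ↥(irreducibleComponents ↥Y) => (Z : Set ↥Y)))
    (f : X ⟶ Y) [IsSeparated f] [LocallyOfFiniteType f] [FormallyUnramified f]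
    (U : Y.Opens) (u : (U : Scheme.{u}) ⟶ X) (hu : u ≫ f = U.ι)
    (hY : ∀ y : Y, CAlg2.IsGeomUnibranch (Y.presheaf.stalk y))
    (hmax : ∀ (V : Y.Opens) (v : (V : Scheme.{u}) ⟶ X), v ≫ f = V.ι →
      Y.homOfLE (inf_le_left : U ⊓ V ≤ U) ≫ u = Y.homOfLE (inf_le_right : U ⊓ V ≤ V) ≫ v → V ≤ U) :
    IsOpen (Set.range u) ∧ IsClosed (Set.range u) := by
  haveI : IsOpenImmersion u := isOpenImmersion_of_section f U.ι u hu
  refine ⟨u.isOpenEmbedding.isOpen_range, ?_⟩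
  rw [← closure_subset_iff_isClosed]
  intro z hz
  obtain ⟨V, v, hyV, hv, hcompat⟩ := s5994 hcomp f U u hu (f z) (hY (f z)) ⟨z, hz, rfl⟩
  have hVU : V ≤ U := hmax V v hv hcompat
  have hzU : f z ∈ U := hVU hyV
  -- the section as a closed immersion into `f⁻¹(U)`
  have hrange : Set.range u ⊆ Set.range (f ⁻¹ᵁ U).ι := by
    rintro _ ⟨t, rfl⟩
    rw [Scheme.Opens.range_ι]
    change f (u t) ∈ U
    rw [← Scheme.Hom.comp_apply, hu]
    exact t.2
  let u' : (U : Scheme.{u}) ⟶ ((f ⁻¹ᵁ U : X.Opens) : Scheme.{u}) :=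
    IsOpenImmersion.lift (f ⁻¹ᵁ U).ι u hrange
  have hu' : u' ≫ (f ⁻¹ᵁ U).ι = u := IsOpenImmersion.lift_fac _ _ _
  have hsec : u' ≫ (f ∣_ U) = 𝟙 _ := by
    rw [← cancel_mono U.ι, Category.assoc, morphismRestrict_ι, ← Category.assoc, hu', hu,
      Category.id_comp]
  haveI : IsClosedImmersion (u' ≫ (f ∣_ U)) := by rw [hsec]; infer_instance
  haveI : IsClosedImmersion u' := IsClosedImmersion.of_comp u' (f ∣_ U)
  have hcl' : IsClosed (Set.range u') := u'.isClosedEmbedding.isClosed_range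
  let z' : ↥((f ⁻¹ᵁ U : X.Opens) : Scheme.{u}) := ⟨z, hzU⟩
  have hz' : z' ∈ closure (Set.range u') := by
    have h1 : (f ⁻¹ᵁ U).ι ⁻¹' (closure (Set.range u)) =
        closure ((f ⁻¹ᵁ U).ι ⁻¹' (Set.range u)) :=
      ((f ⁻¹ᵁ U).ι.isOpenEmbedding.isOpenMap.preimage_closure_eq_closure_preimage
        (f ⁻¹ᵁ U).ι.continuous _)
    have h2 : (f ⁻¹ᵁ U).ι ⁻¹' (Set.range u) = Set.range u' := by
      rw [← hu']
      ext w
      constructor
      · rintro ⟨t, ht⟩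
        exact ⟨t, (f ⁻¹ᵁ U).ι.isOpenEmbedding.injective ht⟩
      · rintro ⟨t, rfl⟩
        exact ⟨t, rfl⟩
    rw [← h2, ← h1]
    exact hz
  rw [hcl'.closure_eq] at hz'
  obtain ⟨t, ht⟩ := hz'
  refine ⟨t, ?_⟩
  rw [← hu']
  change (f ⁻¹ᵁ U).ι (u' t) = z
  rw [ht]
  rfl

end Groth.Agent.H2.RatSec
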