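import Mathlib
import Groth.Agent.Lib.Helper2.RedQuot1

/-! Reduced principal quotients in normal Noetherian local domains: the approximation lemma, the
"new components appear" step, and the maximality argument (given a bound on the number of
components). -/

universe u
set_option linter.style.haveILetI false
open IsLocalRing

namespace Groth.Agent.H2.RedQuot

section Approx
variable {A : Type u} [CommRing A] [IsDomain A] [IsNoetherianRing A]

omit [IsDomain A] in
/-- height-one primes are incomparable -/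
theorem eq_of_le_of_height_one {p q : Ideal A} (hp : p.IsPrime) (hph : p.height = 1)
    (hqh : q.height = 1) (hle : p ≤ q) : p = q := by
  by_contra hne
  haveI := hp
  have := Ideal.height_strict_mono_of_isPrime (lt_of_le_of_ne hle hne)
  rw [hph, hqh] at this
  exact lt_irrefl _ this

omit [IsNoetherianRing A] in
theorem ne_bot_of_height_one {p : Ideal A} (hph : p.height = 1) : p ≠ ⊥ := by
  intro h0
  rw [h0, Ideal.height_bot] at hph
  exact zero_ne_one hph

/-- approximation at finitely many height-one primes -/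
theorem exists_approx (T T2 : Finset (Ideal A)) (hT : ∀ q ∈ T, q.IsPrime ∧ q.height = 1)
    (hT2 : T2 ⊆ T) (K : Ideal A) (hK : ∀ q ∈ T, ¬ K ≤ q) :
    ∃ g ∈ K, (∀ q ∈ T, q ∉ T2 → g ∈ sq q) ∧ (∀ q ∈ T2, g ∈ q ∧ g ∉ sq q) := by
  classical
  have h1 : ∀ j ∈ T2, ∃ x ∈ j, x ∉ sq j := fun j hj =>
    exists_mem_not_mem_sq (hT j (hT2 hj)).1 (ne_bot_of_height_one (hT j (hT2 hj)).2)
  have h2 : ∀ j ∈ T2, ∃ y ∈ K * ∏ l ∈ T.erase j, l ^ 2, y ∉ j := by
    intro j hj
    have hjp := (hT j (hT2 hj)).1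
    apply SetLike.not_le_iff_exists.mp
    intro hle
    rcases (hjp.mul_le.mp hle) with h | h
    · exact hK j (hT2 hj) h
    · obtain ⟨l, hl, hlj⟩ := (hjp.prod_le).mp h
      have hl' := Finset.mem_erase.mp hl
      haveI := hjp
      have : l ≤ j := Ideal.IsPrime.le_of_pow_le hlj
      exact hl'.1 (eq_of_le_of_height_one (hT l hl'.2).1 (hT l hl'.2).2 (hT j (hT2 hj)).2 this)
  choose! x hx hx' using h1
  choose! y hy hy' using h2
  have hyK : ∀ j ∈ T2, y j ∈ K := fun j hj => Ideal.mul_le_left (hy j hj)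
  have hyl : ∀ j ∈ T2, ∀ l ∈ T, l ≠ j → y j ∈ sq l := by
    intro j hj l hl hlj
    apply mem_sq_of_mem_pow (hT l hl).1
    have h3 : y j ∈ ∏ l ∈ T.erase j, l ^ 2 := Ideal.mul_le_right (hy j hj)
    have h4 : ∏ l ∈ T.erase j, l ^ 2 ≤ l ^ 2 := by
      refine le_trans Ideal.prod_le_inf ?_
      exact Finset.inf_le (f := fun l : Ideal A => l ^ 2) (Finset.mem_erase.mpr ⟨hlj, hl⟩)
    exact h4 h3
  refine ⟨∑ j ∈ T2, x j * y j, ?_, ?_, ?_⟩
  · apply Ideal.sum_mem
    intro j hj
    exact Ideal.mul_mem_left _ _ (hyK j hj)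
  · intro q hq hq2
    apply sum_mem_sq (hT q hq).1
    intro j hj
    apply mul_mem_sq_left
    apply hyl j hj q hq
    rintro rfl
    exact hq2 hj
  · intro q hq
    have hqT := hT2 hq
    have hrest : ∑ j ∈ T2.erase q, x j * y j ∈ sq q := by
      apply sum_mem_sq (hT q hqT).1
      intro j hj
      have hj' := Finset.mem_erase.mp hj
      apply mul_mem_sq_left
      exact hyl j hj'.2 q hqT (Ne.symm hj'.1)
    rw [← Finset.add_sum_erase T2 (fun j => x j * y j) hq]
    constructor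
    · exact Ideal.add_mem _ (Ideal.mul_mem_right _ _ (hx q hq)) (sq_subset (hT q hqT).1 hrest)
    · intro hmem
      have h4 : x q * y q ∈ sq q := by
        have := sub_mem_sq (hT q hqT).1 hmem hrest
        simpa using this
      rw [mul_comm] at h4
      exact hx' q hq (mem_sq_of_mul_mem (hT q hqT).1 (hy' q hq) h4)

/-- the set of height-one primes containing `c` -/
def primesOf (c : A) : Set (Ideal A) := {q | q.IsPrime ∧ q.height = 1 ∧ c ∈ q}

theorem primesOf_subset_minimalPrimes {c : A} (hc : c ≠ 0) :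
    primesOf c ⊆ (Ideal.span {c}).minimalPrimes := by
  rintro q ⟨hq, hqh, hcq⟩
  refine ⟨⟨hq, (Ideal.span_singleton_le_iff_mem _).mpr hcq⟩, ?_⟩
  rintro P ⟨hP, hcP⟩ hPq
  by_contra hne
  have hlt : P < q := lt_of_le_not_ge hPq hne
  haveI := hP
  have h1 := Ideal.height_strict_mono_of_isPrime hlt
  rw [hqh] at h1
  have h2 : P.height = 0 := Order.lt_one_iff.mp h1
  rw [Ideal.height_eq_zero_iff_eq_bot] at h2
  rw [h2] at hcP
  apply hc
  have := hcP (Ideal.mem_span_singleton_self c)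
  exact (Ideal.mem_bot).mp this

theorem primesOf_finite {c : A} (hc : c ≠ 0) : (primesOf c).Finite :=
  (Ideal.finite_minimalPrimes_of_isNoetherianRing A _).subset (primesOf_subset_minimalPrimes hc)

theorem minimalPrimes_subset_primesOf {c : A} (hc : c ≠ 0) :
    (Ideal.span {c}).minimalPrimes ⊆ primesOf c := by
  intro q hq
  haveI : q.IsPrime := hq.1.1
  have hcq : c ∈ q := hq.1.2 (Ideal.mem_span_singleton_self c)
  refine ⟨hq.1.1, ?_, hcq⟩
  apply le_antisymm
  · exact Ideal.height_le_one_of_isPrincipal_of_mem_minimalPrimes (Ideal.span {c}) q hq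
  · rw [Order.one_le_iff_ne_zero, Ne, Ideal.height_eq_zero_iff_eq_bot]
    rintro rfl
    exact hc ((Ideal.mem_bot).mp hcq)

end Approx

section Step
variable {A : Type u} [CommRing A] [IsDomain A] [IsNoetherianRing A] [IsLocalRing A]
  [IsIntegrallyClosed A]

/-- the key step: if `c` is a uniformizer at some prime `p0` containing it but not at `q0`, then a
small perturbation `c + g` is a uniformizer at all primes containing `c` and acquires a new
component -/
theorem exists_step {c : A} (hc : c ≠ 0) (K : Ideal A) (hK : ∀ q ∈ primesOf c, ¬ K ≤ q)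
    {p0 : Ideal A} (hp0 : p0 ∈ primesOf c) (hcp0 : c ∉ sq p0)
    {q0 : Ideal A} (hq0 : q0 ∈ primesOf c) (hcq0 : c ∈ sq q0) :
    ∃ g ∈ K, (∀ q ∈ primesOf c, c + g ∈ q ∧ c + g ∉ sq q) ∧
      ∃ q ∈ primesOf (c + g), q ∉ primesOf c := by
  classical
  let T : Finset (Ideal A) := (primesOf_finite hc).toFinset
  let T2 : Finset (Ideal A) := T.filter (fun q => c ∈ sq q)
  have hTmem : ∀ q, q ∈ T ↔ q ∈ primesOf c := fun q => Set.Finite.mem_toFinset _
  have hT2mem : ∀ q, q ∈ T2 ↔ q ∈ primesOf c ∧ c ∈ sq q := by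
    intro q
    rw [Finset.mem_filter, hTmem]
  obtain ⟨g, hgK, hg1, hg2⟩ := exists_approx T T2
    (fun q hq => ⟨((hTmem q).mp hq).1, ((hTmem q).mp hq).2.1⟩) (Finset.filter_subset _ _) K
    (fun q hq => hK q ((hTmem q).mp hq))
  have key : ∀ q ∈ primesOf c, c + g ∈ q ∧ c + g ∉ sq q := by
    intro q hq
    by_cases hcq : c ∈ sq q
    · obtain ⟨h1, h2⟩ := hg2 q ((hT2mem q).mpr ⟨hq, hcq⟩)
      refine ⟨Ideal.add_mem _ hq.2.2 h1, fun h => h2 ?_⟩
      have := sub_mem_sq hq.1 h hcq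
      simpa using this
    · have hgq : g ∈ sq q := hg1 q ((hTmem q).mpr hq) (fun h => hcq ((hT2mem q).mp h).2)
      refine ⟨Ideal.add_mem _ hq.2.2 (sq_subset hq.1 hgq), fun h => hcq ?_⟩
      have := sub_mem_sq hq.1 h hgq
      simpa using this
  refine ⟨g, hgK, key, ?_⟩
  by_contra hno
  have hall : ∀ q ∈ primesOf (c + g), q ∈ primesOf c := by
    intro q hq
    by_contra hq'
    exact hno ⟨q, hq, hq'⟩
  have hc''0 : c + g ≠ 0 := by
    intro h0
    apply (key p0 hp0).2
    rw [h0]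
    exact zero_mem_sq hp0.1
  have hdvd : (c + g) ∣ c := by
    apply dvd_of_forall_height_one hc''0
    intro p hp hph
    by_cases hcp : c + g ∈ p
    · have hpc : p ∈ primesOf c := hall p ⟨hp, hph, hcp⟩
      exact exists_dvd_of_mem hp hph hcp (key p hpc).2 hpc.2.2
    · exact ⟨c + g, hcp, Dvd.intro _ rfl⟩
  obtain ⟨u, hu⟩ := hdvd
  by_cases huu : IsUnit u
  · obtain ⟨v, hv⟩ := huu.exists_right_inv
    have h5 : c + g = c * v := by
      nth_rewrite 2 [hu]
      rw [mul_assoc, hv, mul_one]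
    apply (key q0 hq0).2
    rw [h5]
    exact mul_mem_sq_right v hcq0
  · have h1u : IsUnit (1 - u) := IsLocalRing.isUnit_one_sub_self_of_mem_nonunits u huu
    obtain ⟨v, hv⟩ := h1u.exists_right_inv
    have hg : g = (c + g) * (1 - u) := by
      rw [mul_sub, mul_one, ← hu]
      ring
    have h5 : c + g = g * v := by
      nth_rewrite 2 [hg]
      rw [mul_assoc, hv, mul_one]
    have hgp0 : g ∈ sq p0 := hg1 p0 ((hTmem p0).mpr hp0) (fun h => hcp0 ((hT2mem p0).mp h).2)
    apply (key p0 hp0).2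
    rw [h5]
    exact mul_mem_sq_right v hgp0

/-- the maximality argument, given a bound on the number of components -/
theorem exists_reduced_of_bound (s : Finset (Ideal A)) (hs : ∀ p ∈ s, p.IsPrime ∧ p.height = 1)
    (hne : s.Nonempty) (K : Ideal A) (hK : ∀ q : Ideal A, q.IsPrime → q.height = 1 → ¬ K ≤ q)
    (c0 : A) (hc0 : ∀ p ∈ s, c0 ∈ p ∧ c0 ∉ sq p) (M : ℕ)
    (hM : ∀ c, c - c0 ∈ K → (∀ p ∈ s, c ∈ p ∧ c ∉ sq p) → (primesOf c).ncard ≤ M) :
    ∃ c, c - c0 ∈ K ∧ (∀ p ∈ s, c ∈ p ∧ c ∉ sq p) ∧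
      ∀ q : Ideal A, q.IsPrime → q.height = 1 → c ∈ q → c ∉ sq q := by
  have claim : ∀ k : ℕ, ∀ c, c - c0 ∈ K → (∀ p ∈ s, c ∈ p ∧ c ∉ sq p) →
      M - (primesOf c).ncard = k →
      ∃ c, c - c0 ∈ K ∧ (∀ p ∈ s, c ∈ p ∧ c ∉ sq p) ∧
        ∀ q : Ideal A, q.IsPrime → q.height = 1 → c ∈ q → c ∉ sq q := by
    intro k
    induction k using Nat.strong_induction_on with
    | _ k ih =>
      intro c hcK hcs hk
      by_cases hred : ∀ q : Ideal A, q.IsPrime → q.height = 1 → c ∈ q → c ∉ sq q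
      · exact ⟨c, hcK, hcs, hred⟩
      · have hex : ∃ q0 : Ideal A, q0 ∈ primesOf c ∧ c ∈ sq q0 := by
          by_contra hcon
          apply hred
          intro q hq hqh hcq hsq
          exact hcon ⟨q, ⟨hq, hqh, hcq⟩, hsq⟩
        obtain ⟨q0, hq0, hcq0⟩ := hex
        obtain ⟨p0, hp0s⟩ := hne
        have hp0 : p0 ∈ primesOf c := ⟨(hs p0 hp0s).1, (hs p0 hp0s).2, (hcs p0 hp0s).1⟩
        have hc : c ≠ 0 := by
          rintro rfl
          exact (hcs p0 hp0s).2 (zero_mem_sq (hs p0 hp0s).1)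
        obtain ⟨g, hgK, hkey, q1, hq1, hq1'⟩ := exists_step hc K
          (fun q hq => hK q hq.1 hq.2.1) hp0 (hcs p0 hp0s).2 hq0 hcq0
        have hcK' : c + g - c0 ∈ K := by
          have : c + g - c0 = (c - c0) + g := by ring
          rw [this]
          exact Ideal.add_mem _ hcK hgK
        have hcs' : ∀ p ∈ s, c + g ∈ p ∧ c + g ∉ sq p := fun p hp =>
          hkey p ⟨(hs p hp).1, (hs p hp).2, (hcs p hp).1⟩
        have hc' : c + g ≠ 0 := by
          intro h0
          apply (hcs' p0 hp0s).2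
          rw [h0]
          exact zero_mem_sq (hs p0 hp0s).1
        have hsub : primesOf c ⊂ primesOf (c + g) := by
          refine ⟨fun q hq => ⟨hq.1, hq.2.1, (hkey q hq).1⟩, fun hle => hq1' (hle hq1)⟩
        have hlt := Set.ncard_lt_ncard hsub (primesOf_finite hc')
        have hle := hM (c + g) hcK' hcs'
        exact ih (M - (primesOf (c + g)).ncard) (by omega) (c + g) hcK' hcs' rfl
  have h0 : c0 - c0 ∈ K := by rw [sub_self]; exact zero_mem _
  exact claim _ c0 h0 hc0 rfl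

end Step

end Groth.Agent.H2.RedQuot
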