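import Mathlib
import Groth.Agent.Lib.Helper2.RedQuot2
import Groth.Agent.S7116
import Groth.Agent.S7117

/-! Reduced principal quotients in normal Noetherian local domains: the bound on the number of
components (from S7116/S7117) and the main theorem. -/

universe u
set_option linter.style.haveILetI false
open IsLocalRing

namespace Groth.Agent.H2.RedQuot

theorem withBot_le_pred (d : ℕ) (hd1 : 1 ≤ d) (x : WithBot ℕ∞) (hx : x + 1 ≤ (d : WithBot ℕ∞)) :
    x ≤ ((d - 1 : ℕ) : WithBot ℕ∞) := by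
  induction x using WithBot.recBotCoe with
  | bot => exact bot_le
  | coe n =>
    induction n using ENat.recTopCoe with
    | top =>
      exfalso
      have h1 : ((⊤ : ℕ∞) : WithBot ℕ∞) + 1 = ((⊤ : ℕ∞) : WithBot ℕ∞) := by
        rw [← WithBot.coe_one, ← WithBot.coe_add, top_add]
      rw [h1] at hx
      have h2 : ((⊤ : ℕ∞) : WithBot ℕ∞) ≤ ((d : ℕ∞) : WithBot ℕ∞) := hx
      rw [WithBot.coe_le_coe, top_le_iff] at h2
      exact ENat.natCast_ne_top d h2
    | coe m =>
      have h1 : (((m : ℕ∞) : WithBot ℕ∞)) + 1 = (((m + 1 : ℕ) : ℕ∞) : WithBot ℕ∞) := by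
        push_cast
        rfl
      rw [h1] at hx
      have h2 : (((m + 1 : ℕ) : ℕ∞) : WithBot ℕ∞) ≤ ((d : ℕ∞) : WithBot ℕ∞) := hx
      rw [WithBot.coe_le_coe, Nat.cast_le] at h2
      have h3 : m ≤ d - 1 := by omega
      have h4 : ((m : ℕ∞) : WithBot ℕ∞) ≤ (((d - 1 : ℕ) : ℕ∞) : WithBot ℕ∞) := by
        rw [WithBot.coe_le_coe, Nat.cast_le]
        exact h3
      exact h4

section Bound
variable {A : Type u} [CommRing A] [IsDomain A] [IsNoetherianRing A] [IsLocalRing A]

theorem ncard_primesOf_le (d : ℕ) (hd1 : 1 ≤ d) (hdim : ringKrullDim A = d)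
    (hcat : ∀ q : Ideal A, q.IsPrime → q.height = 1 →
      ringKrullDim (A ⧸ q) = ((d - 1 : ℕ) : WithBot ℕ∞))
    (c : A) (hc : c ≠ 0) (hcm : c ∈ maximalIdeal A) (hex : (primesOf c).Nonempty)
    (g : Fin (d - 1) → A) (hg : ∀ i, g i ∈ maximalIdeal A)
    (hsop : maximalIdeal A ≤ (Ideal.span (insert c (Set.range g))).radical) :
    ((primesOf c).ncard : ℕ∞) ≤
      Module.length A (A ⧸ Ideal.span (insert c (Set.range g))) := by
  set I : Ideal A := Ideal.span {c} with hI
  have hItop : I ≠ ⊤ := by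
    intro h
    rw [hI, Ideal.span_singleton_eq_top] at h
    exact hcm h
  haveI : Nontrivial (A ⧸ I) := Ideal.Quotient.nontrivial_iff.mpr hItop
  haveI : IsLocalRing (A ⧸ I) :=
    IsLocalRing.of_surjective' (Ideal.Quotient.mk I) Ideal.Quotient.mk_surjective
  have hmax : (maximalIdeal A).map (Ideal.Quotient.mk I) = maximalIdeal (A ⧸ I) :=
    IsLocalRing.map_maximalIdeal_of_surjective _ Ideal.Quotient.mk_surjective
  have hdim' : ringKrullDim (A ⧸ I) = ((d - 1 : ℕ) : WithBot ℕ∞) := by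
    apply le_antisymm
    · apply withBot_le_pred d hd1
      have h1 := ringKrullDim_quotient_succ_le_of_nonZeroDivisor
        (mem_nonZeroDivisors_of_ne_zero hc)
      rw [hdim] at h1
      exact h1
    · obtain ⟨q, hq⟩ := hex
      rw [← hcat q hq.1 hq.2.1]
      have hIq : I ≤ q := (Ideal.span_singleton_le_iff_mem _).mpr hq.2.2
      exact ringKrullDim_le_of_surjective (Ideal.Quotient.factor hIq)
        (Ideal.Quotient.factor_surjective hIq)
  let g' : Fin (d - 1) → A ⧸ I := fun i => Ideal.Quotient.mk I (g i)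
  have hg' : ∀ i, g' i ∈ maximalIdeal (A ⧸ I) := fun i => by
    rw [← hmax]
    exact Ideal.mem_map_of_mem _ (hg i)
  have hspan' : Ideal.span (Set.range g') =
      (Ideal.span (Set.range g)).map (Ideal.Quotient.mk I) := by
    rw [Ideal.map_span, ← Set.range_comp]
    rfl
  have hsop' : maximalIdeal (A ⧸ I) ≤ (Ideal.span (Set.range g')).radical := by
    rw [← hmax, Ideal.map_le_iff_le_comap]
    intro x hx
    obtain ⟨n, hn⟩ := hsop hx
    rw [Ideal.mem_comap]
    refine ⟨n, ?_⟩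
    rw [← map_pow, hspan']
    rw [Ideal.span_insert] at hn
    obtain ⟨a, ha, b, hb, hab⟩ := Submodule.mem_sup.mp hn
    rw [← hab, map_add, Ideal.Quotient.eq_zero_iff_mem.mpr ha, zero_add]
    exact Ideal.mem_map_of_mem _ hb
  have key := Groth.Agent.S7117.result (A ⧸ I) (d - 1) hdim' g' hg' hsop'
  -- the length
  have hlen : Module.length (A ⧸ I) ((A ⧸ I) ⧸ Ideal.span (Set.range g')) =
      Module.length A (A ⧸ Ideal.span (insert c (Set.range g))) := by
    have h1 : Module.length A ((A ⧸ I) ⧸ Ideal.span (Set.range g')) =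
        Module.length (A ⧸ I) ((A ⧸ I) ⧸ Ideal.span (Set.range g')) :=
      Module.length_eq_of_surjective (S := A) (R := A ⧸ I) Ideal.Quotient.mk_surjective
    rw [← h1]
    have hspan'' : Ideal.span (Set.range g') =
        (Ideal.span (Set.range g)).map (Ideal.Quotient.mkₐ A I) := hspan'
    have e0 := (Ideal.quotientEquivAlgOfEq A hspan'').toLinearEquiv
    have e1 := (DoubleQuot.quotQuotEquivQuotSupₐ A I (Ideal.span (Set.range g))).toLinearEquiv
    have hsup : I ⊔ Ideal.span (Set.range g) = Ideal.span (insert c (Set.range g)) := by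
      rw [Ideal.span_insert]
    have e2 := (Ideal.quotientEquivAlgOfEq A hsup).toLinearEquiv
    exact ((e0.trans e1).trans e2).length_eq
  rw [hlen] at key
  refine le_trans ?_ key
  rw [Nat.cast_le]
  -- primes
  have hfin : {p : Ideal (A ⧸ I) | p ∈ minimalPrimes (A ⧸ I) ∧
      ringKrullDim ((A ⧸ I) ⧸ p) = ((d - 1 : ℕ) : WithBot ℕ∞)}.Finite :=
    (minimalPrimes.finite_of_isNoetherianRing (A ⧸ I)).subset (fun p hp => hp.1)
  have hsub : primesOf c ⊆ Ideal.comap (Ideal.Quotient.mk I) ''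
      {p : Ideal (A ⧸ I) | p ∈ minimalPrimes (A ⧸ I) ∧
        ringKrullDim ((A ⧸ I) ⧸ p) = ((d - 1 : ℕ) : WithBot ℕ∞)} := by
    intro q hq
    have hq1 : q ∈ I.minimalPrimes := primesOf_subset_minimalPrimes hc hq
    have hker : (⊥ : Ideal (A ⧸ I)).comap (Ideal.Quotient.mk I) = I := by
      rw [← RingHom.ker_eq_comap_bot, Ideal.mk_ker]
    rw [← hker, Ideal.comap_minimalPrimes_eq_of_surjective Ideal.Quotient.mk_surjective] at hq1
    obtain ⟨p', hp', rfl⟩ := hq1
    refine ⟨p', ⟨hp', ?_⟩, rfl⟩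
    have hIq : I ≤ Ideal.comap (Ideal.Quotient.mk I) p' :=
      le_of_eq_of_le hker.symm (Ideal.comap_mono bot_le)
    have hp'' : p' = (Ideal.comap (Ideal.Quotient.mk I) p').map (Ideal.Quotient.mk I) :=
      (Ideal.map_comap_of_surjective _ Ideal.Quotient.mk_surjective p').symm
    rw [← hcat _ hq.1 hq.2.1]
    conv_lhs => rw [hp'']
    exact ringKrullDim_eq_of_ringEquiv (DoubleQuot.quotQuotEquivQuotOfLE hIq)
  exact le_trans (Set.ncard_le_ncard hsub (hfin.image _)) (Set.ncard_image_le hfin)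

end Bound

section Main
variable {A : Type u} [CommRing A] [IsDomain A] [IsNoetherianRing A] [IsLocalRing A]
  [IsIntegrallyClosed A]

/-- the main theorem: in a normal Noetherian local domain of dimension `d ≥ 2` all of whose
height-one primes have coheight `d - 1`, any nonempty finite set of height-one primes contains
in its intersection a nonzero element with reduced quotient -/
theorem exists_reduced (d : ℕ) (hdim : ringKrullDim A = d) (hd2 : 2 ≤ d)
    (hcat : ∀ q : Ideal A, q.IsPrime → q.height = 1 →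
      ringKrullDim (A ⧸ q) = ((d - 1 : ℕ) : WithBot ℕ∞))
    (s : Finset (Ideal A)) (hs : ∀ p ∈ s, p.IsPrime ∧ p.height = 1) (hne : s.Nonempty) :
    ∃ f : A, f ≠ 0 ∧ (∀ p ∈ s, f ∈ p) ∧ IsReduced (A ⧸ Ideal.span {f}) := by
  classical
  obtain ⟨c0, -, -, hc0⟩ := exists_approx s s hs (Finset.Subset.refl s) ⊤
    (fun q hq h => (hs q hq).1.ne_top (top_le_iff.mp h))
  obtain ⟨p0, hp0s⟩ := hne
  have hne : s.Nonempty := ⟨p0, hp0s⟩
  have hmem_max : ∀ c : A, c ∈ p0 → c ∈ maximalIdeal A := fun c hc =>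
    le_maximalIdeal (hs p0 hp0s).1.ne_top hc
  have hne0 : ∀ c : A, c ∉ sq p0 → c ≠ 0 := by
    rintro c hc rfl
    exact hc (zero_mem_sq (hs p0 hp0s).1)
  have hc00 : c0 ≠ 0 := hne0 c0 (hc0 p0 hp0s).2
  have hmin : ∀ p ∈ minimalPrimes A, c0 ∉ p := by
    intro p hp
    rw [IsDomain.minimalPrimes_eq_singleton_bot, Set.mem_singleton_iff] at hp
    rw [hp, Ideal.mem_bot]
    exact hc00
  obtain ⟨g, N, hgm, -, hpert⟩ := Groth.Agent.S7116.result A d hdim c0
    (hmem_max c0 (hc0 p0 hp0s).1) hmin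
  have hhtm : (maximalIdeal A).height = (d : ℕ∞) := by
    have := IsLocalRing.maximalIdeal_height_eq_ringKrullDim (R := A)
    rw [hdim] at this
    exact_mod_cast this
  have hK : ∀ q : Ideal A, q.IsPrime → q.height = 1 → ¬ (maximalIdeal A) ^ N ≤ q := by
    intro q hq hqh hle
    haveI := hq
    have h1 : maximalIdeal A ≤ q := Ideal.IsPrime.le_of_pow_le hle
    have h2 : q = maximalIdeal A := le_antisymm (le_maximalIdeal hq.ne_top) h1
    rw [h2, hhtm] at hqh
    have : (d : ℕ∞) = ((1 : ℕ) : ℕ∞) := by rw [hqh]; rfl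
    rw [Nat.cast_inj] at this
    omega
  have hfinlen : Module.length A (A ⧸ Ideal.span (insert c0 (Set.range g))) ≠ ⊤ := by
    have h0 := (hpert 0 (zero_mem _)).1
    rw [add_zero] at h0
    rw [Module.length_ne_top_iff]
    exact Groth.Agent.Lib.Helper1.HS.isFiniteLength_quotient_of_pow_le _
      (Ideal.exists_pow_le_of_le_radical_of_fg h0 (IsNoetherian.noetherian _))
  obtain ⟨M, hM⟩ := ENat.ne_top_iff_exists.mp hfinlen
  have hbound : ∀ c, c - c0 ∈ (maximalIdeal A) ^ N → (∀ p ∈ s, c ∈ p ∧ c ∉ sq p) →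
      (primesOf c).ncard ≤ M := by
    intro c hcK hcs
    have hh := hpert (c - c0) hcK
    rw [add_sub_cancel] at hh
    have h1 := ncard_primesOf_le d (by omega) hdim hcat c (hne0 c (hcs p0 hp0s).2)
      (hmem_max c (hcs p0 hp0s).1) ⟨p0, (hs p0 hp0s).1, (hs p0 hp0s).2, (hcs p0 hp0s).1⟩
      g hgm hh.1
    rw [← hh.2, ← hM, Nat.cast_le] at h1
    exact h1
  obtain ⟨c, -, hcs, hred⟩ := exists_reduced_of_bound s hs hne ((maximalIdeal A) ^ N) hK c0 hc0 M
    hbound
  exact ⟨c, hne0 c (hcs p0 hp0s).2, fun p hp => (hcs p hp).1,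
    isReduced_quotient_of_forall (hne0 c (hcs p0 hp0s).2) hred⟩

end Main

end Groth.Agent.H2.RedQuot
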