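import Mathlib
import Groth.Prelude.Def_Found
import Groth.Agent.Lib.Helper2.RedQuot3
import Groth.Agent.Lib.Helper6.Catenary

/-! Reduced principal quotients in normal Noetherian local domains: final forms
(S7118, S7119, S2013). -/

universe u
set_option linter.style.haveILetI false
open IsLocalRing

namespace Groth.Agent.H2.RedQuot

theorem withBot_eq_pred (d : ℕ) (x : WithBot ℕ∞) (hx : x + 1 = (d : WithBot ℕ∞)) :
    x = ((d - 1 : ℕ) : WithBot ℕ∞) := by
  induction x using WithBot.recBotCoe with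
  | bot =>
    exfalso
    rw [WithBot.bot_add] at hx
    exact WithBot.bot_ne_coe (a := (d : ℕ∞)) hx
  | coe n =>
    induction n using ENat.recTopCoe with
    | top =>
      exfalso
      have h1 : ((⊤ : ℕ∞) : WithBot ℕ∞) + 1 = ((⊤ : ℕ∞) : WithBot ℕ∞) := by
        rw [← WithBot.coe_one, ← WithBot.coe_add, top_add]
      rw [h1] at hx
      have h2 : ((⊤ : ℕ∞) : WithBot ℕ∞) = ((d : ℕ∞) : WithBot ℕ∞) := hx
      rw [WithBot.coe_inj] at h2
      exact ENat.natCast_ne_top d h2.symm
    | coe m =>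
      have h1 : (((m : ℕ∞) : WithBot ℕ∞)) + 1 = (((m + 1 : ℕ) : ℕ∞) : WithBot ℕ∞) := by
        push_cast
        rfl
      rw [h1] at hx
      have h2 : (((m + 1 : ℕ) : ℕ∞) : WithBot ℕ∞) = ((d : ℕ∞) : WithBot ℕ∞) := hx
      rw [WithBot.coe_inj, Nat.cast_inj] at h2
      have h3 : m = d - 1 := by omega
      rw [h3]
      rfl

section Dim
variable {A : Type u} [CommRing A] [IsNoetherianRing A] [IsLocalRing A]

omit [IsNoetherianRing A] in
theorem dim_quotient_of_dim_two (hdim : ringKrullDim A = 2) (q : Ideal A) (hq : q.IsPrime)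
    (hqh : q.height = 1) : ringKrullDim (A ⧸ q) = ((2 - 1 : ℕ) : WithBot ℕ∞) := by
  let Q : PrimeSpectrum A := ⟨q, hq⟩
  have h1 : ringKrullDim (A ⧸ q) = (Order.coheight Q : WithBot ℕ∞) :=
    Groth.Agent.H6.Cat.ringKrullDim_quotient_eq_coheight Q
  have hh : Order.height Q = 1 := by
    rw [← PrimeSpectrum.height_eq_orderHeight]
    exact hqh
  have h2 : Order.height Q + Order.coheight Q ≤ 2 := by
    have : Nonempty (PrimeSpectrum A) := ⟨Q⟩
    have h3 : ((Order.height Q + Order.coheight Q : ℕ∞) : WithBot ℕ∞) ≤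
        Order.krullDim (PrimeSpectrum A) := by
      rw [Order.krullDim_eq_iSup_height_add_coheight_of_nonempty]
      exact_mod_cast le_iSup (fun a : PrimeSpectrum A => Order.height a + Order.coheight a) Q
    have h4 : Order.krullDim (PrimeSpectrum A) = 2 := hdim
    rw [h4] at h3
    have h2' : ((2 : ℕ∞) : WithBot ℕ∞) = 2 := rfl
    rw [← h2', WithBot.coe_le_coe] at h3
    exact h3
  have h5 : Order.coheight Q ≤ 1 := by
    rw [hh, ← one_add_one_eq_two] at h2
    exact (ENat.add_le_add_iff_left ENat.one_ne_top).mp h2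
  have h6 : 1 ≤ Order.coheight Q := by
    rw [Order.one_le_iff_pos, Order.coheight_pos]
    intro hmax
    have h7 : Q = IsLocalRing.closedPoint A := Groth.Agent.H6.Cat.eq_closedPoint_of_isMax hmax
    have h8 : q = maximalIdeal A := congrArg PrimeSpectrum.asIdeal h7
    have h9 := IsLocalRing.maximalIdeal_height_eq_ringKrullDim (R := A)
    rw [← h8, hqh, hdim] at h9
    have h10 : ((1 : ℕ∞) : WithBot ℕ∞) = ((2 : ℕ∞) : WithBot ℕ∞) := h9
    rw [WithBot.coe_inj] at h10
    exact absurd h10 (by decide)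
  rw [h1, le_antisymm h5 h6]
  rfl

theorem dim_quotient_of_catenary [IsDomain A] (hcat : CAlg.IsCatenary A) (d : ℕ)
    (hdim : ringKrullDim A = d) (q : Ideal A) (hq : q.IsPrime) (hqh : q.height = 1) :
    ringKrullDim (A ⧸ q) = ((d - 1 : ℕ) : WithBot ℕ∞) := by
  let P : PrimeSpectrum A := ⟨⊥, Ideal.isPrime_bot⟩
  let Q : PrimeSpectrum A := ⟨q, hq⟩
  have hcov : P ⋖ Q := by
    refine ⟨?_, ?_⟩
    · show (⊥ : Ideal A) < q
      exact bot_lt_iff_ne_bot.mpr (ne_bot_of_height_one hqh)
    · intro X hPX hXQ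
      have h1 : (⊥ : Ideal A) < X.asIdeal := hPX
      have h2 : X.asIdeal < q := hXQ
      haveI := X.isPrime
      have h3 := Ideal.height_strict_mono_of_isPrime h2
      rw [hqh] at h3
      have h4 : X.asIdeal.height = 0 := Order.lt_one_iff.mp h3
      rw [Ideal.height_eq_zero_iff_eq_bot] at h4
      exact h1.ne' h4
  have h := Groth.Agent.H6.Cat.ringKrullDim_quotient_eq_add_one hcat hcov
  have h0 : ringKrullDim (A ⧸ (⊥ : Ideal A)) = ringKrullDim A :=
    ringKrullDim_eq_of_ringEquiv (RingEquiv.quotientBot A)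
  apply withBot_eq_pred
  rw [← hdim, ← h0]
  exact h.symm

end Dim

theorem isReduced_quotient_span_one (A : Type u) [CommRing A] :
    IsReduced (A ⧸ Ideal.span {(1 : A)}) := by
  rw [Ideal.span_singleton_one]
  haveI : Subsingleton (A ⧸ (⊤ : Ideal A)) := Ideal.Quotient.subsingleton_iff.mpr rfl
  infer_instance

section Final
variable (R : Type u) [CommRing R] [IsDomain R] [IsNoetherianRing R] [IsLocalRing R]
  [IsIntegrallyClosed R]

theorem exists_of_dim_two (hdim : ringKrullDim R = 2) (s : Finset (Ideal R))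
    (hs : ∀ p ∈ s, p.IsPrime ∧ p.height = 1) :
    ∃ f : R, f ≠ 0 ∧ (∀ p ∈ s, f ∈ p) ∧ IsReduced (R ⧸ Ideal.span {f}) := by
  by_cases hne : s.Nonempty
  · exact exists_reduced 2 (by exact_mod_cast hdim) le_rfl
      (fun q hq hqh => dim_quotient_of_dim_two hdim q hq hqh) s hs hne
  · rw [Finset.not_nonempty_iff_eq_empty] at hne
    subst hne
    exact ⟨1, one_ne_zero, by simp, isReduced_quotient_span_one R⟩

theorem exists_dvd_pow_of_dim_two (hdim : ringKrullDim R = 2) (a : R) (ha0 : a ≠ 0) :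
    ∃ c : R, c ≠ 0 ∧ IsReduced (R ⧸ Ideal.span {c}) ∧ ∃ n : ℕ, a ∣ c ^ n := by
  classical
  have hfin := Ideal.finite_minimalPrimes_of_isNoetherianRing R (Ideal.span {a})
  obtain ⟨c, hc0, hcs, hred⟩ := exists_of_dim_two R hdim hfin.toFinset (fun p hp => by
    have := minimalPrimes_subset_primesOf ha0 (hfin.mem_toFinset.mp hp)
    exact ⟨this.1, this.2.1⟩)
  refine ⟨c, hc0, hred, ?_⟩
  have hrad : c ∈ (Ideal.span {a}).radical := by
    rw [← Ideal.sInf_minimalPrimes, Submodule.mem_sInf]
    intro p hp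
    exact hcs p (hfin.mem_toFinset.mpr hp)
  obtain ⟨n, hn⟩ := hrad
  exact ⟨n, Ideal.mem_span_singleton.mp hn⟩

theorem exists_of_catenary (hc : CAlg.IsCatenary R) (J : Ideal R) (hJ : J.IsRadical)
    (hJ0 : J ≠ ⊥) : ∃ f ∈ J, f ≠ 0 ∧ IsReduced (R ⧸ Ideal.span {f}) := by
  classical
  by_cases hJtop : J = ⊤
  · exact ⟨1, by rw [hJtop]; trivial, one_ne_zero, isReduced_quotient_span_one R⟩
  obtain ⟨x, hxJ, hx0⟩ := Submodule.exists_mem_ne_zero_of_ne_bot hJ0
  have hxm : x ∈ maximalIdeal R := le_maximalIdeal hJtop hxJ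
  obtain ⟨d, hd⟩ : ∃ d : ℕ, ringKrullDim R = d := by
    have h1 := ringKrullDim_ne_top (R := R)
    have h2 := ringKrullDim_ne_bot (R := R)
    generalize ringKrullDim R = y at h1 h2
    induction y using WithBot.recBotCoe with
    | bot => exact absurd rfl h2
    | coe n =>
      induction n using ENat.recTopCoe with
      | top => exact absurd rfl h1
      | coe m => exact ⟨m, rfl⟩
  have hfin := Ideal.finite_minimalPrimes_of_isNoetherianRing R (Ideal.span {x})
  have htop : Ideal.span {x} ≠ ⊤ := by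
    rw [Ne, Ideal.span_singleton_eq_top]
    exact hxm
  obtain ⟨⟨p0, hp0⟩⟩ := Ideal.nonempty_minimalPrimes htop
  have hp0' := minimalPrimes_subset_primesOf hx0 hp0
  have hsprime : ∀ p ∈ hfin.toFinset, p.IsPrime ∧ p.height = 1 := fun p hp => by
    have := minimalPrimes_subset_primesOf hx0 (hfin.mem_toFinset.mp hp)
    exact ⟨this.1, this.2.1⟩
  have key : ∃ f : R, f ≠ 0 ∧ (∀ p ∈ hfin.toFinset, f ∈ p) ∧
      IsReduced (R ⧸ Ideal.span {f}) := by
    by_cases hd2 : 2 ≤ d
    · exact exists_reduced d hd hd2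
        (fun q hq hqh => dim_quotient_of_catenary hc d hd q hq hqh) hfin.toFinset hsprime
        ⟨p0, hfin.mem_toFinset.mpr hp0⟩
    · have hm1 : (maximalIdeal R).height ≤ 1 := by
        have h9 := IsLocalRing.maximalIdeal_height_eq_ringKrullDim (R := R)
        rw [hd] at h9
        have h10 : (maximalIdeal R).height = (d : ℕ∞) := by exact_mod_cast h9
        rw [h10]
        exact_mod_cast (by omega : d ≤ 1)
      have hall : ∀ p : Ideal R, p.IsPrime → p.height = 1 → p = maximalIdeal R := by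
        intro p hp hph
        by_contra hne
        haveI := hp
        have hlt : p < maximalIdeal R := lt_of_le_of_ne (le_maximalIdeal hp.ne_top) hne
        have := Ideal.height_strict_mono_of_isPrime hlt
        rw [hph] at this
        exact absurd (lt_of_lt_of_le this hm1) (lt_irrefl _)
      have hmh : (maximalIdeal R).height = 1 := by
        rw [← hall p0 hp0'.1 hp0'.2.1]
        exact hp0'.2.1
      have hmp : (maximalIdeal R).IsPrime := (maximalIdeal.isMaximal R).isPrime
      obtain ⟨f, hfm, hfsq⟩ := exists_mem_not_mem_sq hmp (ne_bot_of_height_one hmh)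
      have hf0 : f ≠ 0 := by
        rintro rfl
        exact hfsq (zero_mem_sq hmp)
      refine ⟨f, hf0, ?_, isReduced_quotient_of_forall hf0 ?_⟩
      · intro p hp
        rw [hall p (hsprime p hp).1 (hsprime p hp).2]
        exact hfm
      · intro p hp hph _
        rw [hall p hp hph]
        exact hfsq
  obtain ⟨f, hf0, hfs, hred⟩ := key
  refine ⟨f, ?_, hf0, hred⟩
  have hrad : f ∈ (Ideal.span {x}).radical := by
    rw [← Ideal.sInf_minimalPrimes, Submodule.mem_sInf]
    intro p hp
    exact hfs p (hfin.mem_toFinset.mpr hp)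
  have := Ideal.radical_mono ((Ideal.span_singleton_le_iff_mem J).mpr hxJ) hrad
  rwa [hJ.radical] at this

end Final

end Groth.Agent.H2.RedQuot
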