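import Mathlib
import Groth.Prelude.Def_RefPow
import Groth.Prelude.Def_Pi1
import Groth.Agent.Lib.Helper2.SecOrdGroup
import Groth.Agent.Lib.Helper2.WeilFinite
import Groth.Agent.Lib.Helper2.IsoLocus
import Groth.Agent.Lib.Lead.QC.TensorPow

/-! Reflexive powers of a rank one reflexive module: local bases (towards S16150/S16151). -/

universe u
set_option autoImplicit false
set_option linter.style.haveILetI false
open CategoryTheory Limits AlgebraicGeometry TopologicalSpace Opposite IsLocalRing

namespace Groth.Agent.H2.RefPowLib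
open Groth.Agent.LD.QC Groth.Agent.H2.StalkSpec Groth.Agent.H2.SecOrd Groth.Agent.H2.RatExt

attribute [-instance] Groth.Agent.LD.QC.stalkModule

variable {X : Scheme.{u}} [IsIntegral X] [IsLocallyNoetherian X]

/-- the reflexive powers are rank one reflexive -/
theorem isRef1_refPow (hX : Pi1.IsNormalScheme X) (F : X.Modules) (hF : RefHull.IsRef1 F) :
    ∀ n : ℕ, RefHull.IsRef1 (RefPow.refPow F n)
  | 0 => isRef1_structureModule
  | 1 => hF
  | n + 2 => isRef1_refTensor hX _ F (isRef1_refPow hX F hF (n + 1)) hF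

/-- iterated local basis of the reflexive powers -/
noncomputable def basisPow (F : X.Modules) (W : X.Opens) (ε : Γ(F, W)) :
    (n : ℕ) → Γ(RefPow.refPow F n, W)
  | 0 => (1 : Γ(X, W))
  | 1 => ε
  | n + 2 => (RefPow.toRefTensor (RefPow.refPow F (n + 1)) F).app W
      (SecTwist.tmul (RefPow.refPow F (n + 1)) F W (basisPow F W ε (n + 1)) ε)

theorem basisPow_succ_succ (F : X.Modules) (W : X.Opens) (ε : Γ(F, W)) (n : ℕ) :
    basisPow F W ε (n + 2) = (RefPow.toRefTensor (RefPow.refPow F (n + 1)) F).app W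
      (SecTwist.tmul (RefPow.refPow F (n + 1)) F W (basisPow F W ε (n + 1)) ε) := rfl

theorem isBasisOver_basisPow (hX : Pi1.IsNormalScheme X) (F : X.Modules) (hF : RefHull.IsRef1 F)
    (W : X.Opens) (ε : Γ(F, W)) (hε : IsBasisOver F W ε) :
    ∀ n : ℕ, IsBasisOver (RefPow.refPow F n) W (basisPow F W ε n)
  | 0 => isBasisOver_one W
  | 1 => hε
  | n + 2 => by
    have h1 := isBasisOver_basisPow hX F hF W ε hε (n + 1)
    have hR := isRef1_refPow hX F hF (n + 1)
    haveI := hR.1.1
    haveI := hF.1.1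
    have hM : Coh.IsCoh (CohB1.tensorMod (RefPow.refPow F (n + 1)) F) :=
      ⟨inferInstance, tensorMod_isFiniteType _ F hR.1.2 hF.1.2⟩
    exact isBasisOver_bidualMap _ hM W _ (h1.tmul hε)


theorem mulBy_app_basisPow (F : X.Modules) (s : Coh.structureModule X ⟶ F) (W : X.Opens)
    (ε : Γ(F, W)) (a : Γ(X, W)) (hs : SecTwist.val s W = a • ε) (n : ℕ) :
    (RefPow.mulBy s n).app W (basisPow F W ε n) = a • basisPow F W ε (n + 1) := by
  cases n with
  | zero => exact hs
  | succ n =>
    rw [RefPow.mulBy_succ_app, hs, tmul_smul_right, basisPow_succ_succ]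
    exact Scheme.Modules.Hom.app_smul _ _ _

/-- the powers of the section in terms of the local bases -/
theorem val_sPow (F : X.Modules) (s : Coh.structureModule X ⟶ F) (W : X.Opens)
    (ε : Γ(F, W)) (a : Γ(X, W)) (hs : SecTwist.val s W = a • ε) (n : ℕ) :
    SecTwist.val (RefPow.sPow s n) W = a ^ n • basisPow F W ε n := by
  induction n with
  | zero =>
    rw [pow_zero, one_smul]
    rfl
  | succ n ih =>
    rw [RefPow.sPow_succ, val_comp, ih]
    refine (Scheme.Modules.Hom.app_smul _ _ _).trans ?_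
    rw [mulBy_app_basisPow F s W ε a hs n, smul_smul, pow_succ]


/-- bijectivity on sections near a point gives bijectivity of the stalk map -/
theorem stalkMap_bijective_of_app {F G : X.Modules} (φ : F ⟶ G) (U : X.Opens)
    (h : ∀ V : X.Opens, V ≤ U → Function.Bijective (φ.app V)) (x : X) (hx : x ∈ U) :
    Function.Bijective (RefHull.stalkMapₗ φ x) := by
  constructor
  · rw [injective_iff_map_eq_zero]
    intro a ha
    obtain ⟨V, hxV, σ, rfl⟩ := TopCat.Presheaf.exists_germ_eq F.presheaf a
    rw [RefHull.stalkMapₗ_germ] at ha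
    obtain ⟨W, hWV, hxW, hW⟩ := exists_res_eq_zero_of_germ_eq_zero G x hxV _ ha
    have hW' : G.presheaf.map (homOfLE (inf_le_left : W ⊓ U ≤ W)).op
        (G.presheaf.map (homOfLE hWV).op (φ.app V σ)) = 0 := by
      rw [hW, map_zero]
    rw [res_res, ← app_res φ] at hW'
    have h0 := (h (W ⊓ U) inf_le_right).1 (hW'.trans (map_zero _).symm)
    rw [← germ_res F x (inf_le_left.trans hWV : W ⊓ U ≤ V) ⟨hxW, hx⟩ σ, h0, map_zero]
  · intro g
    obtain ⟨V, hxV, ψ, rfl⟩ := TopCat.Presheaf.exists_germ_eq G.presheaf g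
    obtain ⟨σ, hσ⟩ := (h (V ⊓ U) inf_le_right).2
      (G.presheaf.map (homOfLE (inf_le_left : V ⊓ U ≤ V)).op ψ)
    refine ⟨F.presheaf.germ (V ⊓ U) x ⟨hxV, hx⟩ σ, ?_⟩
    rw [RefHull.stalkMapₗ_germ]
    have hσ' : φ.app (V ⊓ U) σ = G.presheaf.map (homOfLE (inf_le_left : V ⊓ U ≤ V)).op ψ := hσ
    rw [hσ', germ_res G x (inf_le_left : V ⊓ U ≤ V) ⟨hxV, hx⟩ ψ]

/-- the open of the statement is the generating locus -/
theorem eq_genLocus (F : X.Modules) (hF : Coh.IsCoh F) (s : Coh.structureModule X ⟶ F)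
    (U : X.Opens) (hU : (U : Set X) = RefPow.isoLocus s) : U = CohB1.genLocus F s := by
  haveI := hF.1
  apply le_antisymm
  · rw [le_genLocus_iff]
    apply bijective_app_of_stalkMap s inferInstance hF.1 U
    intro y hy
    have : y ∈ RefPow.isoLocus s := by rw [← hU]; exact hy
    exact this
  · intro x hx
    have hb := (le_genLocus_iff F s (CohB1.genLocus F s)).mp le_rfl
    have : x ∈ RefPow.isoLocus s := stalkMap_bijective_of_app s _ hb x hx
    rw [← hU] at this
    exact this

/-- over the generating locus the powers of the section are bases of the reflexive powers -/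
theorem isBasisOver_sPow (hX : Pi1.IsNormalScheme X) (F : X.Modules) (hF : RefHull.IsRef1 F)
    (s : Coh.structureModule X ⟶ F) (W : X.Opens) (hW : W ≤ CohB1.genLocus F s) (n : ℕ) :
    IsBasisOver (RefPow.refPow F n) W (SecTwist.val (RefPow.sPow s n) W) := by
  have hb : IsBasisOver F W (SecTwist.val s W) := (le_genLocus_iff_isBasisOver F s W).mp hW
  have h1 := val_sPow F s W (SecTwist.val s W) 1 (one_smul _ _).symm n
  rw [one_pow, one_smul] at h1
  rw [h1]
  exact isBasisOver_basisPow hX F hF W _ hb n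

theorem le_genLocus_sPow (hX : Pi1.IsNormalScheme X) (F : X.Modules) (hF : RefHull.IsRef1 F)
    (s : Coh.structureModule X ⟶ F) (n : ℕ) :
    CohB1.genLocus F s ≤ CohB1.genLocus (RefPow.refPow F n) (RefPow.sPow s n) :=
  (le_genLocus_iff_isBasisOver _ _ _).mpr (isBasisOver_sPow hX F hF s _ le_rfl n)

end Groth.Agent.H2.RefPowLib
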