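import Mathlib
import Groth.Agent.Lib.Helper2.RefPowBasis

/-! Extending sections of reflexive powers: a function regular off the divisor of `s` becomes a
section of a high reflexive power after multiplication by a power of `s`. -/

universe u
set_option autoImplicit false
set_option linter.style.haveILetI false
open CategoryTheory Limits AlgebraicGeometry TopologicalSpace Opposite IsLocalRing

namespace Groth.Agent.H2.RefPowLib
open Groth.Agent.LD.QC Groth.Agent.H2.StalkSpec Groth.Agent.H2.SecOrd Groth.Agent.H2.RatExt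
open Groth.Agent.H1.CDivKit Groth.Agent.H2.Weil

attribute [-instance] Groth.Agent.LD.QC.stalkModule

variable {X : Scheme.{u}} [IsIntegral X] [IsLocallyNoetherian X]

/-- the global section `s^n` -/
noncomputable abbrev gsec {F : X.Modules} (s : Coh.structureModule X ⟶ F) (n : ℕ) :
    Γ(RefPow.refPow F n, ⊤) := SecTwist.val (RefPow.sPow s n) ⊤

/-- the generic germ of `s^n` -/
noncomputable abbrev ggerm {F : X.Modules} (s : Coh.structureModule X ⟶ F) (n : ℕ) :
    (RefPow.refPow F n).presheaf.stalk (genericPoint X) :=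
  (RefPow.refPow F n).presheaf.germ ⊤ (genericPoint X) trivial (gsec s n)

theorem germ_val_sPow {F : X.Modules} (s : Coh.structureModule X ⟶ F) (n : ℕ) (W : X.Opens)
    (x : X) (hx : x ∈ W) :
    (RefPow.refPow F n).presheaf.germ W x hx (SecTwist.val (RefPow.sPow s n) W) =
      (RefPow.refPow F n).presheaf.germ ⊤ x trivial (gsec s n) := by
  rw [← SecTwist.map_val (RefPow.sPow s n) (homOfLE (le_top : W ≤ ⊤))]
  exact germ_res (RefPow.refPow F n) x le_top hx _

/-- the section `s^n` over an open -/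
noncomputable def secW {F : X.Modules} (s : Coh.structureModule X ⟶ F) (n : ℕ) (W : X.Opens) :
    Γ(RefPow.refPow F n, W) := SecTwist.val (RefPow.sPow s n) W

theorem secW_eq {F : X.Modules} (s : Coh.structureModule X ⟶ F) (n : ℕ) (W : X.Opens) :
    secW s n W = SecTwist.val (RefPow.sPow s n) W := rfl

theorem germ_secW {F : X.Modules} (s : Coh.structureModule X ⟶ F) (n : ℕ) (W : X.Opens)
    (x : X) (hx : x ∈ W) :
    (RefPow.refPow F n).presheaf.germ W x hx (secW s n W) =
      (RefPow.refPow F n).presheaf.germ ⊤ x trivial (gsec s n) := germ_val_sPow s n W x hx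

theorem secW_res {F : X.Modules} (s : Coh.structureModule X ⟶ F) (n : ℕ) {W W' : X.Opens}
    (h : W' ≤ W) :
    (RefPow.refPow F n).presheaf.map (homOfLE h).op (secW s n W) = secW s n W' :=
  SecTwist.map_val (RefPow.sPow s n) (homOfLE h)

/-- the section formula for `s^n` -/
theorem sPow_app {F : X.Modules} (s : Coh.structureModule X ⟶ F) (n : ℕ) (W : X.Opens)
    (b : Γ(X, W)) : (RefPow.sPow s n).app W b = b • secW s n W :=
  unitHom_app (RefPow.refPow F n) (RefPow.sPow s n) W b

/-- `c s^n` is regular at `x` -/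
def Good {F : X.Modules} (s : Coh.structureModule X ⟶ F) (x : X) (n : ℕ)
    (c : X.functionField) : Prop :=
  ∃ tx : (RefPow.refPow F n).presheaf.stalk x,
    ((RefPow.refPow F n).presheaf.stalkSpecializes (gspec x)).hom tx = c • ggerm s n

theorem good_of_mem_O {F : X.Modules} (s : Coh.structureModule X ⟶ F) (x : X) (n : ℕ)
    (c : X.functionField) (hc : c ∈ O x) : Good s x n c := by
  obtain ⟨w, hw⟩ := hc
  have hw' : (X.presheaf.stalkSpecializes (gspec x)).hom w = c := hw
  refine ⟨w • (RefPow.refPow F n).presheaf.germ ⊤ x trivial (gsec s n), ?_⟩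
  rw [stalkSpecializes_smul, hw', stalkSpecializes_germ]

theorem ord_pow (x : X) (a : X.functionField) (ha : a ≠ 0) (n : ℕ) :
    Scheme.ord (a ^ n) x = n * Scheme.ord a x := by
  induction n with
  | zero =>
    rw [pow_zero, Nat.cast_zero, zero_mul]
    exact Groth.Agent.H2.SecOrd.ord_one x
  | succ n ih =>
    rw [pow_succ, Scheme.ord_mul (pow_ne_zero n ha) ha, ih]
    push_cast
    ring

theorem good_of_notMem (hX : Pi1.IsNormalScheme X) (F : X.Modules) (hF : RefHull.IsRef1 F)
    (s : Coh.structureModule X ⟶ F) (hη : genericPoint X ∈ CohB1.genLocus F s)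
    (x : X) (hx : Order.coheight x = 1) (hxU : x ∉ CohB1.genLocus F s)
    (c : X.functionField) (hc : c ≠ 0) (n : ℕ) (hn : - Scheme.ord c x ≤ n) :
    Good s x n c := by
  obtain ⟨W, ε, hxW, hε⟩ := exists_isBasisOver_of_isRef1 hX F hF x (Or.inr hx)
  obtain ⟨a, ha⟩ := (hε W le_rfl).2 (SecTwist.val s W)
  have hs : SecTwist.val s W = a • ε := by
    have ha' : a • F.presheaf.map (homOfLE (le_refl W)).op ε = SecTwist.val s W := ha
    rw [res_self] at ha'
    exact ha'.symm
  have hloc := genLocus_inf_eq_basicOpen s hε a hs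
  have hxa : x ∉ X.basicOpen a := by
    intro h
    rw [← hloc] at h
    exact hxU h.1
  have hηW : genericPoint X ∈ W := genericPoint_mem W ⟨x, hxW⟩
  have hηa : genericPoint X ∈ X.basicOpen a := by
    rw [← hloc]
    exact ⟨hη, hηW⟩
  set aK : X.functionField := X.presheaf.germ W (genericPoint X) hηW a with haK
  have haKu : IsUnit aK := (Scheme.mem_basicOpen X a (genericPoint X) hηW).mp hηa
  have haK0 : aK ≠ 0 := haKu.ne_zero
  have hax : algebraMap (X.presheaf.stalk x) X.functionField (X.presheaf.germ W x hxW a) = aK :=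
    stalkSpecializes_sgerm (gspec x) W hxW a
  have hord1 : 1 ≤ Scheme.ord aK x := by
    have h0 : 0 ≤ Scheme.ord aK x := by
      have := (mem_O_iff_ord_nonneg hX x hx (Units.mk0 aK haK0)).mp ⟨_, hax⟩
      rwa [Units.val_mk0] at this
    rcases h0.lt_or_eq with h | h
    · omega
    · exfalso
      obtain ⟨u, hu, hua⟩ := exists_unit_of_ord_eq_zero_at hX x hx aK haK0 h.symm
      have : u = X.presheaf.germ W x hxW a :=
        IsFractionRing.injective (X.presheaf.stalk x) X.functionField (hua.trans hax.symm)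
      rw [this] at hu
      exact hxa ((Scheme.mem_basicOpen X a x hxW).mpr hu)
  have hmem : c * aK ^ n ∈ O x := by
    have hne : c * aK ^ n ≠ 0 := mul_ne_zero hc (pow_ne_zero n haK0)
    have := (mem_O_iff_ord_nonneg hX x hx (Units.mk0 _ hne)).mpr (by
      rw [Units.val_mk0, Scheme.ord_mul hc (pow_ne_zero n haK0), ord_pow x aK haK0 n]
      nlinarith)
    rwa [Units.val_mk0] at this
  obtain ⟨w, hw⟩ := hmem
  have hw' : (X.presheaf.stalkSpecializes (gspec x)).hom w = c * aK ^ n := hw
  refine ⟨w • (RefPow.refPow F n).presheaf.germ W x hxW (basisPow F W ε n), ?_⟩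
  rw [stalkSpecializes_smul, hw', stalkSpecializes_germ, mul_smul]
  congr 1
  have h1 := val_sPow F s W ε a hs n
  have h2 := germ_val_sPow s n W (genericPoint X) hηW
  rw [h1, Mero.germ_smul, map_pow] at h2
  exact h2


/-- a uniform exponent over a quasi-compact open -/
theorem exists_bound_good (hX : Pi1.IsNormalScheme X) (F : X.Modules) (hF : RefHull.IsRef1 F)
    (s : Coh.structureModule X ⟶ F) (hη : genericPoint X ∈ CohB1.genLocus F s)
    (V : X.Opens) (hV : IsCompact (V : Set X)) (c : X.functionField)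
    (hc : ∀ x ∈ V, x ∈ CohB1.genLocus F s → c ∈ O x) :
    ∃ N : ℕ, ∀ n : ℕ, N ≤ n → ∀ x ∈ V, Order.coheight x = 1 → Good s x n c := by
  classical
  by_cases hc0 : c = 0
  · refine ⟨0, fun n _ x _ _ => good_of_mem_O s x n c ?_⟩
    rw [hc0]
    exact Subring.zero_mem _
  have hloc : ∀ x₀ : X, ∃ W ∈ nhds x₀, ∃ N₀ : ℕ, ∀ n : ℕ, N₀ ≤ n → ∀ x ∈ W, x ∈ V →
      Order.coheight x = 1 → Good s x n c := by
    intro x₀
    obtain ⟨W, hW, hfin⟩ := finite_ord_ne_zero_near c hc0 x₀
    refine ⟨W, hW, hfin.toFinset.sup (fun x => (- Scheme.ord c x).toNat), ?_⟩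
    intro n hn x hxW hxV hco
    by_cases h0 : 0 ≤ Scheme.ord c x
    · apply good_of_mem_O
      have := (mem_O_iff_ord_nonneg hX x hco (Units.mk0 c hc0)).mpr (by rwa [Units.val_mk0])
      rwa [Units.val_mk0] at this
    · by_cases hxU : x ∈ CohB1.genLocus F s
      · exact good_of_mem_O s x n c (hc x hxV hxU)
      · apply good_of_notMem hX F hF s hη x hco hxU c hc0 n
        have hxS : x ∈ hfin.toFinset := by
          rw [Set.Finite.mem_toFinset]
          exact ⟨hxW, hco, by omega⟩
        have h1 : (- Scheme.ord c x).toNat ≤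
            hfin.toFinset.sup (fun x => (- Scheme.ord c x).toNat) :=
          Finset.le_sup (f := fun x => (- Scheme.ord c x).toNat) hxS
        have h2 := Int.self_le_toNat (- Scheme.ord c x)
        omega
  choose W hW N₀ hN₀ using hloc
  obtain ⟨t, -, ht⟩ := hV.elim_nhds_subcover W (fun x _ => hW x)
  refine ⟨t.sup N₀, ?_⟩
  intro n hn x hxV hco
  obtain ⟨x₀, hx₀, hx⟩ := Set.mem_iUnion₂.mp (ht hxV)
  exact hN₀ x₀ n ((Finset.le_sup hx₀).trans hn) x hx hxV hco

/-- **extension**: sections `c s^n` of the reflexive powers over a quasi-compact open -/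
theorem exists_section_pow (hX : Pi1.IsNormalScheme X) (F : X.Modules) (hF : RefHull.IsRef1 F)
    (s : Coh.structureModule X ⟶ F) (hη : genericPoint X ∈ CohB1.genLocus F s)
    (V : X.Opens) (hV : IsCompact (V : Set X)) (hηV : genericPoint X ∈ V) (c : X.functionField)
    (hc : ∀ x ∈ V, x ∈ CohB1.genLocus F s → c ∈ O x) :
    ∃ N : ℕ, ∀ n : ℕ, N ≤ n → ∃ t : Γ(RefPow.refPow F n, V),
      (RefPow.refPow F n).presheaf.germ V (genericPoint X) hηV t = c • ggerm s n := by
  obtain ⟨N, hN⟩ := exists_bound_good hX F hF s hη V hV c hc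
  refine ⟨N, fun n hn => ?_⟩
  have hR := isRef1_refPow hX F hF n
  apply exists_section_of_codim_one hX (RefPow.refPow F n) hR.1
    (isReflexiveAt_of_isRef1 _ hR) V hηV
  intro x hxV hd1
  exact hN n hn x hxV (coheight_eq_one_of_dim x hd1)


theorem htf_refPow (hX : Pi1.IsNormalScheme X) (F : X.Modules) (hF : RefHull.IsRef1 F) (n : ℕ)
    (x : X) : Module.IsTorsionFree (X.presheaf.stalk x) ((RefPow.refPow F n).presheaf.stalk x) :=
  isTorsionFree_of_isReflexiveAt hX _ (isReflexiveAt_of_isRef1 _ (isRef1_refPow hX F hF n)) x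

/-- sections over an open without the generic point are equal -/
theorem eq_of_genericPoint_notMem (M : X.Modules) (W : X.Opens) (hηW : genericPoint X ∉ W)
    (t t' : Γ(M, W)) : t = t' := by
  apply Groth.Agent.H2.HomSh.section_ext_germ
  intro x hx
  exact absurd (genericPoint_mem W ⟨x, hx⟩) hηW

/-- **(A')**: a function on `V ∩ U` times a high power of `s` extends to a section over `V` -/
theorem exists_extend (hX : Pi1.IsNormalScheme X) (F : X.Modules) (hF : RefHull.IsRef1 F)
    (s : Coh.structureModule X ⟶ F) (hη : genericPoint X ∈ CohB1.genLocus F s)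
    (V : X.Opens) (hV : IsCompact (V : Set X)) (V' : X.Opens) (hV'V : V' ≤ V)
    (hinf : V ⊓ CohB1.genLocus F s ≤ V') (b : Γ(X, V')) :
    ∃ N : ℕ, ∀ n : ℕ, N ≤ n → ∃ t : Γ(RefPow.refPow F n, V),
      (RefPow.refPow F n).presheaf.map (homOfLE hV'V).op t =
        b • secW s n V' := by
  by_cases hηV : genericPoint X ∈ V
  · have hηV' : genericPoint X ∈ V' := hinf ⟨hηV, hη⟩
    obtain ⟨N, hN⟩ := exists_section_pow hX F hF s hη V hV hηV
      (X.presheaf.germ V' (genericPoint X) hηV' b) (by
        intro x hxV hxU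
        have hxV' : x ∈ V' := hinf ⟨hxV, hxU⟩
        exact ⟨X.presheaf.germ V' x hxV' b, stalkSpecializes_sgerm (gspec x) V' hxV' b⟩)
    refine ⟨N, fun n hn => ?_⟩
    obtain ⟨t, ht⟩ := hN n hn
    refine ⟨t, ?_⟩
    haveI := (isRef1_refPow hX F hF n).1.1
    apply eq_of_germ_generic (RefPow.refPow F n) (htf_refPow hX F hF n) V' hηV'
    rw [germ_res (RefPow.refPow F n) (genericPoint X) hV'V hηV' t, ht, Mero.germ_smul,
      germ_secW]
  · refine ⟨0, fun n _ => ⟨0, ?_⟩⟩
    exact eq_of_genericPoint_notMem _ V' (fun h => hηV (hV'V h)) _ _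

/-- the legs are injective on sections: a section vanishing on `U` vanishes -/
theorem eq_zero_of_res_eq_zero (hX : Pi1.IsNormalScheme X) (F : X.Modules)
    (hF : RefHull.IsRef1 F) (n : ℕ) (V V' : X.Opens) (hV'V : V' ≤ V)
    (hηV' : genericPoint X ∈ V') (t : Γ(RefPow.refPow F n, V))
    (h : (RefPow.refPow F n).presheaf.map (homOfLE hV'V).op t = 0) : t = 0 := by
  haveI := (isRef1_refPow hX F hF n).1.1
  apply eq_zero_of_germ_generic (RefPow.refPow F n) (htf_refPow hX F hF n) V (hV'V hηV')
  rw [← germ_res (RefPow.refPow F n) (genericPoint X) hV'V hηV' t, h, map_zero]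

end Groth.Agent.H2.RefPowLib
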