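import Mathlib
import Groth.Agent.Lib.Helper2.RefPowExt
import Groth.Agent.Lib.Helper3.ColimSect
import Groth.Agent.Lib.Lead.QC.EpiLocal
import Groth.Agent.Lib.Lead.QC.SubExt

/-! The direct image of the structure sheaf of the generating locus of a section of a rank one
reflexive module is the colimit of the reflexive powers (S16150). -/

universe u
set_option autoImplicit false
set_option linter.style.haveILetI false
open CategoryTheory Limits AlgebraicGeometry TopologicalSpace Opposite IsLocalRing

namespace Groth.Agent.H2.RefPowLib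
open Groth.Agent.LD.QC Groth.Agent.H2.StalkSpec Groth.Agent.H2.SecOrd Groth.Agent.H2.RatExt
open Groth.Agent.H1.CDivKit Groth.Agent.H2.Weil

attribute [-instance] Groth.Agent.LD.QC.stalkModule

variable {X : Scheme.{u}} [IsIntegral X] [IsLocallyNoetherian X]

/-- the target `j_* O_U` -/
noncomputable abbrev target (U : X.Opens) : X.Modules :=
  (Scheme.Modules.pushforward U.ι).obj ((Coh.structureModule X).restrict U.ι)

theorem isIso_restrict_sPow (hX : Pi1.IsNormalScheme X) (F : X.Modules) (hF : RefHull.IsRef1 F)
    (s : Coh.structureModule X ⟶ F) (n : ℕ) :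
    IsIso ((Scheme.Modules.restrictFunctor (CohB1.genLocus F s).ι).map (RefPow.sPow s n)) :=
  (isIso_restrict_iff _ _).mpr ((le_genLocus_iff _ _ _).mp (le_genLocus_sPow hX F hF s n))

/-- the legs of the cocone -/
noncomputable def leg (hX : Pi1.IsNormalScheme X) (F : X.Modules) (hF : RefHull.IsRef1 F)
    (s : Coh.structureModule X ⟶ F) (n : ℕ) :
    RefPow.refPow F n ⟶ target (CohB1.genLocus F s) :=
  haveI := isIso_restrict_sPow hX F hF s n
  (Scheme.Modules.restrictAdjunction (CohB1.genLocus F s).ι).unit.app (RefPow.refPow F n) ≫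
    (Scheme.Modules.pushforward (CohB1.genLocus F s).ι).map
      (inv ((Scheme.Modules.restrictFunctor (CohB1.genLocus F s).ι).map (RefPow.sPow s n)))

theorem leg_succ (hX : Pi1.IsNormalScheme X) (F : X.Modules) (hF : RefHull.IsRef1 F)
    (s : Coh.structureModule X ⟶ F) (n : ℕ) :
    RefPow.mulBy s n ≫ leg hX F hF s (n + 1) = leg hX F hF s n := by
  haveI := isIso_restrict_sPow hX F hF s n
  haveI := isIso_restrict_sPow hX F hF s (n + 1)
  unfold leg
  have hnat := (Scheme.Modules.restrictAdjunction (CohB1.genLocus F s).ι).unit.naturality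
    (RefPow.mulBy s n)
  simp only [Functor.id_obj, Functor.id_map, Functor.comp_obj, Functor.comp_map] at hnat
  rw [← Category.assoc, hnat, Category.assoc, ← Functor.map_comp]
  congr 2
  rw [← cancel_epi ((Scheme.Modules.restrictFunctor (CohB1.genLocus F s).ι).map (RefPow.sPow s n)),
    IsIso.hom_inv_id, ← Category.assoc, ← Functor.map_comp, ← RefPow.sPow_succ, IsIso.hom_inv_id]


theorem leg_zero (hX : Pi1.IsNormalScheme X) (F : X.Modules) (hF : RefHull.IsRef1 F)
    (s : Coh.structureModule X ⟶ F) :
    leg hX F hF s 0 =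
      (Scheme.Modules.restrictAdjunction (CohB1.genLocus F s).ι).unit.app
        (Coh.structureModule X) := by
  have hi := isIso_restrict_sPow hX F hF s 0
  have h1 : inv ((Scheme.Modules.restrictFunctor (CohB1.genLocus F s).ι).map (RefPow.sPow s 0)) =
      𝟙 ((Scheme.Modules.restrictFunctor (CohB1.genLocus F s).ι).obj (Coh.structureModule X)) := by
    apply IsIso.inv_eq_of_hom_inv_id
    exact (Category.comp_id _).trans
      ((Scheme.Modules.restrictFunctor (CohB1.genLocus F s).ι).map_id (Coh.structureModule X))
  unfold leg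
  rw [h1]
  exact (congrArg (fun m => (Scheme.Modules.restrictAdjunction (CohB1.genLocus F s).ι).unit.app
    (Coh.structureModule X) ≫ m)
    ((Scheme.Modules.pushforward (CohB1.genLocus F s).ι).map_id _)).trans (Category.comp_id _)

/-- the section formula characterizing the legs -/
theorem leg_spec (hX : Pi1.IsNormalScheme X) (F : X.Modules) (hF : RefHull.IsRef1 F)
    (s : Coh.structureModule X ⟶ F) (n : ℕ) (V : X.Opens) (t : Γ(RefPow.refPow F n, V)) :
    (RefPow.sPow s n).app ((CohB1.genLocus F s).ι ''ᵁ ((CohB1.genLocus F s).ι ⁻¹ᵁ V))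
        ((leg hX F hF s n).app V t) =
      (RefPow.refPow F n).presheaf.map
        (homOfLE ((CohB1.genLocus F s).ι.image_preimage_le V)).op t := by
  have hi := isIso_restrict_sPow hX F hF s n
  have h1 := IsIso.inv_hom_id
    ((Scheme.Modules.restrictFunctor (CohB1.genLocus F s).ι).map (RefPow.sPow s n))
  have h2 := congrArg (fun ψ => ψ.app ((CohB1.genLocus F s).ι ⁻¹ᵁ V)
    ((RefPow.refPow F n).presheaf.map
        (homOfLE ((CohB1.genLocus F s).ι.image_preimage_le V)).op t)) h1
  exact h2

theorem image_preimage_eq (U V : X.Opens) : U.ι ''ᵁ (U.ι ⁻¹ᵁ V) = U ⊓ V := by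
  rw [Scheme.Hom.image_preimage_eq_opensRange_inf, Scheme.Opens.opensRange_ι]

/-- the cocone -/
noncomputable def legs (hX : Pi1.IsNormalScheme X) (F : X.Modules) (hF : RefHull.IsRef1 F)
    (s : Coh.structureModule X ⟶ F) :
    RefPow.diagram F s ⟶ (Functor.const ℕ).obj (target (CohB1.genLocus F s)) :=
  NatTrans.ofSequence (fun n => leg hX F hF s n) (fun n => by
    have h := leg_succ hX F hF s n
    have hm : (RefPow.diagram F s).map (homOfLE (n.le_add_right 1)) = RefPow.mulBy s n :=
      RefPow.diagram_map F s n
    rw [hm]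
    exact h.trans (Category.comp_id _).symm)

theorem legs_app (hX : Pi1.IsNormalScheme X) (F : X.Modules) (hF : RefHull.IsRef1 F)
    (s : Coh.structureModule X ⟶ F) (n : ℕ) : (legs hX F hF s).app n = leg hX F hF s n := rfl


/-- if the generic point is not in the generating locus, the section vanishes -/
theorem eq_zero_of_genericPoint_notMem (hX : Pi1.IsNormalScheme X) (F : X.Modules)
    (hF : RefHull.IsRef1 F) (s : Coh.structureModule X ⟶ F)
    (hη : genericPoint X ∉ CohB1.genLocus F s) : s = 0 := by
  haveI := hF.1.1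
  obtain ⟨W, ε, hηW, hε⟩ := exists_isBasisOver_of_isRef1 hX F hF (genericPoint X) (Or.inl rfl)
  obtain ⟨a, ha⟩ := (hε W le_rfl).2 (SecTwist.val s W)
  have hs : SecTwist.val s W = a • ε := by
    have ha' : a • F.presheaf.map (homOfLE (le_refl W)).op ε = SecTwist.val s W := ha
    rw [res_self] at ha'
    exact ha'.symm
  have hloc := genLocus_inf_eq_basicOpen s hε a hs
  have hηa : genericPoint X ∉ X.basicOpen a := by
    intro h
    rw [← hloc] at h
    exact hη h.1
  have ha0 : a = 0 := by
    by_contra hne
    apply hηa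
    rw [Scheme.mem_basicOpen X a (genericPoint X) hηW]
    have hne' : X.presheaf.germ W (genericPoint X) hηW a ≠ 0 := by
      intro h0
      apply hne
      apply germ_injective_of_isIntegral X (genericPoint X) hηW
      rw [h0, map_zero]
    letI : Field (X.presheaf.stalk (genericPoint X)) := inferInstanceAs (Field X.functionField)
    exact isUnit_iff_ne_zero.mpr hne'
  have hv0 : SecTwist.val s ⊤ = 0 := by
    apply eq_zero_of_germ_generic F
      (isTorsionFree_of_isReflexiveAt hX F (isReflexiveAt_of_isRef1 F hF)) ⊤ trivial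
    have h1 : F.presheaf.germ W (genericPoint X) hηW (SecTwist.val s W) =
        F.presheaf.germ ⊤ (genericPoint X) trivial (SecTwist.val s ⊤) := by
      rw [← SecTwist.map_val s (homOfLE (le_top : W ≤ ⊤))]
      exact germ_res F (genericPoint X) le_top hηW _
    rw [← h1, hs, ha0, zero_smul, map_zero]
  ext V b
  have h1 : s.app V b = b • SecTwist.val s V := unitHom_app F s V b
  have h2 : SecTwist.val s V = 0 := by
    rw [← SecTwist.map_val s (homOfLE (le_top : V ≤ ⊤)), hv0]
    exact map_zero _
  rw [h1, h2, smul_zero]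
  rfl

/-- multiplication by the zero section vanishes -/
theorem mulBy_zero_app (F : X.Modules) (n : ℕ) (V : X.Opens) (t : Γ(RefPow.refPow F n, V)) :
    (RefPow.mulBy (0 : Coh.structureModule X ⟶ F) n).app V t = 0 := by
  cases n with
  | zero => rfl
  | succ n =>
    rw [RefPow.mulBy_succ_app]
    have h0 : SecTwist.val (0 : Coh.structureModule X ⟶ F) V = (0 : Γ(X, V)) • (0 : Γ(F, V)) := by
      rw [smul_zero]
      rfl
    rw [h0, tmul_smul_right, zero_smul]
    exact map_zero _

end Groth.Agent.H2.RefPowLib
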