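import Mathlib
import Groth.Agent.Lib.Helper2.RefPowColim
import Groth.Agent.Lib.Helper1.CartierKit
import Groth.Agent.Lib.Helper1.CDivKit2

/-! S16151: affineness of the generating locus of a section of a rank one reflexive module. -/

universe u
set_option autoImplicit false
set_option linter.style.haveILetI false
open CategoryTheory Limits AlgebraicGeometry TopologicalSpace Opposite IsLocalRing

namespace Groth.Agent.H2.RefPowLib
open Groth.Agent.LD.QC Groth.Agent.H2.StalkSpec Groth.Agent.H2.SecOrd Groth.Agent.H2.RatExt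
open Groth.Agent.H1.CDivKit Groth.Agent.H2.Weil

attribute [-instance] Groth.Agent.LD.QC.stalkModule

variable {X : Scheme.{u}}

/-- an element of `m_x M_x` comes, up to a unit, from `𝔭 M(V)` -/
theorem exists_smul_mem_of_germ_mem (M : X.Modules) [M.IsQuasicoherent] {V : X.Opens}
    (hV : IsAffineOpen V) (x : X) (hx : x ∈ V) (z : M.presheaf.stalk x)
    (hz : z ∈ maximalIdeal (X.presheaf.stalk x) •
      (⊤ : Submodule (X.presheaf.stalk x) (M.presheaf.stalk x))) :
    ∃ (a : Γ(X, V)) (w : Γ(M, V)), a ∉ (hV.primeIdealOf ⟨x, hx⟩).asIdeal ∧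
      w ∈ (hV.primeIdealOf ⟨x, hx⟩).asIdeal • (⊤ : Submodule Γ(X, V) Γ(M, V)) ∧
      X.presheaf.germ V x hx a • z = M.presheaf.germ V x hx w := by
  letI : Algebra Γ(X, V) (X.presheaf.stalk x) :=
    TopCat.Presheaf.algebra_section_stalk X.presheaf ⟨x, hx⟩
  haveI := hV.isLocalization_stalk ⟨x, hx⟩
  letI := stalkΓModule M x V hx
  haveI := isLocalizedModule_germ M hV x hx
  refine Submodule.smul_induction_on hz ?_ ?_
  · intro r hr y _
    obtain ⟨⟨p, a1⟩, h1⟩ := IsLocalization.surj (hV.primeIdealOf ⟨x, hx⟩).asIdeal.primeCompl r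
    have h1' : r * X.presheaf.germ V x hx a1.1 = X.presheaf.germ V x hx p := h1
    have hp : p ∈ (hV.primeIdealOf ⟨x, hx⟩).asIdeal := by
      rw [Groth.Agent.H1.CartierKit.mem_primeIdealOf_iff hV x hx p, Scheme.mem_basicOpen X p x hx,
        ← h1']
      intro hu
      exact (IsLocalRing.mem_maximalIdeal _).mp hr (isUnit_of_mul_isUnit_left hu)
    obtain ⟨⟨w', a2⟩, h2⟩ := IsLocalizedModule.surj (hV.primeIdealOf ⟨x, hx⟩).asIdeal.primeCompl
      (germLinear M x V hx) y
    have h2' : X.presheaf.germ V x hx a2.1 • y = M.presheaf.germ V x hx w' := h2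
    refine ⟨a1.1 * a2.1, p • w', ?_, Submodule.smul_mem_smul hp trivial, ?_⟩
    · exact fun h => ((hV.primeIdealOf ⟨x, hx⟩).2.mem_or_mem h).elim a1.2 a2.2
    · rw [Mero.germ_smul, ← h1', ← h2', map_mul, smul_smul, smul_smul]
      congr 1
      ring
  · intro z1 z2 ih1 ih2
    obtain ⟨a1, w1, ha1, hw1, h1⟩ := ih1
    obtain ⟨a2, w2, ha2, hw2, h2⟩ := ih2
    refine ⟨a1 * a2, a2 • w1 + a1 • w2, ?_, ?_, ?_⟩
    · exact fun h => ((hV.primeIdealOf ⟨x, hx⟩).2.mem_or_mem h).elim ha1 ha2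
    · exact Submodule.add_mem _ (Submodule.smul_mem _ _ hw1) (Submodule.smul_mem _ _ hw2)
    · rw [map_add, Mero.germ_smul, Mero.germ_smul, ← h1, ← h2, map_mul, smul_add, smul_smul,
        smul_smul, mul_comm]


variable [IsIntegral X] [IsLocallyNoetherian X]

theorem basis_surj (hX : Pi1.IsNormalScheme X) (F : X.Modules) (hF : RefHull.IsRef1 F)
    (s : Coh.structureModule X ⟶ F) (W : X.Opens) (hW : W ≤ CohB1.genLocus F s) (n : ℕ)
    (t : Γ(RefPow.refPow F n, W)) : ∃ b : Γ(X, W), b • secW s n W = t := by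
  obtain ⟨b, hb⟩ := (isBasisOver_sPow hX F hF s W hW n W le_rfl).2 t
  refine ⟨b, ?_⟩
  have hb' : b • (RefPow.refPow F n).presheaf.map (homOfLE (le_refl W)).op
      (SecTwist.val (RefPow.sPow s n) W) = t := hb
  rw [res_self] at hb'
  exact hb'

theorem basis_inj (hX : Pi1.IsNormalScheme X) (F : X.Modules) (hF : RefHull.IsRef1 F)
    (s : Coh.structureModule X ⟶ F) (W : X.Opens) (hW : W ≤ CohB1.genLocus F s) (n : ℕ)
    (b b' : Γ(X, W)) (h : b • secW s n W = b' • secW s n W) : b = b' := by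
  apply (isBasisOver_sPow hX F hF s W hW n W le_rfl).1
  change b • (RefPow.refPow F n).presheaf.map (homOfLE (le_refl W)).op
      (SecTwist.val (RefPow.sPow s n) W) = b' • (RefPow.refPow F n).presheaf.map
      (homOfLE (le_refl W)).op (SecTwist.val (RefPow.sPow s n) W)
  rw [res_self]
  exact h

/-- (2) ⇒ (1), on an affine open -/
theorem isAffineOpen_inf (hX : Pi1.IsNormalScheme X) (F : X.Modules) (hF : RefHull.IsRef1 F)
    (s : Coh.structureModule X ⟶ F)
    (h2 : ∀ x : X, x ∉ CohB1.genLocus F s → ∃ n : ℕ, 0 < n ∧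
      RefPow.sPowGerm s n x ∈ IsLocalRing.maximalIdeal (X.presheaf.stalk x) •
        (⊤ : Submodule (X.presheaf.stalk x) ((RefPow.refPow F n).presheaf.stalk x)))
    (V : X.Opens) (hV : IsAffineOpen V) : IsAffineOpen (CohB1.genLocus F s ⊓ V) := by
  set W : X.Opens := CohB1.genLocus F s ⊓ V with hWdef
  have hWV : W ≤ V := inf_le_right
  have hWG : W ≤ CohB1.genLocus F s := inf_le_left
  let ρ : Γ(X, V) →+* Γ(X, W) := (X.presheaf.map (homOfLE hWV).op).hom
  apply isAffineOpen_of_isAffineOpen_basicOpen W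
    {f : Γ(X, W) | ∃ a : Γ(X, V), X.basicOpen a ≤ W ∧ f = ρ a}
  · by_contra hne
    obtain ⟨𝔪, hmax, hle⟩ := Ideal.exists_le_maximal _ hne
    haveI := hmax.isPrime
    let P : Spec Γ(X, V) := ⟨𝔪.comap ρ, inferInstance⟩
    have hxV : hV.fromSpec P ∈ V := Groth.Agent.LD.QC.fromSpec_mem hV P
    have hP : hV.primeIdealOf ⟨hV.fromSpec P, hxV⟩ = P := Groth.Agent.LD.QC.primeIdealOf_fromSpec hV P hxV
    set x : X := hV.fromSpec P with hx
    have hPi : ∀ a : Γ(X, V), a ∈ (hV.primeIdealOf ⟨x, hxV⟩).asIdeal ↔ ρ a ∈ 𝔪 := by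
      intro a
      rw [hP]
      rfl
    have hxG : x ∉ CohB1.genLocus F s := by
      intro hxG
      obtain ⟨a, haW, hxa⟩ := hV.exists_basicOpen_le (⟨x, ⟨hxG, hxV⟩⟩ : W) hxV
      have h1 : ρ a ∈ 𝔪 := hle (Ideal.subset_span ⟨a, haW, rfl⟩)
      rw [← hPi, Groth.Agent.H1.CartierKit.mem_primeIdealOf_iff hV x hxV a] at h1
      exact h1 hxa
    obtain ⟨n, -, hgerm⟩ := h2 x hxG
    haveI := (isRef1_refPow hX F hF n).1.1
    have hgerm' : (RefPow.refPow F n).presheaf.germ V x hxV (secW s n V) ∈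
        IsLocalRing.maximalIdeal (X.presheaf.stalk x) •
        (⊤ : Submodule (X.presheaf.stalk x) ((RefPow.refPow F n).presheaf.stalk x)) := by
      rw [germ_secW]
      exact hgerm
    obtain ⟨a, w, ha, hw, hEq⟩ :=
      exists_smul_mem_of_germ_mem (RefPow.refPow F n) hV x hxV _ hgerm'
    -- clear the denominator
    obtain ⟨c, hc, hcw⟩ : ∃ c : Γ(X, V), c ∉ (hV.primeIdealOf ⟨x, hxV⟩).asIdeal ∧
        c • (a • secW s n V) = c • w := by
      letI := stalkΓModule (RefPow.refPow F n) x V hxV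
      haveI := isLocalizedModule_germ (RefPow.refPow F n) hV x hxV
      have h1 : germLinear (RefPow.refPow F n) x V hxV (a • secW s n V) =
          germLinear (RefPow.refPow F n) x V hxV w := by
        rw [germLinear_apply, germLinear_apply, Mero.germ_smul]
        exact hEq
      obtain ⟨c, hc⟩ := (IsLocalizedModule.eq_iff_exists
        (hV.primeIdealOf ⟨x, hxV⟩).asIdeal.primeCompl
        (germLinear (RefPow.refPow F n) x V hxV)).mp h1
      exact ⟨c.1, c.2, hc⟩
    -- elements of `𝔭 M` restrict to `𝔪`-multiples of the basis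
    have key : ∀ w' ∈ (hV.primeIdealOf ⟨x, hxV⟩).asIdeal •
        (⊤ : Submodule Γ(X, V) Γ(RefPow.refPow F n, V)),
        ∃ b ∈ 𝔪, (RefPow.refPow F n).presheaf.map (homOfLE hWV).op w' = b • secW s n W := by
      intro w' hw'
      refine Submodule.smul_induction_on hw' ?_ ?_
      · intro q hq t _
        obtain ⟨b', hb'⟩ := basis_surj hX F hF s W hWG n
          ((RefPow.refPow F n).presheaf.map (homOfLE hWV).op t)
        refine ⟨ρ q * b', 𝔪.mul_mem_right _ ((hPi q).mp hq), ?_⟩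
        rw [Scheme.Modules.map_smul, ← hb', smul_smul]
      · rintro w1 w2 ⟨b1, hb1, h1⟩ ⟨b2, hb2, h2⟩
        exact ⟨b1 + b2, 𝔪.add_mem hb1 hb2, by rw [map_add, h1, h2, add_smul]⟩
    obtain ⟨b, hb, hres⟩ := key (c • w) (Submodule.smul_mem _ _ hw)
    rw [← hcw, smul_smul, Scheme.Modules.map_smul, secW_res] at hres
    have hb' : ρ (c * a) = b := basis_inj hX F hF s W hWG n _ _ hres
    have hca : c * a ∈ (hV.primeIdealOf ⟨x, hxV⟩).asIdeal := by
      rw [hPi, hb']
      exact hb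
    exact ((hV.primeIdealOf ⟨x, hxV⟩).2.mem_or_mem hca).elim hc ha
  · rintro _ ⟨a, ha, rfl⟩
    have h1 : X.basicOpen (ρ a) = W ⊓ X.basicOpen a := Scheme.basicOpen_res X a (homOfLE hWV).op
    rw [h1, inf_eq_right.mpr ha]
    exact hV.basicOpen a


/-- (1) ⇒ (2), on an affine open -/
theorem germ_mem_of_isAffineOpen (hX : Pi1.IsNormalScheme X) (F : X.Modules)
    (hF : RefHull.IsRef1 F) (s : Coh.structureModule X ⟶ F)
    (hη : genericPoint X ∈ CohB1.genLocus F s) (V : X.Opens) (hV : IsAffineOpen V)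
    (hW : IsAffineOpen (CohB1.genLocus F s ⊓ V)) (x : X) (hxV : x ∈ V)
    (hxG : x ∉ CohB1.genLocus F s) :
    ∃ n : ℕ, 0 < n ∧
      RefPow.sPowGerm s n x ∈ IsLocalRing.maximalIdeal (X.presheaf.stalk x) •
        (⊤ : Submodule (X.presheaf.stalk x) ((RefPow.refPow F n).presheaf.stalk x)) := by
  set W : X.Opens := CohB1.genLocus F s ⊓ V with hWdef
  have hWV : W ≤ V := inf_le_right
  have hWG : W ≤ CohB1.genLocus F s := inf_le_left
  have hηW : genericPoint X ∈ W := ⟨hη, genericPoint_mem V ⟨x, hxV⟩⟩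
  let ρ : Γ(X, V) →+* Γ(X, W) := (X.presheaf.map (homOfLE hWV).op).hom
  -- the prime of `x` generates the unit ideal over `W`
  have claim1 : Ideal.map ρ (hV.primeIdealOf ⟨x, hxV⟩).asIdeal = ⊤ := by
    by_contra hne
    obtain ⟨𝔪, hmax, hle⟩ := Ideal.exists_le_maximal _ hne
    let P : Spec Γ(X, W) := ⟨𝔪, hmax.isPrime⟩
    have hyW : hW.fromSpec P ∈ W := Groth.Agent.LD.QC.fromSpec_mem hW P
    have hP : hW.primeIdealOf ⟨hW.fromSpec P, hyW⟩ = P :=
      Groth.Agent.LD.QC.primeIdealOf_fromSpec hW P hyW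
    set y : X := hW.fromSpec P with hy
    obtain ⟨f, hfW, hyf⟩ := hV.exists_basicOpen_le (⟨y, hyW⟩ : W) (hWV hyW)
    have hxf : x ∉ X.basicOpen f := fun h => hxG (hWG (hfW h))
    have hfp : f ∈ (hV.primeIdealOf ⟨x, hxV⟩).asIdeal :=
      (Groth.Agent.H1.CartierKit.mem_primeIdealOf_iff hV x hxV f).mpr hxf
    have h1 : ρ f ∈ 𝔪 := hle (Ideal.mem_map_of_mem ρ hfp)
    have h2 : ρ f ∈ (hW.primeIdealOf ⟨y, hyW⟩).asIdeal := by
      rw [hP]
      exact h1
    rw [Groth.Agent.H1.CartierKit.mem_primeIdealOf_iff hW y hyW] at h2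
    apply h2
    have h3 : X.basicOpen (ρ f) = W ⊓ X.basicOpen f := Scheme.basicOpen_res X f (homOfLE hWV).op
    rw [h3]
    exact ⟨hyW, hyf⟩
  letI : Algebra Γ(X, V) Γ(X, W) := ρ.toAlgebra
  have claim2 : ∀ b ∈ (hV.primeIdealOf ⟨x, hxV⟩).asIdeal • (⊤ : Submodule Γ(X, V) Γ(X, W)),
      ∃ N : ℕ, ∀ n : ℕ, N ≤ n → ∃ t : Γ(RefPow.refPow F n, V),
        (RefPow.refPow F n).presheaf.germ V x hxV t ∈
          IsLocalRing.maximalIdeal (X.presheaf.stalk x) •
          (⊤ : Submodule (X.presheaf.stalk x) ((RefPow.refPow F n).presheaf.stalk x)) ∧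
        (RefPow.refPow F n).presheaf.map (homOfLE hWV).op t = b • secW s n W := by
    intro b hb
    refine Submodule.smul_induction_on hb ?_ ?_
    · intro p hp b' _
      obtain ⟨N, hN⟩ := exists_extend hX F hF s hη V hV.isCompact W hWV
        (le_of_eq (inf_comm _ _)) b'
      refine ⟨N, fun n hn => ?_⟩
      obtain ⟨t', ht'⟩ := hN n hn
      refine ⟨p • t', ?_, ?_⟩
      · rw [Mero.germ_smul]
        have hpm : X.presheaf.germ V x hxV p ∈ IsLocalRing.maximalIdeal (X.presheaf.stalk x) := by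
          rw [IsLocalRing.mem_maximalIdeal, mem_nonunits_iff,
            ← Scheme.mem_basicOpen X p x hxV]
          exact (Groth.Agent.H1.CartierKit.mem_primeIdealOf_iff hV x hxV p).mp hp
        exact Submodule.smul_mem_smul hpm Submodule.mem_top
      · rw [Scheme.Modules.map_smul, ht', smul_smul]
        rfl
    · rintro b1 b2 ⟨N1, h1⟩ ⟨N2, h2⟩
      refine ⟨max N1 N2, fun n hn => ?_⟩
      obtain ⟨t1, ht1, hr1⟩ := h1 n ((le_max_left _ _).trans hn)
      obtain ⟨t2, ht2, hr2⟩ := h2 n ((le_max_right _ _).trans hn)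
      refine ⟨t1 + t2, ?_, ?_⟩
      · rw [map_add]
        exact Submodule.add_mem _ ht1 ht2
      · rw [map_add, hr1, hr2, add_smul]
  have h1 : (1 : Γ(X, W)) ∈ (hV.primeIdealOf ⟨x, hxV⟩).asIdeal •
      (⊤ : Submodule Γ(X, V) Γ(X, W)) := by
    rw [Ideal.smul_top_eq_map]
    change (1 : Γ(X, W)) ∈ Ideal.map ρ (hV.primeIdealOf ⟨x, hxV⟩).asIdeal
    rw [claim1]
    trivial
  obtain ⟨N, hN⟩ := claim2 1 h1
  obtain ⟨t, htm, htres⟩ := hN (N + 1) (Nat.le_succ N)
  refine ⟨N + 1, Nat.succ_pos N, ?_⟩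
  have ht : t = secW s (N + 1) V := by
    rw [← sub_eq_zero]
    apply eq_zero_of_res_eq_zero hX F hF (N + 1) V W hWV hηW
    rw [map_sub, htres, one_smul, secW_res, sub_self]
  rw [ht, germ_secW] at htm
  exact htm


/-- **S16151** -/
theorem s16151 (X : Scheme.{u}) [IsIntegral X] [IsLocallyNoetherian X]
    (hX : Pi1.IsNormalScheme X) (F : X.Modules) (hF : RefHull.IsRef1 F)
    (s : Coh.structureModule X ⟶ F)
    (U : X.Opens) (hU : (U : Set X) = RefPow.isoLocus s) :
    IsAffineHom U.ι ↔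
      ∀ x : X, x ∉ U → ∃ n : ℕ, 0 < n ∧
        RefPow.sPowGerm s n x ∈ IsLocalRing.maximalIdeal (X.presheaf.stalk x) •
          (⊤ : Submodule (X.presheaf.stalk x) ((RefPow.refPow F n).presheaf.stalk x)) := by
  obtain rfl := eq_genLocus F hF.1 s U hU
  by_cases hη : genericPoint X ∈ CohB1.genLocus F s
  · constructor
    · intro hAff x hxG
      obtain ⟨V, hV, hxV, -⟩ := exists_isAffineOpen_mem_and_subset (x := x) (U := ⊤) trivial
      have hW : IsAffineOpen (CohB1.genLocus F s ⊓ V) := by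
        have h1 := hAff.isAffine_preimage V hV
        have h2 := h1.image_of_isOpenImmersion (CohB1.genLocus F s).ι
        rwa [image_preimage_eq] at h2
      exact germ_mem_of_isAffineOpen hX F hF s hη V hV hW x hxV hxG
    · intro h2
      constructor
      intro V hV
      rw [← (CohB1.genLocus F s).ι.isAffineOpen_iff_of_isOpenImmersion, image_preimage_eq]
      exact isAffineOpen_inf hX F hF s h2 V hV
  · have hs := eq_zero_of_genericPoint_notMem hX F hF s hη
    have hempty : ∀ x : X, x ∉ CohB1.genLocus F s :=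
      fun x hx => hη (genericPoint_mem _ ⟨x, hx⟩)
    constructor
    · intro _ x _
      refine ⟨1, Nat.one_pos, ?_⟩
      have h0 : RefPow.sPowGerm s 1 x = 0 := by
        change (RefPow.refPow F 1).presheaf.germ ⊤ x trivial
          (SecTwist.val (RefPow.sPow s 1) ⊤) = 0
        rw [RefPow.sPow_one, hs]
        exact map_zero _
      rw [h0]
      exact Submodule.zero_mem _
    · intro _
      constructor
      intro V hV
      have h1 : (CohB1.genLocus F s).ι ⁻¹ᵁ V = ⊥ := by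
        ext y
        exact iff_of_false (fun _ => hempty y.1 y.2) (fun h => h)
      rw [h1]
      exact isAffineOpen_bot _

end Groth.Agent.H2.RefPowLib
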