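import Mathlib
import Groth.Agent.Lib.Helper2.RefPowColim

/-! S16150: the colimit property. -/

universe u
set_option autoImplicit false
set_option linter.style.haveILetI false
open CategoryTheory Limits AlgebraicGeometry TopologicalSpace Opposite IsLocalRing

namespace Groth.Agent.H2.RefPowLib
open Groth.Agent.LD.QC Groth.Agent.H2.StalkSpec Groth.Agent.H2.SecOrd Groth.Agent.H2.RatExt
open Groth.Agent.H1.CDivKit Groth.Agent.H2.Weil Groth.Agent.H3.ColimSect

attribute [-instance] Groth.Agent.LD.QC.stalkModule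

variable {X : Scheme.{u}} [IsIntegral X] [IsLocallyNoetherian X]

/-- the index category in the right universe -/
noncomputable abbrev eU : ULift.{u} ℕ ≌ ℕ := (ULift.orderIso.{u} : ULift.{u} ℕ ≃o ℕ).equivalence

/-- the reindexed diagram -/
noncomputable abbrev dgm (F : X.Modules) (s : Coh.structureModule X ⟶ F) :
    ULift.{u} ℕ ⥤ X.Modules := eU.functor ⋙ RefPow.diagram F s

/-- the reindexed cocone -/
noncomputable abbrev ccn (hX : Pi1.IsNormalScheme X) (F : X.Modules) (hF : RefHull.IsRef1 F)
    (s : Coh.structureModule X ⟶ F) : Cocone (dgm F s) :=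
  (Cocone.mk _ (legs hX F hF s)).whisker eU.functor

/-- the comparison map -/
noncomputable abbrev dsc (hX : Pi1.IsNormalScheme X) (F : X.Modules) (hF : RefHull.IsRef1 F)
    (s : Coh.structureModule X ⟶ F) : colimit (dgm F s) ⟶ target (CohB1.genLocus F s) :=
  colimit.desc (dgm F s) (ccn hX F hF s)

theorem dsc_ι_app (hX : Pi1.IsNormalScheme X) (F : X.Modules) (hF : RefHull.IsRef1 F)
    (s : Coh.structureModule X ⟶ F) (j : ULift.{u} ℕ) (W : X.Opens)
    (t : Γ((dgm F s).obj j, W)) :
    (dsc hX F hF s).app W ((colimit.ι (dgm F s) j).app W t) = (leg hX F hF s j.down).app W t := by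
  have h := colimit.ι_desc (ccn hX F hF s) j
  exact congrArg (fun ψ => ψ.app W t) h

theorem dgm_map_succ (F : X.Modules) (s : Coh.structureModule X ⟶ F) (n : ℕ)
    (h : (ULift.up n : ULift.{u} ℕ) ≤ ULift.up (n + 1)) :
    (dgm F s).map (homOfLE h) = RefPow.mulBy s n := by
  have h1 : eU.functor.map (homOfLE h) = homOfLE (Nat.le_succ n) := Subsingleton.elim _ _
  change (RefPow.diagram F s).map (eU.functor.map (homOfLE h)) = _
  exact (congrArg (RefPow.diagram F s).map h1).trans (RefPow.diagram_map F s n)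


/-- sections of the stages killed by the legs die in the colimit -/
theorem ι_eq_zero_of_leg_eq_zero (hX : Pi1.IsNormalScheme X) (F : X.Modules)
    (hF : RefHull.IsRef1 F) (s : Coh.structureModule X ⟶ F) (j : ULift.{u} ℕ) (W : X.Opens)
    (x : X) (hxW : x ∈ W) (t : Γ((dgm F s).obj j, W))
    (h : (leg hX F hF s j.down).app W t = 0) : (colimit.ι (dgm F s) j).app W t = 0 := by
  by_cases hη : genericPoint X ∈ CohB1.genLocus F s
  · have ht : t = 0 := by
      have hηW : genericPoint X ∈ W := genericPoint_mem W ⟨x, hxW⟩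
      apply eq_zero_of_res_eq_zero hX F hF j.down W
        ((CohB1.genLocus F s).ι ''ᵁ ((CohB1.genLocus F s).ι ⁻¹ᵁ W))
        ((CohB1.genLocus F s).ι.image_preimage_le W)
        (by rw [image_preimage_eq]; exact ⟨hη, hηW⟩) t
      rw [← leg_spec hX F hF s j.down W t, h]
      exact map_zero _
    rw [ht]
    exact map_zero _
  · have hs := eq_zero_of_genericPoint_notMem hX F hF s hη
    have hle : j ≤ ULift.up (j.down + 1) := Nat.le_succ j.down
    rw [← ι_map_homOfLE (dgm F s) hle W t]
    have hm : (dgm F s).map (homOfLE hle) = RefPow.mulBy s j.down := dgm_map_succ F s j.down hle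
    have h0 : ((dgm F s).map (homOfLE hle)).app W t = 0 := by
      rw [hm]
      subst hs
      exact mulBy_zero_app F j.down W t
    rw [h0]
    exact map_zero _

theorem mono_dsc (hX : Pi1.IsNormalScheme X) (F : X.Modules) (hF : RefHull.IsRef1 F)
    (s : Coh.structureModule X ⟶ F) : Mono (dsc hX F hF s) := by
  apply mono_of_injective_app
  intro W
  rw [injective_iff_map_eq_zero ((dsc hX F hF s).app W).hom]
  intro ζ hζ
  apply Groth.Agent.H2.HomSh.section_ext_germ
  intro x hx
  obtain ⟨j, W', hW', hxW', t, ht⟩ := exists_local_lift (dgm F s) x W hx ζ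
  have h1 : (leg hX F hF s j.down).app W' t = 0 := by
    rw [← dsc_ι_app hX F hF s j W' t, ht, app_res]
    have hζ' : (dsc hX F hF s).app W ζ = 0 := hζ
    rw [hζ']
    exact map_zero _
  have h2 := ι_eq_zero_of_leg_eq_zero hX F hF s j W' x hxW' t h1
  rw [← germ_res (colimit (dgm F s)) x hW' hxW' ζ, ← ht, h2, map_zero, map_zero]


theorem epi_dsc (hX : Pi1.IsNormalScheme X) (F : X.Modules) (hF : RefHull.IsRef1 F)
    (s : Coh.structureModule X ⟶ F) : Epi (dsc hX F hF s) := by
  apply epi_of_local_lift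
  intro W b x hx
  obtain ⟨V, hV, hxV, hVW⟩ := exists_isAffineOpen_mem_and_subset (x := x) (U := W) hx
  have hVW' : V ≤ W := hVW
  set V' : X.Opens := (CohB1.genLocus F s).ι ''ᵁ ((CohB1.genLocus F s).ι ⁻¹ᵁ V) with hV'
  have hV'eq : V' = CohB1.genLocus F s ⊓ V := image_preimage_eq _ V
  let b' : Γ(X, V') := (target (CohB1.genLocus F s)).presheaf.map (homOfLE hVW').op b
  by_cases hη : genericPoint X ∈ CohB1.genLocus F s
  · obtain ⟨N, hN⟩ := exists_extend hX F hF s hη V hV.isCompact V'
      ((CohB1.genLocus F s).ι.image_preimage_le V) (by rw [hV'eq, inf_comm]) b'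
    obtain ⟨t, ht⟩ := hN N le_rfl
    refine ⟨V, hVW', hxV, (colimit.ι (dgm F s) (ULift.up N)).app V t, ?_⟩
    rw [dsc_ι_app hX F hF s (ULift.up N) V t]
    have hbij := (le_genLocus_iff _ _ _).mp (le_genLocus_sPow hX F hF s N) V'
      (by rw [hV'eq]; exact inf_le_left)
    apply hbij.1
    rw [leg_spec hX F hF s N V t, ht]
    exact (sPow_app s N V' b').symm
  · refine ⟨V, hVW', hxV, 0, ?_⟩
    have hηV' : genericPoint X ∉ V' := by
      rw [hV'eq]
      exact fun h => hη h.1
    have h0 : (dsc hX F hF s).app V 0 = 0 := map_zero _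
    rw [h0]
    exact eq_of_genericPoint_notMem (Coh.structureModule X) V' hηV' (0 : Γ(X, V')) b'

/-- **S16150**, for the generating locus -/
theorem isColimit_legs (hX : Pi1.IsNormalScheme X) (F : X.Modules) (hF : RefHull.IsRef1 F)
    (s : Coh.structureModule X ⟶ F) :
    Nonempty (IsColimit (Cocone.mk _ (legs hX F hF s))) := by
  haveI := mono_dsc hX F hF s
  haveI := epi_dsc hX F hF s
  haveI : IsIso (dsc hX F hF s) := isIso_of_mono_of_epi _
  haveI : IsIso ((colimit.isColimit (dgm F s)).desc (ccn hX F hF s)) :=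
    inferInstanceAs (IsIso (dsc hX F hF s))
  have h1 : IsColimit (ccn hX F hF s) := IsColimit.ofPointIso (colimit.isColimit (dgm F s))
  exact ⟨IsColimit.ofWhiskerEquivalence eU h1⟩

/-- **S16150** -/
theorem s16150 (X : Scheme.{u}) [IsIntegral X] [IsLocallyNoetherian X]
    (hX : Pi1.IsNormalScheme X) (F : X.Modules) (hF : RefHull.IsRef1 F)
    (s : Coh.structureModule X ⟶ F)
    (U : X.Opens) (hU : (U : Set X) = RefPow.isoLocus s) :
    ∃ ι : RefPow.diagram F s ⟶ (Functor.const ℕ).obj
        ((Scheme.Modules.pushforward U.ι).obj ((Coh.structureModule X).restrict U.ι)),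
      ι.app 0 = (Scheme.Modules.restrictAdjunction U.ι).unit.app (Coh.structureModule X) ∧
        Nonempty (IsColimit (Cocone.mk _ ι)) := by
  obtain rfl := eq_genLocus F hF.1 s U hU
  exact ⟨legs hX F hF s, leg_zero hX F hF s, isColimit_legs hX F hF s⟩

end Groth.Agent.H2.RefPowLib
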