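import Mathlib
import Groth.Agent.Lib.Helper2.HomSh5
import Groth.Agent.Lib.Helper1.ReflFree
import Groth.Agent.Lib.Helper1.CohLen

/-!
# Reflexive coherent modules on regular schemes (helper2): S16488
-/

set_option autoImplicit false
set_option linter.style.haveILetI false
universe u
open CategoryTheory Limits AlgebraicGeometry TopologicalSpace Opposite

namespace Groth.Agent.H2.RefSch

open Groth.Agent.LD.QC

attribute [-instance] Groth.Agent.LD.QC.stalkModule

lemma le_two_of_not_three_le (d : WithBot ℕ∞) (h : ¬ (3 : WithBot ℕ∞) ≤ d) : d ≤ 2 := by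
  induction d using WithBot.recBotCoe with
  | bot => exact bot_le
  | coe n =>
    induction n using ENat.recTopCoe with
    | top => exact absurd (by exact_mod_cast le_top) h
    | coe m =>
      have h' : ¬ (3 : ℕ) ≤ m := by
        intro h2
        apply h
        change ((3 : ℕ∞) : WithBot ℕ∞) ≤ ((m : ℕ∞) : WithBot ℕ∞)
        rw [WithBot.coe_le_coe]
        exact_mod_cast h2
      have h2 : m ≤ 2 := by omega
      change ((m : ℕ∞) : WithBot ℕ∞) ≤ ((2 : ℕ∞) : WithBot ℕ∞)
      rw [WithBot.coe_le_coe]
      exact_mod_cast h2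

variable {X : Scheme.{u}}

/-- **S16488** -/
theorem s16488 [IsLocallyNoetherian X]
    (hreg : ∀ x : X, IsRegularLocalRing (X.presheaf.stalk x)) (F : X.Modules) (hF : Coh.IsCoh F)
    (hrefl : RefHull.IsReflexive F) (x : X)
    (hx : ¬ Module.Free (X.presheaf.stalk x) (F.presheaf.stalk x)) :
    (3 : WithBot ℕ∞) ≤ ringKrullDim (X.presheaf.stalk x) := by
  by_contra hdim
  apply hx
  haveI := hreg x
  haveI : F.IsQuasicoherent := hF.1
  haveI : Module.Finite (X.presheaf.stalk x) (F.presheaf.stalk x) :=
    Groth.Agent.H1.CohLen.finite_stalk F hF.2 x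
  haveI : Module.IsReflexive (X.presheaf.stalk x) (F.presheaf.stalk x) :=
    (HomSh.isReflexive_iff_stalk hF).mp hrefl x
  exact Groth.Agent.H1.ReflFree.free_of_isReflexive (X.presheaf.stalk x)
    (le_two_of_not_three_le _ hdim) (F.presheaf.stalk x)

end Groth.Agent.H2.RefSch
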