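import Mathlib
import Groth.Agent.Lib.Helper2.HomSh5
import Groth.Agent.Lib.Helper2.ClosedPt
import Groth.Agent.Lib.Lead.QC.Closure
import Groth.Agent.Lib.Lead.QC.Coh
import Groth.Agent.Lib.Lead.QC.Support

/-!
# Reflexivity can be tested at closed points (helper2): S16080
-/

set_option autoImplicit false
set_option linter.style.haveILetI false
universe u
open CategoryTheory Limits AlgebraicGeometry TopologicalSpace Opposite

namespace Groth.Agent.H2.RefSch

open Groth.Agent.LD.QC

attribute [-instance] Groth.Agent.LD.QC.stalkModule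

variable {X : Scheme.{u}} {F : X.Modules}

/-- bijectivity of the stalk maps of a morphism of coherent modules spreads from closed points -/
theorem bijective_stalkMap_of_closed [IsLocallyNoetherian X] {F G : X.Modules} (φ : F ⟶ G)
    (hF : Coh.IsCoh F) (hG : Coh.IsCoh G)
    (h : ∀ y : X, IsClosed ({y} : Set X) → Function.Bijective (RefHull.stalkMapₗ φ y)) (x : X) :
    Function.Bijective (RefHull.stalkMapₗ φ x) := by
  have hK : (kernel φ).IsQuasicoherent := qc_kernel φ hF.1 hG.1
  have hC : (cokernel φ).IsQuasicoherent := qc_cokernel φ hF.1 hG.1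
  have hKft : (kernel φ).IsFiniteType := isFiniteType_of_mono (kernel.ι φ) hK hF.1 hF.2
  have hCft : (cokernel φ).IsFiniteType := isFiniteType_of_epi (cokernel.π φ) hG.1 hC hG.2
  have h1 := isClosed_support_of_isFiniteType (kernel φ) hKft
  have h2 := isClosed_support_of_isFiniteType (cokernel φ) hCft
  obtain ⟨y, hxy, hy⟩ := ClosedPt.exists_isClosed_specializes X x
  have hby := h y hy
  constructor
  · rw [IsoLocus.injective_iff]
    by_contra hcon
    have : y ∈ {x : X | ¬ Subsingleton ((kernel φ).presheaf.stalk x)} := hxy.mem_closed h1 hcon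
    exact this ((IsoLocus.injective_iff φ y).mp hby.1)
  · rw [IsoLocus.surjective_iff φ hF.1 hG.1]
    by_contra hcon
    have : y ∈ {x : X | ¬ Subsingleton ((cokernel φ).presheaf.stalk x)} := hxy.mem_closed h2 hcon
    exact this ((IsoLocus.surjective_iff φ hF.1 hG.1 y).mp hby.2)

/-- reflexivity of the stalks at closed points implies reflexivity of all stalks -/
theorem isReflexiveAt_of_closed [IsLocallyNoetherian X] (hF : Coh.IsCoh F)
    (h : ∀ y : X, IsClosed ({y} : Set X) → RefHull.IsReflexiveAt F y) (x : X) :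
    RefHull.IsReflexiveAt F x := by
  rw [← HomSh.stalkMap_bidualMap_bijective_iff hF x]
  apply bijective_stalkMap_of_closed (RefHull.bidualMap F) hF (HomSh.isCoh_ddual hF)
  intro y hy
  rw [HomSh.stalkMap_bidualMap_bijective_iff hF y]
  exact h y hy

/-- **S16080** -/
theorem s16080 [IsLocallyNoetherian X] (hF : Coh.IsCoh F) :
    [RefHull.IsReflexive F, ∀ x : ↥X, RefHull.IsReflexiveAt F x,
      ∀ x : ↥X, IsClosed ({x} : Set ↥X) → RefHull.IsReflexiveAt F x].TFAE := by
  tfae_have 1 ↔ 2 := HomSh.isReflexive_iff_stalk hF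
  tfae_have 2 → 3 := fun h x _ => h x
  tfae_have 3 → 2 := fun h x => isReflexiveAt_of_closed hF h x
  tfae_finish

end Groth.Agent.H2.RefSch
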