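import Mathlib
import Groth.Agent.Lib.Helper2.HomSh5
import Groth.Agent.Lib.Helper2.RankOneUFD
import Groth.Agent.Lib.Helper2.RankStalk
import Groth.Agent.Lib.Helper3.CA.ABufd2

/-! S16491: rank one reflexive coherent modules on regular integral schemes are invertible. -/

universe u
set_option autoImplicit false
open CategoryTheory Limits AlgebraicGeometry TopologicalSpace Opposite

namespace Groth.Agent.H2.RefSch
open Groth.Agent.LD.QC

variable {X : Scheme.{u}}

attribute [-instance] Groth.Agent.LD.QC.stalkModule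

theorem s16491 [IsIntegral X] [IsLocallyNoetherian X]
    (hreg : ∀ x : X, IsRegularLocalRing (X.presheaf.stalk x)) (F : X.Modules) (hF : Coh.IsCoh F)
    (hrefl : RefHull.IsReflexive F) (hrk : RefHull.GenInvertible F) :
    PicF.IsInvertible F := by
  haveI : F.IsQuasicoherent := hF.1
  have hFP : F.IsFinitePresentation := isFinitePresentation_of_qc_ft F hF.1 hF.2
  have hft : F.IsFiniteType := inferInstance
  have hstalk := (Groth.Agent.H2.HomSh.isReflexive_iff_stalk hF).mp hrefl
  rw [isInvertible_iff]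
  intro x
  haveI := hreg x
  obtain ⟨hdom, hufd⟩ := Groth.Agent.H3.ABufd.main (X.presheaf.stalk x)
  haveI := hdom
  haveI := hufd
  have h1 := Groth.Agent.H2.RankStalk.finrank_stalk_eq_one F hrk x
  obtain ⟨U₁, hU₁, hxU₁, -⟩ := exists_isAffineOpen_mem_and_subset (x := x) (U := ⊤) trivial
  haveI : Module.Finite (X.presheaf.stalk x) (F.presheaf.stalk x) :=
    finite_stalk_of_finite_sections F hU₁ x hxU₁ (finite_sections_of_isFiniteType F hft hU₁)
  haveI : Module.IsReflexive (X.presheaf.stalk x) (F.presheaf.stalk x) := hstalk x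
  obtain ⟨ℓ⟩ := Groth.Agent.H2.RankOneUFD.nonempty_equiv_of_isReflexive (X.presheaf.stalk x)
    (F.presheaf.stalk x) h1
  have hfree : Module.Free (X.presheaf.stalk x) (F.presheaf.stalk x) := Module.Free.of_equiv ℓ.symm
  obtain ⟨V, n, hxV, ⟨e⟩⟩ := exists_restrict_iso_freeMod_of_flat_stalk F hFP x
    (@Module.Flat.of_free _ _ _ _ _ hfree)
  have hn : n = 1 := by
    rw [← Groth.Agent.H2.RankStalk.finrank_stalk_of_iso_freeMod F V n e x hxV, h1]
  subst hn
  exact ⟨V, hxV, ⟨e⟩⟩

end Groth.Agent.H2.RefSch
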