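import Mathlib
import Groth.Prelude.Def_Wider
import Groth.Agent.Lib.Helper6.CodepthOpen
import Groth.Agent.Lib.Helper6.Liai2
import Groth.Agent.Lib.Helper6.Liai1
import Groth.Agent.Lib.Helper6.SkQuot

/-! `Ext¹(M, S) = 0` for a reflexive module over a Gorenstein ring of dimension one. -/

universe u
open CategoryTheory CategoryTheory.Abelian

namespace Groth.Agent.H2.ReflExt

open Groth.Agent.H6

variable {S : Type u} [CommRing S]

/-- associated primes of a dual module lie inside associated primes of the ring -/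
theorem exists_ass_ge_of_mem_ass_dual [IsNoetherianRing S] (N : Type u) [AddCommGroup N]
    [Module S N] {p : Ideal S} (hp : p ∈ associatedPrimes S (Module.Dual S N)) :
    ∃ q ∈ associatedPrimes S S, p ≤ q := by
  obtain ⟨hpp, f, hf⟩ := (isAssociatedPrime_iff (M := Module.Dual S N)).mp hp
  have hf0 : f ≠ 0 := by
    intro h0
    apply hpp.ne_top
    rw [hf, h0, Ideal.eq_top_iff_one, Submodule.mem_colon_singleton]
    simp
  obtain ⟨n, hn⟩ : ∃ n, f n ≠ 0 := by
    by_contra hcon
    push Not at hcon
    exact hf0 (LinearMap.ext hcon)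
  obtain ⟨q, hq, hle⟩ := exists_le_isAssociatedPrime_of_isNoetherianRing S (f n) hn
  refine ⟨q, hq, ?_⟩
  intro r hr
  apply hle
  rw [hf, Submodule.mem_colon_singleton, Submodule.mem_bot] at hr
  rw [Submodule.mem_colon_singleton, Submodule.mem_bot]
  have h2 : (r • f) n = 0 := by rw [hr]; rfl
  simpa using h2

theorem main [hG : LocCoh.IsGorensteinRing S] (hdim : ringKrullDim S = 1)
    (M : Type u) [AddCommGroup M] [Module S M] [Module.Finite S M] [Module.IsReflexive S M] :
    Subsingleton (Ext.{u} (ModuleCat.of S M) (ModuleCat.of S S) 1) := by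
  haveI hCM : LocCoh.IsCohenMacaulayRing S := Liai.isCohenMacaulayRing_of_isGorensteinRing S
  haveI hfinE : Module.Finite S (Ext.{u} (ModuleCat.of S M) (ModuleCat.of S S) 1) :=
    ModuleCat.finite_ext S (ModuleCat.of S M) (ModuleCat.of S S) 1
  rw [← Module.support_eq_empty_iff (R := S)]
  rw [Set.eq_empty_iff_forall_notMem]
  intro Q
  rw [Module.notMem_support_iff]
  haveI := Q.2
  haveI := hG.isGorensteinLocalRing_localization Q.asIdeal
  obtain ⟨h, hh⟩ := ENat.ne_top_iff_exists.mp (Ideal.height_ne_top_of_isPrime (I := Q.asIdeal))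
  have hle : h ≤ 1 := by
    have h1 : ((Q.asIdeal.height : ℕ∞) : WithBot ℕ∞) ≤ ringKrullDim S :=
      Ideal.height_le_ringKrullDim_of_ne_top Q.2.ne_top
    rw [hdim, ← hh] at h1
    exact_mod_cast h1
  rcases Nat.lt_or_ge h 1 with h0 | h1
  · exact Codepth.locExt_vanish M Q.asIdeal h hh.symm 1 h0
  · have h1' : h = 1 := le_antisymm hle h1
    subst h1'
    rw [← LDL.KL M Q.asIdeal 1 hh.symm 1 0 rfl]
    -- `Q` is not an associated prime of `M`
    have hQ : Q.asIdeal ∉ associatedPrimes S M := by
      intro hmem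
      have e : M ≃ₗ[S] Module.Dual S (Module.Dual S M) := Module.evalEquiv S M
      have hmem' : Q.asIdeal ∈ associatedPrimes S (Module.Dual S (Module.Dual S M)) := by
        rw [← LinearEquiv.AssociatedPrimes.eq e]
        exact hmem
      obtain ⟨q, hq, hQq⟩ := exists_ass_ge_of_mem_ass_dual (Module.Dual S M) hmem'
      have hqmin := Groth.Agent.H6.Liai.mem_minimalPrimes_of_mem_associatedPrimes hq
      haveI : q.IsPrime := hq.1
      have hq0 : q.height = 0 := (Ideal.height_eq_zero_iff).mpr hqmin
      have := Ideal.height_mono hQq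
      rw [hq0, ← hh] at this
      simp at this
    have hd := Depth.locDepthGE_one_of_not_mem_associatedPrimes M Q.asIdeal hQ
    haveI : IsNoetherianRing (Localization.AtPrime Q.asIdeal) :=
      IsLocalization.isNoetherianRing Q.asIdeal.primeCompl _ inferInstance
    haveI : Module.Finite (Localization.AtPrime Q.asIdeal)
        (LocalizedModule Q.asIdeal.primeCompl M) :=
      Module.Finite.of_isLocalizedModule Q.asIdeal.primeCompl
        (LocalizedModule.mkLinearMap Q.asIdeal.primeCompl M)
    rw [Depth.locDepthGE_iff] at hd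
    unfold LocCoh.depth at hd
    exact (Depth.le_idealDepth_iff _ _ 1).mp hd 0 Nat.zero_lt_one

end Groth.Agent.H2.ReflExt
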