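import Mathlib
import Groth.Agent.Lib.Helper2.RegCxA
import Groth.Agent.Lib.Lead.PN.Compact

/-!
# Regularity of the cokernel of a complex of regular modules on `P^n` which is exact away from a
set of dimension `≤ 1`: the chase.
-/

set_option autoImplicit false
universe u
open CategoryTheory CategoryTheory.Limits AlgebraicGeometry TopologicalSpace Opposite

namespace Groth.Agent.H2.RegCx

open Groth.Agent.LD Groth.Agent.LD.PN Twist

variable (n : ℕ) (k : Type u) [Field k]

/-- twists of a coherent module with support of dimension `≤ 1` have no cohomology in degrees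
`≥ 2`. -/
theorem subsingleton_HH_kG_of_support_dim_le_one (H : (Proj (CohB1.polyGrading n k)).Modules)
    (hH : Coh.IsCoh H) (hs : topologicalKrullDim (CohB1.support H) ≤ 1) (t : ℤ) (p : ℕ)
    (hp : 2 ≤ p) : Subsingleton (Coh.HH (Proj (CohB1.polyGrading n k)) (kG n k H t) p) := by
  have hcoh : Coh.IsCoh (kG n k H t) := isCoh_twist n k H hH t
  have hsub : CohB1.support (kG n k H t) ⊆ CohB1.support H := by
    intro x hx hsub
    exact hx (QC.subsingleton_stalk_tensor (isInvertible_twist n k t) x hsub)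
  have hd : topologicalKrullDim (CohB1.support (kG n k H t)) ≤ ((1 : ℕ) : WithBot ℕ∞) :=
    (GVSupp.topologicalKrullDim_mono hsub).trans (by exact_mod_cast hs)
  exact GVSupp.subsingleton_HH_of_support_dim_le 1 _ hcoh hd p (by omega) hp

variable {n k}
variable (E : ChainComplex (Proj (CohB1.polyGrading n k)).Modules ℕ)

/-- the cycles in degree `s + 1`. -/
noncomputable abbrev Zk (s : ℕ) : (Proj (CohB1.polyGrading n k)).Modules := kernel (E.d (s + 1) s)

/-- the differential, with values in the cycles. -/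
noncomputable def lift (s : ℕ) : E.X (s + 2) ⟶ Zk E s :=
  kernel.lift (E.d (s + 1) s) (E.d (s + 2) (s + 1)) (E.d_comp_d _ _ _)

lemma lift_ι (s : ℕ) : lift E s ≫ kernel.ι (E.d (s + 1) s) = E.d (s + 2) (s + 1) :=
  kernel.lift_ι _ _ _

/-- the kernel of the lifted differential is the next module of cycles. -/
noncomputable def kernelLiftIso (s : ℕ) : kernel (lift E s) ≅ Zk E (s + 1) :=
  (kernelCompMono (lift E s) (kernel.ι (E.d (s + 1) s))).symm ≪≫ kernelIsoOfEq (lift_ι E s)

/-- the cokernel of the lifted differential is the homology. -/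
noncomputable def cokernelLiftIso (s : ℕ) : cokernel (lift E s) ≅ E.homology (s + 1) :=
  ((E.sc' (s + 2) (s + 1) s).homologyIsoCokernelLift).symm ≪≫
    (ShortComplex.homologyMapIso (E.isoSc' (s + 2) (s + 1) s (by simp) (by simp))).symm

section Main
variable (t : ℕ) (hbdd : ∀ s : ℕ, t < s → IsZero (E.X s))
  (hcoh : ∀ s : ℕ, Coh.IsCoh (E.X s)) (d : ℤ)
  (hreg : ∀ s : ℕ, ∀ i : ℕ, 1 ≤ i → i ≤ n →
    Subsingleton (Coh.HH (Proj (CohB1.polyGrading n k)) (kG n k (E.X s) (d + s - i)) i))
  (hsupp : ∀ i : ℕ, 0 < i → topologicalKrullDim (CohB1.support (E.homology i)) ≤ 1)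

include hcoh in
lemma isCoh_Zk (s : ℕ) : Coh.IsCoh (Zk E s) := QC.isCoh_kernel _ (hcoh _) (hcoh _)

include hcoh in
lemma isCoh_cokernel_lift (s : ℕ) : Coh.IsCoh (cokernel (lift E s)) := by
  have h1 := hcoh (s + 2)
  have h2 := isCoh_Zk E hcoh s
  have hqc : (cokernel (lift E s)).IsQuasicoherent := QC.qc_cokernel (lift E s) h1.1 h2.1
  exact ⟨hqc, QC.isFiniteType_of_epi (cokernel.π (lift E s)) h2.1 hqc h2.2⟩

include hcoh hreg in
/-- vanishing from the regularity of the terms. -/
lemma vanish_term (s : ℕ) (p : ℕ) (hp : 1 ≤ p) (e : ℤ) (he : e = d + s - p) :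
    Subsingleton (Coh.HH (Proj (CohB1.polyGrading n k)) (kG n k (E.X s) e) p) := by
  subst he
  rcases Nat.lt_or_ge n p with h | h
  · haveI := (hcoh s).1
    haveI := kG_qc n k (E.X s) (d + s - p)
    exact subsingleton_HH_of_lt n k _ p h
  · exact hreg s p hp h

include hbdd hcoh hreg hsupp in
/-- the chase: vanishing of the cohomology of the twisted cycles. -/
theorem vanish_Zk : ∀ (m s : ℕ), t ≤ s + m → ∀ j : ℕ,
    Subsingleton (Coh.HH (Proj (CohB1.polyGrading n k)) (kG n k (Zk E s) (d - j)) (j + s + 2)) := by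
  intro m
  induction m with
  | zero =>
    intro s hs j
    have hz : IsZero (E.X (s + 1)) := hbdd (s + 1) (by omega)
    exact subsingleton_HH_kG_of_isZero n k (IsZero.of_mono (kernel.ι (E.d (s + 1) s)) hz) _ _
  | succ m ih =>
    intro s hs j
    have hA := vanish_term E hcoh d hreg (s + 2) (j + s + 2) (by omega) (d - j)
      (by push_cast; ring)
    have hK : Subsingleton (Coh.HH (Proj (CohB1.polyGrading n k))
        (kG n k (kernel (lift E s)) (d - j)) (j + s + 2 + 1)) := by
      have h1 := ih (s + 1) (by omega) j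
      have e : j + (s + 1) + 2 = j + s + 2 + 1 := by omega
      rw [e] at h1
      exact subsingleton_HH_kG_of_iso n k (kernelLiftIso E s).symm _ _ h1
    have hI := vanish_image n k (lift E s) (d - j) (j + s + 2) hA hK
    have hC : Subsingleton (Coh.HH (Proj (CohB1.polyGrading n k))
        (kG n k (cokernel (lift E s)) (d - j)) (j + s + 2)) := by
      refine subsingleton_HH_kG_of_support_dim_le_one n k _ (isCoh_cokernel_lift E hcoh s) ?_ _ _
        (by omega)
      exact (GVSupp.topologicalKrullDim_mono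
        (GVSupp.support_subset_of_iso (cokernelLiftIso E s))).trans (hsupp (s + 1) (by omega))
    exact vanish_target n k (lift E s) (d - j) (j + s + 2) hI hC

include hbdd hcoh hreg hsupp in
theorem vanish_Z0 (j : ℕ) :
    Subsingleton (Coh.HH (Proj (CohB1.polyGrading n k)) (kG n k (kernel (E.d 1 0)) (d - j))
      (j + 2)) :=
  vanish_Zk E t hbdd hcoh d hreg hsupp t 0 (by omega) j

include hbdd hcoh hreg hsupp in
/-- the image of `E₁ → E₀` is `(d+1)`-regular. -/
theorem vanish_image_main (i : ℕ) (hi : 1 ≤ i) :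
    Subsingleton (Coh.HH (Proj (CohB1.polyGrading n k))
      (kG n k (Abelian.image (E.d 1 0)) (d + 1 - i)) i) := by
  obtain ⟨j, rfl⟩ : ∃ j, i = j + 1 := ⟨i - 1, by omega⟩
  have hA := vanish_term E hcoh d hreg 1 (j + 1) (by omega) (d + 1 - ((j + 1 : ℕ) : ℤ))
    (by push_cast; ring)
  have hK := vanish_Z0 E t hbdd hcoh d hreg hsupp j
  have e : d - (j : ℤ) = d + 1 - ((j + 1 : ℕ) : ℤ) := by push_cast; ring
  rw [e] at hK
  exact vanish_image n k (E.d 1 0) _ (j + 1) hA hK

include hbdd hcoh hreg hsupp in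
/-- the cokernel of `E₁ → E₀` is `d`-regular. -/
theorem vanish_cokernel_main (i : ℕ) (hi : 1 ≤ i) :
    Subsingleton (Coh.HH (Proj (CohB1.polyGrading n k))
      (kG n k (cokernel (E.d 1 0)) (d - i)) i) := by
  have h0 := vanish_term E hcoh d hreg 0 i hi (d - i) (by push_cast; ring)
  have hA := vanish_term E hcoh d hreg 1 (i + 1) (by omega) (d - i) (by push_cast; ring)
  have hK := vanish_Z0 E t hbdd hcoh d hreg hsupp i
  have hI := vanish_image n k (E.d 1 0) (d - i) (i + 1) hA hK
  exact vanish_cokernel n k (E.d 1 0) (d - i) i h0 hI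

end Main

end Groth.Agent.H2.RegCx
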