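import Mathlib
import Groth.Agent.Lib.Helper2.QReg

/-! The order function of a Noetherian local ring whose maximal ideal is generated by a
quasi-regular sequence (e.g. a regular local ring): multiplicativity. -/

universe u
open MvPolynomial IsLocalRing

namespace Groth.Agent.H2.RegDVR

section Ord
variable {A : Type u} [CommRing A] [IsLocalRing A]

/-- `a` has order exactly `n` -/
def IsOrd (a : A) (n : ℕ) : Prop := a ∈ maximalIdeal A ^ n ∧ a ∉ maximalIdeal A ^ (n + 1)

theorem IsOrd.ne_zero {a : A} {n : ℕ} (h : IsOrd a n) : a ≠ 0 := by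
  rintro rfl
  exact h.2 (Ideal.zero_mem _)

theorem IsOrd.mem_pow_iff {a : A} {i : ℕ} (h : IsOrd a i) (n : ℕ) :
    a ∈ maximalIdeal A ^ n ↔ n ≤ i := by
  constructor
  · intro hn
    by_contra hlt
    push Not at hlt
    exact h.2 (Ideal.pow_le_pow_right hlt hn)
  · intro hn
    exact Ideal.pow_le_pow_right hn h.1

theorem IsOrd.unique {a : A} {i j : ℕ} (h : IsOrd a i) (h' : IsOrd a j) : i = j := by
  have h1 := (h.mem_pow_iff j).mp h'.1
  have h2 := (h'.mem_pow_iff i).mp h.1
  omega

theorem isOrd_of_isUnit {a : A} (h : IsUnit a) : IsOrd a 0 := by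
  refine ⟨by rw [pow_zero, Ideal.one_eq_top]; trivial, ?_⟩
  rw [zero_add, pow_one]
  intro hm
  exact (IsLocalRing.mem_maximalIdeal a).mp hm h

theorem isOrd_one : IsOrd (1 : A) 0 := isOrd_of_isUnit isUnit_one

theorem exists_isOrd [IsNoetherianRing A] {a : A} (ha : a ≠ 0) : ∃ n, IsOrd a n := by
  classical
  have h1 : ∃ n, a ∉ maximalIdeal A ^ (n + 1) := by
    by_contra hcon
    push Not at hcon
    apply ha
    have h2 : a ∈ (⨅ n : ℕ, maximalIdeal A ^ n) := by
      rw [Ideal.mem_iInf]
      intro n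
      rcases n with _ | n
      · rw [pow_zero, Ideal.one_eq_top]; trivial
      · exact hcon n
    rw [Ideal.iInf_pow_eq_bot_of_isLocalRing _ (IsLocalRing.maximalIdeal.isMaximal A).ne_top] at h2
    exact h2
  refine ⟨Nat.find h1, ?_, Nat.find_spec h1⟩
  rcases hn : Nat.find h1 with _ | n
  · rw [pow_zero, Ideal.one_eq_top]; trivial
  · have := Nat.find_min h1 (m := n) (by omega)
    push Not at this
    exact this

end Ord

section Mul
variable {A : Type u} [CommRing A] [IsLocalRing A] {c : ℕ} (x : Fin c → A)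
  (hx : Ideal.span (Set.range x) = maximalIdeal A)

theorem map_residue_eq_zero_iff (F : MvPolynomial (Fin c) A) :
    map (residue A) F = 0 ↔ ∀ d, F.coeff d ∈ maximalIdeal A := by
  constructor
  · intro h d
    have := congrArg (coeff d) h
    rw [coeff_map, coeff_zero] at this
    exact (residue_eq_zero_iff _).mp this
  · intro h
    ext d
    rw [coeff_map, coeff_zero]
    exact (residue_eq_zero_iff _).mpr (h d)

include hx in
theorem exists_homogeneous_of_mem_pow {a : A} {n : ℕ} (h : a ∈ maximalIdeal A ^ n) :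
    ∃ F : MvPolynomial (Fin c) A, F.IsHomogeneous n ∧ eval x F = a := by
  rw [← hx] at h
  exact (Ideal.mem_span_pow_iff_exists_isHomogeneous x a).mp h

include hx in
theorem eval_mem_pow_of_isHomogeneous {F : MvPolynomial (Fin c) A} {n : ℕ}
    (hF : F.IsHomogeneous n) : eval x F ∈ maximalIdeal A ^ n := by
  rw [← hx]
  exact Groth.Agent.H2.QReg.eval_mem_pow x hF

include hx in
theorem map_residue_ne_zero_of_isOrd {F : MvPolynomial (Fin c) A} {n : ℕ}
    (hF : F.IsHomogeneous n) (h : IsOrd (eval x F) n) : map (residue A) F ≠ 0 := by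
  intro h0
  rw [map_residue_eq_zero_iff] at h0
  apply h.2
  have := Groth.Agent.H2.QReg.eval_mem_mul_pow x (maximalIdeal A) hF h0
  rw [hx] at this
  rwa [pow_succ']

include hx in
/-- quasi-regularity in the form: a form of degree `n` whose value lies in `𝔪^(n+1)` vanishes
modulo `𝔪` -/
theorem map_residue_eq_zero_of_mem (hq : CAlgX.IsQuasiRegular x) {F : MvPolynomial (Fin c) A}
    {n : ℕ} (hF : F.IsHomogeneous n) (h : eval x F ∈ maximalIdeal A ^ (n + 1)) :
    map (residue A) F = 0 := by
  rw [map_residue_eq_zero_iff]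
  intro d
  have := hq n F hF (by rw [hx]; exact h) d
  rwa [hx] at this

include hx in
theorem IsOrd.mul (hq : CAlgX.IsQuasiRegular x) {a b : A} {i j : ℕ} (ha : IsOrd a i)
    (hb : IsOrd b j) : IsOrd (a * b) (i + j) := by
  refine ⟨?_, ?_⟩
  · rw [pow_add]
    exact Ideal.mul_mem_mul ha.1 hb.1
  · intro hab
    obtain ⟨F, hF, rfl⟩ := exists_homogeneous_of_mem_pow x hx ha.1
    obtain ⟨G, hG, rfl⟩ := exists_homogeneous_of_mem_pow x hx hb.1
    have h1 := map_residue_ne_zero_of_isOrd x hx hF ha
    have h2 := map_residue_ne_zero_of_isOrd x hx hG hb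
    have h3 : map (residue A) (F * G) = 0 := by
      apply map_residue_eq_zero_of_mem x hx hq (hF.mul hG)
      rw [map_mul]
      exact hab
    rw [map_mul] at h3
    rcases mul_eq_zero.mp h3 with h | h
    · exact h1 h
    · exact h2 h

include hx in
theorem isOrd_pow (hq : CAlgX.IsQuasiRegular x) {a : A} {i : ℕ} (ha : IsOrd a i) (n : ℕ) :
    IsOrd (a ^ n) (i * n) := by
  induction n with
  | zero => rw [pow_zero, mul_zero]; exact isOrd_one
  | succ n ih =>
    rw [pow_succ, mul_add, mul_one]
    exact IsOrd.mul x hx hq ih ha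

include hx in
theorem isOrd_gen (hq : CAlgX.IsQuasiRegular x) (i : Fin c) : IsOrd (x i) 1 := by
  refine ⟨?_, ?_⟩
  · rw [pow_one, ← hx]
    exact Ideal.subset_span ⟨i, rfl⟩
  · intro h
    have h1 := map_residue_eq_zero_of_mem x hx hq (isHomogeneous_X A i) (by rw [eval_X]; exact h)
    rw [map_X] at h1
    exact X_ne_zero i h1

end Mul

end Groth.Agent.H2.RegDVR
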