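import Mathlib
import Groth.Agent.Lib.Helper2.RegDVR1

/-! The order valuation ring of a Noetherian local domain whose maximal ideal is generated by a
quasi-regular sequence: the sets `Vge s` of fractions of order at least `s`. -/

universe u v
open MvPolynomial IsLocalRing
set_option linter.unusedSectionVars false

namespace Groth.Agent.H2.RegDVR

section Vge
variable (A : Type u) [CommRing A] [IsDomain A] [IsLocalRing A] [IsNoetherianRing A]
  (K : Type v) [Field K] [Algebra A K] [IsFractionRing A K]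

/-- the fractions of order at least `s` -/
def Vge (s : ℕ) : Set K :=
  {z | ∃ (a b : A) (j : ℕ), IsOrd b j ∧ a ∈ maximalIdeal A ^ (j + s) ∧
    z * algebraMap A K b = algebraMap A K a}

variable {A K}

theorem algebraMap_ne_zero_of_isOrd {b : A} {j : ℕ} (hb : IsOrd b j) : algebraMap A K b ≠ 0 := by
  intro h
  apply hb.ne_zero
  exact (IsFractionRing.injective A K) (by rw [h, map_zero])

theorem zero_mem_Vge (s : ℕ) : (0 : K) ∈ Vge A K s :=
  ⟨0, 1, 0, isOrd_one, Ideal.zero_mem _, by rw [zero_mul, map_zero]⟩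

theorem Vge_anti {s s' : ℕ} (h : s ≤ s') : Vge A K s' ⊆ Vge A K s := by
  rintro z ⟨a, b, j, hb, ha, e⟩
  exact ⟨a, b, j, hb, Ideal.pow_le_pow_right (by omega) ha, e⟩

theorem neg_mem_Vge {s : ℕ} {z : K} (hz : z ∈ Vge A K s) : -z ∈ Vge A K s := by
  obtain ⟨a, b, j, hb, ha, e⟩ := hz
  exact ⟨-a, b, j, hb, Ideal.neg_mem_iff _ |>.mpr ha, by rw [neg_mul, e, map_neg]⟩

theorem algebraMap_mem_Vge {s : ℕ} {a : A} (ha : a ∈ maximalIdeal A ^ s) :
    algebraMap A K a ∈ Vge A K s :=
  ⟨a, 1, 0, isOrd_one, by rwa [zero_add], by rw [map_one, mul_one]⟩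

variable {c : ℕ} (x : Fin c → A) (hx : Ideal.span (Set.range x) = maximalIdeal A)
  (hq : CAlgX.IsQuasiRegular x)

include hx hq in
/-- independence of the representation -/
theorem Vge_rep {s : ℕ} {z : K} (hz : z ∈ Vge A K s) {a b : A} {j : ℕ} (hb : IsOrd b j)
    (e : z * algebraMap A K b = algebraMap A K a) : a ∈ maximalIdeal A ^ (j + s) := by
  obtain ⟨a', b', j', hb', ha', e'⟩ := hz
  by_cases ha0 : a = 0
  · rw [ha0]; exact Ideal.zero_mem _
  obtain ⟨i, hi⟩ := exists_isOrd ha0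
  have h1 : a * b' = a' * b := by
    apply IsFractionRing.injective A K
    rw [map_mul, map_mul, ← e, ← e']
    ring
  have h2 : a' * b ∈ maximalIdeal A ^ (j' + s + j) := by
    rw [pow_add]
    exact Ideal.mul_mem_mul ha' hb.1
  rw [← h1] at h2
  have h3 := ((IsOrd.mul x hx hq hi hb').mem_pow_iff _).mp h2
  exact (hi.mem_pow_iff _).mpr (by omega)

include hx hq in
theorem add_mem_Vge {s : ℕ} {z z' : K} (hz : z ∈ Vge A K s) (hz' : z' ∈ Vge A K s) :
    z + z' ∈ Vge A K s := by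
  obtain ⟨a, b, j, hb, ha, e⟩ := hz
  obtain ⟨a', b', j', hb', ha', e'⟩ := hz'
  refine ⟨a * b' + a' * b, b * b', j + j', IsOrd.mul x hx hq hb hb', ?_, ?_⟩
  · apply Ideal.add_mem
    · have : j + j' + s = (j + s) + j' := by omega
      rw [this, pow_add]
      exact Ideal.mul_mem_mul ha hb'.1
    · have : j + j' + s = (j' + s) + j := by omega
      rw [this, pow_add]
      exact Ideal.mul_mem_mul ha' hb.1
  · rw [map_add, map_mul, map_mul, map_mul, ← e, ← e']
    ring

include hx hq in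
theorem mul_mem_Vge {s s' : ℕ} {z z' : K} (hz : z ∈ Vge A K s) (hz' : z' ∈ Vge A K s') :
    z * z' ∈ Vge A K (s + s') := by
  obtain ⟨a, b, j, hb, ha, e⟩ := hz
  obtain ⟨a', b', j', hb', ha', e'⟩ := hz'
  refine ⟨a * a', b * b', j + j', IsOrd.mul x hx hq hb hb', ?_, ?_⟩
  · have : j + j' + (s + s') = (j + s) + (j' + s') := by omega
    rw [this, pow_add]
    exact Ideal.mul_mem_mul ha ha'
  · rw [map_mul, map_mul, ← e, ← e']
    ring

include hx hq in
theorem algebraMap_mem_Vge_iff {s : ℕ} {a : A} :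
    algebraMap A K a ∈ Vge A K s ↔ a ∈ maximalIdeal A ^ s := by
  refine ⟨fun h => ?_, algebraMap_mem_Vge⟩
  have := Vge_rep x hx hq h (a := a) (b := 1) isOrd_one (by rw [map_one, mul_one])
  rwa [zero_add] at this

include hx hq in
theorem one_not_mem_Vge_one : (1 : K) ∉ Vge A K 1 := by
  intro h
  rw [← map_one (algebraMap A K), algebraMap_mem_Vge_iff x hx hq, pow_one] at h
  exact (IsLocalRing.mem_maximalIdeal _).mp h isUnit_one

theorem inv_mem_Vge {z : K} (hz : z ∈ Vge A K 0) (hz' : z ∉ Vge A K 1) : z⁻¹ ∈ Vge A K 0 := by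
  obtain ⟨a, b, j, hb, ha, e⟩ := hz
  have ha' : a ∉ maximalIdeal A ^ (j + 1) := fun h => hz' ⟨a, b, j, hb, h, e⟩
  rw [add_zero] at ha
  have hao : IsOrd a j := ⟨ha, ha'⟩
  have ha0 := algebraMap_ne_zero_of_isOrd (K := K) hao
  have hb0 := algebraMap_ne_zero_of_isOrd (K := K) hb
  have hz0 : z ≠ 0 := by
    rintro rfl
    rw [zero_mul] at e
    exact ha0 e.symm
  refine ⟨b, a, j, hao, by rw [add_zero]; exact hb.1, ?_⟩
  rw [← e]
  field_simp

include hx hq in
theorem div_gen_mem_Vge {s : ℕ} {z : K} (hz : z ∈ Vge A K (s + 1)) (i : Fin c) :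
    z / algebraMap A K (x i) ∈ Vge A K s := by
  obtain ⟨a, b, j, hb, ha, e⟩ := hz
  have hxi := isOrd_gen x hx hq i
  have hx0 := algebraMap_ne_zero_of_isOrd (K := K) hxi
  refine ⟨a, b * x i, j + 1, IsOrd.mul x hx hq hb hxi, ?_, ?_⟩
  · have : j + 1 + s = j + (s + 1) := by omega
    rw [this]
    exact ha
  · rw [map_mul, ← e]
    field_simp

include hx hq in
/-- every nonzero element of the valuation ring is a power of a generator times a unit -/
theorem exists_pow_mul_unit {z : K} (hz : z ∈ Vge A K 0) (hz0 : z ≠ 0) (i : Fin c) :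
    ∃ (n : ℕ) (u : K), u ∈ Vge A K 0 ∧ u⁻¹ ∈ Vge A K 0 ∧ u ≠ 0 ∧
      z = algebraMap A K (x i) ^ n * u := by
  obtain ⟨a, b, j, hb, ha, e⟩ := hz
  rw [add_zero] at ha
  have hb0 := algebraMap_ne_zero_of_isOrd (K := K) hb
  have ha0 : a ≠ 0 := by
    rintro rfl
    rw [map_zero] at e
    rcases mul_eq_zero.mp e with h | h
    · exact hz0 h
    · exact hb0 h
  obtain ⟨k, hk⟩ := exists_isOrd ha0
  have hjk : j ≤ k := (hk.mem_pow_iff j).mp ha
  have hxi := isOrd_gen x hx hq i
  have hx0 := algebraMap_ne_zero_of_isOrd (K := K) hxi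
  have hpow := isOrd_pow x hx hq hxi (k - j)
  rw [one_mul] at hpow
  have hbx : IsOrd (b * x i ^ (k - j)) k := by
    have := IsOrd.mul x hx hq hb hpow
    rwa [show j + (k - j) = k by omega] at this
  have hak := algebraMap_ne_zero_of_isOrd (K := K) hk
  have e2 : z / algebraMap A K (x i) ^ (k - j) * algebraMap A K (b * x i ^ (k - j)) =
      algebraMap A K a := by
    rw [map_mul, map_pow, ← e]
    field_simp
  refine ⟨k - j, z / algebraMap A K (x i) ^ (k - j), ?_, ?_, ?_, ?_⟩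
  · exact ⟨a, b * x i ^ (k - j), k, hbx, by rw [add_zero]; exact hk.1, e2⟩
  · refine ⟨b * x i ^ (k - j), a, k, hk, by rw [add_zero]; exact hbx.1, ?_⟩
    rw [← e2]
    have h1 : z / algebraMap A K (x i) ^ (k - j) ≠ 0 :=
      div_ne_zero hz0 (pow_ne_zero _ hx0)
    have h2 := algebraMap_ne_zero_of_isOrd (K := K) hbx
    field_simp
  · exact div_ne_zero hz0 (pow_ne_zero _ hx0)
  · field_simp

end Vge

end Groth.Agent.H2.RegDVR
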