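import Mathlib
import Groth.Agent.Lib.Helper2.RegDVR2

/-! The order valuation ring as a subalgebra of the fraction field: it is a discrete valuation
ring dominating `A`. -/

universe u v
open MvPolynomial IsLocalRing
set_option linter.unusedSectionVars false

namespace Groth.Agent.H2.RegDVR

section Ring
variable {A : Type u} [CommRing A] [IsDomain A] [IsLocalRing A] [IsNoetherianRing A]
  {K : Type v} [Field K] [Algebra A K] [IsFractionRing A K]
  {c : ℕ} (x : Fin c → A) (hx : Ideal.span (Set.range x) = maximalIdeal A)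
  (hq : CAlgX.IsQuasiRegular x)

/-- the order valuation ring -/
def VV : Subalgebra A K where
  carrier := Vge A K 0
  mul_mem' := fun ha hb => mul_mem_Vge x hx hq ha hb
  add_mem' := fun ha hb => add_mem_Vge x hx hq ha hb
  algebraMap_mem' := fun a => algebraMap_mem_Vge (by rw [pow_zero, Ideal.one_eq_top]; trivial)

theorem mem_VV {z : K} : z ∈ VV (K := K) x hx hq ↔ z ∈ Vge A K 0 := Iff.rfl

theorem isUnit_iff (z : VV (K := K) x hx hq) : IsUnit z ↔ (z : K) ∉ Vge A K 1 := by
  constructor
  · intro h hz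
    obtain ⟨w, hw⟩ := isUnit_iff_exists_inv.mp h
    have h1 : (z : K) * (w : K) = 1 := by
      have := congrArg Subtype.val hw
      exact this
    have h2 := mul_mem_Vge x hx hq hz w.2
    rw [h1] at h2
    exact one_not_mem_Vge_one x hx hq h2
  · intro hz
    have hz0 : (z : K) ≠ 0 := by
      intro h
      apply hz
      rw [h]
      exact zero_mem_Vge 1
    have hinv := inv_mem_Vge z.2 hz
    exact isUnit_iff_exists_inv.mpr ⟨⟨(z : K)⁻¹, hinv⟩, Subtype.ext (mul_inv_cancel₀ hz0)⟩

instance : Nontrivial (VV (K := K) x hx hq) := inferInstance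

instance : IsDomain (VV (K := K) x hx hq) := inferInstance

theorem isLocalRing_VV : IsLocalRing (VV (K := K) x hx hq) := by
  apply IsLocalRing.of_nonunits_add
  intro a b ha hb
  rw [mem_nonunits_iff, isUnit_iff, not_not] at ha hb ⊢
  exact add_mem_Vge x hx hq ha hb

instance : IsLocalRing (VV (K := K) x hx hq) := isLocalRing_VV x hx hq

theorem mem_maximalIdeal_iff (z : VV (K := K) x hx hq) :
    z ∈ maximalIdeal (VV (K := K) x hx hq) ↔ (z : K) ∈ Vge A K 1 := by
  rw [IsLocalRing.mem_maximalIdeal, mem_nonunits_iff, isUnit_iff, not_not]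

theorem coe_algebraMap (a : A) :
    ((algebraMap A (VV (K := K) x hx hq) a : VV (K := K) x hx hq) : K) = algebraMap A K a := rfl

/-- `V` dominates `A` -/
theorem comap_maximalIdeal :
    (maximalIdeal (VV (K := K) x hx hq)).comap (algebraMap A (VV (K := K) x hx hq)) =
      maximalIdeal A := by
  ext a
  rw [Ideal.mem_comap, mem_maximalIdeal_iff, coe_algebraMap, algebraMap_mem_Vge_iff x hx hq,
    pow_one]

theorem maximalIdeal_eq_span (i : Fin c) :
    maximalIdeal (VV (K := K) x hx hq) =
      Ideal.span {algebraMap A (VV (K := K) x hx hq) (x i)} := by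
  apply le_antisymm
  · intro z hz
    rw [mem_maximalIdeal_iff] at hz
    have h1 := div_gen_mem_Vge x hx hq hz i
    rw [Ideal.mem_span_singleton']
    refine ⟨⟨(z : K) / algebraMap A K (x i), h1⟩, ?_⟩
    apply Subtype.ext
    have hx0 := algebraMap_ne_zero_of_isOrd (K := K) (isOrd_gen x hx hq i)
    change (z : K) / algebraMap A K (x i) * algebraMap A K (x i) = z
    field_simp
  · rw [Ideal.span_le, Set.singleton_subset_iff, SetLike.mem_coe, mem_maximalIdeal_iff,
      coe_algebraMap, algebraMap_mem_Vge_iff x hx hq, pow_one, ← hx]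
    exact Ideal.subset_span ⟨i, rfl⟩

theorem algebraMap_gen_ne_zero (i : Fin c) :
    algebraMap A (VV (K := K) x hx hq) (x i) ≠ 0 := by
  intro h
  have := congrArg Subtype.val h
  rw [coe_algebraMap] at this
  exact algebraMap_ne_zero_of_isOrd (K := K) (isOrd_gen x hx hq i) this

theorem irreducible_gen (i : Fin c) :
    Irreducible (algebraMap A (VV (K := K) x hx hq) (x i)) :=
  IsDiscreteValuationRing.irreducible_of_span_eq_maximalIdeal _ (algebraMap_gen_ne_zero x hx hq i)
    (maximalIdeal_eq_span x hx hq i)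

theorem isDiscreteValuationRing_VV (i : Fin c) :
    IsDiscreteValuationRing (VV (K := K) x hx hq) := by
  apply IsDiscreteValuationRing.ofHasUnitMulPowIrreducibleFactorization
  refine ⟨algebraMap A (VV (K := K) x hx hq) (x i), irreducible_gen x hx hq i, ?_⟩
  intro z hz0
  have hz0' : (z : K) ≠ 0 := fun h => hz0 (Subtype.ext h)
  obtain ⟨n, u, hu, hu', hu0, e⟩ := exists_pow_mul_unit x hx hq z.2 hz0' i
  refine ⟨n, ?_⟩
  let U : (VV (K := K) x hx hq)ˣ :=
    ⟨⟨u, hu⟩, ⟨u⁻¹, hu'⟩, Subtype.ext (mul_inv_cancel₀ hu0), Subtype.ext (inv_mul_cancel₀ hu0)⟩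
  refine ⟨U, ?_⟩
  apply Subtype.ext
  change ((algebraMap A (VV (K := K) x hx hq) (x i) ^ n : VV (K := K) x hx hq) : K) * u = z
  rw [e]
  rfl

theorem isLocalHom_algebraMap : IsLocalHom (algebraMap A (VV (K := K) x hx hq)) := by
  constructor
  intro a ha
  by_contra hna
  have h1 : a ∈ maximalIdeal A := (IsLocalRing.mem_maximalIdeal a).mpr hna
  rw [← comap_maximalIdeal (K := K) x hx hq, Ideal.mem_comap] at h1
  exact (IsLocalRing.mem_maximalIdeal _).mp h1 ha

end Ring

end Groth.Agent.H2.RegDVR
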