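import Mathlib
import Groth.Agent.Lib.Helper2.RegDVR3

/-! Dehomogenisation of forms, and the elements `x_i / x_0` of the order valuation ring. -/

universe u v
open MvPolynomial IsLocalRing
set_option linter.unusedSectionVars false

namespace Groth.Agent.H2.RegDVR

section Deh

theorem aeval_mul_of_isHomogeneous {R S σ : Type*} [CommSemiring R] [CommSemiring S]
    [Algebra R S] (v : σ → S) (c : S) {F : MvPolynomial σ R} {n : ℕ} (hF : F.IsHomogeneous n) :
    aeval (fun i => c * v i) F = c ^ n * aeval v F := by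
  rw [aeval_def, aeval_def, eval₂_eq, eval₂_eq, Finset.mul_sum]
  apply Finset.sum_congr rfl
  intro d hd
  have hdeg : ∑ i ∈ d.support, d i = n := by
    have := hF (mem_support_iff.mp hd)
    simpa [Finsupp.weight_apply, Finsupp.sum] using this
  simp_rw [mul_pow]
  rw [Finset.prod_mul_distrib, Finset.prod_pow_eq_pow_sum, hdeg]
  ring

variable (R : Type*) [CommRing R] (e : ℕ)

/-- dehomogenisation `X₀ ↦ 1` -/
noncomputable def deh : MvPolynomial (Fin (e + 1)) R →ₐ[R] MvPolynomial (Fin e) R :=
  aeval (Fin.cases 1 X)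

variable {R e}

@[simp] theorem deh_X_zero : deh R e (X 0) = 1 := by
  unfold deh
  rw [aeval_X]
  rfl

@[simp] theorem deh_X_succ (i : Fin e) : deh R e (X i.succ) = X i := by
  unfold deh
  rw [aeval_X]
  rfl

@[simp] theorem deh_C (a : R) : deh R e (C a) = C a := by
  unfold deh
  rw [aeval_C]
  rfl

/-- every polynomial is the dehomogenisation of a form -/
theorem exists_homogeneous_deh (Q : MvPolynomial (Fin e) R) :
    ∃ (n : ℕ) (F : MvPolynomial (Fin (e + 1)) R), F.IsHomogeneous n ∧ deh R e F = Q := by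
  induction Q using MvPolynomial.induction_on with
  | C a => exact ⟨0, C a, isHomogeneous_C _ a, deh_C a⟩
  | add p q hp hq =>
    obtain ⟨n₁, F₁, h₁, e₁⟩ := hp
    obtain ⟨n₂, F₂, h₂, e₂⟩ := hq
    refine ⟨n₂ + n₁, X 0 ^ n₂ * F₁ + X 0 ^ n₁ * F₂, ?_, ?_⟩
    · apply IsHomogeneous.add
      · exact (isHomogeneous_X_pow 0 n₂).mul h₁
      · have := (isHomogeneous_X_pow (R := R) (0 : Fin (e + 1)) n₁).mul h₂
        rwa [add_comm n₁ n₂] at this
    · rw [map_add, map_mul, map_mul, map_pow, map_pow, deh_X_zero, one_pow, one_pow, one_mul,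
        one_mul, e₁, e₂]
  | mul_X p i hp =>
    obtain ⟨n, F, h, e⟩ := hp
    exact ⟨n + 1, F * X i.succ, h.mul (isHomogeneous_X R i.succ),
      by rw [map_mul, deh_X_succ, e]⟩

theorem deh_map {S : Type*} [CommRing S] (f : R →+* S) (F : MvPolynomial (Fin (e + 1)) R) :
    deh S e (map f F) = map f (deh R e F) := by
  induction F using MvPolynomial.induction_on with
  | C a => rw [map_C, deh_C, deh_C, map_C]
  | add p q hp hq => rw [map_add, map_add, map_add, map_add, hp, hq]
  | mul_X p i hp =>
    rw [map_mul, map_mul, map_mul, map_mul, hp, map_X]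
    congr 1
    refine Fin.cases ?_ (fun j => ?_) i
    · rw [deh_X_zero, deh_X_zero, map_one]
    · rw [deh_X_succ, deh_X_succ, map_X]

end Deh

end Groth.Agent.H2.RegDVR
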