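import Mathlib
import Groth.Agent.Lib.Helper2.RegDVR4

/-! The residue field of the order valuation ring is purely transcendental over the residue
field of `A`, generated by the classes of `x_i / x_0`. -/

universe u v
open MvPolynomial IsLocalRing
set_option linter.unusedSectionVars false

namespace Groth.Agent.H2.RegDVR

section Res
variable {A : Type u} [CommRing A] [IsDomain A] [IsLocalRing A] [IsNoetherianRing A]
  {K : Type v} [Field K] [Algebra A K] [IsFractionRing A K]
  {e : ℕ} (x : Fin (e + 1) → A) (hx : Ideal.span (Set.range x) = maximalIdeal A)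
  (hq : CAlgX.IsQuasiRegular x)

include hx hq in
theorem algebraMap_x0_ne_zero : algebraMap A K (x 0) ≠ 0 :=
  algebraMap_ne_zero_of_isOrd (K := K) (isOrd_gen x hx hq 0)

/-- the elements `x_{i+1} / x_0` of the valuation ring -/
noncomputable def tt (i : Fin e) : VV (K := K) x hx hq :=
  ⟨algebraMap A K (x i.succ) / algebraMap A K (x 0),
    ⟨x i.succ, x 0, 1, isOrd_gen x hx hq 0, by
      rw [add_zero, pow_one, ← hx]
      exact Ideal.subset_span ⟨_, rfl⟩, by
      have := algebraMap_x0_ne_zero (K := K) x hx hq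
      field_simp⟩⟩

theorem coe_tt (i : Fin e) :
    ((tt (K := K) x hx hq i : VV (K := K) x hx hq) : K) =
      algebraMap A K (x i.succ) / algebraMap A K (x 0) := rfl

/-- evaluation of forms at `(1, x_1/x_0, …)` -/
noncomputable def EE : MvPolynomial (Fin (e + 1)) A →ₐ[A] VV (K := K) x hx hq :=
  aeval (Fin.cases 1 (tt (K := K) x hx hq))

theorem EE_eq_comp : EE (K := K) x hx hq = (aeval (tt (K := K) x hx hq)).comp (deh A e) := by
  apply MvPolynomial.algHom_ext
  intro i
  unfold EE
  rw [aeval_X, AlgHom.comp_apply]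
  refine Fin.cases ?_ (fun j => ?_) i
  · rw [deh_X_zero, map_one]
    rfl
  · rw [deh_X_succ, aeval_X]
    rfl

theorem EE_apply (F : MvPolynomial (Fin (e + 1)) A) :
    EE (K := K) x hx hq F = aeval (tt (K := K) x hx hq) (deh A e F) := by
  rw [EE_eq_comp]
  rfl

theorem EE_spec {F : MvPolynomial (Fin (e + 1)) A} {n : ℕ} (hF : F.IsHomogeneous n) :
    ((EE (K := K) x hx hq F : VV (K := K) x hx hq) : K) * algebraMap A K (x 0) ^ n =
      algebraMap A K (eval x F) := by
  have hx0 := algebraMap_x0_ne_zero (K := K) x hx hq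
  have h1 : ((EE (K := K) x hx hq F : VV (K := K) x hx hq) : K) =
      aeval (fun i => ((Fin.cases 1 (tt (K := K) x hx hq) i : VV (K := K) x hx hq) : K)) F := by
    have := MvPolynomial.comp_aeval (Fin.cases 1 (tt (K := K) x hx hq))
      ((VV (K := K) x hx hq).val)
    have h2 := AlgHom.congr_fun this F
    exact h2
  have h3 : algebraMap A K (eval x F) = aeval (fun i => algebraMap A K (x i)) F := by
    rw [aeval_def, ← eval₂_id, eval₂_comp_left (algebraMap A K)]
    rfl
  have h4 : (fun i => algebraMap A K (x i)) = fun i => algebraMap A K (x 0) *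
      ((Fin.cases 1 (tt (K := K) x hx hq) i : VV (K := K) x hx hq) : K) := by
    funext i
    refine Fin.cases ?_ (fun j => ?_) i
    · change _ = algebraMap A K (x 0) * ((1 : VV (K := K) x hx hq) : K)
      rw [OneMemClass.coe_one, mul_one]
    · change _ = algebraMap A K (x 0) * ((tt (K := K) x hx hq j : VV (K := K) x hx hq) : K)
      rw [coe_tt]
      field_simp
  rw [h3, h4, aeval_mul_of_isHomogeneous _ _ hF, h1, mul_comm]

theorem EE_mem_Vge_iff {F : MvPolynomial (Fin (e + 1)) A} {n : ℕ} (hF : F.IsHomogeneous n)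
    (s : ℕ) :
    ((EE (K := K) x hx hq F : VV (K := K) x hx hq) : K) ∈ Vge A K s ↔
      eval x F ∈ maximalIdeal A ^ (n + s) := by
  have hord : IsOrd (x 0 ^ n) n := by
    have := isOrd_pow x hx hq (isOrd_gen x hx hq 0) n
    rwa [one_mul] at this
  have hsp := EE_spec (K := K) x hx hq hF
  rw [← map_pow] at hsp
  constructor
  · intro h
    exact Vge_rep x hx hq h hord hsp
  · intro h
    exact ⟨eval x F, x 0 ^ n, n, hord, h, hsp⟩

end Res

end Groth.Agent.H2.RegDVR
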