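import Mathlib
import Groth.Agent.Lib.Helper2.RegDVR5

/-! The residue field of the order valuation ring is purely transcendental over the residue
field of `A`, generated by the classes of `x_i / x_0`. -/

universe u v
open MvPolynomial IsLocalRing
set_option linter.unusedSectionVars false

namespace Groth.Agent.H2.RegDVR

section ResField
variable {A : Type u} [CommRing A] [IsDomain A] [IsLocalRing A] [IsNoetherianRing A]
  {K : Type v} [Field K] [Algebra A K] [IsFractionRing A K]
  {e : ℕ} (x : Fin (e + 1) → A) (hx : Ideal.span (Set.range x) = maximalIdeal A)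
  (hq : CAlgX.IsQuasiRegular x)

instance : IsLocalHom (algebraMap A (VV (K := K) x hx hq)) := isLocalHom_algebraMap x hx hq

/-- the map of residue fields -/
noncomputable def phi : ResidueField A →+* ResidueField (VV (K := K) x hx hq) :=
  ResidueField.map (algebraMap A (VV (K := K) x hx hq))

theorem phi_comp : (phi (K := K) x hx hq).comp (residue A) =
    (residue (VV (K := K) x hx hq)).comp (algebraMap A (VV (K := K) x hx hq)) := by
  ext a
  rfl

/-- the classes of `x_{i+1} / x_0` -/
noncomputable def tbar (i : Fin e) : ResidueField (VV (K := K) x hx hq) :=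
  residue _ (tt (K := K) x hx hq i)

theorem residue_aeval_tt (Q : MvPolynomial (Fin e) A) :
    residue _ (aeval (tt (K := K) x hx hq) Q) =
      eval₂ (phi (K := K) x hx hq) (tbar (K := K) x hx hq) (map (residue A) Q) := by
  rw [eval₂_map, phi_comp, aeval_def, eval₂_comp_left (residue _)]
  rfl

theorem residue_EE (F : MvPolynomial (Fin (e + 1)) A) :
    residue _ (EE (K := K) x hx hq F) =
      eval₂ (phi (K := K) x hx hq) (tbar (K := K) x hx hq)
        (map (residue A) (deh A e F)) := by
  rw [EE_apply, residue_aeval_tt]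

theorem algebraicIndependent_tbar :
    letI := (phi (K := K) x hx hq).toAlgebra
    AlgebraicIndependent (ResidueField A) (tbar (K := K) x hx hq) := by
  let _ := (phi (K := K) x hx hq).toAlgebra
  rw [algebraicIndependent_iff_injective_aeval, injective_iff_map_eq_zero]
  intro P hP
  obtain ⟨Q, rfl⟩ := map_surjective (residue A) IsLocalRing.residue_surjective P
  obtain ⟨n, F, hF, hDF⟩ := exists_homogeneous_deh Q
  have h1 : residue _ (EE (K := K) x hx hq F) = 0 := by
    rw [residue_EE, hDF]
    rw [aeval_def] at hP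
    exact hP
  have h2 : EE (K := K) x hx hq F ∈ maximalIdeal (VV (K := K) x hx hq) :=
    (residue_eq_zero_iff _).mp h1
  rw [mem_maximalIdeal_iff, EE_mem_Vge_iff x hx hq hF] at h2
  have h3 := map_residue_eq_zero_of_mem x hx hq hF h2
  rw [← hDF, ← deh_map, h3, map_zero]

theorem residue_EE_mem_adjoin (F : MvPolynomial (Fin (e + 1)) A) :
    letI := (phi (K := K) x hx hq).toAlgebra
    residue _ (EE (K := K) x hx hq F) ∈
      IntermediateField.adjoin (ResidueField A) (Set.range (tbar (K := K) x hx hq)) := by
  letI := (phi (K := K) x hx hq).toAlgebra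
  rw [residue_EE]
  have h1 : eval₂ (phi (K := K) x hx hq) (tbar (K := K) x hx hq)
      (map (residue A) (deh A e F)) ∈
      Algebra.adjoin (ResidueField A) (Set.range (tbar (K := K) x hx hq)) := by
    rw [Algebra.adjoin_range_eq_range_aeval]
    exact ⟨map (residue A) (deh A e F), rfl⟩
  exact IntermediateField.algebra_adjoin_le_adjoin _ _ h1

theorem adjoin_tbar_eq_top :
    letI := (phi (K := K) x hx hq).toAlgebra
    IntermediateField.adjoin (ResidueField A) (Set.range (tbar (K := K) x hx hq)) = ⊤ := by
  letI := (phi (K := K) x hx hq).toAlgebra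
  rw [eq_top_iff]
  rintro z -
  obtain ⟨w, rfl⟩ := IsLocalRing.residue_surjective z
  obtain ⟨a, b, j, hb, ha, e1⟩ := w.2
  rw [add_zero] at ha
  obtain ⟨Fa, hFa, rfl⟩ := exists_homogeneous_of_mem_pow x hx ha
  obtain ⟨Fb, hFb, rfl⟩ := exists_homogeneous_of_mem_pow x hx hb.1
  have hx0 := algebraMap_x0_ne_zero (K := K) x hx hq
  have e2 : w * EE (K := K) x hx hq Fb = EE (K := K) x hx hq Fa := by
    apply Subtype.ext
    have h1 := EE_spec (K := K) x hx hq hFa
    have h2 := EE_spec (K := K) x hx hq hFb
    have h3 : ((w * EE (K := K) x hx hq Fb : VV (K := K) x hx hq) : K) *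
        algebraMap A K (x 0) ^ j =
        ((EE (K := K) x hx hq Fa : VV (K := K) x hx hq) : K) * algebraMap A K (x 0) ^ j := by
      rw [h1, ← e1, ← h2]
      change (w : K) * ((EE (K := K) x hx hq Fb : VV (K := K) x hx hq) : K) * _ = _
      ring
    exact mul_right_cancel₀ (pow_ne_zero j hx0) h3
  have hunit : IsUnit (EE (K := K) x hx hq Fb) := by
    rw [isUnit_iff, EE_mem_Vge_iff x hx hq hFb]
    exact hb.2
  have hne : residue _ (EE (K := K) x hx hq Fb) ≠ 0 := by
    intro h
    rw [residue_eq_zero_iff] at h
    exact (IsLocalRing.mem_maximalIdeal _).mp h hunit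
  have e3 : residue _ w = residue _ (EE (K := K) x hx hq Fa) *
      (residue _ (EE (K := K) x hx hq Fb))⁻¹ := by
    rw [← e2, map_mul, mul_assoc, mul_inv_cancel₀ hne, mul_one]
  rw [e3]
  exact mul_mem (residue_EE_mem_adjoin x hx hq Fa) (inv_mem (residue_EE_mem_adjoin x hx hq Fb))

end ResField

end Groth.Agent.H2.RegDVR
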