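import Mathlib
import Groth.Agent.Lib.Helper2.RegDVR6
import Groth.Agent.Lib.Helper1.RegSeq

/-! A regular local ring that is not a field is dominated by a discrete valuation ring of its
fraction field with purely transcendental residue field extension. -/

universe u
open MvPolynomial IsLocalRing
set_option linter.unusedSectionVars false
set_option linter.style.haveILetI false

namespace Groth.Agent.H2.RegDVR

/-- a regular system of parameters, indexed by `Fin (e + 1)` when the ring is not a field -/
theorem exists_params (A : Type u) [CommRing A] [IsRegularLocalRing A] (hA : ¬ IsField A) :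
    ∃ (e : ℕ) (x : Fin (e + 1) → A), Ideal.span (Set.range x) = maximalIdeal A ∧
      ringKrullDim A = ((e + 1 : ℕ) : WithBot ℕ∞) := by
  obtain ⟨s, hs, hspan⟩ := Submodule.FG.exists_span_finset_card_eq_spanFinrank
    (p := maximalIdeal A) (maximalIdeal A).fg_of_isNoetherianRing
  have hdim : ringKrullDim A = ((s.card : ℕ) : WithBot ℕ∞) := by
    rw [← IsRegularLocalRing.spanFinrank_maximalIdeal, hs]
  have hne : s.card ≠ 0 := by
    intro h0
    rw [Finset.card_eq_zero] at h0
    rw [h0, Finset.coe_empty, Submodule.span_empty] at hspan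
    exact hA (IsLocalRing.isField_iff_maximalIdeal_eq.mpr hspan.symm)
  obtain ⟨e, he⟩ := Nat.exists_eq_succ_of_ne_zero hne
  refine ⟨e, fun i => (s.equivFin.symm (Fin.cast he.symm i)).1, ?_, by rw [hdim, he]⟩
  rw [← hspan]
  congr 1
  ext a
  constructor
  · rintro ⟨i, rfl⟩
    exact (s.equivFin.symm (Fin.cast he.symm i)).2
  · intro ha
    refine ⟨Fin.cast he (s.equivFin ⟨a, ha⟩), ?_⟩
    simp

theorem main (A : Type u) [CommRing A] [IsRegularLocalRing A] (hA : ¬ IsField A) :
    ∃ (V : Subalgebra A (FractionRing A)) (_ : IsDomain V) (_ : IsDiscreteValuationRing V),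
      IsFractionRing V (FractionRing A) ∧
      (IsLocalRing.maximalIdeal V).comap (algebraMap A V) = IsLocalRing.maximalIdeal A ∧
      ∃ (φ : IsLocalRing.ResidueField A →+* IsLocalRing.ResidueField V),
        φ.comp (IsLocalRing.residue A) = (IsLocalRing.residue V).comp (algebraMap A V) ∧
        letI := φ.toAlgebra
        ∃ (ι : Type u) (t : ι → IsLocalRing.ResidueField V),
          AlgebraicIndependent (IsLocalRing.ResidueField A) t ∧
          IntermediateField.adjoin (IsLocalRing.ResidueField A) (Set.range t) = ⊤ := by
  haveI : IsDomain A := Groth.Agent.H7.Reg.isDomain A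
  obtain ⟨e, x, hx, hd⟩ := exists_params A hA
  have hreg := Groth.Agent.H1.Reg.isRegular_ofFn (e + 1) hd x hx
  have hq : CAlgX.IsQuasiRegular x :=
    Groth.Agent.H2.QReg.isQuasiRegular_of_isWeaklyRegular (e + 1) x hreg.toIsWeaklyRegular
  refine ⟨VV (K := FractionRing A) x hx hq, inferInstance,
    isDiscreteValuationRing_VV x hx hq 0, inferInstance, ?_, ?_⟩
  · exact comap_maximalIdeal (K := FractionRing A) x hx hq
  · refine ⟨phi (K := FractionRing A) x hx hq, phi_comp (K := FractionRing A) x hx hq, ?_⟩
    letI := (phi (K := FractionRing A) x hx hq).toAlgebra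
    refine ⟨ULift.{u} (Fin e), fun i => tbar (K := FractionRing A) x hx hq i.down, ?_, ?_⟩
    · exact (algebraicIndependent_tbar (K := FractionRing A) x hx hq).comp ULift.down
        ULift.down_injective
    · have h1 : Set.range (fun i : ULift.{u} (Fin e) => tbar (K := FractionRing A) x hx hq i.down)
          = Set.range (tbar (K := FractionRing A) x hx hq) :=
        ULift.down_surjective.range_comp (tbar (K := FractionRing A) x hx hq)
      rw [h1]
      exact adjoin_tbar_eq_top (K := FractionRing A) x hx hq

end Groth.Agent.H2.RegDVR
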