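import Groth.Agent.Lib.Helper2.RegGenC
import Groth.Agent.Lib.Helper2.BlSmB
import Groth.Agent.Lib.Helper1.RegNear
import Groth.Agent.Lib.Helper1.RegExch2

/-! # The blow-up of a regular scheme along a regular closed subscheme is regular. -/

universe u
open CategoryTheory CategoryTheory.Limits AlgebraicGeometry

namespace Groth.Agent.H2.RegGen

variable {X X' Y : Scheme.{u}}

/-- a closed immersion of regular locally Noetherian schemes is a regular immersion. -/
theorem isRegularClosedImmersion_of_regular [IsLocallyNoetherian X] (i : Y ⟶ X)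
    [IsClosedImmersion i] (hX : ∀ x : X, IsRegularLocalRing (X.presheaf.stalk x))
    (hY : ∀ y : Y, IsRegularLocalRing (Y.presheaf.stalk y)) :
    Mor2.IsRegularClosedImmersion i := by
  rw [Groth.Agent.H1.RegNear.isRegularClosedImmersion_iff_forall]
  intro z
  apply Groth.Agent.H1.RegNear.hasRegChart_of_regAt
  have := hX (i z)
  have := hY z
  obtain ⟨r, x, -, hreg, hker, -⟩ :=
    Groth.Agent.H1.RegExch.exists_regular_generators_ker (i.stalkMap z).hom
      (i.stalkMap_surjective z)
  exact ⟨List.ofFn x, hreg, hker.symm⟩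

/-- the stalk comparison for a morphism which is an open immersion near a point. -/
theorem regular_stalk_of_isOpenImmersion_restrict' (b : X' ⟶ X) (U' : X'.Opens)
    [IsOpenImmersion (U'.ι ≫ b)] (x' : X') (hx' : x' ∈ U')
    (h : IsRegularLocalRing (X.presheaf.stalk (b x'))) :
    IsRegularLocalRing (X'.presheaf.stalk x') := by
  let z : U' := ⟨x', hx'⟩
  have h1 : IsIso ((U'.ι ≫ b).stalkMap z) := inferInstance
  have h2 : IsIso (U'.ι.stalkMap z) := inferInstance
  rw [Scheme.Hom.stalkMap_comp] at h1
  have h3 : IsIso (b.stalkMap (U'.ι z)) :=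
    @IsIso.of_isIso_comp_right _ _ _ _ _ (b.stalkMap (U'.ι z)) (U'.ι.stalkMap z) h2 h1
  let e : X.presheaf.stalk (b x') ≃+* X'.presheaf.stalk x' :=
    (asIso (b.stalkMap (U'.ι z))).commRingCatIsoToRingEquiv
  exact IsRegularLocalRing.of_ringEquiv e

/-- **the blow-up of a regular scheme along a regular closed subscheme is regular.** -/
theorem regular_blowUp [IsLocallyNoetherian X] (i : Y ⟶ X) [IsClosedImmersion i]
    (hX : ∀ x : X, IsRegularLocalRing (X.presheaf.stalk x))
    (hY : ∀ y : Y, IsRegularLocalRing (Y.presheaf.stalk y))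
    (π : X' ⟶ X) (hπ : BlowUp.IsBlowUp π i.ker) (z : X') :
    IsRegularLocalRing (X'.presheaf.stalk z) := by
  have hi := isRegularClosedImmersion_of_regular i hX hY
  have hprop : IsProper π := by
    refine Groth.Agent.H9.BLA.IsBlowUp.isProper_of_locally_fg hπ (fun x => ?_)
    obtain ⟨_, ⟨U, hU, rfl⟩, hxU, -⟩ :=
      X.isBasis_affineOpens.exists_subset_of_mem_open (Set.mem_univ x) isOpen_univ
    have : IsNoetherianRing Γ(X, U) := IsLocallyNoetherian.component_noetherian ⟨U, hU⟩
    exact ⟨⟨U, hU⟩, hxU, (isNoetherianRing_iff_ideal_fg _).mp this _⟩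
  have hX' : IsLocallyNoetherian X' := LocallyOfFiniteType.isLocallyNoetherian π
  have hYn : IsLocallyNoetherian Y := LocallyOfFiniteType.isLocallyNoetherian i
  by_cases hz : π z ∈ i.ker.support
  · -- on the exceptional divisor
    have hzE : z ∈ Set.range (i.ker.comap π).subschemeι := by
      rw [Scheme.IdealSheafData.range_subschemeι, Scheme.IdealSheafData.support_comap]
      exact hz
    obtain ⟨e, rfl⟩ := hzE
    let g : (i.ker.comap π).subscheme ⟶ Y :=
      IsClosedImmersion.lift i ((i.ker.comap π).subschemeι ≫ π)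
        (Scheme.IdealSheafData.le_map_comap (f := π) (J := i.ker))
    have hg : g ≫ i = (i.ker.comap π).subschemeι ≫ π := IsClosedImmersion.lift_fac _ _ _
    have hsm : Smooth g := Groth.Agent.H2.BlSm.smooth_exceptional i hi π hπ g hg
    have hEreg : IsRegularLocalRing ((i.ker.comap π).subscheme.presheaf.stalk e) := by
      have hsm' : Smooth ((⊤ : (i.ker.comap π).subscheme.Opens).ι ≫ g) := inferInstance
      have hpk := (H5.SM.stalk_package g e ⟨⊤, trivial, hsm'⟩).2
      rw [hpk]
      exact hY _
    exact regular_stalk_of_subscheme (i.ker.comap π) hπ.1 e hEreg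
  · -- away from the centre
    have hopen : IsOpenImmersion ((π ⁻¹ᵁ i.ker.support.compl).ι ≫ π) :=
      Groth.Agent.LD.QC.IsBlowUp.isOpenImmersion_compl hπ
    exact regular_stalk_of_isOpenImmersion_restrict' π (π ⁻¹ᵁ i.ker.support.compl) z hz (hX _)

end Groth.Agent.H2.RegGen
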