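import Groth.Agent.Lib.Helper2.QuasiReg4

/-!
# Permutable regular sequences (helper2)

`NZ f`: each `f i` is a nonzerodivisor modulo every subset of the earlier elements.
`NZ' f`: each `f i` is a nonzerodivisor modulo every subset of the other elements.
-/

namespace Groth.Agent.H2.RegPerm

open Groth.Agent.H2.QuasiReg

variable {A : Type*} [CommRing A]

theorem ofList_take_ofFn {n : ℕ} (a : Fin n → A) (i : Fin n) :
    (Ideal.ofList ((List.ofFn a).take i) • ⊤ : Submodule A A) = Ideal.span (a '' Set.Iio i) := by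
  rw [smul_eq_mul, Ideal.mul_top]
  unfold Ideal.ofList
  congr 1
  ext x
  simp only [Set.mem_ofPred_eq, Set.mem_image, Set.mem_Iio]
  rw [List.mem_take_iff_getElem]
  constructor
  · rintro ⟨j, hj, rfl⟩
    simp only [List.length_ofFn, lt_inf_iff] at hj
    exact ⟨⟨j, hj.2⟩, hj.1, by simp⟩
  · rintro ⟨j, hj, rfl⟩
    refine ⟨j, ?_, by simp⟩
    simp only [List.length_ofFn, lt_inf_iff]
    exact ⟨hj, j.2⟩

theorem isWeaklyRegular_ofFn_iff {n : ℕ} (a : Fin n → A) :
    RingTheory.Sequence.IsWeaklyRegular A (List.ofFn a) ↔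
      ∀ i : Fin n, ∀ y, a i * y ∈ Ideal.span (a '' Set.Iio i) → y ∈ Ideal.span (a '' Set.Iio i) := by
  rw [RingTheory.Sequence.isWeaklyRegular_iff_Fin]
  constructor
  · intro h i y hy
    have h1 := h (i.cast (List.length_ofFn (f := a)).symm)
    rw [isSMulRegular_quotient_iff_mem_of_smul_mem] at h1
    have h2 := ofList_take_ofFn a i
    simp only [Fin.val_cast] at h1
    rw [h2] at h1
    apply h1 y
    simpa using hy
  · intro h i
    rw [isSMulRegular_quotient_iff_mem_of_smul_mem]
    have h2 := ofList_take_ofFn a (i.cast (List.length_ofFn (f := a)))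
    simp only [Fin.val_cast] at h2
    rw [h2]
    intro y hy
    apply h _ y
    have e : a (Fin.cast (List.length_ofFn (f := a)) i) = (List.ofFn a)[i] := by
      simp only [Fin.getElem_fin, List.getElem_ofFn]
      rfl
    rw [e]
    exact hy

/-- Regular modulo every subset of the earlier elements. -/
def NZ {r : ℕ} (f : Fin r → A) : Prop :=
  ∀ (i : Fin r) (S : Finset (Fin r)), (∀ j ∈ S, j < i) →
    ∀ a, f i * a ∈ Ideal.span (f '' (S : Set (Fin r))) → a ∈ Ideal.span (f '' (S : Set (Fin r)))

/-- Regular modulo every subset of the other elements. -/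
def NZ' {r : ℕ} (f : Fin r → A) : Prop :=
  ∀ (i : Fin r) (S : Finset (Fin r)), i ∉ S →
    ∀ a, f i * a ∈ Ideal.span (f '' (S : Set (Fin r))) → a ∈ Ideal.span (f '' (S : Set (Fin r)))

/-- The swap lemma. -/
theorem swap_lemma (I : Ideal A) (a b : A) (ha : ∀ x, a * x ∈ I → x ∈ I)
    (hb : ∀ x, b * x ∈ I ⊔ Ideal.span {a} → x ∈ I ⊔ Ideal.span {a}) :
    ∀ x, a * x ∈ I ⊔ Ideal.span {b} → x ∈ I ⊔ Ideal.span {b} := by
  intro x hx
  obtain ⟨ι, hι, z, hz, hsum⟩ := Submodule.mem_sup.mp hx
  obtain ⟨y, rfl⟩ := Ideal.mem_span_singleton'.mp hz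
  have h1 : b * y ∈ I ⊔ Ideal.span {a} := by
    have : b * y = -ι + x * a := by
      have : y * b = a * x - ι := by rw [← hsum]; ring
      rw [mul_comm, this]; ring
    rw [this]
    exact add_mem (Ideal.mem_sup_left (neg_mem hι))
      (Ideal.mem_sup_right (Ideal.mul_mem_left _ _ (Ideal.mem_span_singleton_self a)))
  obtain ⟨ι', hι', z', hz', hsum'⟩ := Submodule.mem_sup.mp (hb y h1)
  obtain ⟨w, rfl⟩ := Ideal.mem_span_singleton'.mp hz'
  have h2 : a * (x - b * w) ∈ I := by
    have : a * (x - b * w) = ι + ι' * b := by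
      have e1 : a * x = ι + y * b := hsum.symm
      have e2 : y = ι' + w * a := hsum'.symm
      rw [mul_sub, e1, e2]; ring
    rw [this]
    exact add_mem hι (Ideal.mul_mem_right _ _ hι')
  have h3 := ha _ h2
  have : x = (x - b * w) + w * b := by ring
  rw [this]
  exact add_mem (Ideal.mem_sup_left h3)
    (Ideal.mem_sup_right (Ideal.mul_mem_left _ _ (Ideal.mem_span_singleton_self b)))

theorem NZ.nz' {r : ℕ} {f : Fin r → A} (h : NZ f) : NZ' f := by
  classical
  -- induction on the number of elements of `S` beyond `i`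
  suffices H : ∀ (N : ℕ) (i : Fin r) (S : Finset (Fin r)), i ∉ S →
      (S.filter (fun s => i < s)).card = N →
      ∀ a, f i * a ∈ Ideal.span (f '' (S : Set (Fin r))) →
        a ∈ Ideal.span (f '' (S : Set (Fin r))) by
    intro i S hi
    exact H _ i S hi rfl
  intro N
  induction N with
  | zero =>
    intro i S hi hN
    apply h i S
    intro j hj
    rw [Finset.card_eq_zero, Finset.filter_eq_empty_iff] at hN
    have h1 := hN hj
    have h2 : j ≠ i := fun e => hi (e ▸ hj)
    exact lt_of_le_of_ne (not_lt.mp h1) h2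
  | succ N ih =>
    intro i S hi hN
    have hne : (S.filter (fun s => i < s)).Nonempty := by
      rw [← Finset.card_pos, hN]; omega
    have hSne : S.Nonempty := hne.mono (Finset.filter_subset _ _)
    set s := S.max' hSne with hs
    have hsS : s ∈ S := Finset.max'_mem S hSne
    have his : i < s := by
      obtain ⟨t, ht⟩ := hne
      rw [Finset.mem_filter] at ht
      exact lt_of_lt_of_le ht.2 (Finset.le_max' S t ht.1)
    set S' := S.erase s with hS'
    have hiS' : i ∉ S' := fun hmem => hi (Finset.mem_of_mem_erase hmem)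
    have hcard : (S'.filter (fun t => i < t)).card = N := by
      have : S'.filter (fun t => i < t) = (S.filter (fun t => i < t)).erase s := by
        rw [hS', Finset.filter_erase]
      rw [this, Finset.card_erase_of_mem (Finset.mem_filter.mpr ⟨hsS, his⟩), hN]
      rfl
    have hsplit : Ideal.span (f '' (S : Set (Fin r))) =
        Ideal.span (f '' (S' : Set (Fin r))) ⊔ Ideal.span {f s} := by
      rw [← Ideal.span_union, ← Set.image_singleton, ← Set.image_union]
      congr 2
      rw [hS', Finset.coe_erase, Set.sdiff_union_self, Set.union_eq_left.mpr]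
      simpa using hsS
    rw [hsplit]
    apply swap_lemma _ (f i) (f s) (ih i S' hiS' hcard)
    -- `f s` is regular modulo `S' ∪ {i}`, all smaller than `s`
    have hlt : ∀ j ∈ insert i S', j < s := by
      intro j hj
      rcases Finset.mem_insert.mp hj with rfl | hj
      · exact his
      · have h1 := Finset.le_max' S j (Finset.mem_of_mem_erase hj)
        exact lt_of_le_of_ne h1 (Finset.ne_of_mem_erase hj)
    have h2 := h s (insert i S') hlt
    have hsp : Ideal.span (f '' ((insert i S' : Finset (Fin r)) : Set (Fin r))) =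
        Ideal.span (f '' (S' : Set (Fin r))) ⊔ Ideal.span {f i} := by
      rw [← Ideal.span_union, ← Set.image_singleton, ← Set.image_union]
      congr 2
      rw [Finset.coe_insert, Set.union_singleton]
    rw [hsp] at h2
    exact h2

theorem NZ'.isWeaklyRegular {r : ℕ} {f : Fin r → A} (h : NZ' f) (σ : Equiv.Perm (Fin r)) :
    RingTheory.Sequence.IsWeaklyRegular A (List.ofFn (f ∘ σ)) := by
  classical
  rw [isWeaklyRegular_ofFn_iff]
  intro i y hy
  have himg : (f ∘ σ) '' Set.Iio i =
      f '' ((Finset.univ.filter (fun j => j < i)).image σ : Finset (Fin r)) := by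
    rw [Set.image_comp]
    congr 1
    ext x
    simp
  rw [himg] at hy ⊢
  apply h (σ i) _ _ y hy
  intro hmem
  rw [Finset.mem_image] at hmem
  obtain ⟨j, hj, hji⟩ := hmem
  rw [Finset.mem_filter] at hj
  exact absurd (σ.injective hji) (ne_of_lt hj.2)

end Groth.Agent.H2.RegPerm
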