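import Groth.Agent.Lib.Helper2.RegPerm1

/-!
# Permutable regular sequences: from permutations to subsets (helper2)
-/

namespace Groth.Agent.H2.RegPerm

open Groth.Agent.H2.QuasiReg

variable {A : Type*} [CommRing A]

/-- Every duplicate-free exhaustive list of indices comes from a permutation. -/
theorem exists_perm_of_list {r : ℕ} (f : Fin r → A) (l : List (Fin r)) (nd : l.Nodup)
    (hall : ∀ x, x ∈ l) : ∃ σ : Equiv.Perm (Fin r), List.ofFn (f ∘ σ) = l.map f := by
  classical
  let e := List.Nodup.getEquivOfForallMemList l nd hall
  have hlen : l.length = r := by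
    have := Fintype.card_congr e
    simpa using this
  refine ⟨(finCongr hlen.symm).trans e, ?_⟩
  apply List.ext_getElem
  · simp [hlen]
  · intro k h1 h2
    simp [e]

theorem ofList_map_toList {r : ℕ} (f : Fin r → A) (S : Finset (Fin r)) :
    Ideal.ofList (S.toList.map f) = Ideal.span (f '' (S : Set (Fin r))) := by
  unfold Ideal.ofList
  congr 1
  ext x
  simp

/-- If all permutations of `f` are weakly regular then `NZ f`. -/
theorem nz_of_forall_perm {r : ℕ} {f : Fin r → A}
    (h : ∀ σ : Equiv.Perm (Fin r), RingTheory.Sequence.IsWeaklyRegular A (List.ofFn (f ∘ σ))) :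
    NZ f := by
  classical
  intro i S hS a ha
  have hiS : i ∉ S := fun hmem => lt_irrefl i (hS i hmem)
  set rest : Finset (Fin r) := Finset.univ \ insert i S with hrest
  set l : List (Fin r) := S.toList ++ (i :: rest.toList) with hl
  have nd : l.Nodup := by
    rw [hl, List.nodup_append]
    refine ⟨S.nodup_toList, ?_, ?_⟩
    · rw [List.nodup_cons]
      refine ⟨?_, rest.nodup_toList⟩
      rw [Finset.mem_toList, hrest]
      simp
    · intro x hx y hy hxy
      subst hxy
      rw [Finset.mem_toList] at hx
      rw [List.mem_cons, Finset.mem_toList, hrest] at hy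
      rcases hy with rfl | hy
      · exact hiS hx
      · simp only [Finset.mem_sdiff, Finset.mem_univ, Finset.mem_insert, not_or, true_and] at hy
        exact hy.2 hx
  have hall : ∀ x, x ∈ l := by
    intro x
    rw [hl, List.mem_append, List.mem_cons, Finset.mem_toList, Finset.mem_toList, hrest]
    by_cases hx : x ∈ S
    · exact Or.inl hx
    · by_cases hxi : x = i
      · exact Or.inr (Or.inl hxi)
      · right; right
        simp [hx, hxi]
  obtain ⟨σ, hσ⟩ := exists_perm_of_list f l nd hall
  have h1 := h σ
  rw [hσ, hl, List.map_append, List.map_cons,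
    RingTheory.Sequence.isWeaklyRegular_append_iff] at h1
  have h2 := ((RingTheory.Sequence.isWeaklyRegular_cons_iff _ _ _).mp h1.2).1
  rw [isSMulRegular_quotient_iff_mem_of_smul_mem, ofList_map_toList, smul_eq_mul,
    Ideal.mul_top] at h2
  exact h2 a ha

end Groth.Agent.H2.RegPerm
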