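import Mathlib

/-!
# Weakly regular sequences and short exact sequences; powers of regular sequences
-/

namespace Groth.Agent.H2.RegPow

open RingTheory.Sequence Function Pointwise

universe u v

variable {A : Type u} [CommRing A]

/-- Injectivity of `M'/rM' → M/rM` when `r` is regular on the cokernel. -/
lemma map_injective {M' M M'' : Type v} [AddCommGroup M'] [Module A M'] [AddCommGroup M]
    [Module A M] [AddCommGroup M''] [Module A M''] (r : A) (f : M' →ₗ[A] M) (g : M →ₗ[A] M'')
    (hf : Injective f) (hfg : Exact f g) (h2 : IsSMulRegular M'' r) :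
    Injective (QuotSMulTop.map r f) := by
  rw [injective_iff_map_eq_zero]
  intro y hy
  obtain ⟨x, rfl⟩ := Submodule.Quotient.mk_surjective _ y
  rw [QuotSMulTop.map_apply_mk, Submodule.Quotient.mk_eq_zero,
    Submodule.mem_smul_pointwise_iff_exists] at hy
  obtain ⟨m, -, hm⟩ := hy
  rw [Submodule.Quotient.mk_eq_zero, Submodule.mem_smul_pointwise_iff_exists]
  have h0 : r • g m = 0 := by
    rw [← map_smul, hm]
    exact hfg.apply_apply_eq_zero x
  have h1 : g m = 0 := h2.right_eq_zero_of_smul h0
  obtain ⟨x', rfl⟩ := (hfg m).mp h1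
  refine ⟨x', Submodule.mem_top, hf ?_⟩
  rw [map_smul, hm]

/-- A sequence weakly regular on the outer terms of a short exact sequence is weakly regular on the
middle term. -/
lemma isWeaklyRegular_of_exact {M' M M'' : Type v} [AddCommGroup M'] [Module A M'] [AddCommGroup M]
    [Module A M] [AddCommGroup M''] [Module A M''] (rs : List A) (f : M' →ₗ[A] M)
    (g : M →ₗ[A] M'') (hf : Injective f) (hfg : Exact f g) (hg : Surjective g)
    (h1 : IsWeaklyRegular M' rs) (h2 : IsWeaklyRegular M'' rs) : IsWeaklyRegular M rs := by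
  induction rs generalizing M' M M'' with
  | nil => exact IsWeaklyRegular.nil A M
  | cons r rs ih =>
    rw [isWeaklyRegular_cons_iff] at h1 h2 ⊢
    refine ⟨isSMulRegular_of_range_eq_ker hf hfg.linearMap_ker_eq.symm h1.1 h2.1, ?_⟩
    exact ih (QuotSMulTop.map r f) (QuotSMulTop.map r g) (map_injective r f g hf hfg h2.1)
      (QuotSMulTop.map_exact r hfg hg) (QuotSMulTop.map_surjective r hg) h1.2 h2.2

section prod

variable {M : Type v} [AddCommGroup M] [Module A M]

/-- `M/bM → M/bcM`, multiplication by `c`. -/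
def mulMap (b c : A) : QuotSMulTop b M →ₗ[A] QuotSMulTop (b * c) M :=
  Submodule.mapQ _ _ (LinearMap.lsmul A M c) (by
    intro x hx
    rw [Submodule.mem_smul_pointwise_iff_exists] at hx
    obtain ⟨m, -, rfl⟩ := hx
    rw [Submodule.mem_comap, Submodule.mem_smul_pointwise_iff_exists]
    exact ⟨m, Submodule.mem_top, by simp [mul_smul, smul_comm c b]⟩)

/-- `M/bcM → M/cM`, the projection. -/
def projMap (b c : A) : QuotSMulTop (b * c) M →ₗ[A] QuotSMulTop c M :=
  Submodule.mapQ _ _ LinearMap.id (by
    intro x hx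
    rw [Submodule.mem_smul_pointwise_iff_exists] at hx
    obtain ⟨m, -, rfl⟩ := hx
    rw [Submodule.mem_comap, Submodule.mem_smul_pointwise_iff_exists]
    exact ⟨b • m, Submodule.mem_top, by simp [mul_smul, smul_comm c b]⟩)

lemma mulMap_mk (b c : A) (m : M) :
    mulMap b c (Submodule.Quotient.mk m : QuotSMulTop b M) = Submodule.Quotient.mk (c • m) := rfl

lemma projMap_mk (b c : A) (m : M) :
    projMap b c (Submodule.Quotient.mk m : QuotSMulTop (b * c) M) = Submodule.Quotient.mk m := rfl

lemma mulMap_injective (b c : A) (hc : IsSMulRegular M c) :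
    Injective (mulMap (M := M) b c) := by
  rw [injective_iff_map_eq_zero]
  intro y hy
  obtain ⟨x, rfl⟩ := Submodule.Quotient.mk_surjective _ y
  rw [mulMap_mk, Submodule.Quotient.mk_eq_zero, Submodule.mem_smul_pointwise_iff_exists] at hy
  obtain ⟨m, -, hm⟩ := hy
  rw [Submodule.Quotient.mk_eq_zero, Submodule.mem_smul_pointwise_iff_exists]
  refine ⟨m, Submodule.mem_top, hc ?_⟩
  simp only
  rw [← hm, mul_smul, smul_comm c b]

lemma projMap_surjective (b c : A) : Surjective (projMap (M := M) b c) := by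
  intro y
  obtain ⟨x, rfl⟩ := Submodule.Quotient.mk_surjective _ y
  exact ⟨Submodule.Quotient.mk x, rfl⟩

lemma mulMap_projMap_exact (b c : A) : Exact (mulMap (M := M) b c) (projMap b c) := by
  intro y
  obtain ⟨x, rfl⟩ := Submodule.Quotient.mk_surjective _ y
  rw [projMap_mk, Submodule.Quotient.mk_eq_zero, Submodule.mem_smul_pointwise_iff_exists]
  constructor
  · rintro ⟨m, -, rfl⟩
    exact ⟨Submodule.Quotient.mk m, rfl⟩
  · rintro ⟨z, hz⟩
    obtain ⟨m, rfl⟩ := Submodule.Quotient.mk_surjective _ z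
    rw [mulMap_mk, Submodule.Quotient.eq, Submodule.mem_smul_pointwise_iff_exists] at hz
    obtain ⟨m', -, hm'⟩ := hz
    refine ⟨m - b • m', Submodule.mem_top, ?_⟩
    rw [smul_sub, smul_comm c b, ← mul_smul, hm']
    abel

lemma isWeaklyRegular_quot_mul (b c : A) (rs : List A) (hc : IsSMulRegular M c)
    (h1 : IsWeaklyRegular (QuotSMulTop b M) rs) (h2 : IsWeaklyRegular (QuotSMulTop c M) rs) :
    IsWeaklyRegular (QuotSMulTop (b * c) M) rs :=
  isWeaklyRegular_of_exact rs (mulMap b c) (projMap b c) (mulMap_injective b c hc)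
    (mulMap_projMap_exact b c) (projMap_surjective b c) h1 h2

lemma isWeaklyRegular_pow_cons (a : A) (rs : List A) (h : IsWeaklyRegular M (a :: rs)) (n : ℕ)
    (hn : 1 ≤ n) : IsWeaklyRegular M (a ^ n :: rs) := by
  induction n, hn using Nat.le_induction with
  | base => simpa using h
  | succ n hn ih =>
    rw [isWeaklyRegular_cons_iff] at h ih ⊢
    refine ⟨h.1.pow _, ?_⟩
    rw [pow_succ]
    exact isWeaklyRegular_quot_mul (a ^ n) a rs h.1 ih.2 h.2

end prod

theorem isWeaklyRegular_ofFn_pow {M : Type v} [AddCommGroup M] [Module A M] (n : ℕ) (f : Fin n → A)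
    (v : Fin n → ℕ) (hv : ∀ i, 1 ≤ v i) (hf : IsWeaklyRegular M (List.ofFn f)) :
    IsWeaklyRegular M (List.ofFn fun i => f i ^ v i) := by
  induction n generalizing M with
  | zero => simpa using hf
  | succ n ih =>
    rw [List.ofFn_succ] at hf ⊢
    apply isWeaklyRegular_pow_cons _ _ _ _ (hv 0)
    rw [isWeaklyRegular_cons_iff] at hf ⊢
    exact ⟨hf.1, ih (fun i => f i.succ) (fun i => v i.succ) (fun i => hv i.succ) hf.2⟩

end Groth.Agent.H2.RegPow
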