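import Mathlib

/-!
# Eigenspaces of a translation in the regular representation (S15488)
-/

namespace Groth.Agent.H2.RegRepEigen

variable {A : Type*} [CommRing A] {G : Type*} [Group G] [Finite G] (g : G) (l : A)

lemma pow_eq_of_pow_eq (hl : l ^ orderOf g = 1) {a b : ℕ} (h : g ^ a = g ^ b) : l ^ a = l ^ b := by
  rw [pow_eq_pow_iff_modEq] at h
  have key : ∀ a : ℕ, l ^ a = l ^ (a % orderOf g) := by
    intro a
    conv_lhs => rw [← Nat.div_add_mod a (orderOf g), pow_add, pow_mul, hl, one_pow, one_mul]
  rw [key a, key b]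
  congr 1

/-- the quotient by right cosets of `⟨g⟩` -/
abbrev Q := Quotient (QuotientGroup.rightRel (Subgroup.zpowers g))

lemma exists_pow (h : G) : ∃ k : ℕ, g ^ k * (Quotient.mk (QuotientGroup.rightRel (Subgroup.zpowers g)) h).out = h := by
  have h1 : (QuotientGroup.rightRel (Subgroup.zpowers g))
      (Quotient.mk (QuotientGroup.rightRel (Subgroup.zpowers g)) h).out h :=
    Quotient.mk_out (s := QuotientGroup.rightRel (Subgroup.zpowers g)) h
  rw [QuotientGroup.rightRel_apply] at h1
  rw [← (isOfFinOrder_of_finite g).mem_powers_iff_mem_zpowers] at h1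
  obtain ⟨k, hk⟩ := h1
  refine ⟨k, ?_⟩
  change g ^ k = _ at hk
  rw [hk, inv_mul_cancel_right]

/-- the exponent -/
noncomputable def κ (h : G) : ℕ := (exists_pow g h).choose

lemma κ_spec (h : G) :
    g ^ κ g h * (Quotient.mk (QuotientGroup.rightRel (Subgroup.zpowers g)) h).out = h :=
  (exists_pow g h).choose_spec

lemma mk_mul (h : G) : (Quotient.mk (QuotientGroup.rightRel (Subgroup.zpowers g)) (g * h)) =
    Quotient.mk (QuotientGroup.rightRel (Subgroup.zpowers g)) h := by
  apply Quotient.sound
  change (QuotientGroup.rightRel (Subgroup.zpowers g)) (g * h) h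
  rw [QuotientGroup.rightRel_apply]
  have : h * (g * h)⁻¹ = g⁻¹ := by group
  rw [this]
  exact Subgroup.inv_mem _ (Subgroup.mem_zpowers g)

/-- extension -/
noncomputable def ext : (Q g → A) →ₗ[A] (G → A) where
  toFun w h := l ^ κ g h * w (Quotient.mk _ h)
  map_add' w w' := by funext h; simp [mul_add]
  map_smul' c w := by funext h; simp; ring

/-- restriction -/
noncomputable def res : (G → A) →ₗ[A] (Q g → A) := LinearMap.funLeft A A (fun q : Q g => q.out)

variable {g l}

lemma res_ext (hl : l ^ orderOf g = 1) (w : Q g → A) : res g (ext g l w) = w := by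
  funext q
  change l ^ κ g q.out * w (Quotient.mk _ q.out) = w q
  have h1 := κ_spec g q.out
  rw [Quotient.out_eq] at h1
  have h2 : g ^ κ g q.out = g ^ 0 := by
    rw [pow_zero]
    exact mul_eq_right.1 h1
  rw [pow_eq_of_pow_eq g l hl h2, pow_zero, one_mul, Quotient.out_eq]

lemma mem_E_iff (v : G → A) :
    v ∈ LinearMap.ker (LinearMap.funLeft A A (fun h : G => g * h) - l • LinearMap.id) ↔
      ∀ h, v (g * h) = l * v h := by
  rw [LinearMap.mem_ker, LinearMap.sub_apply, sub_eq_zero, funext_iff]
  rfl

lemma ext_mem (hl : l ^ orderOf g = 1) (w : Q g → A) :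
    ext g l w ∈ LinearMap.ker (LinearMap.funLeft A A (fun h : G => g * h) - l • LinearMap.id) := by
  rw [mem_E_iff]
  intro h
  change l ^ κ g (g * h) * w (Quotient.mk _ (g * h)) = l * (l ^ κ g h * w (Quotient.mk _ h))
  have h1 := κ_spec g (g * h)
  rw [mk_mul] at h1 ⊢
  have h2 : g ^ κ g (g * h) = g ^ (κ g h + 1) := by
    have h3 := κ_spec g h
    have : g ^ κ g (g * h) * (Quotient.mk (QuotientGroup.rightRel (Subgroup.zpowers g)) h).out =
        g ^ (κ g h + 1) * (Quotient.mk (QuotientGroup.rightRel (Subgroup.zpowers g)) h).out := by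
      rw [h1, pow_succ', mul_assoc, h3]
    exact mul_right_cancel this
  rw [pow_eq_of_pow_eq g l hl h2, pow_succ']
  ring

lemma ext_res (v : G → A)
    (hv : v ∈ LinearMap.ker (LinearMap.funLeft A A (fun h : G => g * h) - l • LinearMap.id)) :
    ext g l (res g v) = v := by
  rw [mem_E_iff] at hv
  have hpow : ∀ (k : ℕ) (x : G), v (g ^ k * x) = l ^ k * v x := by
    intro k
    induction k with
    | zero => intro x; simp
    | succ k ih =>
      intro x
      rw [pow_succ', mul_assoc, hv, ih, pow_succ']
      ring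
  funext h
  change l ^ κ g h * v (Quotient.mk _ h).out = v h
  rw [← hpow, κ_spec]

theorem main [Nontrivial A] (hl : l ^ orderOf g = 1) :
    Module.Free A (LinearMap.ker (LinearMap.funLeft A A (fun h : G => g * h) - l • LinearMap.id)) ∧
      Module.finrank A (LinearMap.ker (LinearMap.funLeft A A (fun h : G => g * h) - l • LinearMap.id)) *
        orderOf g = Nat.card G ∧
      ∃ E' : Submodule A (G → A),
        IsCompl (LinearMap.ker (LinearMap.funLeft A A (fun h : G => g * h) - l • LinearMap.id)) E' := by
  set E := LinearMap.ker (LinearMap.funLeft A A (fun h : G => g * h) - l • LinearMap.id) with hE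
  let extE : (Q g → A) →ₗ[A] E := (ext g l).codRestrict E (ext_mem hl)
  have hinj : Function.Injective extE := by
    intro w w' hww
    have := congrArg (fun x : E => res g x.1) hww
    simpa [extE, res_ext hl] using this
  have hsurj : Function.Surjective extE := by
    intro ⟨v, hv⟩
    refine ⟨res g v, Subtype.ext ?_⟩
    exact ext_res v hv
  let e : (Q g → A) ≃ₗ[A] E := LinearEquiv.ofBijective extE ⟨hinj, hsurj⟩
  haveI : Fintype (Q g) := Fintype.ofFinite _
  refine ⟨Module.Free.of_equiv e, ?_, ?_⟩
  · rw [← e.finrank_eq, Module.finrank_fintype_fun_eq_card, ← Nat.card_eq_fintype_card,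
      Subgroup.card_eq_card_quotient_mul_card_subgroup (Subgroup.zpowers g), Nat.card_zpowers,
      Nat.card_congr (QuotientGroup.quotientRightRelEquivQuotientLeftRel (Subgroup.zpowers g))]
  · let f : (G → A) →ₗ[A] E := extE.comp (res g)
    refine ⟨LinearMap.ker f, LinearMap.isCompl_of_proj (f := f) ?_⟩
    intro ⟨v, hv⟩
    apply Subtype.ext
    exact ext_res v hv

end Groth.Agent.H2.RegRepEigen
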