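import Mathlib
import Groth.Prelude.Def_GrSyz
import Groth.Prelude.Def_CohB1
import Groth.Agent.Lib.Helper2.GrHilbRes
import Groth.Agent.Lib.Helper2.PtsRes3
import Groth.Agent.Lib.Helper2.PtsRes5

/-! Graded algebra for `S15434`: `ℕ`-indexed shifted families of a `ℤ`-graded module, their
decompositions, graded free modules with shifted bases, and the graded maps of a graded free
resolution. -/

universe u v

namespace Groth.Agent.H2.RegTil

open DirectSum Groth.Agent.H2.GrHilbRes Groth.Agent.H2.GrComp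

section Shift

variable {R : Type u} [CommRing R] {M : Type v} [AddCommGroup M] [Module R M]
  (ℳ : ℤ → Submodule R M)

/-- the `ℕ`-indexed family `i ↦ ℳ (i - c)`. -/
def shiftFam (c : ℤ) : ℕ → Submodule R M := fun i => ℳ ((i : ℤ) - c)

lemma shiftFam_apply (c : ℤ) (i : ℕ) : shiftFam ℳ c i = ℳ ((i : ℤ) - c) := rfl

/-- a `ℤ`-graded module bounded below by `-c` is `ℕ`-graded by the shifted family. -/
theorem isInternal_shiftFam (h : DirectSum.IsInternal ℳ) (c : ℤ)
    (hbd : ∀ t : ℤ, t < -c → ℳ t = ⊥) : DirectSum.IsInternal (shiftFam ℳ c) := by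
  apply DirectSum.isInternal_submodule_of_iSupIndep_of_iSup_eq_top
  · have h1 := h.submodule_iSupIndep
    have h2 := h1.comp (f := fun i : ℕ => (i : ℤ) - c) (fun a b hab => by
      have : (a : ℤ) = b := by simpa using hab
      exact_mod_cast this)
    exact h2
  · rw [eq_top_iff, ← h.submodule_iSup_eq_top]
    refine iSup_le fun t => ?_
    by_cases ht : t < -c
    · rw [hbd t ht]; exact bot_le
    · have e : ℳ t = shiftFam ℳ c (t + c).toNat := by
        rw [shiftFam_apply]
        congr 1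
        omega
      rw [e]
      exact le_iSup (shiftFam ℳ c) (t + c).toNat

/-- the chosen decomposition of the shifted family. -/
noncomputable def decompShift [DirectSum.Decomposition ℳ] (c : ℤ)
    (hbd : ∀ t : ℤ, t < -c → ℳ t = ⊥) : DirectSum.Decomposition (shiftFam ℳ c) :=
  (isInternal_shiftFam ℳ (DirectSum.Decomposition.isInternal ℳ) c hbd).chooseDecomposition

end Shift

section GSMul

variable {R : Type u} [CommRing R] {A : Type u} [CommRing A] [Algebra R A]
  (𝒜 : ℕ → Submodule R A) (𝒜z : ℤ → Submodule R A)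
  {M : Type u} [AddCommGroup M] [Module R M] [Module A M] (ℳ : ℤ → Submodule R M)

theorem gradedSMul_shiftFam (h𝒜 : ∀ (i : ℕ) (a : A), a ∈ 𝒜 i → a ∈ 𝒜z (i : ℤ))
    [SetLike.GradedSMul 𝒜z ℳ] (c : ℤ) : SetLike.GradedSMul 𝒜 (shiftFam ℳ c) := by
  refine ⟨fun {i j a m} ha hm => ?_⟩
  have h := SetLike.GradedSMul.smul_mem (A := 𝒜z) (B := ℳ) (h𝒜 i a ha) hm
  have e : (i : ℤ) +ᵥ ((j : ℤ) - c) = ((i +ᵥ j : ℕ) : ℤ) - c := by
    rw [vadd_eq_add, vadd_eq_add]
    push_cast
    ring
  rw [e] at h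
  exact h

end GSMul

section Comp

variable {k : Type u} [Field k] {S : Type u} [CommRing S] [Algebra k S]
  {𝒜 : ℤ → Submodule k S} [GradedRing 𝒜]
  {T : Type u} [AddCommGroup T] [Module S T] [Module k T]

/-- a family of subspaces which is the family of homogeneous elements of a component structure is
an internal direct sum decomposition. -/
theorem isInternal_of_comp (C : Comp 𝒜 T) (Pc : ℤ → Submodule k T)
    (hPc : ∀ j t, t ∈ Pc j ↔ C.IsHom j t) : DirectSum.IsInternal Pc := by
  apply DirectSum.isInternal_submodule_of_iSupIndep_of_iSup_eq_top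
  · intro i
    rw [Submodule.disjoint_def]
    intro v hv hv'
    have key : ∀ u ∈ (⨆ (j) (_ : j ≠ i), Pc j), C.comp i u = 0 := by
      intro u hu
      refine Submodule.iSup_induction (fun j => ⨆ (_ : j ≠ i), Pc j)
        (motive := fun u => C.comp i u = 0) hu ?_ ?_ ?_
      · intro j u hu
        by_cases hji : j = i
        · subst hji
          have : (⨆ (_ : j ≠ j), Pc j) = ⊥ := by simp
          rw [this, Submodule.mem_bot] at hu
          rw [hu, map_zero]
        · rw [iSup_pos hji] at hu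
          exact C.comp_ne j i u ((hPc j u).1 hu) hji
      · exact map_zero _
      · intro a b ha hb
        rw [map_add, ha, hb, add_zero]
    rw [← C.comp_same i v ((hPc i v).1 hv)]
    exact key v hv'
  · rw [eq_top_iff]
    intro t _
    obtain ⟨s, -, hsum⟩ := C.exists_support t
    rw [← hsum]
    exact Submodule.sum_mem _ fun j _ =>
      Submodule.mem_iSup_of_mem j ((hPc j _).2 (C.comp_mem j t))

variable (𝒜)

theorem isInternal_piece {n : ℕ} (e : Fin n → ℤ) : DirectSum.IsInternal (piece 𝒜 e) :=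
  isInternal_of_comp (free 𝒜 e) (piece 𝒜 e) (fun _ _ => Iff.rfl)

/-- the chosen decomposition of a graded free module. -/
noncomputable def decompPiece {n : ℕ} (e : Fin n → ℤ) : DirectSum.Decomposition (piece 𝒜 e) :=
  (isInternal_piece 𝒜 e).chooseDecomposition

instance gradedSMul_piece {n : ℕ} (e : Fin n → ℤ) : SetLike.GradedSMul 𝒜 (piece 𝒜 e) := by
  refine ⟨fun {i j a v} ha hv => ?_⟩
  exact (free 𝒜 e).smul_mem i j a v ha hv

end Comp

section Std

variable (k : Type u) [Field k] (r : ℕ)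

local notation "SS" => MvPolynomial (Fin (r + 1)) k

theorem stdGr_natCast (m : ℕ) :
    GrSyz.stdGr k (Fin (r + 1)) (m : ℤ) = CohB1.polyGrading r k m := by
  ext p
  constructor
  · intro hp
    exact (MvPolynomial.mem_homogeneousSubmodule m p).2 (PtsRes.isHomogeneous_of_mem_stdGr hp)
  · intro hp
    exact PtsRes.mem_stdGr_of_isHomogeneous ((MvPolynomial.mem_homogeneousSubmodule m p).1 hp)

theorem mem_stdGr_of_mem_poly (i : ℕ) (a : SS) (ha : a ∈ CohB1.polyGrading r k i) :
    a ∈ GrSyz.stdGr k (Fin (r + 1)) (i : ℤ) := by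
  rw [stdGr_natCast]; exact ha

theorem stdGr_neg (t : ℤ) (ht : t < 0) : GrSyz.stdGr k (Fin (r + 1)) t = ⊥ := by
  rw [eq_bot_iff]
  intro p hp
  rw [Submodule.mem_bot]
  exact PtsRes.eq_zero_of_mem_stdGr_neg ht hp

theorem piece_eq_bot {n : ℕ} (e : Fin n → ℤ) (c : ℤ) (he : ∀ b, -c ≤ e b) (t : ℤ) (ht : t < -c) :
    piece (GrSyz.stdGr k (Fin (r + 1))) e t = ⊥ := by
  rw [eq_bot_iff]
  intro v hv
  rw [Submodule.mem_bot]
  funext b
  have hb : t - e b < 0 := by have := he b; omega
  exact PtsRes.eq_zero_of_mem_stdGr_neg hb (hv b)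

end Std

section Res

variable {k : Type u} [Field k] {r : ℕ}
  {M : Type u} [AddCommGroup M] [Module k M] [Module (MvPolynomial (Fin (r + 1)) k) M]
  [IsScalarTower k (MvPolynomial (Fin (r + 1)) k) M]
  {ℳ : ℤ → Submodule k M} [DirectSum.Decomposition ℳ]
  [SetLike.GradedSMul (GrSyz.stdGr k (Fin (r + 1))) ℳ]
  (F : GrSyz.FreeRes (GrSyz.stdGr k (Fin (r + 1))) ℳ)

theorem dLin_mem (i : ℕ) (t : ℤ) (w : Fin (F.rk (i + 1)) → MvPolynomial (Fin (r + 1)) k)
    (hw : w ∈ piece (GrSyz.stdGr k (Fin (r + 1))) (F.deg (i + 1)) t) :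
    F.dLin i w ∈ piece (GrSyz.stdGr k (Fin (r + 1))) (F.deg i) t :=
  (φ F t i ⟨w, hw⟩).2

theorem augLin_mem (t : ℤ) (w : Fin (F.rk 0) → MvPolynomial (Fin (r + 1)) k)
    (hw : w ∈ piece (GrSyz.stdGr k (Fin (r + 1))) (F.deg 0) t) :
    F.augLin w ∈ ℳ t :=
  (ψ F t ⟨w, hw⟩).2

theorem exact_d (i : ℕ) : Function.Exact (F.dLin (i + 1)) (F.dLin i) := by
  rw [LinearMap.exact_iff]
  exact F.exact_succ i

theorem exact_aug : Function.Exact (F.dLin 0) F.augLin := by
  rw [LinearMap.exact_iff]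
  exact F.exact_zero

theorem module_eq_bot (c : ℤ) (he : ∀ b, -c ≤ F.deg 0 b) (t : ℤ) (ht : t < -c) : ℳ t = ⊥ := by
  rw [eq_bot_iff]
  intro m hm
  rw [Submodule.mem_bot]
  obtain ⟨w, hw⟩ := ψ_surjective F t ⟨m, hm⟩
  have hw0 : (w : Fin (F.rk 0) → MvPolynomial (Fin (r + 1)) k) = 0 := by
    have h2 := piece_eq_bot k r (F.deg 0) c he t ht
    have h3 : (w : Fin (F.rk 0) → MvPolynomial (Fin (r + 1)) k) ∈
        (⊥ : Submodule k (Fin (F.rk 0) → MvPolynomial (Fin (r + 1)) k)) := h2 ▸ w.2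
    exact (Submodule.mem_bot k).1 h3
  have h1 : F.augLin (w : Fin (F.rk 0) → MvPolynomial (Fin (r + 1)) k) = m :=
    congrArg Subtype.val hw
  rw [← h1, hw0, map_zero]

end Res

section SES

variable {S : Type u} [CommRing S]

/-- inclusion of the first coordinate. -/
def incl₀ (n : ℕ) : S →ₗ[S] (Fin (n + 1) → S) := LinearMap.single S (fun _ => S) 0

/-- the remaining coordinates. -/
def tail₀ (n : ℕ) : (Fin (n + 1) → S) →ₗ[S] (Fin n → S) := LinearMap.funLeft S S Fin.succ

lemma incl₀_apply (n : ℕ) (x : S) : incl₀ n x = Pi.single 0 x := rfl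

lemma tail₀_apply (n : ℕ) (v : Fin (n + 1) → S) (b : Fin n) : tail₀ n v b = v b.succ := rfl

lemma incl₀_injective (n : ℕ) : Function.Injective (incl₀ (S := S) n) := by
  intro a b h
  have h0 := congrFun h 0
  rw [incl₀_apply, incl₀_apply, Pi.single_eq_same, Pi.single_eq_same] at h0
  exact h0

lemma tail₀_surjective (n : ℕ) : Function.Surjective (tail₀ (S := S) n) := by
  intro v
  refine ⟨Fin.cons 0 v, ?_⟩
  funext b
  rw [tail₀_apply, Fin.cons_succ]

lemma exact_incl₀_tail₀ (n : ℕ) : Function.Exact (incl₀ (S := S) n) (tail₀ n) := by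
  intro v
  constructor
  · intro h
    refine ⟨v 0, ?_⟩
    funext b
    rw [incl₀_apply]
    refine Fin.cases ?_ (fun j => ?_) b
    · rw [Pi.single_eq_same]
    · rw [Pi.single_eq_of_ne (Fin.succ_ne_zero j)]
      have := congrFun h j
      rw [tail₀_apply] at this
      rw [this]
      rfl
  · rintro ⟨x, rfl⟩
    funext j
    rw [tail₀_apply, incl₀_apply, Pi.single_eq_of_ne (Fin.succ_ne_zero j)]
    rfl

end SES

end Groth.Agent.H2.RegTil
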