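import Mathlib
import Groth.Prelude.Def_GrMod2
import Groth.Prelude.Def_GrMod3
import Groth.Agent.Lib.Helper8.ProjTilde.Exact
import Groth.Agent.Lib.Helper8.ProjTilde.Comap
import Groth.Agent.Lib.Helper8.RelTilde.Exact
import Groth.Agent.Lib.Helper8.RelTilde.Zero
import Groth.Agent.Lib.Helper3.OmBasis
import Groth.Agent.Lib.Helper3.ZClosCover
import Groth.Agent.Lib.Lead.QC.SubExt

/-! Sheaves `M(n)~` on `Proj`: comparison of two families in the same ambient module having the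
same fractions, and exactness of `M ↦ M(n)~` as statements about `O`-modules. -/

set_option autoImplicit false
universe u
open AlgebraicGeometry CategoryTheory CategoryTheory.Limits TopologicalSpace Opposite

namespace Groth.Agent.H2.RegTil

section Conv

variable {R A : Type u} [CommRing R] [CommRing A] [Algebra R A] {𝒜 : ℕ → Submodule R A}
  [GradedAlgebra 𝒜]
variable {M : Type u} [AddCommGroup M] [Module R M] [Module A M]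
  {ℳ ℳ' : ℕ → Submodule R M} [SetLike.GradedSMul 𝒜 ℳ] [SetLike.GradedSMul 𝒜 ℳ'] {n n' : ℤ}

/-- every nonzero numerator allowed for `(ℳ, n)` with a denominator of degree `j` is allowed for
`(ℳ', n')`. -/
def FracLE (ℳ ℳ' : ℕ → Submodule R M) (n n' : ℤ) : Prop :=
  ∀ (j i : ℕ) (m : M), m ≠ 0 → (i : ℤ) = j + n → m ∈ ℳ i → ∃ i' : ℕ, (i' : ℤ) = j + n' ∧ m ∈ ℳ' i'

lemma tildeAt_le (h : FracLE ℳ ℳ' n n') (x : ProjectiveSpectrum 𝒜) :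
    GrTilde.tildeAt 𝒜 ℳ n x ≤ GrTilde.tildeAt 𝒜 ℳ' n' x := by
  unfold GrTilde.tildeAt
  rw [Submodule.span_le]
  rintro q ⟨i, j, m, s, hs, hij, rfl⟩
  by_cases hm : m.1 = 0
  · have h0 : (LocalizedModule.mk m.1 ⟨s.1, hs⟩ : GrTilde.LocMod 𝒜 (M := M) x) = 0 := by
      rw [hm]; exact LocalizedModule.zero_mk _
    rw [h0]
    exact Submodule.zero_mem _
  · obtain ⟨i', hi', hm'⟩ := h j i m.1 hm hij m.2
    exact Submodule.subset_span ⟨i', j, ⟨m.1, hm'⟩, s, hs, hi', rfl⟩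

/-- the same dependent function, with values seen in the other submodule. -/
def convFn (h : FracLE ℳ ℳ' n n') {U : Opens (ProjectiveSpectrum.top 𝒜)}
    (f : ∀ x : U, GrTilde.tildeAt 𝒜 ℳ n x.1) : ∀ x : U, GrTilde.tildeAt 𝒜 ℳ' n' x.1 :=
  fun x => ⟨(f x).1, tildeAt_le h x.1 (f x).2⟩

lemma isLocFrac_convFn (h : FracLE ℳ ℳ' n n') {U : Opens (ProjectiveSpectrum.top 𝒜)}
    (f : ∀ x : U, GrTilde.tildeAt 𝒜 ℳ n x.1) (hf : (GrTilde.isLocFrac 𝒜 ℳ n).pred f) :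
    (GrTilde.isLocFrac 𝒜 ℳ' n').pred (convFn h f) := fun x => by
  rcases hf x with ⟨V, mV, iV, i, j, m, s, nin, c, w⟩
  by_cases hm : m.1 = 0
  · refine ⟨V, mV, iV, i, j, ⟨0, Submodule.zero_mem _⟩, s, nin, Or.inr rfl, fun y => ?_⟩
    change (f (iV y)).1 = _
    rw [w y, hm]
  · rcases c with c | c
    · obtain ⟨i', hi', hm'⟩ := h j i m.1 hm c m.2
      exact ⟨V, mV, iV, i', j, ⟨m.1, hm'⟩, s, nin, Or.inl hi', fun y => w y⟩
    · exact absurd c hm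

/-- the comparison on sections. -/
def convApp (h : FracLE ℳ ℳ' n n') (U : (Opens (ProjectiveSpectrum.top 𝒜))ᵒᵖ) :
    GrTilde.sect 𝒜 ℳ n U →+ GrTilde.sect 𝒜 ℳ' n' U where
  toFun f := ⟨convFn h f.1, isLocFrac_convFn h f.1 f.2⟩
  map_zero' := by
    refine Subtype.ext (funext fun x => Subtype.ext ?_)
    rfl
  map_add' f g := by
    refine Subtype.ext (funext fun x => Subtype.ext ?_)
    rfl

lemma convApp_val (h : FracLE ℳ ℳ' n n') (U : (Opens (ProjectiveSpectrum.top 𝒜))ᵒᵖ)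
    (f : GrTilde.sect 𝒜 ℳ n U) (x : U.unop) : ((convApp h U f).1 x).1 = (f.1 x).1 := rfl

lemma convApp_smul (h : FracLE ℳ ℳ' n n') (U : (Opens (ProjectiveSpectrum.top 𝒜))ᵒᵖ)
    (r : Twist.O (𝒜 := 𝒜) U) (f : GrTilde.sect 𝒜 ℳ n U) :
    convApp h U (r • f) = r • convApp h U f := by
  refine Subtype.ext (funext fun x => Subtype.ext ?_)
  rfl

/-- the comparison morphism. -/
noncomputable def conv (h : FracLE ℳ ℳ' n n') : GrTilde.tilde 𝒜 ℳ n ⟶ GrTilde.tilde 𝒜 ℳ' n' :=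
  ⟨PresheafOfModules.homMk
    { app := fun U => AddCommGrpCat.ofHom (convApp h U)
      naturality := fun _ _ _ => rfl }
    fun U r s => convApp_smul h U r s⟩

lemma conv_bijective (h : FracLE ℳ ℳ' n n') (h' : FracLE ℳ' ℳ n' n) (W : (Proj 𝒜).Opens) :
    Function.Bijective ((conv h).app W) := by
  constructor
  · intro f g hfg
    have h1 : convApp h (op W) f = convApp h (op W) g := hfg
    refine Subtype.ext (funext fun x => Subtype.ext ?_)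
    have h2 := congrArg (fun t : GrTilde.sect 𝒜 ℳ' n' (op W) => (t.1 x).1) h1
    exact h2
  · intro g
    refine ⟨convApp h' (op W) g, ?_⟩
    change convApp h (op W) (convApp h' (op W) g) = g
    refine Subtype.ext (funext fun x => Subtype.ext ?_)
    rfl

/-- **Two families with the same fractions give isomorphic sheaves.** -/
theorem nonempty_tilde_iso (h : FracLE ℳ ℳ' n n') (h' : FracLE ℳ' ℳ n' n) :
    Nonempty (GrTilde.tilde 𝒜 ℳ n ≅ GrTilde.tilde 𝒜 ℳ' n') := by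
  haveI : IsIso (conv (𝒜 := 𝒜) h) :=
    Groth.Agent.LD.QC.isIso_of_bijective_app _ (conv_bijective h h')
  exact ⟨asIso (conv h)⟩

end Conv

section Exact

open Groth.Agent.H8.ProjTilde Groth.Agent.H8.RelTilde

variable {A σ : Type u} [CommRing A] [SetLike σ A] [AddSubgroupClass σ A] (𝒜 : ℕ → σ) [GradedRing 𝒜]
variable {M₁ τ₁ : Type u} [AddCommGroup M₁] [Module A M₁] [SetLike τ₁ M₁] [AddSubgroupClass τ₁ M₁]
    (ℳ₁ : ℕ → τ₁) [SetLike.GradedSMul 𝒜 ℳ₁] [DirectSum.Decomposition ℳ₁]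
    {M₂ τ₂ : Type u} [AddCommGroup M₂] [Module A M₂] [SetLike τ₂ M₂] [AddSubgroupClass τ₂ M₂]
    (ℳ₂ : ℕ → τ₂) [SetLike.GradedSMul 𝒜 ℳ₂] [DirectSum.Decomposition ℳ₂]
    {M₃ τ₃ : Type u} [AddCommGroup M₃] [Module A M₃] [SetLike τ₃ M₃] [AddSubgroupClass τ₃ M₃]
    (ℳ₃ : ℕ → τ₃) [SetLike.GradedSMul 𝒜 ℳ₃] [DirectSum.Decomposition ℳ₃]

theorem tilde_exact (u : M₁ →ₗ[A] M₂) (hu : ∀ (i : ℕ) (m : M₁), m ∈ ℳ₁ i → u m ∈ ℳ₂ i)
    (v : M₂ →ₗ[A] M₃) (hv : ∀ (i : ℕ) (m : M₂), m ∈ ℳ₂ i → v m ∈ ℳ₃ i)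
    (hex : Function.Exact u v) (n : ℤ) :
    ∃ w : GrMod.map 𝒜 u hu n ≫ GrMod.map 𝒜 v hv n = 0,
      (ShortComplex.mk (GrMod.map 𝒜 u hu n) (GrMod.map 𝒜 v hv n) w).Exact := by
  refine Groth.Agent.H3.Om.exact_of_basis _ _ (Set.range (homogBasis 𝒜)) (isBasis_homogBasis 𝒜)
    ?_ ?_
  · rintro _ ⟨⟨g, d, hd, hg⟩, rfl⟩ t
    exact ((mapApp_exact 𝒜 ℳ₁ ℳ₂ ℳ₃ u hu v hv hex n hd hg) _).2 ⟨t, rfl⟩
  · rintro _ ⟨⟨g, d, hd, hg⟩, rfl⟩ m hm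
    exact ((mapApp_exact 𝒜 ℳ₁ ℳ₂ ℳ₃ u hu v hv hex n hd hg) m).1 hm

theorem tilde_mono (u : M₁ →ₗ[A] M₂) (hu : ∀ (i : ℕ) (m : M₁), m ∈ ℳ₁ i → u m ∈ ℳ₂ i)
    (hinj : Function.Injective u) (n : ℤ) : Mono (GrMod.map 𝒜 u hu n) := by
  refine Groth.Agent.H3.ZClosCover.mono_of_injective_basis _ (Set.range (homogBasis 𝒜))
    (isBasis_homogBasis 𝒜) ?_
  rintro _ ⟨⟨g, d, hd, hg⟩, rfl⟩
  exact mapApp_injective_of_TN 𝒜 ℳ₁ ℳ₂ u hu (n₀ := 0)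
    (fun k _ m _ hm0 => hinj (by rw [hm0, map_zero])) n hd hg _ rfl

theorem tilde_epi (v : M₂ →ₗ[A] M₃) (hv : ∀ (i : ℕ) (m : M₂), m ∈ ℳ₂ i → v m ∈ ℳ₃ i)
    (hsurj : Function.Surjective v) (n : ℤ) : Epi (GrMod.map 𝒜 v hv n) := by
  refine Groth.Agent.H3.Om.epi_of_surjective_basis _ (Set.range (homogBasis 𝒜))
    (isBasis_homogBasis 𝒜) ?_
  rintro _ ⟨⟨g, d, hd, hg⟩, rfl⟩
  refine mapApp_surjective_of_TN 𝒜 ℳ₂ ℳ₃ v hv (n₀ := 0) (fun k _ m' hm' => ?_) n hd hg _ rfl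
  obtain ⟨m₀, rfl⟩ := hsurj m'
  refine ⟨(DirectSum.decompose ℳ₂ m₀ k : M₂), (DirectSum.decompose ℳ₂ m₀ k).2, ?_⟩
  rw [lin_decompose ℳ₂ ℳ₃ v hv m₀ k, DirectSum.decompose_of_mem_same ℳ₃ hm']

theorem tilde_shortExact (u : M₁ →ₗ[A] M₂) (hu : ∀ (i : ℕ) (m : M₁), m ∈ ℳ₁ i → u m ∈ ℳ₂ i)
    (v : M₂ →ₗ[A] M₃) (hv : ∀ (i : ℕ) (m : M₂), m ∈ ℳ₂ i → v m ∈ ℳ₃ i)
    (hex : Function.Exact u v) (hinj : Function.Injective u) (hsurj : Function.Surjective v)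
    (n : ℤ) :
    ∃ w : GrMod.map 𝒜 u hu n ≫ GrMod.map 𝒜 v hv n = 0,
      (ShortComplex.mk (GrMod.map 𝒜 u hu n) (GrMod.map 𝒜 v hv n) w).ShortExact := by
  obtain ⟨w, hw⟩ := tilde_exact 𝒜 ℳ₁ ℳ₂ ℳ₃ u hu v hv hex n
  haveI := tilde_mono 𝒜 ℳ₁ ℳ₂ u hu hinj n
  haveI := tilde_epi 𝒜 ℳ₂ ℳ₃ v hv hsurj n
  exact ⟨w, { exact := hw }⟩

/-- the sheaf of a module all of whose homogeneous elements vanish is zero. -/
theorem tilde_isZero (h0 : ∀ (k : ℕ) (m : M₁), m ∈ ℳ₁ k → m = 0) (n : ℤ) :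
    IsZero (GrMod.tilde 𝒜 ℳ₁ n) := by
  refine isZero_of_subsingleton _ fun U => ?_
  exact sect_subsingleton_of_TN 𝒜 ℳ₁ (n₀ := 0) (fun k _ m hm => h0 k m hm) n (op U)

end Exact

end Groth.Agent.H2.RegTil
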