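import Mathlib
import Groth.Agent.Lib.Lead.CohLES.Vanish
import Groth.Agent.Lib.Lead.QC.Closure

/-! Dimension shifting along a left resolution: if `… → E₁ → E₀ → G → 0` is an exact sequence of
quasi-coherent modules on a scheme of cohomological dimension `≤ N` (for quasi-coherent modules) and
`H^{i+j}(E_j) = 0` whenever `i + j ≤ N`, then `H^i(G) = 0`. -/

universe u
open CategoryTheory Limits AlgebraicGeometry

namespace Groth.Agent.H2.RegTil

variable {X : Scheme.{u}}

section
variable (N : ℕ)
  (hcd : ∀ (K : X.Modules), K.IsQuasicoherent → ∀ q : ℕ, N < q → Subsingleton (Coh.HH X K q))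
  (E : ℕ → X.Modules) (i : ℕ) (hE : ∀ j, i + j ≤ N → (E j).IsQuasicoherent)
  (δ : ∀ j, E (j + 1) ⟶ E j)
  (w : ∀ j, i + j ≤ N → δ (j + 1) ≫ δ j = 0)
  (ex : ∀ j (h : i + j ≤ N), (ShortComplex.mk (δ (j + 1)) (δ j) (w j h)).Exact)
  (hv : ∀ j, i + j ≤ N → Subsingleton (Coh.HH X (E j) (i + j)))

include hcd hE ex hv in
/-- the inductive claim of the dimension shifting. -/
theorem chase_aux : ∀ (m j : ℕ), N + 1 ≤ i + j + m →
    ∀ (K : X.Modules) (π : E j ⟶ K), K.IsQuasicoherent → Epi π → ∀ (wπ : δ j ≫ π = 0),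
      (ShortComplex.mk (δ j) π wπ).Exact → Subsingleton (Coh.HH X K (i + j)) := by
  intro m
  induction m with
  | zero =>
    intro j hj K π hK _ _ _
    exact hcd K hK (i + j) (by omega)
  | succ m ih =>
    intro j hj K π hK hπ wπ hex
    by_cases hN : N < i + j
    · exact hcd K hK (i + j) hN
    · have hle : i + j ≤ N := by omega
      haveI := hπ
      -- the kernel
      have hKq : (kernel π).IsQuasicoherent := Groth.Agent.LD.QC.qc_kernel π (hE j hle) hK
      let π' : E (j + 1) ⟶ kernel π := kernel.lift π (δ j) wπ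
      have hπ'ι : π' ≫ kernel.ι π = δ j := kernel.lift_ι _ _ _
      have hepi : Epi π' := by
        have h := (ShortComplex.exact_iff_epi_kernel_lift (ShortComplex.mk (δ j) π wπ)).1 hex
        exact h
      have wπ' : δ (j + 1) ≫ π' = 0 := by
        rw [← cancel_mono (kernel.ι π), Category.assoc, hπ'ι, w j hle, zero_comp]
      have hex' : (ShortComplex.mk (δ (j + 1)) π' wπ').Exact := by
        let φ : ShortComplex.mk (δ (j + 1)) π' wπ' ⟶ ShortComplex.mk (δ (j + 1)) (δ j) (w j hle) :=
          { τ₁ := 𝟙 _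
            τ₂ := 𝟙 _
            τ₃ := kernel.ι π
            comm₁₂ := by simp
            comm₂₃ := by
              change 𝟙 _ ≫ δ j = π' ≫ kernel.ι π
              rw [hπ'ι, Category.id_comp] }
        haveI : Epi φ.τ₁ := by change Epi (𝟙 _); infer_instance
        haveI : IsIso φ.τ₂ := by change IsIso (𝟙 _); infer_instance
        haveI : Mono φ.τ₃ := by change Mono (kernel.ι π); infer_instance
        exact (ShortComplex.exact_iff_of_epi_of_isIso_of_mono φ).2 (ex j hle)
      have h1 : Subsingleton (Coh.HH X (kernel π) (i + (j + 1))) :=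
        ih (j + 1) (by omega) (kernel π) π' hKq hepi wπ' hex'
      -- the short exact sequence `0 → ker π → E j → K → 0`
      have hS : (ShortComplex.mk (kernel.ι π) π (kernel.condition π)).ShortExact :=
        { exact := ShortComplex.exact_of_f_is_kernel _ (kernelIsKernel π)
          mono_f := by change Mono (kernel.ι π); infer_instance
          epi_g := by change Epi π; infer_instance }
      exact Groth.Agent.LD.CL.subsingleton_right hS (i + j) (hv j hle) h1

end

/-- **Dimension shifting along a left resolution.** -/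
theorem chase (N : ℕ)
    (hcd : ∀ (K : X.Modules), K.IsQuasicoherent → ∀ q : ℕ, N < q → Subsingleton (Coh.HH X K q))
    (E : ℕ → X.Modules) (i : ℕ) (hE : ∀ j, i + j ≤ N → (E j).IsQuasicoherent)
    (δ : ∀ j, E (j + 1) ⟶ E j)
    (w : ∀ j, i + j ≤ N → δ (j + 1) ≫ δ j = 0)
    (ex : ∀ j (h : i + j ≤ N), (ShortComplex.mk (δ (j + 1)) (δ j) (w j h)).Exact)
    (G : X.Modules) (hG : G.IsQuasicoherent) (ε : E 0 ⟶ G) (hε : Epi ε)
    (w0 : δ 0 ≫ ε = 0) (ex0 : (ShortComplex.mk (δ 0) ε w0).Exact)
    (hv : ∀ j, i + j ≤ N → Subsingleton (Coh.HH X (E j) (i + j))) :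
    Subsingleton (Coh.HH X G i) :=
  chase_aux N hcd E i hE δ w ex hv (N + 1) 0 (by omega) G ε hG hε w0 ex0

end Groth.Agent.H2.RegTil
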