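import Mathlib
import Groth.Prelude.Def_Curv2
import Groth.Prelude.Def_PicGrp
import Groth.Agent.Lib.Helper2.RegTilA
import Groth.Agent.Lib.Helper2.RegTilB
import Groth.Agent.Lib.Helper2.RegTilC
import Groth.Agent.Lib.Helper8.ProjTilde.QCoh
import Groth.Agent.Lib.Lead.PN.H0
import Groth.Agent.Lib.Lead.PN.Finite
import Groth.Agent.Lib.Lead.PN.RegSES
import Groth.Agent.Lib.Lead.KS.Chase
import Groth.Agent.Lib.Lead.CohLES.Vanish
import Groth.Agent.S4400

/-! The sheaf on `P^r_k` of a graded module of regularity `≤ d` (in the sense of graded free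
resolutions) is `d`-regular: dimension shifting along the sheafified resolution. -/

set_option autoImplicit false
universe u
open CategoryTheory CategoryTheory.Limits AlgebraicGeometry

namespace Groth.Agent.H2.RegTil

open Groth.Agent.H2.GrHilbRes Groth.Agent.H2.GrComp Groth.Agent.LD Groth.Agent.H8.ProjTilde

section Std

variable (k : Type u) [Field k] (r : ℕ)

/-- a `ℤ`-graded module over the polynomial ring, shifted and indexed by `ℕ`, is a graded module
over the `ℕ`-graded polynomial ring. -/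
instance gsmulShift {M : Type u} [AddCommGroup M] [Module k M]
    [Module (MvPolynomial (Fin (r + 1)) k) M] (ℳ : ℤ → Submodule k M)
    [SetLike.GradedSMul (GrSyz.stdGr k (Fin (r + 1))) ℳ] (c : ℤ) :
    SetLike.GradedSMul (CohB1.polyGrading r k) (shiftFam ℳ c) :=
  gradedSMul_shiftFam (CohB1.polyGrading r k) (GrSyz.stdGr k (Fin (r + 1))) ℳ
    (mem_stdGr_of_mem_poly k r) c

/-- the irrelevant ideal of the polynomial ring is generated by the linear forms. -/
theorem poly_hgen :
    (HomogeneousIdeal.irrelevant (CohB1.polyGrading r k)).toIdeal =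
      Ideal.span ((CohB1.polyGrading r k 1 : Submodule k (MvPolynomial (Fin (r + 1)) k)) : Set _) := by
  refine le_antisymm ?_ ?_
  · rw [HomogeneousIdeal.irrelevant_eq_span, Ideal.span_le]
    intro f hf
    simp only [Set.mem_iUnion] at hf
    obtain ⟨i, hi, hfi⟩ := hf
    obtain ⟨j, rfl⟩ : ∃ j, i = j + 1 := ⟨i - 1, by omega⟩
    have h1 : f ∈ (MvPolynomial.homogeneousSubmodule (Fin (r + 1)) k 1) ^ j *
        MvPolynomial.homogeneousSubmodule (Fin (r + 1)) k 1 := by
      rw [← pow_succ, MvPolynomial.homogeneousSubmodule_one_pow]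
      exact hfi
    refine Submodule.mul_induction_on h1 ?_ ?_
    · intro a _ b hb
      exact Ideal.mul_mem_left _ a (Ideal.subset_span hb)
    · intro a b ha hb
      exact Ideal.add_mem _ ha hb
  · rw [Ideal.span_le]
    intro f hf
    exact HomogeneousIdeal.mem_irrelevant_of_mem _ Nat.one_pos hf

theorem fracLE_ring (a : ℤ) (ha : 0 ≤ a) (s : ℤ) :
    FracLE (CohB1.polyGrading r k) (shiftFam (GrSyz.stdGr k (Fin (r + 1))) a) (s - a) s := by
  intro j i m _ hij hmi
  refine ⟨i + a.toNat, by omega, ?_⟩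
  rw [shiftFam_apply]
  have e : ((i + a.toNat : ℕ) : ℤ) - a = (i : ℤ) := by omega
  rw [e]
  exact mem_stdGr_of_mem_poly k r i m hmi

theorem fracLE_ring' (a : ℤ) (s : ℤ) :
    FracLE (shiftFam (GrSyz.stdGr k (Fin (r + 1))) a) (CohB1.polyGrading r k) s (s - a) := by
  intro j i m hm hij hmi
  rw [shiftFam_apply] at hmi
  have h0 : 0 ≤ (i : ℤ) - a := Groth.Agent.H2.GrSyzBasic.deg_nonneg_of_mem_stdGr hmi hm
  refine ⟨((i : ℤ) - a).toNat, by omega, ?_⟩
  have e : (i : ℤ) - a = ((((i : ℤ) - a).toNat : ℕ) : ℤ) := by omega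
  rw [e, stdGr_natCast k r] at hmi
  exact hmi

/-- the cohomology of the sheaf of a shifted copy of the polynomial ring. -/
theorem subsingleton_HH_rankOne (a : ℤ) (ha : 0 ≤ a) (s : ℤ) (q : ℕ)
    (h : Subsingleton (Coh.HH (Proj (CohB1.polyGrading r k))
      (Twist.twist (CohB1.polyGrading r k) (s - a)) q)) :
    Subsingleton (Coh.HH (Proj (CohB1.polyGrading r k))
      (GrTilde.tilde (CohB1.polyGrading r k) (shiftFam (GrSyz.stdGr k (Fin (r + 1))) a) s) q) := by
  obtain ⟨e⟩ := nonempty_tilde_iso (𝒜 := CohB1.polyGrading r k) (fracLE_ring k r a ha s)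
    (fracLE_ring' k r a s)
  exact CL.subsingleton_of_iso e q h

/-- the cohomology of the sheaf of a graded free module with shifted basis. -/
theorem subsingleton_HH_free (q : ℕ) (s c : ℤ) : ∀ (n : ℕ) (e : Fin n → ℤ),
    (∀ b, 0 ≤ e b + c) →
    (∀ b, Subsingleton (Coh.HH (Proj (CohB1.polyGrading r k))
      (Twist.twist (CohB1.polyGrading r k) (s - (e b + c))) q)) →
    Subsingleton (Coh.HH (Proj (CohB1.polyGrading r k))
      (GrMod.tilde (CohB1.polyGrading r k)
        (shiftFam (piece (GrSyz.stdGr k (Fin (r + 1))) e) c) s) q) := by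
  intro n
  induction n with
  | zero =>
    intro e he hq
    letI := decompPiece (GrSyz.stdGr k (Fin (r + 1))) e
    letI := decompShift (piece (GrSyz.stdGr k (Fin (r + 1))) e) c
      (piece_eq_bot k r e c (fun b => by have := he b; omega))
    exact CL.subsingleton_HH_of_isZero
      (tilde_isZero (CohB1.polyGrading r k) (shiftFam (piece (GrSyz.stdGr k (Fin (r + 1))) e) c)
        (fun _ m _ => Subsingleton.elim _ _) s) q
  | succ n ih =>
    intro e he hq
    letI D1 : DirectSum.Decomposition (shiftFam (GrSyz.stdGr k (Fin (r + 1))) (e 0 + c)) :=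
      decompShift (GrSyz.stdGr k (Fin (r + 1))) (e 0 + c)
        (fun t ht => stdGr_neg k r t (by have := he 0; omega))
    letI := decompPiece (GrSyz.stdGr k (Fin (r + 1))) e
    letI D2 : DirectSum.Decomposition (shiftFam (piece (GrSyz.stdGr k (Fin (r + 1))) e) c) :=
      decompShift (piece (GrSyz.stdGr k (Fin (r + 1))) e) c
        (piece_eq_bot k r e c (fun b => by have := he b; omega))
    letI := decompPiece (GrSyz.stdGr k (Fin (r + 1))) (e ∘ Fin.succ)
    letI D3 : DirectSum.Decomposition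
        (shiftFam (piece (GrSyz.stdGr k (Fin (r + 1))) (e ∘ Fin.succ)) c) :=
      decompShift (piece (GrSyz.stdGr k (Fin (r + 1))) (e ∘ Fin.succ)) c
        (piece_eq_bot k r (e ∘ Fin.succ) c (fun b => by
          have := he b.succ
          simp only [Function.comp_apply]
          omega))
    have hu : ∀ (i : ℕ) (x : MvPolynomial (Fin (r + 1)) k),
        x ∈ shiftFam (GrSyz.stdGr k (Fin (r + 1))) (e 0 + c) i →
        incl₀ n x ∈ shiftFam (piece (GrSyz.stdGr k (Fin (r + 1))) e) c i := by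
      intro i x hx
      change ∀ b, incl₀ n x b ∈ GrSyz.stdGr k (Fin (r + 1)) ((i : ℤ) - c - e b)
      intro b
      rw [incl₀_apply]
      refine Fin.cases ?_ (fun j => ?_) b
      · rw [Pi.single_eq_same]
        have e1 : (i : ℤ) - c - e 0 = (i : ℤ) - (e 0 + c) := by ring
        rw [e1]
        exact hx
      · rw [Pi.single_eq_of_ne (Fin.succ_ne_zero j)]
        exact Submodule.zero_mem _
    have hv : ∀ (i : ℕ) (v : Fin (n + 1) → MvPolynomial (Fin (r + 1)) k),
        v ∈ shiftFam (piece (GrSyz.stdGr k (Fin (r + 1))) e) c i →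
        tail₀ n v ∈ shiftFam (piece (GrSyz.stdGr k (Fin (r + 1))) (e ∘ Fin.succ)) c i := by
      intro i v hv b
      exact hv b.succ
    obtain ⟨w, hS⟩ := tilde_shortExact (CohB1.polyGrading r k)
      (shiftFam (GrSyz.stdGr k (Fin (r + 1))) (e 0 + c))
      (shiftFam (piece (GrSyz.stdGr k (Fin (r + 1))) e) c)
      (shiftFam (piece (GrSyz.stdGr k (Fin (r + 1))) (e ∘ Fin.succ)) c)
      (incl₀ n) hu (tail₀ n) hv (exact_incl₀_tail₀ n) (incl₀_injective n) (tail₀_surjective n) s
    refine CL.subsingleton_mid hS q ?_ ?_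
    · exact subsingleton_HH_rankOne k r (e 0 + c) (he 0) s q (hq 0)
    · exact ih (e ∘ Fin.succ) (fun b => he b.succ) (fun b => hq b.succ)

end Std

section Res

variable {k : Type u} [Field k] {r : ℕ}
  {M : Type u} [AddCommGroup M] [Module k M] [Module (MvPolynomial (Fin (r + 1)) k) M]
  [IsScalarTower k (MvPolynomial (Fin (r + 1)) k) M]
  {ℳ : ℤ → Submodule k M} [DirectSum.Decomposition ℳ]
  [SetLike.GradedSMul (GrSyz.stdGr k (Fin (r + 1))) ℳ]
  (F : GrSyz.FreeRes (GrSyz.stdGr k (Fin (r + 1))) ℳ)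

/-- a bound below for the degrees of the generators of the first terms of a resolution. -/
theorem exists_bound (N : ℕ) : ∃ c : ℤ, 0 ≤ c ∧ ∀ j, j ≤ N → ∀ b, -c ≤ F.deg j b := by
  refine ⟨∑ j ∈ Finset.range (N + 1), ∑ b : Fin (F.rk j), |F.deg j b|, ?_, ?_⟩
  · exact Finset.sum_nonneg fun j _ => Finset.sum_nonneg fun b _ => abs_nonneg _
  · intro j hj b
    have h1 : |F.deg j b| ≤ ∑ b' : Fin (F.rk j), |F.deg j b'| :=
      Finset.single_le_sum (f := fun b' => |F.deg j b'|) (fun b' _ => abs_nonneg _)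
        (Finset.mem_univ b)
    have h2 : (∑ b' : Fin (F.rk j), |F.deg j b'|) ≤
        ∑ j' ∈ Finset.range (N + 1), ∑ b' : Fin (F.rk j'), |F.deg j' b'| :=
      Finset.single_le_sum (f := fun j' => ∑ b' : Fin (F.rk j'), |F.deg j' b'|)
        (fun j' _ => Finset.sum_nonneg fun b' _ => abs_nonneg _)
        (Finset.mem_range.2 (by omega))
    have h3 := neg_abs_le (F.deg j b)
    linarith

/-- the graded pieces of the `j`-th term of the resolution, shifted by `c` and indexed by `ℕ`. -/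
noncomputable abbrev fam (c : ℤ) (j : ℕ) : ℕ → Submodule k (Fin (F.rk j) → MvPolynomial (Fin (r + 1)) k) :=
  shiftFam (piece (GrSyz.stdGr k (Fin (r + 1))) (F.deg j)) c

theorem dLin_mem_fam (c : ℤ) (j : ℕ) (i : ℕ) (m : Fin (F.rk (j + 1)) → MvPolynomial (Fin (r + 1)) k)
    (hm : m ∈ fam F c (j + 1) i) : F.dLin j m ∈ fam F c j i :=
  dLin_mem F j ((i : ℤ) - c) m hm

theorem augLin_mem_fam (c : ℤ) (i : ℕ) (m : Fin (F.rk 0) → MvPolynomial (Fin (r + 1)) k)
    (hm : m ∈ fam F c 0 i) : F.augLin m ∈ shiftFam ℳ c i :=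
  augLin_mem F ((i : ℤ) - c) m hm

/-- the sheaf of the `j`-th term. -/
noncomputable def Eterm (c s : ℤ) (j : ℕ) : (Proj (CohB1.polyGrading r k)).Modules :=
  GrMod.tilde (CohB1.polyGrading r k) (fam F c j) s

/-- the sheafified differential. -/
noncomputable def δmap (c s : ℤ) (j : ℕ) : Eterm F c s (j + 1) ⟶ Eterm F c s j :=
  GrMod.map (CohB1.polyGrading r k) (ℳ := fam F c (j + 1)) (𝒩 := fam F c j) (F.dLin j)
    (dLin_mem_fam F c j) s

/-- the sheafified augmentation. -/
noncomputable def εmap (c s : ℤ) :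
    Eterm F c s 0 ⟶ GrMod.tilde (CohB1.polyGrading r k) (shiftFam ℳ c) s :=
  GrMod.map (CohB1.polyGrading r k) (ℳ := fam F c 0) (𝒩 := shiftFam ℳ c) F.augLin
    (augLin_mem_fam F c) s

/-- dimension shifting along the sheafified resolution. -/
theorem subsingleton_HH_tilde_shift (d : ℤ) (hF : F.IsGenLE d) (c : ℤ)
    (hc : ∀ j, j ≤ r + 2 → ∀ b, -c ≤ F.deg j b) (i : ℕ) (hi1 : 1 ≤ i) (hir : i ≤ r) :
    Subsingleton (Coh.HH (Proj (CohB1.polyGrading r k))
      (GrMod.tilde (CohB1.polyGrading r k) (shiftFam ℳ c) (c + (d - i))) i) := by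
  obtain ⟨s, hs⟩ : ∃ s : ℤ, s = c + (d - i) := ⟨_, rfl⟩
  rw [← hs]
  have hdec : ∀ j, j ≤ r + 2 → Nonempty (DirectSum.Decomposition (fam F c j)) := fun j hj => by
    letI := decompPiece (GrSyz.stdGr k (Fin (r + 1))) (F.deg j)
    exact ⟨decompShift _ c (piece_eq_bot k r (F.deg j) c (hc j hj))⟩
  letI DM : DirectSum.Decomposition (shiftFam ℳ c) :=
    decompShift ℳ c (module_eq_bot F c (hc 0 (by omega)))
  have hcd : ∀ (K : (Proj (CohB1.polyGrading r k)).Modules), K.IsQuasicoherent → ∀ q : ℕ, r < q →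
      Subsingleton (Coh.HH (Proj (CohB1.polyGrading r k)) K q) := fun K hK q hq => by
    haveI := hK
    exact PN.subsingleton_HH_of_lt r k K q hq
  have hE : ∀ j, i + j ≤ r → (Eterm F c s j).IsQuasicoherent := fun j hj => by
    obtain ⟨D0⟩ := hdec j (by omega)
    exact tilde_isQuasicoherent (CohB1.polyGrading r k) (fam F c j) s
  have hw : ∀ j, i + j ≤ r → δmap F c s (j + 1) ≫ δmap F c s j = 0 := fun j hj => by
    obtain ⟨D2⟩ := hdec (j + 2) (by omega)
    obtain ⟨D1⟩ := hdec (j + 1) (by omega)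
    obtain ⟨D0⟩ := hdec j (by omega)
    exact (tilde_exact (CohB1.polyGrading r k) (fam F c (j + 2)) (fam F c (j + 1)) (fam F c j)
      (F.dLin (j + 1)) (dLin_mem_fam F c (j + 1)) (F.dLin j) (dLin_mem_fam F c j)
      (exact_d F j) s).choose
  have hex : ∀ j (h : i + j ≤ r),
      (ShortComplex.mk (δmap F c s (j + 1)) (δmap F c s j) (hw j h)).Exact := fun j hj => by
    obtain ⟨D2⟩ := hdec (j + 2) (by omega)
    obtain ⟨D1⟩ := hdec (j + 1) (by omega)
    obtain ⟨D0⟩ := hdec j (by omega)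
    exact (tilde_exact (CohB1.polyGrading r k) (fam F c (j + 2)) (fam F c (j + 1)) (fam F c j)
      (F.dLin (j + 1)) (dLin_mem_fam F c (j + 1)) (F.dLin j) (dLin_mem_fam F c j)
      (exact_d F j) s).choose_spec
  have hG : (GrMod.tilde (CohB1.polyGrading r k) (shiftFam ℳ c) s).IsQuasicoherent :=
    tilde_isQuasicoherent (CohB1.polyGrading r k) (shiftFam ℳ c) s
  obtain ⟨D1⟩ := hdec 1 (by omega)
  obtain ⟨D0⟩ := hdec 0 (by omega)
  have hε : Epi (εmap F c s) :=
    tilde_epi (CohB1.polyGrading r k) (fam F c 0) (shiftFam ℳ c) F.augLin (augLin_mem_fam F c)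
      F.aug_surjective s
  obtain ⟨w0, ex0⟩ := tilde_exact (CohB1.polyGrading r k) (fam F c 1) (fam F c 0) (shiftFam ℳ c)
    (F.dLin 0) (dLin_mem_fam F c 0) F.augLin (augLin_mem_fam F c) (exact_aug F) s
  have hvan : ∀ j, i + j ≤ r →
      Subsingleton (Coh.HH (Proj (CohB1.polyGrading r k)) (Eterm F c s j) (i + j)) := by
    intro j hj
    refine subsingleton_HH_free k r (i + j) s c (F.rk j) (F.deg j)
      (fun b => by have := hc j (by omega) b; omega) (fun b => ?_)
    apply PN.subsingleton_HH_twist_all r k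
    · rintro ⟨h0, -⟩
      omega
    · rintro ⟨h1, h2⟩
      have h3 : F.deg j b ≤ d + (j : ℤ) := hF j b
      omega
  exact chase (X := Proj (CohB1.polyGrading r k)) r hcd (Eterm F c s) i hE (δmap F c s) hw hex
    (GrMod.tilde (CohB1.polyGrading r k) (shiftFam ℳ c) s) hG (εmap F c s) hε w0 ex0 hvan

end Res

section Main

theorem fracLE_mod {k : Type u} [Field k] {M : Type u} [AddCommGroup M] [Module k M]
    (ℳ : ℤ → Submodule k M) (c : ℤ) (hc : 0 ≤ c) :
    FracLE (fun n : ℕ => ℳ (n : ℤ)) (shiftFam ℳ c) 0 c := by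
  intro j i m _ hij hm
  refine ⟨i + c.toNat, by omega, ?_⟩
  rw [shiftFam_apply]
  have e : ((i + c.toNat : ℕ) : ℤ) - c = (i : ℤ) := by omega
  rw [e]
  exact hm

theorem fracLE_mod' {k : Type u} [Field k] {M : Type u} [AddCommGroup M] [Module k M]
    (ℳ : ℤ → Submodule k M) (c : ℤ) :
    FracLE (shiftFam ℳ c) (fun n : ℕ => ℳ (n : ℤ)) c 0 := by
  intro j i m _ hij hm
  refine ⟨j, by omega, ?_⟩
  rw [shiftFam_apply] at hm
  have e : (i : ℤ) - c = (j : ℤ) := by omega
  rw [e] at hm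
  exact hm

/-- **The sheaf of a graded module with a graded free resolution whose `i`-th term is generated in
degrees `≤ d + i` is `d`-regular.** -/
theorem isMRegular_tilde (k : Type u) [Field k] (r : ℕ)
    (M : Type u) [AddCommGroup M] [Module k M] [Module (MvPolynomial (Fin (r + 1)) k) M]
    [IsScalarTower k (MvPolynomial (Fin (r + 1)) k) M]
    (ℳ : ℤ → Submodule k M) [DirectSum.Decomposition ℳ]
    [SetLike.GradedSMul (GrSyz.stdGr k (Fin (r + 1))) ℳ]
    [SetLike.GradedSMul (CohB1.polyGrading r k) (fun n : ℕ => ℳ (n : ℤ))] (d : ℤ)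
    (F : GrSyz.FreeRes (GrSyz.stdGr k (Fin (r + 1))) ℳ) (hF : F.IsGenLE d) :
    Curv2.IsMRegular k r
      (GrTilde.tilde (CohB1.polyGrading r k) (fun n : ℕ => ℳ (n : ℤ)) 0) d := by
  intro i hi1 hir
  obtain ⟨c, hc0, hc⟩ := exists_bound F (r + 2)
  letI DM : DirectSum.Decomposition (shiftFam ℳ c) :=
    decompShift ℳ c (module_eq_bot F c (hc 0 (by omega)))
  obtain ⟨e₁⟩ := nonempty_tilde_iso (𝒜 := CohB1.polyGrading r k) (fracLE_mod ℳ c hc0)
    (fracLE_mod' ℳ c)
  obtain ⟨e₂⟩ := Groth.Agent.S4400.result (CohB1.polyGrading r k) (poly_hgen k r)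
    (shiftFam ℳ c) c
  obtain ⟨e₃⟩ := Groth.Agent.S4400.result (CohB1.polyGrading r k) (poly_hgen k r)
    (shiftFam ℳ c) (c + (d - i))
  have h3 := subsingleton_HH_tilde_shift F d hF c hc i hi1 hir
  have h4 : Subsingleton (Coh.HH (Proj (CohB1.polyGrading r k))
      (Twist.twistBy (CohB1.polyGrading r k)
        (GrTilde.tilde (CohB1.polyGrading r k) (shiftFam ℳ c) 0) (c + (d - i))) i) :=
    CL.subsingleton_of_iso e₃ i h3
  haveI : (GrTilde.tilde (CohB1.polyGrading r k) (shiftFam ℳ c) 0).IsQuasicoherent :=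
    tilde_isQuasicoherent (CohB1.polyGrading r k) (shiftFam ℳ c) 0
  have h5 := PN.subsingleton_HH_twist_twist r k
    (GrTilde.tilde (CohB1.polyGrading r k) (shiftFam ℳ c) 0) c (d - i) (c + (d - i)) rfl i h4
  show Subsingleton (Coh.HH (Proj (CohB1.polyGrading r k))
    (CohB1.tensorMod (GrTilde.tilde (CohB1.polyGrading r k) (fun n : ℕ => ℳ (n : ℤ)) 0)
      (Twist.twist (CohB1.polyGrading r k) (d - i))) i)
  exact CL.subsingleton_of_iso (PicGrp.tensorModIso (e₁ ≪≫ e₂).symm (Iso.refl _)) i h5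

end Main

end Groth.Agent.H2.RegTil
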