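import Mathlib
import Groth.Prelude.Def_GrMod3
import Groth.Agent.Lib.Helper8.GTW.ModMul
import Groth.Agent.Lib.Helper8.GTW.UnitSec
import Groth.Agent.Lib.Helper8.ProjTilde.Sect
import Groth.Agent.Lib.Lead.KS.Chase
import Groth.Agent.Lib.Lead.PN.Koszul
import Groth.Agent.Lib.Lead.PN.Finite
import Groth.Agent.Lib.Helper8.ProjTilde.QCoh

/-! Multiplication by an element of degree one as a morphism `M(n)~ ⟶ M(n+1)~` on `Proj`, and the
Koszul system of the family `M(n)~`. -/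

set_option autoImplicit false
universe u
open CategoryTheory AlgebraicGeometry TopologicalSpace Opposite

namespace Groth.Agent.H2.RegTil

open Groth.Agent.H8.ProjTilde Groth.Agent.H8.GTW

section MulXM

variable {A σ : Type u} [CommRing A] [SetLike σ A] [AddSubgroupClass σ A] {𝒜 : ℕ → σ} [GradedRing 𝒜]
variable {M τ : Type u} [AddCommGroup M] [Module A M] [SetLike τ M] [AddSubgroupClass τ M]
  (ℳ : ℕ → τ) [SetLike.GradedSMul 𝒜 ℳ]

/-- multiplication by an element of degree one on sections, with target index `n + 1`. -/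
def mulXApp (a : 𝒜 1) (n : ℤ) (U : (Opens (ProjectiveSpectrum.top 𝒜))ᵒᵖ) :
    GrMod.sect 𝒜 ℳ n U →+ GrMod.sect 𝒜 ℳ (n + 1) U :=
  GrMod.smulSect 𝒜 ℳ a n U

lemma mulXApp_val (a : 𝒜 1) (n : ℤ) (U : (Opens (ProjectiveSpectrum.top 𝒜))ᵒᵖ)
    (f : GrMod.sect 𝒜 ℳ n U) (x : U.unop) :
    (((mulXApp ℳ a n U f).1 x : GrMod.tildeAt 𝒜 ℳ (n + 1) x.1) : GrMod.LocMod 𝒜 (M := M) x.1) =
      (Localization.mk (a : A) (1 : x.1.asHomogeneousIdeal.toIdeal.primeCompl) :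
        GrTwist.Loc 𝒜 x.1) • (f.1 x).1 := rfl

lemma mulXApp_smul (a : 𝒜 1) (n : ℤ) (U : (Opens (ProjectiveSpectrum.top 𝒜))ᵒᵖ)
    (r : GrTwist.O (𝒜 := 𝒜) U) (f : GrMod.sect 𝒜 ℳ n U) :
    mulXApp ℳ a n U (r • f) = r • mulXApp ℳ a n U f := by
  refine Subtype.ext (funext fun x => Subtype.ext ?_)
  rw [mulXApp_val]
  have h1 : (((r • f : GrMod.sect 𝒜 ℳ n U).1 x : GrMod.tildeAt 𝒜 ℳ n x.1) :
      GrMod.LocMod 𝒜 (M := M) x.1) = (r.1 x).val • ((f.1 x).1) :=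
    GrMod.coe_smul_val n x.1 (r.1 x) (f.1 x)
  have h2 : (((r • mulXApp ℳ a n U f : GrMod.sect 𝒜 ℳ (n + 1) U).1 x :
      GrMod.tildeAt 𝒜 ℳ (n + 1) x.1) : GrMod.LocMod 𝒜 (M := M) x.1) =
      (r.1 x).val • ((mulXApp ℳ a n U f).1 x).1 :=
    GrMod.coe_smul_val (n + 1) x.1 (r.1 x) _
  rw [h1, h2, mulXApp_val, smul_comm]

/-- multiplication by an element of degree one, `M(n)~ ⟶ M(n+1)~`. -/
noncomputable def mulXM (a : 𝒜 1) (n : ℤ) : GrMod.tilde 𝒜 ℳ n ⟶ GrMod.tilde 𝒜 ℳ (n + 1) :=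
  ⟨PresheafOfModules.homMk
    { app := fun U => AddCommGrpCat.ofHom (mulXApp ℳ a n U)
      naturality := fun _ _ _ => rfl }
    fun U r s => mulXApp_smul ℳ a n U r s⟩

lemma mulXM_app_val (a : 𝒜 1) (n : ℤ) (V : (Proj 𝒜).Opens) (s : Γ(GrMod.tilde 𝒜 ℳ n, V)) (y : V) :
    GrMod.val ((mulXM ℳ a n).app V s) y =
      (Localization.mk (a : A) (1 : y.1.asHomogeneousIdeal.toIdeal.primeCompl) :
        GrTwist.Loc 𝒜 y.1) • GrMod.val s y := rfl

lemma mulXM_comm (a b : 𝒜 1) (n : ℤ) :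
    mulXM ℳ a n ≫ mulXM ℳ b (n + 1) = mulXM ℳ b n ≫ mulXM ℳ a (n + 1) := by
  apply Scheme.Modules.hom_ext
  intro U
  ext s
  change (show GrMod.sect 𝒜 ℳ (n + 1 + 1) (op U) from
      (mulXM ℳ b (n + 1)).app U ((mulXM ℳ a n).app U s)) =
    (show GrMod.sect 𝒜 ℳ (n + 1 + 1) (op U) from
      (mulXM ℳ a (n + 1)).app U ((mulXM ℳ b n).app U s))
  refine sect_ext 𝒜 ℳ _ _ fun x => ?_
  change (Localization.mk (b : A) (1 : x.1.asHomogeneousIdeal.toIdeal.primeCompl) :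
      GrTwist.Loc 𝒜 x.1) • ((Localization.mk (a : A)
        (1 : x.1.asHomogeneousIdeal.toIdeal.primeCompl) : GrTwist.Loc 𝒜 x.1) •
        GrMod.val s x) =
    (Localization.mk (a : A) (1 : x.1.asHomogeneousIdeal.toIdeal.primeCompl) :
      GrTwist.Loc 𝒜 x.1) • ((Localization.mk (b : A)
        (1 : x.1.asHomogeneousIdeal.toIdeal.primeCompl) : GrTwist.Loc 𝒜 x.1) •
        GrMod.val s x)
  rw [smul_comm]

/-- multiplication by `a` is bijective on sections over opens inside `D₊(a)`. -/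
theorem mulXM_app_bijective (a : 𝒜 1) (n : ℤ) (V : (Proj 𝒜).Opens)
    (hV : V ≤ Proj.basicOpen 𝒜 (a : A)) : Function.Bijective ((mulXM ℳ a n).app V) := by
  have hu : IsUnitSec (resSec (le_top : V ≤ ⊤) (GrTwist.globalOf 𝒜 a)) :=
    isUnitSec_globalOf a hV
  have h2 : Function.Bijective (fun t : GrMod.sect 𝒜 ℳ n (op V) =>
      mulModSec t (resSec (le_top : V ≤ ⊤) (GrTwist.globalOf 𝒜 a))) :=
    mulModSec_bijective_of_isUnitSec hu
  have h3 : ⇑(ConcreteCategory.hom ((mulXM ℳ a n).app V)) =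
      (fun t : GrMod.sect 𝒜 ℳ n (op V) =>
        mulModSec t (resSec (le_top : V ≤ ⊤) (GrTwist.globalOf 𝒜 a))) := by
    funext t
    refine sect_ext 𝒜 ℳ _ _ fun x => ?_
    rfl
  rw [h3]
  exact h2

end MulXM

section Poly

open Groth.Agent.LD CategoryTheory.Limits

variable (k : Type u) [CommRing k] (r : ℕ)
variable {N τ : Type u} [AddCommGroup N] [Module (MvPolynomial (Fin (r + 1)) k) N] [SetLike τ N]
  [AddSubgroupClass τ N] (𝒩 : ℕ → τ) [SetLike.GradedSMul (CohB1.polyGrading r k) 𝒩]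

/-- the sheaves `N(e)~`. -/
noncomputable def tG (e : ℤ) : (Proj (CohB1.polyGrading r k)).Modules :=
  GrMod.tilde (CohB1.polyGrading r k) 𝒩 e

/-- multiplication by `X_l : N(e)~ ⟶ N(e+1)~`. -/
noncomputable def tT (l : Fin (r + 1)) (e : ℤ) : tG k r 𝒩 e ⟶ tG k r 𝒩 (e + 1) :=
  mulXM 𝒩 (PN.Xd r k l) e

theorem tG_eq (e : ℤ) : tG k r 𝒩 e = GrMod.tilde (CohB1.polyGrading r k) 𝒩 e := rfl

theorem tT_eq (l : Fin (r + 1)) (e : ℤ) : tT k r 𝒩 l e = mulXM 𝒩 (PN.Xd r k l) e := rfl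

theorem tT_comm (l m : Fin (r + 1)) (e : ℤ) :
    tT k r 𝒩 l e ≫ tT k r 𝒩 m (e + 1) = tT k r 𝒩 m e ≫ tT k r 𝒩 l (e + 1) := by
  rw [tT_eq, tT_eq, tT_eq, tT_eq]
  exact mulXM_comm 𝒩 _ _ e

/-- the Koszul base of the family `N(e)~` on `P^r`. -/
noncomputable def tbase : KS.Base (Proj (CohB1.polyGrading r k)) (Fin (r + 1)) where
  G := tG k r 𝒩
  t := tT k r 𝒩
  tt := tT_comm k r 𝒩

theorem tbase_G (e : ℤ) : (tbase k r 𝒩).G e = tG k r 𝒩 e := rfl

theorem tbase_t (l : Fin (r + 1)) (e : ℤ) : (tbase k r 𝒩).t l e = tT k r 𝒩 l e := rfl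

lemma tbase_bij (l : Fin (r + 1)) (e : ℤ) (W : (Proj (CohB1.polyGrading r k)).Opens)
    (hW : W ≤ PN.DX r k l) : Function.Bijective (((tbase k r 𝒩).t l e).app W) := by
  rw [tbase_t, tT_eq]
  exact mulXM_app_bijective 𝒩 (PN.Xd r k l) e W hW

theorem tbase_exact (e p : ℤ) :
    (ShortComplex.mk (((tbase k r 𝒩).koszul (List.finRange (r + 1))).d e p)
      (((tbase k r 𝒩).koszul (List.finRange (r + 1))).d e (p + 1))
      (((tbase k r 𝒩).koszul (List.finRange (r + 1))).dd e p)).Exact :=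
  (tbase k r 𝒩).koszul_exact (List.finRange (r + 1)) (PN.DX r k) (PN.exists_mem_DX r k)
    (tbase_bij k r 𝒩) e p

variable [DirectSum.Decomposition 𝒩]

lemma tG_qc (e : ℤ) : (tG k r 𝒩 e).IsQuasicoherent :=
  tilde_isQuasicoherent (CohB1.polyGrading r k) 𝒩 e

lemma tkoszul_qc (L : List (Fin (r + 1))) (e p : ℤ) :
    (((tbase k r 𝒩).koszul L).K e p).IsQuasicoherent :=
  (tbase k r 𝒩).koszul_prop (fun M => M.IsQuasicoherent)
    (fun _ hZ => QC.qc_of_iso ((isZero_zero _).iso hZ) (SC.qc_zero _))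
    (fun A C hA hC => SC.qc_biprod A C hA hC) L e p (fun e' _ => tG_qc k r 𝒩 e')

lemma tbase_hN (L : List (Fin (r + 1))) (e p : ℤ) (i : ℕ) (hi : r < i) :
    Subsingleton (Coh.HH (Proj (CohB1.polyGrading r k))
      (kernel (((tbase k r 𝒩).koszul L).d e p)) i) := by
  haveI := QC.qc_kernel (((tbase k r 𝒩).koszul L).d e p) (tkoszul_qc k r 𝒩 L e p)
    (tkoszul_qc k r 𝒩 L e (p + 1))
  exact PN.subsingleton_HH_of_lt r k _ i hi

/-- **Mumford's vanishing step for `N(g)~`**: `H^s(N(g)~) = 0` as soon as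
`H^{s+j}(N(g-1-j)~) = 0` for all `j ≥ 0`. -/
theorem tilde_vanish (s : ℕ) (g : ℤ)
    (hv : ∀ j : ℕ, ∀ e' : ℤ, e' + 1 + j = g →
      Subsingleton (Coh.HH (Proj (CohB1.polyGrading r k))
        (GrMod.tilde (CohB1.polyGrading r k) 𝒩 e') (s + j))) :
    Subsingleton (Coh.HH (Proj (CohB1.polyGrading r k))
      (GrMod.tilde (CohB1.polyGrading r k) 𝒩 g) s) :=
  (tbase k r 𝒩).koszul_vanish (List.finRange (r + 1)) (tbase_exact k r 𝒩) r
    (tbase_hN k r 𝒩 _) s g hv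

/-- **generation of the global sections of `N(g)~`**: every global section of `N(g)~` is a sum of
products of the variables with global sections of `N(g-1)~`, as soon as
`H^{1+j}(N(g-2-j)~) = 0` for all `j ≥ 0`. -/
theorem tilde_surj (g : ℤ)
    (hv : ∀ j : ℕ, ∀ e' : ℤ, e' + 2 + j = g →
      Subsingleton (Coh.HH (Proj (CohB1.polyGrading r k))
        (GrMod.tilde (CohB1.polyGrading r k) 𝒩 e') (1 + j)))
    (x : Γ((tbase k r 𝒩).G g, ⊤)) : x ∈ (tbase k r 𝒩).imgT g ⊤ :=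
  (tbase k r 𝒩).koszul_surj (List.finRange (r + 1)) (tbase_exact k r 𝒩) r
    (tbase_hN k r 𝒩 _) g hv x

end Poly

end Groth.Agent.H2.RegTil
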