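import Mathlib
import Groth.Agent.Lib.Helper2.RegTilE
import Groth.Agent.Lib.Helper8.ProjTilde.Serre1

/-! Castelnuovo–Mumford for the family `N(e)~` on `P^r`: regularity propagates, and for a regular
family the global sections of `N(j+1)~` are generated by the variables times those of `N(j)~`;
consequences for the maps `N_j → Γ(N(j)~)`. -/

set_option autoImplicit false
universe u
open CategoryTheory AlgebraicGeometry TopologicalSpace Opposite

namespace Groth.Agent.H2.RegTil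

open Groth.Agent.H8.ProjTilde Groth.Agent.H8.GTW Groth.Agent.LD

section Poly

variable (k : Type u) [CommRing k] (r : ℕ)
variable {N τ : Type u} [AddCommGroup N] [Module (MvPolynomial (Fin (r + 1)) k) N] [SetLike τ N]
  [AddSubgroupClass τ N] (𝒩 : ℕ → τ) [SetLike.GradedSMul (CohB1.polyGrading r k) 𝒩]

/-- the family `N(e)~` is `D`-regular. -/
def TReg (D : ℤ) : Prop :=
  ∀ i : ℕ, 1 ≤ i → Subsingleton (Coh.HH (Proj (CohB1.polyGrading r k))
    (GrMod.tilde (CohB1.polyGrading r k) 𝒩 (D - i)) i)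

/-- a global section of `N(e)~` is of the form `n / 1` with `n` of degree `e`. -/
def IsGlob (e : ℤ) (t : GrMod.sect (CohB1.polyGrading r k) 𝒩 e (op ⊤)) : Prop :=
  ∃ (i : ℕ) (n : N), n ∈ 𝒩 i ∧ (i : ℤ) = e ∧
    ∀ y : ProjectiveSpectrum (CohB1.polyGrading r k),
      gval (CohB1.polyGrading r k) 𝒩 t y = LocalizedModule.mk n 1

/-- the subgroup of `N` generated by the products of the variables with the elements of degree
`j`. -/
def XN (j : ℕ) : AddSubgroup N :=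
  AddSubgroup.closure {n | ∃ (l : Fin (r + 1)) (n' : N), n' ∈ 𝒩 j ∧
    n = (MvPolynomial.X l : MvPolynomial (Fin (r + 1)) k) • n'}

omit [AddSubgroupClass τ N] in
lemma XN_le (j : ℕ) [AddSubgroupClass τ N] : ∀ n ∈ XN k r 𝒩 j, n ∈ 𝒩 (j + 1) := by
  intro n hn
  induction hn using AddSubgroup.closure_induction with
  | mem n hn =>
    obtain ⟨l, n', hn', rfl⟩ := hn
    have := SetLike.GradedSMul.smul_mem (A := CohB1.polyGrading r k) (B := 𝒩) (PN.X_mem l) hn'
    rw [vadd_eq_add, add_comm] at this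
    exact this
  | zero => exact zero_mem _
  | add a b _ _ ha hb => exact add_mem ha hb
  | neg a _ ha => exact neg_mem ha

variable [DirectSum.Decomposition 𝒩]

theorem TReg.succ {D : ℤ} (h : TReg k r 𝒩 D) : TReg k r 𝒩 (D + 1) := by
  intro i hi
  refine tilde_vanish k r 𝒩 i (D + 1 - i) (fun j e' he' => ?_)
  have h1 := h (i + j) (by omega)
  have h2 : D - ((i + j : ℕ) : ℤ) = e' := by push_cast; omega
  rw [h2] at h1
  exact h1

theorem TReg.of_le {D : ℤ} (h : TReg k r 𝒩 D) : ∀ (m : ℕ), TReg k r 𝒩 (D + m) := by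
  intro m
  induction m with
  | zero => simpa using h
  | succ m ih =>
    have := ih.succ
    have e : D + (m : ℤ) + 1 = D + ((m + 1 : ℕ) : ℤ) := by push_cast; ring
    rwa [e] at this

omit [DirectSum.Decomposition 𝒩] in
/-- the sections generated by the operators are of the form `n / 1` with `n` a combination of
products of the variables with elements of degree `j`. -/
theorem imgT_glob (j : ℕ)
    (hj : ∀ t : GrMod.sect (CohB1.polyGrading r k) 𝒩 (j : ℤ) (op ⊤), IsGlob k r 𝒩 (j : ℤ) t)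
    (x : Γ((tbase k r 𝒩).G ((j : ℤ) + 1), ⊤)) (hx : x ∈ (tbase k r 𝒩).imgT ((j : ℤ) + 1) ⊤) :
    ∃ n ∈ XN k r 𝒩 j, ∀ y : ProjectiveSpectrum (CohB1.polyGrading r k),
      gval (CohB1.polyGrading r k) 𝒩
        (show GrMod.sect (CohB1.polyGrading r k) 𝒩 ((j : ℤ) + 1) (op ⊤) from x) y =
        LocalizedModule.mk n 1 := by
  induction hx using AddSubgroup.closure_induction with
  | mem x hx =>
    obtain ⟨l, e, h, c, rfl⟩ := hx
    obtain rfl : e = (j : ℤ) := by omega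
    obtain ⟨i, n₀, hn₀, hi, hc⟩ := hj c
    obtain rfl : i = j := by exact_mod_cast hi
    refine ⟨(MvPolynomial.X l : MvPolynomial (Fin (r + 1)) k) • n₀,
      AddSubgroup.subset_closure ⟨l, n₀, hn₀, rfl⟩, fun y => ?_⟩
    have h1 : (tbase k r 𝒩).tE l (i : ℤ) ((i : ℤ) + 1) h = tT k r 𝒩 l (i : ℤ) := by
      rw [← tbase_t]
      exact KS.Base.tE_rfl _ l (i : ℤ)
    rw [h1, tT_eq]
    change (Localization.mk ((PN.Xd r k l : CohB1.polyGrading r k 1) : MvPolynomial (Fin (r + 1)) k)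
      (1 : y.asHomogeneousIdeal.toIdeal.primeCompl) : GrTwist.Loc (CohB1.polyGrading r k) y) •
        gval (CohB1.polyGrading r k) 𝒩 c y = _
    rw [hc y, LocalizedModule.mk_smul_mk, one_mul]
    rfl
  | zero =>
    refine ⟨0, zero_mem _, fun y => ?_⟩
    rw [LocalizedModule.zero_mk]
    rfl
  | add a b _ _ ha hb =>
    obtain ⟨n₁, hn₁, h₁⟩ := ha
    obtain ⟨n₂, hn₂, h₂⟩ := hb
    refine ⟨n₁ + n₂, add_mem hn₁ hn₂, fun y => ?_⟩
    have e : (LocalizedModule.mk (n₁ + n₂) 1 : GrMod.LocMod (CohB1.polyGrading r k) (M := N) y) =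
        LocalizedModule.mk n₁ 1 + LocalizedModule.mk n₂ 1 :=
      (LocalizedModule.mkLinearMap _ N).map_add n₁ n₂
    rw [e, ← h₁ y, ← h₂ y]
    rfl
  | neg a _ ha =>
    obtain ⟨n₁, hn₁, h₁⟩ := ha
    refine ⟨-n₁, neg_mem hn₁, fun y => ?_⟩
    have e : (LocalizedModule.mk (-n₁) 1 : GrMod.LocMod (CohB1.polyGrading r k) (M := N) y) =
        -LocalizedModule.mk n₁ 1 :=
      (LocalizedModule.mkLinearMap _ N).map_neg n₁
    rw [e, ← h₁ y]
    rfl

/-- for a `j`-regular family whose global sections in degree `j` come from `N_j`, the global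
sections in degree `j + 1` come from the products of the variables with `N_j`. -/
theorem gen_step (j : ℕ) (hreg : TReg k r 𝒩 (j : ℤ))
    (hj : ∀ t : GrMod.sect (CohB1.polyGrading r k) 𝒩 (j : ℤ) (op ⊤), IsGlob k r 𝒩 (j : ℤ) t)
    (e : ℤ) (he : e = (j : ℤ) + 1) (t : GrMod.sect (CohB1.polyGrading r k) 𝒩 e (op ⊤)) :
    ∃ n ∈ XN k r 𝒩 j, ∀ y : ProjectiveSpectrum (CohB1.polyGrading r k),
      gval (CohB1.polyGrading r k) 𝒩 t y = LocalizedModule.mk n 1 := by
  subst he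
  have hx := tilde_surj k r 𝒩 ((j : ℤ) + 1) (fun j' e' he' => by
    have h1 := hreg (1 + j') (by omega)
    have h2 : (j : ℤ) - ((1 + j' : ℕ) : ℤ) = e' := by push_cast; omega
    rw [h2] at h1
    exact h1) t
  exact imgT_glob k r 𝒩 j hj t hx

theorem isGlob_succ (j : ℕ) (hreg : TReg k r 𝒩 (j : ℤ))
    (hj : ∀ t : GrMod.sect (CohB1.polyGrading r k) 𝒩 (j : ℤ) (op ⊤), IsGlob k r 𝒩 (j : ℤ) t)
    (t : GrMod.sect (CohB1.polyGrading r k) 𝒩 ((j + 1 : ℕ) : ℤ) (op ⊤)) :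
    IsGlob k r 𝒩 ((j + 1 : ℕ) : ℤ) t := by
  obtain ⟨n, hn, h⟩ := gen_step k r 𝒩 j hreg hj ((j + 1 : ℕ) : ℤ) (by push_cast; ring) t
  exact ⟨j + 1, n, XN_le k r 𝒩 j n hn, rfl, h⟩

/-- **all global sections of `N(j)~`, `j ≥ D`, come from `N_j`**, for a `D`-regular family with
this property in degree `D`. -/
theorem isGlob_all (D : ℕ) (hreg : TReg k r 𝒩 (D : ℤ))
    (hD : ∀ t : GrMod.sect (CohB1.polyGrading r k) 𝒩 (D : ℤ) (op ⊤), IsGlob k r 𝒩 (D : ℤ) t) :
    ∀ (m : ℕ) (t : GrMod.sect (CohB1.polyGrading r k) 𝒩 ((D + m : ℕ) : ℤ) (op ⊤)),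
      IsGlob k r 𝒩 ((D + m : ℕ) : ℤ) t := by
  intro m
  induction m with
  | zero => exact hD
  | succ m ih =>
    have h1 : TReg k r 𝒩 ((D + m : ℕ) : ℤ) := by
      have := hreg.of_le k r 𝒩 m
      have e : (D : ℤ) + (m : ℤ) = ((D + m : ℕ) : ℤ) := by push_cast; ring
      rwa [e] at this
    exact isGlob_succ k r 𝒩 (D + m) h1 ih

/-- **generation in degrees above the regularity**: for a `D`-regular family such that
`N_D → Γ(N(D)~)` is onto and `N_e → Γ(N(e)~)` is injective for `e > D`, one has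
`N_{j+1} = Σ X_l N_j` for all `j ≥ D`. -/
theorem mem_XN_of_treg (D : ℕ) (hreg : TReg k r 𝒩 (D : ℤ))
    (hD : ∀ t : GrMod.sect (CohB1.polyGrading r k) 𝒩 (D : ℤ) (op ⊤), IsGlob k r 𝒩 (D : ℤ) t)
    (hinj : ∀ e : ℕ, D < e → ∀ n ∈ 𝒩 e, (∀ y : ProjectiveSpectrum (CohB1.polyGrading r k),
      (LocalizedModule.mk n 1 : GrMod.LocMod (CohB1.polyGrading r k) (M := N) y) = 0) → n = 0)
    (j : ℕ) (hj : D ≤ j) (n : N) (hn : n ∈ 𝒩 (j + 1)) : n ∈ XN k r 𝒩 j := by
  obtain ⟨m, rfl⟩ := Nat.exists_eq_add_of_le hj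
  have h1 : TReg k r 𝒩 ((D + m : ℕ) : ℤ) := by
    have := hreg.of_le k r 𝒩 m
    have e : (D : ℤ) + (m : ℤ) = ((D + m : ℕ) : ℤ) := by push_cast; ring
    rwa [e] at this
  obtain ⟨n', hn', h⟩ := gen_step k r 𝒩 (D + m) h1 (isGlob_all k r 𝒩 D hreg hD m)
    ((D + m + 1 : ℕ) : ℤ) (by push_cast; ring)
    (GrMod.globalOf (CohB1.polyGrading r k) 𝒩 ⟨n, hn⟩)
  have h2 : n - n' = 0 := by
    refine hinj (D + m + 1) (by omega) (n - n') (sub_mem hn (XN_le k r 𝒩 _ n' hn')) (fun y => ?_)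
    have e : (LocalizedModule.mk (n - n') 1 :
        GrMod.LocMod (CohB1.polyGrading r k) (M := N) y) =
        LocalizedModule.mk n 1 - LocalizedModule.mk n' 1 :=
      (LocalizedModule.mkLinearMap _ N).map_sub n n'
    rw [e, ← h y]
    exact sub_self _
  rw [sub_eq_zero] at h2
  rw [h2]
  exact hn'

end Poly

end Groth.Agent.H2.RegTil
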