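import Mathlib
import Groth.Agent.Lib.Helper2.RegTilB
import Groth.Agent.Lib.Helper2.RegTilF
import Groth.Agent.Lib.Lead.CohLES.H0

/-! The grading induced on a homogeneous submodule, and the behaviour of regularity, surjectivity
of `N_D → Γ(N(D)~)` and absence of torsion under passage to the kernel of a graded surjection from
a module with good properties. -/

set_option autoImplicit false
universe u
open CategoryTheory AlgebraicGeometry TopologicalSpace Opposite

namespace Groth.Agent.H2.RegTil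

open Groth.Agent.H8.ProjTilde Groth.Agent.H8.GTW Groth.Agent.LD

section Sub

variable {k S : Type u} [CommRing k] [CommRing S] [Algebra k S]
  {L : Type u} [AddCommGroup L] [Module k L] [Module S L] [IsScalarTower k S L]
  (ℒ : ℕ → Submodule k L) (P : Submodule S L)

/-- the pieces induced on a submodule. -/
def subFam (i : ℕ) : Submodule k P := (ℒ i).comap (P.subtype.restrictScalars k)

lemma mem_subFam {i : ℕ} {x : P} : x ∈ subFam ℒ P i ↔ (x : L) ∈ ℒ i := Iff.rfl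

instance gsmulSub {σ : Type u} [SetLike σ S] [AddSubgroupClass σ S] (𝒜 : ℕ → σ) [GradedRing 𝒜]
    [SetLike.GradedSMul 𝒜 ℒ] : SetLike.GradedSMul 𝒜 (subFam ℒ P) where
  smul_mem := by
    intro i j a x ha hx
    exact SetLike.GradedSMul.smul_mem (A := 𝒜) (B := ℒ) ha hx

variable [DirectSum.Decomposition ℒ]

lemma subFam_iSupIndep : iSupIndep (subFam ℒ P) := by
  classical
  have hind : iSupIndep ℒ := (DirectSum.Decomposition.isInternal ℒ).submodule_iSupIndep
  rw [iSupIndep_def] at hind ⊢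
  intro i
  rw [Submodule.disjoint_def]
  intro x hx hx'
  have h1 := hind i
  rw [Submodule.disjoint_def] at h1
  apply Subtype.ext
  refine h1 (x : L) hx ?_
  have h2 : (⨆ j, ⨆ (_ : j ≠ i), subFam ℒ P j).map (P.subtype.restrictScalars k) ≤
      ⨆ j, ⨆ (_ : j ≠ i), ℒ j := by
    rw [Submodule.map_iSup]
    refine iSup_le fun j => ?_
    rw [Submodule.map_iSup]
    refine iSup_le fun hj => ?_
    refine le_trans ?_ (le_iSup₂ (f := fun j (_ : j ≠ i) => ℒ j) j hj)
    rintro _ ⟨y, hy, rfl⟩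
    exact hy
  exact h2 ⟨x, hx', rfl⟩

variable (hP : ∀ x ∈ P, ∀ i, (DirectSum.decompose ℒ x i : L) ∈ P)

include hP in
lemma subFam_iSup : iSup (subFam ℒ P) = ⊤ := by
  classical
  rw [eq_top_iff]
  rintro x -
  have h1 := DirectSum.sum_support_decompose ℒ (x : L)
  have h2 : x = ∑ i ∈ (DirectSum.decompose ℒ (x : L)).support,
      (⟨(DirectSum.decompose ℒ (x : L) i : L), hP x x.2 i⟩ : P) := by
    apply Subtype.ext
    rw [AddSubmonoidClass.coe_finsetSum]
    exact h1.symm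
  rw [h2]
  refine Submodule.sum_mem _ fun i _ => ?_
  exact Submodule.mem_iSup_of_mem i (DirectSum.decompose ℒ (x : L) i).2

/-- the decomposition of a homogeneous submodule. -/
@[instance_reducible]
noncomputable def subDecomp : DirectSum.Decomposition (subFam ℒ P) :=
  (DirectSum.isInternal_submodule_of_iSupIndep_of_iSup_eq_top (subFam_iSupIndep ℒ P)
    (subFam_iSup ℒ P hP)).chooseDecomposition

end Sub

section Graded

variable {A σ : Type u} [CommRing A] [SetLike σ A] [AddSubgroupClass σ A] {𝒜 : ℕ → σ} [GradedRing 𝒜]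
variable {M₁ τ₁ : Type u} [AddCommGroup M₁] [Module A M₁] [SetLike τ₁ M₁] [AddSubgroupClass τ₁ M₁]
    (ℳ₁ : ℕ → τ₁) [SetLike.GradedSMul 𝒜 ℳ₁] [DirectSum.Decomposition ℳ₁]
    {M₂ τ₂ : Type u} [AddCommGroup M₂] [Module A M₂] [SetLike τ₂ M₂] [AddSubgroupClass τ₂ M₂]
    (ℳ₂ : ℕ → τ₂) [SetLike.GradedSMul 𝒜 ℳ₂] [DirectSum.Decomposition ℳ₂]
    (u : M₁ →ₗ[A] M₂) (hu : ∀ (i : ℕ) (m : M₁), m ∈ ℳ₁ i → u m ∈ ℳ₂ i)

include hu in
/-- a surjective graded map is surjective on pieces. -/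
lemma exists_mem_of_surjective (hs : Function.Surjective u) {i : ℕ} {m₂ : M₂} (h₂ : m₂ ∈ ℳ₂ i) :
    ∃ m₁ ∈ ℳ₁ i, u m₁ = m₂ := by
  obtain ⟨m₀, rfl⟩ := hs m₂
  refine ⟨(DirectSum.decompose ℳ₁ m₀ i : M₁), (DirectSum.decompose ℳ₁ m₀ i).2, ?_⟩
  rw [lin_decompose ℳ₁ ℳ₂ u hu m₀ i, DirectSum.decompose_of_mem_same ℳ₂ h₂]

include hu in
/-- an injective graded map reflects degrees. -/
lemma mem_of_injective (hi : Function.Injective u) {i : ℕ} {m₁ : M₁} (h : u m₁ ∈ ℳ₂ i) :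
    m₁ ∈ ℳ₁ i := by
  have h1 : u (DirectSum.decompose ℳ₁ m₁ i : M₁) = u m₁ := by
    rw [lin_decompose ℳ₁ ℳ₂ u hu m₁ i, DirectSum.decompose_of_mem_same ℳ₂ h]
  rw [← hi h1]
  exact (DirectSum.decompose ℳ₁ m₁ i).2

omit [AddSubgroupClass τ₁ M₁] [SetLike τ₁ M₁] [AddSubgroupClass τ₂ M₂] [SetLike τ₂ M₂] in
lemma locMap_injective (hi : Function.Injective u) (y : ProjectiveSpectrum 𝒜) :
    Function.Injective (GrMod.locMap (𝒜 := 𝒜) u y) := by
  rw [injective_iff_map_eq_zero]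
  intro q hq
  induction q using LocalizedModule.induction_on with
  | h m s =>
    rw [GrMod.locMap_mk, mk_eq_zero_iff] at hq
    obtain ⟨t, ht⟩ := hq
    rw [mk_eq_zero_iff]
    refine ⟨t, hi ?_⟩
    rw [map_smul, ht, map_zero]

end Graded

section Defs

variable (k : Type u) [CommRing k] (r : ℕ)
variable {N τ : Type u} [AddCommGroup N] [Module (MvPolynomial (Fin (r + 1)) k) N] [SetLike τ N]
  [AddSubgroupClass τ N] (𝒩 : ℕ → τ) [SetLike.GradedSMul (CohB1.polyGrading r k) 𝒩]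

/-- no element of degree `e` is killed by a power of every variable. -/
def NoTors (e : ℕ) : Prop :=
  ∀ n ∈ 𝒩 e, (∃ K : ℕ, ∀ l : Fin (r + 1),
    (MvPolynomial.X l : MvPolynomial (Fin (r + 1)) k) ^ K • n = 0) → n = 0

/-- the three conditions: the family `N(e)~` is `D`-regular, the global sections of `N(D)~` come
from `N_D`, and there is no torsion in degrees above `D`. -/
def PP (D : ℕ) : Prop :=
  TReg k r 𝒩 (D : ℤ) ∧
    (∀ t : GrMod.sect (CohB1.polyGrading r k) 𝒩 (D : ℤ) (op ⊤), IsGlob k r 𝒩 (D : ℤ) t) ∧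
    ∀ e : ℕ, D < e → NoTors k r 𝒩 e

variable [DirectSum.Decomposition 𝒩]

/-- a homogeneous element dies at every point of `P^r` iff it is killed by a power of every
variable. -/
lemma forall_mk_eq_zero_iff {e : ℕ} {n : N} (hn : n ∈ 𝒩 e) :
    (∀ y : ProjectiveSpectrum (CohB1.polyGrading r k),
      (LocalizedModule.mk n 1 : GrMod.LocMod (CohB1.polyGrading r k) (M := N) y) = 0) ↔
      ∃ K : ℕ, ∀ l : Fin (r + 1),
        (MvPolynomial.X l : MvPolynomial (Fin (r + 1)) k) ^ K • n = 0 := by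
  have h := forall_exists_smul_eq_zero_iff_mem_sat (CohB1.polyGrading r k) 𝒩
    (g := fun l : Fin (r + 1) => (MvPolynomial.X l : MvPolynomial (Fin (r + 1)) k))
    (fun _ => 1) (fun l => PN.X_mem l) (fun _ => one_pos) (PN.irrelevant_eq_span r k) hn
  rw [mem_sat] at h
  simp only [Submodule.mem_bot] at h
  rw [← h]
  refine forall_congr' fun y => ?_
  rw [mk_eq_zero_iff]
  constructor
  · rintro ⟨u, hu⟩
    exact ⟨u.1, u.2, hu⟩
  · rintro ⟨u, hu1, hu2⟩
    exact ⟨⟨u, hu1⟩, hu2⟩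

end Defs

section Ker

variable (k : Type u) [CommRing k] (r : ℕ)
variable {K τ₁ : Type u} [AddCommGroup K] [Module (MvPolynomial (Fin (r + 1)) k) K] [SetLike τ₁ K]
    [AddSubgroupClass τ₁ K] (𝒦 : ℕ → τ₁) [SetLike.GradedSMul (CohB1.polyGrading r k) 𝒦]
    [DirectSum.Decomposition 𝒦]
  {L τ₂ : Type u} [AddCommGroup L] [Module (MvPolynomial (Fin (r + 1)) k) L] [SetLike τ₂ L]
    [AddSubgroupClass τ₂ L] (ℒ : ℕ → τ₂) [SetLike.GradedSMul (CohB1.polyGrading r k) ℒ]
    [DirectSum.Decomposition ℒ]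
  {N τ₃ : Type u} [AddCommGroup N] [Module (MvPolynomial (Fin (r + 1)) k) N] [SetLike τ₃ N]
    [AddSubgroupClass τ₃ N] (𝒩 : ℕ → τ₃) [SetLike.GradedSMul (CohB1.polyGrading r k) 𝒩]
    [DirectSum.Decomposition 𝒩]
  (ι : K →ₗ[MvPolynomial (Fin (r + 1)) k] L) (hι : ∀ (i : ℕ) (m : K), m ∈ 𝒦 i → ι m ∈ ℒ i)
  (π : L →ₗ[MvPolynomial (Fin (r + 1)) k] N) (hπ : ∀ (i : ℕ) (m : L), m ∈ ℒ i → π m ∈ 𝒩 i)
  (hex : Function.Exact ι π) (hinj : Function.Injective ι) (hsurj : Function.Surjective π)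

include hπ hsurj in
/-- global sections of the form `n / 1` lift along a graded surjection. -/
lemma exists_globalOf_map (D : ℕ)
    (t : GrMod.sect (CohB1.polyGrading r k) 𝒩 (D : ℤ) (op ⊤)) (ht : IsGlob k r 𝒩 (D : ℤ) t) :
    ∃ t' : GrMod.sect (CohB1.polyGrading r k) ℒ (D : ℤ) (op ⊤),
      (GrMod.map (CohB1.polyGrading r k) π hπ (D : ℤ)).app ⊤ t' = t := by
  obtain ⟨i, n, hn, hi, hval⟩ := ht
  obtain rfl : i = D := by exact_mod_cast hi
  obtain ⟨v, hv, rfl⟩ := exists_mem_of_surjective ℒ 𝒩 π hπ hsurj hn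
  refine ⟨GrMod.globalOf (CohB1.polyGrading r k) ℒ ⟨v, hv⟩, ?_⟩
  refine sect_ext (CohB1.polyGrading r k) 𝒩 _ _ fun y => ?_
  obtain ⟨y, hy⟩ := y
  change GrMod.locMap π y (LocalizedModule.mk v 1) = _
  rw [GrMod.locMap_mk]
  exact (hval y).symm

include hι hπ hex hinj hsurj in
/-- **regularity, surjectivity onto global sections and absence of torsion pass to the kernel**
of a graded surjection from a graded module which has these properties (such as a free one
generated in low degrees). -/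
theorem PP_ker (D : ℕ) (hL1 : TReg k r ℒ ((D : ℤ) + 1))
    (hL2 : ∀ t : GrMod.sect (CohB1.polyGrading r k) ℒ ((D + 1 : ℕ) : ℤ) (op ⊤),
      IsGlob k r ℒ ((D + 1 : ℕ) : ℤ) t)
    (hL3 : ∀ e : ℕ, NoTors k r ℒ e) (hN : PP k r 𝒩 D) : PP k r 𝒦 (D + 1) := by
  obtain ⟨hN1, hN2, hN3⟩ := hN
  refine ⟨?_, ?_, ?_⟩
  · -- regularity
    intro i hi
    obtain ⟨s, hs⟩ : ∃ s : ℤ, s = ((D + 1 : ℕ) : ℤ) - (i : ℤ) := ⟨_, rfl⟩
    rw [← hs]
    obtain ⟨w, hS⟩ := tilde_shortExact (CohB1.polyGrading r k) 𝒦 ℒ 𝒩 ι hι π hπ hex hinj hsurj s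
    rcases Nat.lt_or_ge 1 i with h2 | h2
    · obtain ⟨i', rfl⟩ : ∃ i', i = i' + 1 := ⟨i - 1, by omega⟩
      refine CL.subsingleton_left hS i' ?_ ?_
      · have h1 := hN1 i' (by omega)
        have e : (D : ℤ) - (i' : ℤ) = s := by rw [hs]; push_cast; ring
        rw [e] at h1
        exact h1
      · have h1 := hL1 (i' + 1) (by omega)
        have e : (D : ℤ) + 1 - ((i' + 1 : ℕ) : ℤ) = s := by rw [hs]; push_cast; ring
        rw [e] at h1
        exact h1
    · obtain rfl : i = 1 := by omega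
      have hsD : s = (D : ℤ) := by rw [hs]; push_cast; ring
      subst hsD
      have hsur : Function.Surjective
          ((ShortComplex.mk _ _ w).g.app ⊤) := by
        intro t
        exact exists_globalOf_map k r ℒ 𝒩 π hπ hsurj D t (hN2 t)
      have hinj1 := CL.injective_HHmapZ_one_of_surjective hS hsur
      have h1 := hL1 1 (by omega)
      have e : (D : ℤ) + 1 - ((1 : ℕ) : ℤ) = (D : ℤ) := by push_cast; ring
      rw [e] at h1
      exact ⟨fun a b => hinj1 (h1.elim _ _)⟩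
  · -- surjectivity onto global sections
    intro t
    obtain ⟨w, -⟩ := tilde_exact (CohB1.polyGrading r k) 𝒦 ℒ 𝒩 ι hι π hπ hex ((D + 1 : ℕ) : ℤ)
    obtain ⟨i, v, hv, hi, hval⟩ := hL2
      ((GrMod.map (CohB1.polyGrading r k) ι hι ((D + 1 : ℕ) : ℤ)).app ⊤ t)
    obtain rfl : i = D + 1 := by exact_mod_cast hi
    -- `π v` dies at every point
    have h0 : ∀ y : ProjectiveSpectrum (CohB1.polyGrading r k),
        (LocalizedModule.mk (π v) 1 : GrMod.LocMod (CohB1.polyGrading r k) (M := N) y) = 0 := by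
      intro y
      have h1 : (GrMod.map (CohB1.polyGrading r k) π hπ ((D + 1 : ℕ) : ℤ)).app ⊤
          ((GrMod.map (CohB1.polyGrading r k) ι hι ((D + 1 : ℕ) : ℤ)).app ⊤ t) = 0 := by
        have := congrArg (fun φ => φ.app ⊤ t) w
        exact this
      have h2 := congrArg (fun z : GrMod.sect (CohB1.polyGrading r k) 𝒩 ((D + 1 : ℕ) : ℤ) (op ⊤) =>
        gval (CohB1.polyGrading r k) 𝒩 z y) h1
      change GrMod.locMap π y (gval (CohB1.polyGrading r k) ℒ
        ((GrMod.map (CohB1.polyGrading r k) ι hι ((D + 1 : ℕ) : ℤ)).app ⊤ t) y) = 0 at h2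
      rw [hval y, GrMod.locMap_mk] at h2
      exact h2
    have h1 : π v = 0 := hN3 (D + 1) (by omega) (π v) (hπ _ _ hv)
      ((forall_mk_eq_zero_iff k r 𝒩 (hπ _ _ hv)).1 h0)
    obtain ⟨κ, rfl⟩ := (hex v).1 h1
    refine ⟨D + 1, κ, mem_of_injective 𝒦 ℒ ι hι hinj hv, rfl, fun y => ?_⟩
    apply locMap_injective ι hinj y
    rw [GrMod.locMap_mk]
    exact hval y
  · -- no torsion
    intro e _ κ hκ ⟨K', hK'⟩
    apply hinj
    rw [map_zero]
    refine hL3 e (ι κ) (hι e κ hκ) ⟨K', fun l => ?_⟩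
    rw [← map_smul, hK' l, map_zero]

end Ker

end Groth.Agent.H2.RegTil
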