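import Mathlib
import Groth.Agent.Lib.Helper2.RegTilD
import Groth.Agent.Lib.Helper2.RegTilG
import Groth.Agent.Lib.Lead.PN.H0Lin

/-! Graded free modules with shifted bases over the polynomial ring: regularity of their sheaves,
their global sections, and absence of torsion. -/

set_option autoImplicit false
universe u
open CategoryTheory AlgebraicGeometry TopologicalSpace Opposite

namespace Groth.Agent.H2.RegTil

open Groth.Agent.H8.ProjTilde Groth.Agent.H8.GTW Groth.Agent.LD
open Groth.Agent.H2.GrHilbRes Groth.Agent.H2.GrComp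

section LocPi

variable {S : Type u} [CommRing S] (T : Submonoid S) {n : ℕ}

/-- an element of the localization of a finite free module all of whose coordinates vanish is
zero. -/
lemma locPi_eq_zero (q : LocalizedModule T (Fin n → S))
    (h : ∀ b, LocalizedModule.map T (LinearMap.proj (R := S) (φ := fun _ : Fin n => S) b) q = 0) :
    q = 0 := by
  induction q using LocalizedModule.induction_on with
  | h w s =>
    have h1 : ∀ b, ∃ u : T, (u : S) • w b = 0 := by
      intro b
      have := h b
      rw [LocalizedModule.map_mk, mk_eq_zero_iff] at this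
      exact this
    choose u hu using h1
    rw [mk_eq_zero_iff]
    refine ⟨∏ b, u b, ?_⟩
    funext b
    rw [Pi.smul_apply, Pi.zero_apply, Submonoid.coe_finsetProd,
      ← Finset.mul_prod_erase Finset.univ (fun b => (u b : S)) (Finset.mem_univ b),
      mul_comm, mul_smul, hu b, smul_zero]

lemma locPi_ext (q q' : LocalizedModule T (Fin n → S))
    (h : ∀ b, LocalizedModule.map T (LinearMap.proj (R := S) (φ := fun _ : Fin n => S) b) q =
      LocalizedModule.map T (LinearMap.proj (R := S) (φ := fun _ : Fin n => S) b) q') :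
    q = q' := by
  rw [← sub_eq_zero]
  apply locPi_eq_zero T
  intro b
  rw [map_sub, h b, sub_self]

end LocPi

section Free

variable (k : Type u) [Field k] (r : ℕ) {n : ℕ} (a : Fin n → ℤ) (c : ℤ)

/-- the sheaves of a graded free module generated in degrees `≤ D` form a `(D+1)`-regular
family. -/
theorem free_treg (D : ℤ) (hc : ∀ b, 0 ≤ a b + c) (hD : ∀ b, a b + c ≤ D) :
    TReg k r (shiftFam (piece (GrSyz.stdGr k (Fin (r + 1))) a) c) (D + 1) := by
  intro i hi
  refine subsingleton_HH_free k r i (D + 1 - i) c n a hc (fun b => ?_)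
  apply PN.subsingleton_HH_twist_all r k
  · rintro ⟨h0, -⟩
    omega
  · rintro ⟨h1, h2⟩
    have := hD b
    omega

/-- a graded free module over the polynomial ring has no torsion. -/
theorem free_noTors (e : ℕ) :
    NoTors k r (shiftFam (piece (GrSyz.stdGr k (Fin (r + 1))) a) c) e := by
  intro v _ ⟨K, hK⟩
  funext b
  have h1 := congrFun (hK 0) b
  rw [Pi.smul_apply, smul_eq_mul, Pi.zero_apply] at h1
  rcases mul_eq_zero.1 h1 with h2 | h2
  · exact absurd h2 (pow_ne_zero K (MvPolynomial.X_ne_zero 0))
  · exact h2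

/-- the global sections of the sheaf of a graded free module in degrees at least the degrees of
the generators come from the module. -/
theorem free_isGlob (e : ℕ) (he : ∀ b, a b + c ≤ e)
    (t : GrMod.sect (CohB1.polyGrading r k) (shiftFam (piece (GrSyz.stdGr k (Fin (r + 1))) a) c)
      (e : ℤ) (op ⊤)) :
    IsGlob k r (shiftFam (piece (GrSyz.stdGr k (Fin (r + 1))) a) c) (e : ℤ) t := by
  classical
  have key : ∀ b, ∃ f : MvPolynomial (Fin (r + 1)) k,
      f ∈ GrSyz.stdGr k (Fin (r + 1)) ((e : ℤ) - c - a b) ∧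
      ∀ y : ProjectiveSpectrum (CohB1.polyGrading r k),
        LocalizedModule.map y.asHomogeneousIdeal.toIdeal.primeCompl
          (LinearMap.proj (R := MvPolynomial (Fin (r + 1)) k)
            (φ := fun _ : Fin n => MvPolynomial (Fin (r + 1)) k) b)
          (gval (CohB1.polyGrading r k) (shiftFam (piece (GrSyz.stdGr k (Fin (r + 1))) a) c) t y) =
          LocalizedModule.mk f 1 := by
    intro b
    have hp : ∀ (i : ℕ) (v : Fin n → MvPolynomial (Fin (r + 1)) k),
        v ∈ shiftFam (piece (GrSyz.stdGr k (Fin (r + 1))) a) c i →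
        (LinearMap.proj (R := MvPolynomial (Fin (r + 1)) k)
            (φ := fun _ : Fin n => MvPolynomial (Fin (r + 1)) k) b) v ∈
          shiftFam (GrSyz.stdGr k (Fin (r + 1))) (a b + c) i := by
      intro i v hv
      rw [shiftFam_apply]
      have h1 : v b ∈ GrSyz.stdGr k (Fin (r + 1)) ((i : ℤ) - c - a b) := hv b
      have e1 : (i : ℤ) - (a b + c) = (i : ℤ) - c - a b := by ring
      rw [e1]
      exact h1
    obtain ⟨d, hd⟩ : ∃ d : ℕ, (d : ℤ) = (e : ℤ) - (a b + c) :=
      ⟨((e : ℤ) - (a b + c)).toNat, by have := he b; omega⟩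
    have hfr : FracLE (shiftFam (GrSyz.stdGr k (Fin (r + 1))) (a b + c)) (CohB1.polyGrading r k)
        (e : ℤ) (d : ℤ) := by
      rw [hd]
      exact fracLE_ring' k r (a b + c) (e : ℤ)
    obtain ⟨f, hf⟩ := PN.globalOf_surjective (n := r) (R := k) d
      (convApp hfr (op ⊤) ((GrMod.map (CohB1.polyGrading r k) _ hp (e : ℤ)).app ⊤ t))
    refine ⟨f.1, ?_, fun y => ?_⟩
    · have h1 : (f : MvPolynomial (Fin (r + 1)) k) ∈ GrSyz.stdGr k (Fin (r + 1)) (d : ℤ) :=
        mem_stdGr_of_mem_poly k r d f.1 f.2
      have e1 : (e : ℤ) - c - a b = (d : ℤ) := by rw [hd]; ring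
      rw [e1]
      exact h1
    · have h2 := congrArg (fun z : Twist.sectN (𝒜 := CohB1.polyGrading r k) (d : ℤ) (op ⊤) =>
        ((z.1 ⟨y, trivial⟩).1 : Twist.Loc (CohB1.polyGrading r k) y)) hf
      exact h2.symm
  choose f hf1 hf2 using key
  refine ⟨e, f, fun b => hf1 b, rfl, fun y => ?_⟩
  apply locPi_ext
  intro b
  rw [hf2 b y, LocalizedModule.map_mk]
  rfl

end Free

end Groth.Agent.H2.RegTil
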