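import Mathlib
import Groth.Agent.Lib.Helper2.RegTilH
import Groth.Agent.Lib.Helper2.GrSyzBasic

/-! One step of the syzygy induction: a minimal graded free cover of a graded module which is
`D`-regular (sheaf side), without torsion above `D` and with `N_D → Γ(N(D)~)` onto is generated in
degrees `≤ D`, and its kernel has the same properties with `D + 1`. -/

set_option autoImplicit false
set_option linter.unusedSectionVars false
universe u
open CategoryTheory AlgebraicGeometry TopologicalSpace Opposite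

namespace Groth.Agent.H2.RegTil

open Groth.Agent.H8.ProjTilde Groth.Agent.H8.GTW Groth.Agent.LD
open Groth.Agent.H2.GrHilbRes Groth.Agent.H2.GrComp

section Step

variable (k : Type u) [Field k] (r : ℕ)
  {N : Type u} [AddCommGroup N] [Module k N] [Module (MvPolynomial (Fin (r + 1)) k) N]
  [IsScalarTower k (MvPolynomial (Fin (r + 1)) k) N]
  (𝒩 : ℕ → Submodule k N) [SetLike.GradedSMul (CohB1.polyGrading r k) 𝒩]
  [DirectSum.Decomposition 𝒩]
  {n : ℕ} (a : Fin n → ℤ) (c : ℤ) (hc : ∀ b, 0 ≤ a b + c)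
  (π : (Fin n → MvPolynomial (Fin (r + 1)) k) →ₗ[MvPolynomial (Fin (r + 1)) k] N)
  (hπ : ∀ (i : ℕ) (v : Fin n → MvPolynomial (Fin (r + 1)) k),
    v ∈ shiftFam (piece (GrSyz.stdGr k (Fin (r + 1))) a) c i → π v ∈ 𝒩 i)
  (hsurj : Function.Surjective π)
  (hmin : ∀ v : Fin n → MvPolynomial (Fin (r + 1)) k, π v = 0 →
    ∀ b, v b ∈ (GrSyz.irrel (GrSyz.stdGr k (Fin (r + 1)))).toIdeal)

include hsurj in
/-- elements of `Σ X_l N_j` are images of vectors with coordinates in the irrelevant ideal. -/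
lemma exists_irrel_of_mem_XN (j : ℕ) (x : N) (hx : x ∈ XN k r 𝒩 j) :
    ∃ w : Fin n → MvPolynomial (Fin (r + 1)) k,
      (∀ b, w b ∈ (GrSyz.irrel (GrSyz.stdGr k (Fin (r + 1)))).toIdeal) ∧ π w = x := by
  induction hx using AddSubgroup.closure_induction with
  | mem x hx =>
    obtain ⟨l, n', -, rfl⟩ := hx
    obtain ⟨v', rfl⟩ := hsurj n'
    refine ⟨(MvPolynomial.X l : MvPolynomial (Fin (r + 1)) k) • v', fun b => ?_, map_smul _ _ _⟩
    rw [Pi.smul_apply, smul_eq_mul]
    refine Ideal.mul_mem_right _ _ ?_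
    rw [GrSyzBasic.mem_irrel_iff]
    exact MvPolynomial.constantCoeff_X (R := k) l
  | zero => exact ⟨0, fun b => Ideal.zero_mem _, map_zero _⟩
  | add x y _ _ hx hy =>
    obtain ⟨w₁, h₁, rfl⟩ := hx
    obtain ⟨w₂, h₂, rfl⟩ := hy
    exact ⟨w₁ + w₂, fun b => Ideal.add_mem _ (h₁ b) (h₂ b), map_add _ _ _⟩
  | neg x _ hx =>
    obtain ⟨w₁, h₁, rfl⟩ := hx
    exact ⟨-w₁, fun b => by rw [Pi.neg_apply]; exact neg_mem (h₁ b), map_neg _ _⟩

include hπ hsurj hmin in
/-- the generators of a minimal cover have degrees `≤ D`. -/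
theorem deg_le_of_PP (D : ℕ) (hN : PP k r 𝒩 D) : ∀ b, a b + c ≤ D := by
  obtain ⟨hN1, hN2, hN3⟩ := hN
  intro b
  by_contra hb
  push Not at hb
  obtain ⟨j, hj⟩ : ∃ j : ℕ, ((j + 1 : ℕ) : ℤ) = a b + c :=
    ⟨(a b + c - 1).toNat, by push_cast; omega⟩
  have hDj : D ≤ j := by
    have : (D : ℤ) < ((j + 1 : ℕ) : ℤ) := by rw [hj]; exact hb
    omega
  set eb : Fin n → MvPolynomial (Fin (r + 1)) k := Pi.single b 1 with heb
  have h1 : eb ∈ shiftFam (piece (GrSyz.stdGr k (Fin (r + 1))) a) c (j + 1) := by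
    change ∀ b', eb b' ∈ GrSyz.stdGr k (Fin (r + 1)) (((j + 1 : ℕ) : ℤ) - c - a b')
    intro b'
    by_cases hbb : b' = b
    · subst hbb
      rw [heb, Pi.single_eq_same]
      have e0 : ((j + 1 : ℕ) : ℤ) - c - a b' = 0 := by rw [hj]; ring
      rw [e0]
      exact SetLike.GradedOne.one_mem
    · rw [heb, Pi.single_eq_of_ne hbb]
      exact Submodule.zero_mem _
  have h2 : π eb ∈ XN k r 𝒩 j :=
    mem_XN_of_treg k r 𝒩 D hN1 hN2
      (fun e he x hx h0 => hN3 e he x hx ((forall_mk_eq_zero_iff k r 𝒩 hx).1 h0))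
      j hDj (π eb) (hπ _ _ h1)
  obtain ⟨w, hw, hwπ⟩ := exists_irrel_of_mem_XN k r 𝒩 π hsurj j (π eb) h2
  have h4 : π (eb - w) = 0 := by rw [map_sub, hwπ, sub_self]
  have h5 := hmin (eb - w) h4 b
  have h7 : (1 : MvPolynomial (Fin (r + 1)) k) ∈
      (GrSyz.irrel (GrSyz.stdGr k (Fin (r + 1)))).toIdeal := by
    have : (1 : MvPolynomial (Fin (r + 1)) k) = (eb - w) b + w b := by
      rw [Pi.sub_apply, heb, Pi.single_eq_same]
      ring
    rw [this]
    exact Ideal.add_mem _ h5 (hw b)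
  exact GrSyzBasic.one_notMem_irrel h7

include hc hπ hsurj in
/-- the kernel of a graded free cover generated in degrees `≤ D` inherits the three
conditions, with `D + 1`. -/
theorem PP_ker_free (D : ℕ) (hD : ∀ b, a b + c ≤ D) (hN : PP k r 𝒩 D)
    (Kr : Submodule (MvPolynomial (Fin (r + 1)) k) (Fin n → MvPolynomial (Fin (r + 1)) k))
    (hKr : ∀ v, v ∈ Kr ↔ π v = 0) :
    PP k r (subFam (shiftFam (piece (GrSyz.stdGr k (Fin (r + 1))) a) c) Kr) (D + 1) := by
  letI D1 := decompPiece (GrSyz.stdGr k (Fin (r + 1))) a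
  letI D2 : DirectSum.Decomposition (shiftFam (piece (GrSyz.stdGr k (Fin (r + 1))) a) c) :=
    decompShift (piece (GrSyz.stdGr k (Fin (r + 1))) a) c
      (piece_eq_bot k r a c (fun b => by have := hc b; omega))
  have hP : ∀ x ∈ Kr, ∀ i,
      (DirectSum.decompose (shiftFam (piece (GrSyz.stdGr k (Fin (r + 1))) a) c) x i :
        Fin n → MvPolynomial (Fin (r + 1)) k) ∈ Kr := by
    intro x hx i
    rw [hKr, lin_decompose (shiftFam (piece (GrSyz.stdGr k (Fin (r + 1))) a) c) 𝒩 π hπ x i,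
      (hKr x).1 hx, DirectSum.decompose_zero]
    rfl
  letI D3 : DirectSum.Decomposition
      (subFam (shiftFam (piece (GrSyz.stdGr k (Fin (r + 1))) a) c) Kr) :=
    subDecomp (shiftFam (piece (GrSyz.stdGr k (Fin (r + 1))) a) c) Kr hP
  refine PP_ker k r (subFam (shiftFam (piece (GrSyz.stdGr k (Fin (r + 1))) a) c) Kr)
    (shiftFam (piece (GrSyz.stdGr k (Fin (r + 1))) a) c) 𝒩 Kr.subtype (fun i m hm => hm) π hπ
    ?_ Subtype.val_injective hsurj D ?_ ?_ ?_ hN
  · intro v
    constructor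
    · intro hv
      exact ⟨⟨v, (hKr v).2 hv⟩, rfl⟩
    · rintro ⟨x, rfl⟩
      exact (hKr _).1 x.2
  · exact free_treg k r a c (D : ℤ) hc hD
  · intro t
    exact free_isGlob k r a c (D + 1) (fun b => by have := hD b; push_cast; omega) t
  · intro e
    exact free_noTors k r a c e

end Step

section Res

variable {k : Type u} [Field k] {r : ℕ}
  {M : Type u} [AddCommGroup M] [Module k M] [Module (MvPolynomial (Fin (r + 1)) k) M]
  [IsScalarTower k (MvPolynomial (Fin (r + 1)) k) M]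
  {ℳ : ℤ → Submodule k M} [DirectSum.Decomposition ℳ]
  [SetLike.GradedSMul (GrSyz.stdGr k (Fin (r + 1))) ℳ]
  (F : GrSyz.FreeRes (GrSyz.stdGr k (Fin (r + 1))) ℳ)

/-- the kernel of the map going out of the `j`-th term of the resolution. -/
noncomputable def Zsub : (j : ℕ) →
    Submodule (MvPolynomial (Fin (r + 1)) k) (Fin (F.rk j) → MvPolynomial (Fin (r + 1)) k)
  | 0 => LinearMap.ker F.augLin
  | j + 1 => LinearMap.ker (F.dLin j)

lemma Zsub_zero : Zsub F 0 = LinearMap.ker F.augLin := rfl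

lemma Zsub_succ (j : ℕ) : Zsub F (j + 1) = LinearMap.ker (F.dLin j) := rfl

lemma dLin_mem_Zsub (j : ℕ) (v : Fin (F.rk (j + 1)) → MvPolynomial (Fin (r + 1)) k) :
    F.dLin j v ∈ Zsub F j := by
  cases j with
  | zero =>
    rw [Zsub_zero, F.exact_zero]
    exact ⟨v, rfl⟩
  | succ j =>
    rw [Zsub_succ, F.exact_succ j]
    exact ⟨v, rfl⟩

lemma exists_dLin_eq (j : ℕ) (x : Fin (F.rk j) → MvPolynomial (Fin (r + 1)) k)
    (hx : x ∈ Zsub F j) : ∃ v, F.dLin j v = x := by
  cases j with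
  | zero =>
    rw [Zsub_zero, F.exact_zero] at hx
    exact hx
  | succ j =>
    rw [Zsub_succ, F.exact_succ j] at hx
    exact hx

lemma mulVec_coord_mem {m m' : ℕ} (A : Matrix (Fin m) (Fin m') (MvPolynomial (Fin (r + 1)) k))
    (I : Ideal (MvPolynomial (Fin (r + 1)) k)) (hA : ∀ a b, A a b ∈ I)
    (w : Fin m' → MvPolynomial (Fin (r + 1)) k) (c : Fin m) : (A.mulVec w) c ∈ I := by
  rw [Matrix.mulVec, dotProduct]
  exact Ideal.sum_mem _ fun b _ => Ideal.mul_mem_right _ _ (hA c b)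

/-- the kernel of the map going out of the `j`-th term of a minimal resolution has coordinates in
the irrelevant ideal. -/
lemma coord_mem_of_mem_Zsub (hmin : F.IsMinimal (GrSyz.irrel (GrSyz.stdGr k (Fin (r + 1)))).toIdeal)
    (j : ℕ) (x : Fin (F.rk j) → MvPolynomial (Fin (r + 1)) k) (hx : x ∈ Zsub F j) (b : Fin (F.rk j)) :
    x b ∈ (GrSyz.irrel (GrSyz.stdGr k (Fin (r + 1)))).toIdeal := by
  obtain ⟨v, rfl⟩ := exists_dLin_eq F j x hx
  exact mulVec_coord_mem (F.d j) _ (hmin j) v b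

variable (c : ℤ) (hc : ∀ j b, 0 ≤ F.deg j b + c)

/-- the decomposition of the `j`-th term. -/
noncomputable def decompFam (j : ℕ) : DirectSum.Decomposition (fam F c j) :=
  letI := decompPiece (GrSyz.stdGr k (Fin (r + 1))) (F.deg j)
  decompShift (piece (GrSyz.stdGr k (Fin (r + 1))) (F.deg j)) c
    (piece_eq_bot k r (F.deg j) c (fun b => by have := hc j b; omega))

/-- the decomposition of the module. -/
noncomputable def decompMod : DirectSum.Decomposition (shiftFam ℳ c) :=
  decompShift ℳ c (module_eq_bot F c (fun b => by have := hc 0 b; omega))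

include hc in
lemma Zsub_homog (j : ℕ) :
    letI := decompFam F c hc j
    ∀ x ∈ Zsub F j, ∀ i,
      (DirectSum.decompose (fam F c j) x i : Fin (F.rk j) → MvPolynomial (Fin (r + 1)) k) ∈
        Zsub F j := by
  letI := decompFam F c hc j
  intro x hx i
  cases j with
  | zero =>
    letI := decompMod F c hc
    rw [Zsub_zero, LinearMap.mem_ker] at hx ⊢
    rw [lin_decompose (fam F c 0) (shiftFam ℳ c) F.augLin (augLin_mem_fam F c) x i, hx,
      DirectSum.decompose_zero]
    rfl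
  | succ j =>
    letI := decompFam F c hc j
    rw [Zsub_succ, LinearMap.mem_ker] at hx ⊢
    rw [lin_decompose (fam F c (j + 1)) (fam F c j) (F.dLin j) (dLin_mem_fam F c j) x i, hx,
      DirectSum.decompose_zero]
    rfl

include hc in
/-- **the syzygy induction**: if `M` satisfies the three conditions at level `D`, then the `j`-th
term of a minimal resolution is generated in degrees `≤ D + j` and the `j`-th syzygy module
satisfies the three conditions at level `D + j + 1`. -/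
theorem syz_PP (hmin : F.IsMinimal (GrSyz.irrel (GrSyz.stdGr k (Fin (r + 1)))).toIdeal) (D : ℕ)
    (h0 : PP k r (shiftFam ℳ c) D) :
    ∀ j : ℕ, (∀ b, F.deg j b + c ≤ D + j) ∧
      PP k r (subFam (fam F c j) (Zsub F j)) (D + j + 1) := by
  intro j
  induction j with
  | zero =>
    letI := decompMod F c hc
    have hπ := augLin_mem_fam F c
    have hminπ : ∀ v : Fin (F.rk 0) → MvPolynomial (Fin (r + 1)) k, F.augLin v = 0 →
        ∀ b, v b ∈ (GrSyz.irrel (GrSyz.stdGr k (Fin (r + 1)))).toIdeal := fun v hv b =>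
      coord_mem_of_mem_Zsub F hmin 0 v (by rw [Zsub_zero]; exact hv) b
    have h1 := deg_le_of_PP k r (shiftFam ℳ c) (F.deg 0) c F.augLin hπ F.aug_surjective hminπ D h0
    refine ⟨fun b => by simpa using h1 b, ?_⟩
    exact PP_ker_free k r (shiftFam ℳ c) (F.deg 0) c (hc 0) F.augLin hπ F.aug_surjective D h1 h0
      (Zsub F 0) (fun v => LinearMap.mem_ker)
  | succ j ih =>
    obtain ⟨-, ih2⟩ := ih
    letI := decompFam F c hc j
    letI : DirectSum.Decomposition (subFam (fam F c j) (Zsub F j)) :=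
      subDecomp (fam F c j) (Zsub F j) (Zsub_homog F c hc j)
    have hπ : ∀ (i : ℕ) (v : Fin (F.rk (j + 1)) → MvPolynomial (Fin (r + 1)) k),
        v ∈ fam F c (j + 1) i →
        (F.dLin j).codRestrict (Zsub F j) (dLin_mem_Zsub F j) v ∈
          subFam (fam F c j) (Zsub F j) i := fun i v hv => dLin_mem_fam F c j i v hv
    have hsurj : Function.Surjective ((F.dLin j).codRestrict (Zsub F j) (dLin_mem_Zsub F j)) := by
      intro x
      obtain ⟨v, hv⟩ := exists_dLin_eq F j x.1 x.2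
      exact ⟨v, Subtype.ext hv⟩
    have hker : ∀ v : Fin (F.rk (j + 1)) → MvPolynomial (Fin (r + 1)) k,
        v ∈ Zsub F (j + 1) ↔ (F.dLin j).codRestrict (Zsub F j) (dLin_mem_Zsub F j) v = 0 := by
      intro v
      rw [Zsub_succ, LinearMap.mem_ker, Subtype.ext_iff]
      rfl
    have hminπ : ∀ v : Fin (F.rk (j + 1)) → MvPolynomial (Fin (r + 1)) k,
        (F.dLin j).codRestrict (Zsub F j) (dLin_mem_Zsub F j) v = 0 →
        ∀ b, v b ∈ (GrSyz.irrel (GrSyz.stdGr k (Fin (r + 1)))).toIdeal := fun v hv b =>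
      coord_mem_of_mem_Zsub F hmin (j + 1) v ((hker v).2 hv) b
    have h1 := deg_le_of_PP k r (subFam (fam F c j) (Zsub F j)) (F.deg (j + 1)) c _ hπ hsurj hminπ
      (D + j + 1) ih2
    refine ⟨fun b => by have := h1 b; push_cast at this ⊢; omega, ?_⟩
    exact PP_ker_free k r (subFam (fam F c j) (Zsub F j)) (F.deg (j + 1)) c (hc (j + 1)) _ hπ hsurj
      (D + j + 1) h1 ih2 (Zsub F (j + 1)) hker

end Res

end Groth.Agent.H2.RegTil
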