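import Mathlib
import Groth.Agent.Lib.Helper2.RegTilI
import Groth.Agent.Lib.Helper2.GrSyzHilbert
import Groth.Agent.Lib.Helper2.GrEG16

/-! Auxiliary facts for the comparison of the regularity of a graded module with the regularity of
its sheaf: minimal resolutions over the polynomial ring have length `≤ r + 1`; a uniform lower
bound for the generator degrees; `H^0_𝔪` and torsion. -/

set_option autoImplicit false
set_option linter.unusedSectionVars false
universe u
open CategoryTheory AlgebraicGeometry TopologicalSpace Opposite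

namespace Groth.Agent.H2.RegTil

open Groth.Agent.H8.ProjTilde Groth.Agent.H8.GTW Groth.Agent.LD
open Groth.Agent.H2.GrHilbRes Groth.Agent.H2.GrComp

section Len

variable {k : Type u} [Field k] {r : ℕ}
  {M : Type u} [AddCommGroup M] [Module k M] [Module (MvPolynomial (Fin (r + 1)) k) M]
  [IsScalarTower k (MvPolynomial (Fin (r + 1)) k) M]
  {ℳ : ℤ → Submodule k M} [DirectSum.Decomposition ℳ]
  [SetLike.GradedSMul (GrSyz.stdGr k (Fin (r + 1))) ℳ]
  (F : GrSyz.FreeRes (GrSyz.stdGr k (Fin (r + 1))) ℳ)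

/-- **Hilbert's syzygy theorem** for a minimal resolution. -/
theorem hasLengthLE_of_isMinimal
    (hF : F.IsMinimal (GrSyz.irrel (GrSyz.stdGr k (Fin (r + 1)))).toIdeal) :
    F.HasLengthLE (r + 1) := by
  intro i hi
  let G : Groth.Agent.H2.MatRes (MvPolynomial (Fin (r + 1)) k) M :=
    { rk := F.rk
      d := F.d
      aug := F.aug
      aug_surjective := F.aug_surjective
      exact_zero := F.exact_zero
      exact_succ := F.exact_succ }
  have hne : (GrSyz.irrel (GrSyz.stdGr k (Fin (r + 1)))).toIdeal ≠ ⊤ := by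
    intro h
    exact Groth.Agent.H2.GrSyzBasic.one_notMem_irrel ((Ideal.eq_top_iff_one _).1 h)
  have hreg := Groth.Agent.H2.GrSyzHilbert.isWeaklyRegular_X k (r + 1)
  have hz := (Groth.Agent.H2.TorBal.tor_regular _ hreg
    (ModuleCat.of (MvPolynomial (Fin (r + 1)) k) M)).2 i (by
      rw [List.length_ofFn]; exact hi)
  rw [← Groth.Agent.H2.GrSyzHilbert.irrel_eq_ofList] at hz
  have hz' : CategoryTheory.Limits.IsZero (ModuleCat.of (MvPolynomial (Fin (r + 1)) k)
      (Fin (G.rk i) → MvPolynomial (Fin (r + 1)) k ⧸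
        (GrSyz.irrel (GrSyz.stdGr k (Fin (r + 1)))).toIdeal)) :=
    hz.of_iso (G.torIso _ hF i).symm
  rw [ModuleCat.isZero_iff_subsingleton] at hz'
  have : Nontrivial (MvPolynomial (Fin (r + 1)) k ⧸
      (GrSyz.irrel (GrSyz.stdGr k (Fin (r + 1)))).toIdeal) := Ideal.Quotient.nontrivial_iff.2 hne
  by_contra h0'
  have hpos : 0 < F.rk i := Nat.pos_of_ne_zero h0'
  obtain ⟨a, b, hab⟩ := exists_pair_ne (MvPolynomial (Fin (r + 1)) k ⧸
      (GrSyz.irrel (GrSyz.stdGr k (Fin (r + 1)))).toIdeal)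
  have h1 : (fun _ : Fin (F.rk i) => a) = fun _ => b := @Subsingleton.elim _ hz' _ _
  exact hab (congrFun h1 ⟨0, hpos⟩)

/-- a uniform lower bound for the generator degrees of a minimal resolution. -/
theorem exists_bound_all
    (hF : F.IsMinimal (GrSyz.irrel (GrSyz.stdGr k (Fin (r + 1)))).toIdeal) :
    ∃ c : ℕ, ∀ j b, 0 ≤ F.deg j b + (c : ℤ) := by
  obtain ⟨c, hc0, hc⟩ := exists_bound F (r + 2)
  refine ⟨c.toNat, fun j b => ?_⟩
  by_cases hj : j ≤ r + 2
  · have := hc j hj b
    omega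
  · have h0 : F.rk j = 0 := hasLengthLE_of_isMinimal F hF j (by omega)
    exact (Fin.elim0 (h0 ▸ b))

end Len

section Tors

open Groth.Agent.H2.GrEG

variable {k : Type u} [Field k] {r : ℕ}
  {M : Type u} [AddCommGroup M] [Module k M] [Module (MvPolynomial (Fin (r + 1)) k) M]
  (ℳ : ℤ → Submodule k M) [DirectSum.Decomposition ℳ]
  [SetLike.GradedSMul (GrSyz.stdGr k (Fin (r + 1))) ℳ]

/-- an element killed by a power of every variable is torsion for the irrelevant ideal. -/
lemma mem_gam_of_pow_smul (n : M) (K : ℕ)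
    (hK : ∀ l : Fin (r + 1), (MvPolynomial.X l : MvPolynomial (Fin (r + 1)) k) ^ K • n = 0) :
    n ∈ GrLC.gam (am k (r + 1)).toIdeal M := by
  set A : Ideal (MvPolynomial (Fin (r + 1)) k) :=
    LinearMap.ker (LinearMap.toSpanSingleton (MvPolynomial (Fin (r + 1)) k) M n) with hA
  have hmem : ∀ x : MvPolynomial (Fin (r + 1)) k, x ∈ A ↔ x • n = 0 := by
    intro x
    rw [hA, LinearMap.mem_ker, LinearMap.toSpanSingleton_apply]
  have h1 : (am k (r + 1)).toIdeal ≤ A.radical := by
    rw [am_eq_span, Ideal.span_le]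
    rintro _ ⟨l, rfl⟩
    exact ⟨K, (hmem _).2 (hK l)⟩
  have hfg : (am k (r + 1)).toIdeal.FG := by
    classical
    rw [am_eq_span]
    exact ⟨Finset.univ.image fun i : Fin (r + 1) => (MvPolynomial.X i : MvPolynomial (Fin (r + 1)) k),
      by rw [Finset.coe_image, Finset.coe_univ, Set.image_univ]⟩
  obtain ⟨t, ht⟩ := Ideal.exists_pow_le_of_le_radical_of_fg h1 hfg
  exact ⟨t, fun x hx => (hmem x).1 (ht hx)⟩

/-- vanishing of the degree `e` piece of `H^0_𝔪(M)` means that no nonzero element of degree `e` is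
killed by a power of every variable. -/
theorem noTors_of_Hcomp (E : GrLC.StarInjRes (GrSyz.stdGr k (Fin (r + 1))) ℳ) (e : ℤ)
    (h : E.Hcomp (GrSyz.irrel (GrSyz.stdGr k (Fin (r + 1)))) 0 e = ⊥) (n : M) (hn : n ∈ ℳ e)
    (hK : ∃ K : ℕ, ∀ l : Fin (r + 1),
      (MvPolynomial.X l : MvPolynomial (Fin (r + 1)) k) ^ K • n = 0) : n = 0 := by
  have h1 : HV (am k (r + 1)) (Xrow ℳ) 0 e :=
    (HV_row_iff ℳ E 0 e).2 ((Hcomp_eq_bot_iff ℳ E 0 e).1 h)
  rw [HV_zero_iff] at h1
  obtain ⟨K, hK⟩ := hK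
  exact h1 n hn (mem_gam_of_pow_smul n K hK)

end Tors

end Groth.Agent.H2.RegTil
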