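import Mathlib
import Groth.Agent.Lib.Helper2.RegTilJ

/-! Transfers between the sheaves of the truncated family `n ↦ M_n` (`n ≥ 0`) and of the shifted
family `i ↦ M_{i-c}`, and surjectivity of `M_d → Γ(M(d)~)` for a module of regularity `≤ d`. -/

set_option autoImplicit false
set_option linter.unusedSectionVars false
universe u
open CategoryTheory CategoryTheory.Limits AlgebraicGeometry TopologicalSpace Opposite

namespace Groth.Agent.H2.RegTil

open Groth.Agent.H8.ProjTilde Groth.Agent.H8.GTW Groth.Agent.LD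
open Groth.Agent.H2.GrHilbRes Groth.Agent.H2.GrComp

section Transfer

variable {k : Type u} [Field k] {r : ℕ}
  {M : Type u} [AddCommGroup M] [Module k M] [Module (MvPolynomial (Fin (r + 1)) k) M]
  [IsScalarTower k (MvPolynomial (Fin (r + 1)) k) M]
  (ℳ : ℤ → Submodule k M) [DirectSum.Decomposition ℳ]
  [SetLike.GradedSMul (GrSyz.stdGr k (Fin (r + 1))) ℳ]
  [SetLike.GradedSMul (CohB1.polyGrading r k) (fun n : ℕ => ℳ (n : ℤ))]

theorem fracLE_glob (c d : ℕ) :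
    FracLE (shiftFam ℳ (c : ℤ)) (fun n : ℕ => ℳ (n : ℤ)) ((d + c : ℕ) : ℤ) (d : ℤ) := by
  intro j i m _ hij hm
  refine ⟨j + d, by push_cast; ring, ?_⟩
  rw [shiftFam_apply] at hm
  have e : (i : ℤ) - (c : ℤ) = ((j + d : ℕ) : ℤ) := by push_cast at hij ⊢; omega
  rw [e] at hm
  exact hm

theorem fracLE_glob' (c d : ℕ) :
    FracLE (fun n : ℕ => ℳ (n : ℤ)) (shiftFam ℳ (c : ℤ)) (d : ℤ) ((d + c : ℕ) : ℤ) := by
  intro j i m _ hij hm
  refine ⟨i + c, by push_cast at hij ⊢; omega, ?_⟩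
  rw [shiftFam_apply]
  have e : ((i + c : ℕ) : ℤ) - (c : ℤ) = (i : ℤ) := by push_cast; ring
  rw [e]
  exact hm

/-- surjectivity of `M_d → Γ(M(d)~)` in terms of the shifted family. -/
theorem isGlob_of_surjective (c d : ℕ)
    (h : Function.Surjective (fun m : ↥(ℳ ((d : ℕ) : ℤ)) =>
      GrTilde.globalOf (CohB1.polyGrading r k) (fun n : ℕ => ℳ (n : ℤ)) m))
    (t : GrMod.sect (CohB1.polyGrading r k) (shiftFam ℳ (c : ℤ)) ((d + c : ℕ) : ℤ) (op ⊤)) :
    IsGlob k r (shiftFam ℳ (c : ℤ)) ((d + c : ℕ) : ℤ) t := by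
  obtain ⟨m, hm⟩ := h (convApp (fracLE_glob ℳ c d) (op ⊤) t)
  refine ⟨d + c, m.1, ?_, rfl, fun y => ?_⟩
  · rw [shiftFam_apply]
    have e : ((d + c : ℕ) : ℤ) - (c : ℤ) = (d : ℤ) := by push_cast; ring
    rw [e]
    exact m.2
  · have h2 := congrArg (fun z : GrTilde.sect (CohB1.polyGrading r k) (fun n : ℕ => ℳ (n : ℤ))
      (d : ℤ) (op ⊤) => ((z.1 ⟨y, trivial⟩).1 :
        GrTilde.LocMod (CohB1.polyGrading r k) (M := M) y)) hm
    exact h2.symm

theorem surjective_of_isGlob (c d : ℕ)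
    (h : ∀ t : GrMod.sect (CohB1.polyGrading r k) (shiftFam ℳ (c : ℤ)) ((d + c : ℕ) : ℤ) (op ⊤),
      IsGlob k r (shiftFam ℳ (c : ℤ)) ((d + c : ℕ) : ℤ) t) :
    Function.Surjective (fun m : ↥(ℳ ((d : ℕ) : ℤ)) =>
      GrTilde.globalOf (CohB1.polyGrading r k) (fun n : ℕ => ℳ (n : ℤ)) m) := by
  intro t'
  obtain ⟨i, n, hn, hi, hval⟩ := h (convApp (fracLE_glob' ℳ c d) (op ⊤) t')
  obtain rfl : i = d + c := by exact_mod_cast hi
  have hn' : n ∈ ℳ ((d : ℕ) : ℤ) := by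
    rw [shiftFam_apply] at hn
    have e : ((d + c : ℕ) : ℤ) - (c : ℤ) = (d : ℤ) := by push_cast; ring
    rw [e] at hn
    exact hn
  refine ⟨⟨n, hn'⟩, ?_⟩
  refine Subtype.ext (funext fun y => Subtype.ext ?_)
  obtain ⟨y, hy⟩ := y
  exact (hval y).symm

/-- the regularity of the sheaf `M~` gives the regularity of the shifted family. -/
theorem treg_of_isMRegular (c d : ℕ) (hD : DirectSum.Decomposition (shiftFam ℳ (c : ℤ)))
    (h : Curv2.IsMRegular k r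
      (GrTilde.tilde (CohB1.polyGrading r k) (fun n : ℕ => ℳ (n : ℤ)) 0) (d : ℤ)) :
    TReg k r (shiftFam ℳ (c : ℤ)) ((d + c : ℕ) : ℤ) := by
  letI := hD
  intro i hi1
  by_cases hir : i ≤ r
  · have h1 := h i hi1 hir
    change Subsingleton (Coh.HH (Proj (CohB1.polyGrading r k))
      (CohB1.tensorMod (GrTilde.tilde (CohB1.polyGrading r k) (fun n : ℕ => ℳ (n : ℤ)) 0)
        (Twist.twist (CohB1.polyGrading r k) ((d : ℤ) - i))) i) at h1
    obtain ⟨e₁⟩ := nonempty_tilde_iso (𝒜 := CohB1.polyGrading r k)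
      (fracLE_mod ℳ (c : ℤ) (Int.natCast_nonneg c)) (fracLE_mod' ℳ (c : ℤ))
    obtain ⟨e₂⟩ := Groth.Agent.S4400.result (CohB1.polyGrading r k) (poly_hgen k r)
      (shiftFam ℳ (c : ℤ)) (c : ℤ)
    obtain ⟨e₃⟩ := Groth.Agent.S4400.result (CohB1.polyGrading r k) (poly_hgen k r)
      (shiftFam ℳ (c : ℤ)) ((c : ℤ) + ((d : ℤ) - i))
    haveI : (GrTilde.tilde (CohB1.polyGrading r k) (shiftFam ℳ (c : ℤ)) 0).IsQuasicoherent :=
      tilde_isQuasicoherent (CohB1.polyGrading r k) (shiftFam ℳ (c : ℤ)) 0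
    have h5 : Subsingleton (Coh.HH (Proj (CohB1.polyGrading r k))
        (CohB1.tensorMod (CohB1.tensorMod
          (GrTilde.tilde (CohB1.polyGrading r k) (shiftFam ℳ (c : ℤ)) 0)
          (Twist.twist (CohB1.polyGrading r k) (c : ℤ)))
          (Twist.twist (CohB1.polyGrading r k) ((d : ℤ) - i))) i) :=
      CL.subsingleton_of_iso (PicGrp.tensorModIso (e₁ ≪≫ e₂) (Iso.refl _)) i h1
    have h4 := PN.subsingleton_HH_of_twist_twist r k
      (GrTilde.tilde (CohB1.polyGrading r k) (shiftFam ℳ (c : ℤ)) 0) (c : ℤ) ((d : ℤ) - i)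
      ((c : ℤ) + ((d : ℤ) - i)) rfl i h5
    have h3 : Subsingleton (Coh.HH (Proj (CohB1.polyGrading r k))
        (GrTilde.tilde (CohB1.polyGrading r k) (shiftFam ℳ (c : ℤ)) ((c : ℤ) + ((d : ℤ) - i))) i) :=
      CL.subsingleton_of_iso e₃.symm i h4
    have e : ((d + c : ℕ) : ℤ) - (i : ℤ) = (c : ℤ) + ((d : ℤ) - i) := by push_cast; ring
    rw [e]
    exact h3
  · haveI : (GrMod.tilde (CohB1.polyGrading r k) (shiftFam ℳ (c : ℤ))
        (((d + c : ℕ) : ℤ) - (i : ℤ))).IsQuasicoherent :=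
      tilde_isQuasicoherent (CohB1.polyGrading r k) (shiftFam ℳ (c : ℤ)) _
    exact PN.subsingleton_HH_of_lt r k _ i (by omega)

end Transfer

section Res

variable {k : Type u} [Field k] {r : ℕ}
  {M : Type u} [AddCommGroup M] [Module k M] [Module (MvPolynomial (Fin (r + 1)) k) M]
  [IsScalarTower k (MvPolynomial (Fin (r + 1)) k) M]
  {ℳ : ℤ → Submodule k M} [DirectSum.Decomposition ℳ]
  [SetLike.GradedSMul (GrSyz.stdGr k (Fin (r + 1))) ℳ]
  (F : GrSyz.FreeRes (GrSyz.stdGr k (Fin (r + 1))) ℳ)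
  (c : ℕ) (hc : ∀ j b, 0 ≤ F.deg j b + (c : ℤ))

include hc in
/-- the first syzygy sheaf of a module of regularity `≤ d` has no `H^1` in degree `d`. -/
theorem subsingleton_HH_one_syz (d : ℕ) (hF : F.IsGenLE (d : ℤ)) :
    Subsingleton (Coh.HH (Proj (CohB1.polyGrading r k))
      (GrMod.tilde (CohB1.polyGrading r k) (subFam (fam F (c : ℤ) 0) (Zsub F 0))
        ((d + c : ℕ) : ℤ)) 1) := by
  obtain ⟨s, hs⟩ : ∃ s : ℤ, s = ((d + c : ℕ) : ℤ) := ⟨_, rfl⟩
  rw [← hs]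
  letI DF : ∀ j, DirectSum.Decomposition (fam F (c : ℤ) j) := fun j => decompFam F (c : ℤ) hc j
  letI DK : DirectSum.Decomposition (subFam (fam F (c : ℤ) 0) (Zsub F 0)) :=
    subDecomp (fam F (c : ℤ) 0) (Zsub F 0) (Zsub_homog F (c : ℤ) hc 0)
  have hcd : ∀ (K : (Proj (CohB1.polyGrading r k)).Modules), K.IsQuasicoherent → ∀ q : ℕ, r < q →
      Subsingleton (Coh.HH (Proj (CohB1.polyGrading r k)) K q) := fun K hK q hq => by
    haveI := hK
    exact PN.subsingleton_HH_of_lt r k K q hq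
  have hE : ∀ j, 1 + j ≤ r → (Eterm F (c : ℤ) s (j + 1)).IsQuasicoherent := fun j _ =>
    tilde_isQuasicoherent (CohB1.polyGrading r k) (fam F (c : ℤ) (j + 1)) s
  have hw : ∀ j, 1 + j ≤ r → δmap F (c : ℤ) s (j + 1 + 1) ≫ δmap F (c : ℤ) s (j + 1) = 0 :=
    fun j _ =>
    (tilde_exact (CohB1.polyGrading r k) (fam F (c : ℤ) (j + 1 + 2)) (fam F (c : ℤ) (j + 1 + 1))
      (fam F (c : ℤ) (j + 1)) (F.dLin (j + 1 + 1)) (dLin_mem_fam F (c : ℤ) (j + 1 + 1))
      (F.dLin (j + 1)) (dLin_mem_fam F (c : ℤ) (j + 1)) (exact_d F (j + 1)) s).choose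
  have hex : ∀ j (h : 1 + j ≤ r),
      (ShortComplex.mk (δmap F (c : ℤ) s (j + 1 + 1)) (δmap F (c : ℤ) s (j + 1)) (hw j h)).Exact :=
    fun j _ =>
    (tilde_exact (CohB1.polyGrading r k) (fam F (c : ℤ) (j + 1 + 2)) (fam F (c : ℤ) (j + 1 + 1))
      (fam F (c : ℤ) (j + 1)) (F.dLin (j + 1 + 1)) (dLin_mem_fam F (c : ℤ) (j + 1 + 1))
      (F.dLin (j + 1)) (dLin_mem_fam F (c : ℤ) (j + 1)) (exact_d F (j + 1)) s).choose_spec
  have hG : (GrMod.tilde (CohB1.polyGrading r k) (subFam (fam F (c : ℤ) 0) (Zsub F 0))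
      s).IsQuasicoherent :=
    tilde_isQuasicoherent (CohB1.polyGrading r k) (subFam (fam F (c : ℤ) 0) (Zsub F 0)) s
  have hπ : ∀ (i : ℕ) (v : Fin (F.rk 1) → MvPolynomial (Fin (r + 1)) k),
      v ∈ fam F (c : ℤ) 1 i →
      (F.dLin 0).codRestrict (Zsub F 0) (dLin_mem_Zsub F 0) v ∈
        subFam (fam F (c : ℤ) 0) (Zsub F 0) i := fun i v hv => dLin_mem_fam F (c : ℤ) 0 i v hv
  have hsurj : Function.Surjective ((F.dLin 0).codRestrict (Zsub F 0) (dLin_mem_Zsub F 0)) := by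
    intro x
    obtain ⟨v, hv⟩ := exists_dLin_eq F 0 x.1 x.2
    exact ⟨v, Subtype.ext hv⟩
  have hex0' : Function.Exact (F.dLin 1)
      ((F.dLin 0).codRestrict (Zsub F 0) (dLin_mem_Zsub F 0)) := by
    intro v
    rw [← exact_d F 0 v, Subtype.ext_iff]
    rfl
  have hε : Epi (GrMod.map (CohB1.polyGrading r k) _ hπ s) :=
    tilde_epi (CohB1.polyGrading r k) (fam F (c : ℤ) 1) (subFam (fam F (c : ℤ) 0) (Zsub F 0))
      _ hπ hsurj s
  obtain ⟨w0, ex0⟩ := tilde_exact (CohB1.polyGrading r k) (fam F (c : ℤ) 2) (fam F (c : ℤ) 1)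
    (subFam (fam F (c : ℤ) 0) (Zsub F 0)) (F.dLin 1) (dLin_mem_fam F (c : ℤ) 1) _ hπ hex0' s
  have hvan : ∀ j, 1 + j ≤ r →
      Subsingleton (Coh.HH (Proj (CohB1.polyGrading r k)) (Eterm F (c : ℤ) s (j + 1)) (1 + j)) := by
    intro j hj
    refine subsingleton_HH_free k r (1 + j) s (c : ℤ) (F.rk (j + 1)) (F.deg (j + 1))
      (hc (j + 1)) (fun b => ?_)
    apply PN.subsingleton_HH_twist_all r k
    · rintro ⟨h0, -⟩
      omega
    · rintro ⟨h1, h2⟩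
      have h3 : F.deg (j + 1) b ≤ (d : ℤ) + ((j + 1 : ℕ) : ℤ) := hF (j + 1) b
      push_cast at h3 hs
      omega
  exact chase (X := Proj (CohB1.polyGrading r k)) r hcd (fun j => Eterm F (c : ℤ) s (j + 1)) 1 hE
    (fun j => δmap F (c : ℤ) s (j + 1)) hw hex
    (GrMod.tilde (CohB1.polyGrading r k) (subFam (fam F (c : ℤ) 0) (Zsub F 0)) s) hG
    (GrMod.map (CohB1.polyGrading r k) _ hπ s) hε w0 ex0 hvan

include hc in
/-- **for a module of regularity `≤ d`, the global sections of `M(d)~` come from `M_d`.** -/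
theorem isGlob_of_isGenLE (d : ℕ) (hF : F.IsGenLE (d : ℤ))
    (t : GrMod.sect (CohB1.polyGrading r k) (shiftFam ℳ (c : ℤ)) ((d + c : ℕ) : ℤ) (op ⊤)) :
    IsGlob k r (shiftFam ℳ (c : ℤ)) ((d + c : ℕ) : ℤ) t := by
  letI DF : DirectSum.Decomposition (fam F (c : ℤ) 0) := decompFam F (c : ℤ) hc 0
  letI DM : DirectSum.Decomposition (shiftFam ℳ (c : ℤ)) := decompMod F (c : ℤ) hc
  letI DK : DirectSum.Decomposition (subFam (fam F (c : ℤ) 0) (Zsub F 0)) :=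
    subDecomp (fam F (c : ℤ) 0) (Zsub F 0) (Zsub_homog F (c : ℤ) hc 0)
  have hex : Function.Exact (Zsub F 0).subtype F.augLin := by
    intro v
    constructor
    · intro hv
      exact ⟨⟨v, by rw [Zsub_zero]; exact hv⟩, rfl⟩
    · rintro ⟨x, rfl⟩
      have h0 : (x : Fin (F.rk 0) → MvPolynomial (Fin (r + 1)) k) ∈ LinearMap.ker F.augLin := x.2
      exact h0
  obtain ⟨w, hS⟩ := tilde_shortExact (CohB1.polyGrading r k)
    (subFam (fam F (c : ℤ) 0) (Zsub F 0)) (fam F (c : ℤ) 0) (shiftFam ℳ (c : ℤ))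
    (Zsub F 0).subtype (fun i m hm => hm) F.augLin (augLin_mem_fam F (c : ℤ)) hex
    Subtype.val_injective F.aug_surjective ((d + c : ℕ) : ℤ)
  have h1 := subsingleton_HH_one_syz F c hc d hF
  have hsur := CL.surjective_app_top_of_injective hS (fun a b _ => h1.elim a b)
  obtain ⟨tL, htL⟩ := hsur t
  obtain ⟨i, v, hv, hi, hval⟩ := free_isGlob k r (F.deg 0) (c : ℤ) (d + c)
    (fun b => by have := hF 0 b; push_cast at this ⊢; omega) tL
  refine ⟨i, F.augLin v, augLin_mem_fam F (c : ℤ) i v hv, hi, fun y => ?_⟩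
  rw [← htL]
  change GrMod.locMap F.augLin y
    (gval (CohB1.polyGrading r k) (fam F (c : ℤ) 0) tL y) = _
  rw [hval y, GrMod.locMap_mk]

end Res

end Groth.Agent.H2.RegTil
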