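import Mathlib

/-!
# Rigidity: the locus where a morphism is constant on the fibres (helper2)
-/

set_option autoImplicit false
set_option linter.style.haveILetI false
universe u

open CategoryTheory CategoryTheory.Limits AlgebraicGeometry TopologicalSpace

namespace Groth.Agent.H2.Rigid

theorem appLE_congr' {A Y : Scheme.{u}} {q q' : A ⟶ Y} (h : q = q') (V : Y.Opens) (W : A.Opens)
    (e : W ≤ q ⁻¹ᵁ V) (e' : W ≤ q' ⁻¹ᵁ V) : q.appLE V W e = q'.appLE V W e' := by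
  subst h; rfl

/-- a surjective morphism which is injective on sections is an epimorphism. -/
theorem eq_of_comp_eq {A B Y : Scheme.{u}} (p : A ⟶ B) (hp : Function.Surjective p.base)
    (hinj : ∀ U : B.Opens, Function.Injective (p.app U).hom) (g₁ g₂ : B ⟶ Y)
    (h : p ≫ g₁ = p ≫ g₂) : g₁ = g₂ := by
  have hpt : ∀ b : B, g₁.base b = g₂.base b := by
    intro b
    obtain ⟨a, rfl⟩ := hp b
    have h1 : (p ≫ g₁).base a = (p ≫ g₂).base a := by rw [h]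
    exact h1
  apply Scheme.hom_ext_of_forall
  intro b
  obtain ⟨V, hV, hbV, -⟩ := exists_isAffineOpen_mem_and_subset (x := g₁.base b)
    (U := (⊤ : Y.Opens)) trivial
  have e₂ : g₁ ⁻¹ᵁ V ≤ g₂ ⁻¹ᵁ V := by
    intro c hc
    change g₂.base c ∈ V
    rw [← hpt c]
    exact hc
  refine ⟨g₁ ⁻¹ᵁ V, hbV, ?_⟩
  have key : g₁.appLE V (g₁ ⁻¹ᵁ V) le_rfl = g₂.appLE V (g₁ ⁻¹ᵁ V) e₂ := by
    haveI : Mono (p.app (g₁ ⁻¹ᵁ V)) :=
      ConcreteCategory.mono_of_injective _ (hinj _)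
    rw [← cancel_mono (p.app (g₁ ⁻¹ᵁ V)), p.app_eq_appLE, Scheme.Hom.appLE_comp_appLE,
      Scheme.Hom.appLE_comp_appLE]
    exact appLE_congr' h _ _ _ _
  have hform : ∀ (g : B ⟶ Y) (e : g₁ ⁻¹ᵁ V ≤ g ⁻¹ᵁ V),
      (g₁ ⁻¹ᵁ V).ι ≫ g = (g₁ ⁻¹ᵁ V).toSpecΓ ≫ Spec.map (g.appLE V (g₁ ⁻¹ᵁ V) e) ≫
        hV.fromSpec := by
    intro g e
    rw [← Category.assoc, Scheme.Opens.toSpecΓ_SpecMap_appLE, Category.assoc,
      hV.toSpecΓ_fromSpec, Scheme.Hom.resLE_comp_ι]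
  rw [hform g₁ le_rfl, hform g₂ e₂, key]

section
variable {X Y S : Scheme.{u}} (ξ : X ⟶ S) (f : X ⟶ Y)

theorem surjective_restrict (hs : Function.Surjective ξ.base) (W : S.Opens) :
    Function.Surjective (ξ ∣_ W).base := by
  rintro ⟨s, hsW⟩
  obtain ⟨x, rfl⟩ := hs s
  exact ⟨⟨x, hsW⟩, Subtype.ext (morphismRestrict_base_coe ξ W ⟨x, hsW⟩)⟩

theorem injective_restrict_app (h0 : ∀ U : S.Opens, Function.Injective (ξ.app U).hom)
    (W : S.Opens) (O : W.toScheme.Opens) : Function.Injective ((ξ ∣_ W).app O).hom := by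
  rw [morphismRestrict_app]
  intro a b hab
  apply h0 (W.ι ''ᵁ O)
  have hinj : Function.Injective
      (X.presheaf.map (eqToHom (image_morphismRestrict_preimage ξ W O)).op).hom :=
    ((ConcreteCategory.bijective_of_isIso
      (X.presheaf.map (eqToHom (image_morphismRestrict_preimage ξ W O)).op))).1
  exact hinj hab

/-- uniqueness of factorisations over an open of the base. -/
theorem uq (hs : Function.Surjective ξ.base)
    (h0 : ∀ U : S.Opens, Function.Injective (ξ.app U).hom) (W : S.Opens) {Z : Scheme.{u}}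
    (g₁ g₂ : W.toScheme ⟶ Z) (h : (ξ ∣_ W) ≫ g₁ = (ξ ∣_ W) ≫ g₂) : g₁ = g₂ :=
  eq_of_comp_eq (ξ ∣_ W) (surjective_restrict ξ hs W) (injective_restrict_app ξ h0 W) g₁ g₂ h

theorem fac_restrict {W' W : S.Opens} (h : W' ≤ W) (g : W.toScheme ⟶ Y)
    (hg : (ξ ∣_ W) ≫ g = (ξ ⁻¹ᵁ W).ι ≫ f) :
    (ξ ∣_ W') ≫ S.homOfLE h ≫ g = (ξ ⁻¹ᵁ W').ι ≫ f := by
  rw [morphismRestrict_homOfLE_assoc, hg, Scheme.homOfLE_ι_assoc]

/-- local factorisation near a point over which `f` is constant on the fibre. -/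
theorem exists_local [UniversallyClosed ξ]
    (h0 : ∀ U : S.Opens, Function.Bijective (ξ.app U).hom) (s : S)
    (hs : ∃ y : Y, ∀ x : X, ξ.base x = s → f.base x = y) :
    ∃ W : S.Opens, s ∈ W ∧ ∃ g : W.toScheme ⟶ Y, (ξ ∣_ W) ≫ g = (ξ ⁻¹ᵁ W).ι ≫ f := by
  obtain ⟨y, hy⟩ := hs
  obtain ⟨V, hV, hyV, -⟩ := exists_isAffineOpen_mem_and_subset (x := y)
    (U := (⊤ : Y.Opens)) trivial
  have hcl : IsClosed (ξ.base '' ((f ⁻¹ᵁ V : X.Opens) : Set X)ᶜ) :=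
    ξ.isClosedMap _ (f ⁻¹ᵁ V).isOpen.isClosed_compl
  let W : S.Opens := ⟨(ξ.base '' ((f ⁻¹ᵁ V : X.Opens) : Set X)ᶜ)ᶜ, hcl.isOpen_compl⟩
  have hsW : s ∈ W := by
    rintro ⟨x, hx, rfl⟩
    apply hx
    change f.base x ∈ V
    rw [hy x rfl]
    exact hyV
  have hW : ξ ⁻¹ᵁ W ≤ f ⁻¹ᵁ V := by
    intro x hx
    by_contra hc
    exact hx ⟨x, hc, rfl⟩
  haveI : IsIso (ξ.app W) := (ConcreteCategory.isIso_iff_bijective _).2 (h0 W)
  let φ : Γ(Y, V) ⟶ Γ(S, W) := f.appLE V (ξ ⁻¹ᵁ W) hW ≫ inv (ξ.app W)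
  have hφ : φ ≫ ξ.app W = f.appLE V (ξ ⁻¹ᵁ W) hW := by
    simp only [φ, Category.assoc, IsIso.inv_hom_id, Category.comp_id]
  refine ⟨W, hsW, W.toSpecΓ ≫ Spec.map φ ≫ hV.fromSpec, ?_⟩
  rw [← Category.assoc, ← Scheme.Opens.toSpecΓ_naturality, Category.assoc, ← Category.assoc
    (Spec.map (ξ.app W)), ← Spec.map_comp, hφ, ← Category.assoc,
    Scheme.Opens.toSpecΓ_SpecMap_appLE, Category.assoc, hV.toSpecΓ_fromSpec,
    Scheme.Hom.resLE_comp_ι]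

end

end Groth.Agent.H2.Rigid
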