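import Groth.Agent.Lib.Helper2.RigidA

/-!
# Rigidity: the locus where a morphism is constant on the fibres, gluing (helper2)
-/

set_option autoImplicit false
set_option linter.style.haveILetI false
universe u

open CategoryTheory CategoryTheory.Limits AlgebraicGeometry TopologicalSpace

namespace Groth.Agent.H2.Rigid

variable {X Y S : Scheme.{u}} (ξ : X ⟶ S) (f : X ⟶ Y)

/-- the locus over which `f` is constant on the fibres of `ξ`. -/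
def locus : Set S := {s | ∃ y : Y, ∀ x : X, ξ.base x = s → f.base x = y}

theorem mem_locus_of_fac (W : S.Opens) (g : W.toScheme ⟶ Y)
    (hg : (ξ ∣_ W) ≫ g = (ξ ⁻¹ᵁ W).ι ≫ f) {s : S} (hs : s ∈ W) : s ∈ locus ξ f := by
  refine ⟨g.base ⟨s, hs⟩, fun x hx => ?_⟩
  have hxW : x ∈ ξ ⁻¹ᵁ W := by
    change ξ.base x ∈ W
    rw [hx]
    exact hs
  have h1 : ((ξ ∣_ W) ≫ g).base ⟨x, hxW⟩ = ((ξ ⁻¹ᵁ W).ι ≫ f).base ⟨x, hxW⟩ := by rw [hg]
  have h2 : (ξ ∣_ W).base ⟨x, hxW⟩ = ⟨s, hs⟩ :=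
    Subtype.ext ((morphismRestrict_base_coe ξ W ⟨x, hxW⟩).trans hx)
  change g.base ((ξ ∣_ W).base ⟨x, hxW⟩) = f.base ((ξ ⁻¹ᵁ W).ι.base ⟨x, hxW⟩) at h1
  rw [h2] at h1
  exact h1.symm

theorem isOpen_locus [UniversallyClosed ξ]
    (h0 : ∀ U : S.Opens, Function.Bijective (ξ.app U).hom) : IsOpen (locus ξ f) := by
  rw [isOpen_iff_forall_mem_open]
  intro s hs
  obtain ⟨W, hsW, g, hg⟩ := exists_local ξ f h0 s hs
  exact ⟨W, fun s' hs' => mem_locus_of_fac ξ f W g hg hs', W.isOpen, hsW⟩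

set_option maxHeartbeats 800000 in
/-- the global factorisation over the locus. -/
theorem exists_global [UniversallyClosed ξ] (hsurj : Function.Surjective ξ.base)
    (h0 : ∀ U : S.Opens, Function.Bijective (ξ.app U).hom) (U₀ : S.Opens)
    (hU₀ : (U₀ : Set S) = locus ξ f) :
    ∃ G : U₀.toScheme ⟶ Y, (ξ ∣_ U₀) ≫ G = (ξ ⁻¹ᵁ U₀).ι ≫ f := by
  have hloc : ∀ s : U₀, ∃ W : S.Opens, s.1 ∈ W ∧
      ∃ g : W.toScheme ⟶ Y, (ξ ∣_ W) ≫ g = (ξ ⁻¹ᵁ W).ι ≫ f := fun s =>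
    exists_local ξ f h0 s.1 ((Set.ext_iff.1 hU₀ s.1).1 s.2)
  choose W hsW g hg using hloc
  have hle : ∀ s : U₀, W s ≤ U₀ := fun s s' hs' => by
    change s' ∈ (U₀ : Set S)
    rw [hU₀]
    exact mem_locus_of_fac ξ f (W s) (g s) (hg s) hs'
  let 𝒰 : U₀.toScheme.OpenCover :=
    { I₀ := U₀
      X := fun s => (W s).toScheme
      f := fun s => S.homOfLE (hle s)
      mem₀ := by
        rw [Scheme.presieve₀_mem_precoverage_iff]
        constructor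
        · intro x
          exact ⟨x, ⟨⟨x.1, hsW x⟩, Subtype.ext (Scheme.homOfLE_apply (hle x) ⟨x.1, hsW x⟩)⟩⟩
        · intro i
          exact inferInstanceAs (IsOpenImmersion (S.homOfLE (hle i))) }
  have hcompat : ∀ a b : 𝒰.I₀,
      pullback.fst (𝒰.f a) (𝒰.f b) ≫ g a = pullback.snd (𝒰.f a) (𝒰.f b) ≫ g b := by
    intro a b
    have hpb := isPullback_opens_inf_le (hle a) (hle b)
    rw [← cancel_epi hpb.isoPullback.hom, ← Category.assoc, ← Category.assoc]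
    have e1 : hpb.isoPullback.hom ≫ pullback.fst (𝒰.f a) (𝒰.f b) = S.homOfLE inf_le_left :=
      hpb.isoPullback_hom_fst
    have e2 : hpb.isoPullback.hom ≫ pullback.snd (𝒰.f a) (𝒰.f b) = S.homOfLE inf_le_right :=
      hpb.isoPullback_hom_snd
    rw [e1, e2]
    apply uq ξ hsurj (fun U => (h0 U).1) (W a ⊓ W b)
    rw [fac_restrict ξ f inf_le_left (g a) (hg a), fac_restrict ξ f inf_le_right (g b) (hg b)]
  refine ⟨𝒰.glueMorphisms g hcompat, ?_⟩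
  have hG : ∀ a, 𝒰.f a ≫ 𝒰.glueMorphisms g hcompat = g a := 𝒰.ι_glueMorphisms g hcompat
  apply Scheme.Cover.hom_ext (𝒰.pullback₁ (ξ ∣_ U₀))
  intro a
  change pullback.fst (ξ ∣_ U₀) (𝒰.f a) ≫ (ξ ∣_ U₀) ≫ 𝒰.glueMorphisms g hcompat =
    pullback.fst (ξ ∣_ U₀) (𝒰.f a) ≫ (ξ ⁻¹ᵁ U₀).ι ≫ f
  have hsq := isPullback_morphismRestrict ξ (W a)
  have hcomm : pullback.snd (ξ ∣_ U₀) (𝒰.f a) ≫ (W a).ι =
      (pullback.fst (ξ ∣_ U₀) (𝒰.f a) ≫ (ξ ⁻¹ᵁ U₀).ι) ≫ ξ := by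
    rw [Category.assoc, ← morphismRestrict_ι, pullback.condition_assoc]
    change _ = pullback.snd (ξ ∣_ U₀) (𝒰.f a) ≫ S.homOfLE (hle a) ≫ U₀.ι
    rw [Scheme.homOfLE_ι]
  have hc1 : hsq.lift _ _ hcomm ≫ (ξ ∣_ W a) = pullback.snd (ξ ∣_ U₀) (𝒰.f a) :=
    hsq.lift_fst _ _ hcomm
  have hc2 : hsq.lift _ _ hcomm ≫ (ξ ⁻¹ᵁ W a).ι =
      pullback.fst (ξ ∣_ U₀) (𝒰.f a) ≫ (ξ ⁻¹ᵁ U₀).ι := hsq.lift_snd _ _ hcomm
  rw [pullback.condition_assoc, hG a, ← hc1, Category.assoc, hg a, ← Category.assoc, hc2,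
    Category.assoc]

end Groth.Agent.H2.Rigid
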