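import Groth.Agent.Lib.Helper2.RigidB

/-!
# Rigidity: S14666 (helper2)
-/

set_option autoImplicit false
set_option linter.style.haveILetI false
universe u

open CategoryTheory CategoryTheory.Limits AlgebraicGeometry TopologicalSpace

namespace Groth.Agent.H2.Rigid

set_option maxHeartbeats 800000 in
/-- **S14666** -/
theorem s14666 {X Y S : Scheme.{u}}
    (ξ : X ⟶ S) [IsProper ξ] [GeometricallyIntegral ξ]
    (h0 : ∀ U : S.Opens, Function.Bijective (ξ.app U).hom)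
    (v : Y ⟶ S) (f : X ⟶ Y) (hf : f ≫ v = ξ) :
    IsOpen {s : ↥S | ∃ y : ↥Y, ∀ x : ↥X, ξ.base x = s → f.base x = y} ∧
    ∀ (T : Scheme.{u}) (τ : T ⟶ S),
      ((∃ r : T ⟶ Y, r ≫ v = τ ∧ pullback.fst ξ τ ≫ f = pullback.snd ξ τ ≫ r) ↔
        ∀ t : ↥T, τ.base t ∈ {s : ↥S | ∃ y : ↥Y, ∀ x : ↥X, ξ.base x = s → f.base x = y}) := by
  haveI : GeometricallyIrreducible ξ := inferInstance
  haveI : Surjective ξ := inferInstance
  have hsurj : Function.Surjective ξ.base := ξ.surjective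
  have hopen : IsOpen (locus ξ f) := isOpen_locus ξ f h0
  refine ⟨hopen, fun T τ => ⟨?_, ?_⟩⟩
  · rintro ⟨r, hr, hfr⟩ t
    refine ⟨r.base t, fun x hx => ?_⟩
    obtain ⟨z, hz1, hz2⟩ := Scheme.Pullback.exists_preimage_pullback x t hx
    have h1 : (pullback.fst ξ τ ≫ f).base z = (pullback.snd ξ τ ≫ r).base z := by rw [hfr]
    change f.base ((pullback.fst ξ τ).base z) = r.base ((pullback.snd ξ τ).base z) at h1
    rw [hz1, hz2] at h1
    exact h1
  · intro hτ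
    let U₀ : S.Opens := ⟨locus ξ f, hopen⟩
    obtain ⟨G, hG⟩ := exists_global ξ f hsurj h0 U₀ rfl
    have hrange : Set.range τ.base ⊆ Set.range U₀.ι.base := by
      rintro _ ⟨t, rfl⟩
      rw [Scheme.Opens.range_ι]
      exact hτ t
    let τ' : T ⟶ U₀.toScheme := IsOpenImmersion.lift U₀.ι τ hrange
    have hτ' : τ' ≫ U₀.ι = τ := IsOpenImmersion.lift_fac _ _ _
    have hGv : G ≫ v = U₀.ι := by
      apply uq ξ hsurj (fun U => (h0 U).1) U₀
      rw [← Category.assoc, hG, Category.assoc, hf, morphismRestrict_ι]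
    refine ⟨τ' ≫ G, by rw [Category.assoc, hGv, hτ'], ?_⟩
    have hsq := isPullback_morphismRestrict ξ U₀
    have hcomm : (pullback.snd ξ τ ≫ τ') ≫ U₀.ι = pullback.fst ξ τ ≫ ξ := by
      rw [Category.assoc, hτ', pullback.condition]
    have hc1 : hsq.lift _ _ hcomm ≫ (ξ ∣_ U₀) = pullback.snd ξ τ ≫ τ' := hsq.lift_fst _ _ hcomm
    have hc2 : hsq.lift _ _ hcomm ≫ (ξ ⁻¹ᵁ U₀).ι = pullback.fst ξ τ := hsq.lift_snd _ _ hcomm
    rw [← hc2, Category.assoc, ← hG, ← Category.assoc, hc1, Category.assoc]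

end Groth.Agent.H2.Rigid
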