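import Mathlib
import Groth.Prelude.Def_CAlg
import Groth.Prelude.Def_EGA4b
import Groth.Prelude.Def_FDesc
import Groth.Prelude.Def_MoreMor
import Groth.Agent.Lib.Helper2.RkN

/-! # The locus where `f` is flat with geometrically normal fibre is open (`f` locally of finite
presentation), EGA IV 12.1.6 -/

set_option autoImplicit false
set_option linter.style.haveILetI false
universe u

open AlgebraicGeometry CategoryTheory CategoryTheory.Limits

namespace Groth.Agent.H2.Rk

open Groth.Agent.H2.Sk Groth.Agent.H1.StalkGen Groth.Agent.H2.FibCons Groth.Agent.H1.CritFib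

set_option backward.isDefEq.respectTransparency false in
/-- geometric normality of the fibres is insensitive to open immersions into the source. -/
theorem geomNormalAt_comp_of_isOpenImmersion {U X Y : Scheme.{u}} (j : U ⟶ X) [IsOpenImmersion j]
    (f : X ⟶ Y) [LocallyOfFinitePresentation f] (u : U) :
    GeomNormalAt (j ≫ f) ((j ≫ f) u) ((j ≫ f).asFiber u) ↔
      GeomNormalAt f (f (j u)) (f.asFiber (j u)) := by
  haveI : LocallyOfFinitePresentation (j ≫ f) := inferInstance
  rw [geomNormalAt_iff, geomNormalAt_iff, geomRkAt_comp_of_isOpenImmersion]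
  have h := fibSet_comp_of_isOpenImmersion (ringFibProp_hasSk 2) j f
  have h' : u ∈ fibSet (fun (R : Type u) [CommRing R] => LocCoh.HasSk 2 R R) (j ≫ f) ↔
      u ∈ j ⁻¹' fibSet (fun (R : Type u) [CommRing R] => LocCoh.HasSk 2 R R) f := by rw [h]
  exact and_congr Iff.rfl h'

/-- **EGA IV 12.1.6**: for `f` locally of finite presentation, the set of points at which `f` is
flat and the fibre is geometrically normal is open. -/
theorem isOpen_flat_geomNormalAt {X Y : Scheme.{u}} (f : X ⟶ Y) [LocallyOfFinitePresentation f] :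
    IsOpen {x : X | (f.stalkMap x).hom.Flat ∧ GeomNormalAt f (f x) (f.asFiber x)} := by
  have hU : IsOpen {x : X | (f.stalkMap x).hom.Flat} := Groth.Agent.S0386.result f
  obtain ⟨U, hUdef⟩ : ∃ U : X.Opens, (U : Set X) = {x : X | (f.stalkMap x).hom.Flat} :=
    ⟨⟨_, hU⟩, rfl⟩
  haveI : Flat (U.ι ≫ f) := by
    rw [Flat.iff_flat_stalkMap]
    intro u
    rw [Groth.Agent.S0386.flat_stalkMap_comp_iff_right]
    have : (U.ι u) ∈ (U : Set X) := u.2
    rw [hUdef] at this
    exact this
  have h1 : IsOpen {u : U | GeomNormalAt (U.ι ≫ f) ((U.ι ≫ f) u) ((U.ι ≫ f).asFiber u)} :=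
    isOpen_geomNormalAt (U.ι ≫ f)
  have h2 := U.ι.isOpenEmbedding.isOpenMap _ h1
  convert h2 using 1
  ext x
  constructor
  · rintro ⟨hx1, hx2⟩
    have hxU : x ∈ (U : Set X) := by rw [hUdef]; exact hx1
    refine ⟨⟨x, hxU⟩, ?_, rfl⟩
    exact (geomNormalAt_comp_of_isOpenImmersion U.ι f ⟨x, hxU⟩).mpr hx2
  · rintro ⟨u, hu, rfl⟩
    refine ⟨?_, (geomNormalAt_comp_of_isOpenImmersion U.ι f u).mp hu⟩
    have : (U.ι u) ∈ (U : Set X) := u.2
    rw [hUdef] at this
    exact this

end Groth.Agent.H2.Rk
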