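import Mathlib
import Groth.Prelude.Def_CAlg
import Groth.Agent.Lib.Helper8.J2.J4
import Groth.Agent.Lib.Helper1.RegLoc

/-! `(R_k)` along smooth ring maps. -/

universe u
set_option linter.style.haveILetI false

namespace Groth.Agent.H2.RkSm

/-- `(R_n)` at all generizations of `P` -/
def RkBelow (n : ℕ) (R : Type u) [CommRing R] (P : Ideal R) : Prop :=
  ∀ (q : Ideal R) [q.IsPrime], q ≤ P → q.height ≤ n →
    IsRegularLocalRing (Localization.AtPrime q)

theorem hasRk_iff_forall_rkBelow (n : ℕ) (R : Type u) [CommRing R] :
    LocCoh.HasRk n R ↔ ∀ (P : Ideal R) [P.IsPrime], RkBelow n R P := by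
  constructor
  · intro h P _ q _ _ hq
    exact h q hq
  · intro h P _ hP
    exact h P P le_rfl hP

theorem hasRk_atPrime_iff (n : ℕ) {R : Type u} [CommRing R] (P : Ideal R) [P.IsPrime] :
    LocCoh.HasRk n (Localization.AtPrime P) ↔ RkBelow n R P := by
  constructor
  · intro h q hq hqP hht
    have hd : Disjoint (P.primeCompl : Set R) (q : Set R) := by
      rw [Set.disjoint_left]
      intro x hx hxq
      exact hx (hqP hxq)
    set q' := q.map (algebraMap R (Localization.AtPrime P)) with hq'
    haveI hQ : q'.IsPrime := IsLocalization.isPrime_of_isPrime_disjoint P.primeCompl _ q hq hd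
    have hc : q'.comap (algebraMap R (Localization.AtPrime P)) = q :=
      IsLocalization.under_map_of_isPrime_disjoint P.primeCompl _ hq hd
    have hht' : q'.height ≤ n := by
      rw [hq', IsLocalization.height_map_of_disjoint P.primeCompl q hd]
      exact hht
    haveI := h q' hht'
    haveI : (q'.comap (algebraMap R (Localization.AtPrime P))).IsPrime := Ideal.comap_isPrime _ _
    let e1 := IsLocalization.localizationLocalizationAtPrimeIsoLocalization P.primeCompl q'
    haveI : IsRegularLocalRing
        (Localization.AtPrime (q'.comap (algebraMap R (Localization.AtPrime P)))) :=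
      IsRegularLocalRing.of_ringEquiv e1.symm.toRingEquiv
    exact Groth.Agent.H1.RegFlat.isRegularLocalRing_congr _ _ hc
  · intro h q' hq' hht
    set q := q'.comap (algebraMap R (Localization.AtPrime P)) with hq
    haveI : q.IsPrime := Ideal.comap_isPrime _ _
    have hqP : q ≤ P := by
      have h1 : q' ≤ IsLocalRing.maximalIdeal (Localization.AtPrime P) :=
        IsLocalRing.le_maximalIdeal hq'.ne_top
      have h2 := Ideal.comap_mono (f := algebraMap R (Localization.AtPrime P)) h1
      have h3 : Ideal.comap (algebraMap R (Localization.AtPrime P))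
          (IsLocalRing.maximalIdeal (Localization.AtPrime P)) = P :=
        IsLocalization.AtPrime.under_maximalIdeal (Localization.AtPrime P) P
      rw [h3] at h2
      exact h2
    have hht' : q.height ≤ n := by
      have := IsLocalization.height_under P.primeCompl q'
      change q.height = q'.height at this
      rw [this]
      exact hht
    haveI := h q hqP hht'
    let e1 := IsLocalization.localizationLocalizationAtPrimeIsoLocalization P.primeCompl q'
    exact IsRegularLocalRing.of_ringEquiv e1.toRingEquiv

section Smooth

variable {A B : Type u} [CommRing A] [CommRing B] [IsNoetherianRing A] [IsNoetherianRing B]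
  [Algebra A B] [Algebra.Smooth A B]

/-- ascent of regularity at a prime -/
theorem regular_ascent (n : ℕ) (Q : Ideal B) [Q.IsPrime]
    (h : RkBelow n A (Q.comap (algebraMap A B))) : RkBelow n B Q := by
  intro q hq hqQ hht
  haveI : q.LiesOver (q.comap (algebraMap A B)) := ⟨rfl⟩
  have hle : (q.comap (algebraMap A B)).height ≤ q.height := by
    rw [Ideal.height_eq_height_add_of_liesOver_of_hasGoingDown (q.comap (algebraMap A B)) q]
    exact le_self_add
  haveI := h (q.comap (algebraMap A B)) (Ideal.comap_mono hqQ) (hle.trans hht)
  exact Groth.Agent.H8.J2.isRegularLocalRing_of_smooth A B q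

/-- descent of regularity at a prime -/
theorem regular_descent (n : ℕ) (Q : Ideal B) [Q.IsPrime] (h : RkBelow n B Q) :
    RkBelow n A (Q.comap (algebraMap A B)) := by
  intro p' hp' hle hht
  haveI : Q.LiesOver (Q.comap (algebraMap A B)) := ⟨rfl⟩
  obtain ⟨P, hPQ, hP, hPo⟩ := Ideal.exists_ideal_le_liesOver_of_le (p := p')
    (q := Q.comap (algebraMap A B)) Q hle
  have hpP : p'.map (algebraMap A B) ≤ P := by
    rw [Ideal.map_le_iff_le_comap]
    exact le_of_eq hPo.over
  obtain ⟨q, hqmin, hqP⟩ := Ideal.exists_minimalPrimes_le hpP
  haveI hq : q.IsPrime := hqmin.1.1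
  have hqo : q.comap (algebraMap A B) = p' := by
    apply le_antisymm
    · have h1 := Ideal.comap_mono (f := algebraMap A B) hqP
      exact h1.trans (le_of_eq hPo.over.symm)
    · rw [← Ideal.map_le_iff_le_comap]
      exact hqmin.1.2
  haveI : q.LiesOver p' := ⟨hqo.symm⟩
  have hhtq : q.height = p'.height := by
    rw [Ideal.height_eq_height_add_of_liesOver_of_hasGoingDown p' q]
    have hz : (q.map (Ideal.Quotient.mk (p'.map (algebraMap A B)))).height = 0 := by
      rw [Ideal.minimalPrimes_eq_comap] at hqmin
      obtain ⟨qbar, hqbar, rfl⟩ := hqmin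
      rw [Ideal.map_comap_of_surjective _ Ideal.Quotient.mk_surjective]
      haveI := hqbar.1.1
      exact Ideal.height_eq_zero_iff.mpr hqbar
    rw [hz, add_zero]
  haveI := h q (hqP.trans hPQ) (hhtq.le.trans hht)
  letI := Localization.AtPrime.algebraOfLiesOver p' q
  haveI : IsLocalHom (algebraMap (Localization.AtPrime p') (Localization.AtPrime q)) :=
    Localization.isLocalHom_localRingHom p' q (algebraMap A B) Ideal.LiesOver.over
  haveI : IsNoetherianRing (Localization.AtPrime p') :=
    IsLocalization.isNoetherianRing p'.primeCompl _ inferInstance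
  exact Groth.Agent.H1.Reg.isRegularLocalRing_of_flat (Localization.AtPrime p')
    (Localization.AtPrime q)

theorem rkBelow_iff (n : ℕ) (Q : Ideal B) [Q.IsPrime] :
    RkBelow n B Q ↔ RkBelow n A (Q.comap (algebraMap A B)) :=
  ⟨regular_descent n Q, regular_ascent n Q⟩

end Smooth

end Groth.Agent.H2.RkSm
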