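import Mathlib
import Groth.Agent.Lib.Helper2.SyntCM4
import Groth.Agent.Lib.Helper6.SemiLin
import Groth.Agent.S9699

/-! Smooth (more generally syntomic) morphisms preserve the codepth of local rings. -/

universe u
set_option linter.style.haveILetI false

open AlgebraicGeometry CategoryTheory

namespace Groth.Agent.H2.SyntCM

theorem depth_dim_of_ringEquiv {R R' : Type u} [CommRing R] [CommRing R'] [IsLocalRing R]
    [IsLocalRing R'] [IsNoetherianRing R] [IsNoetherianRing R'] (σ : R ≃+* R') :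
    LocCoh.depth R R = LocCoh.depth R' R' ∧ ringKrullDim R = ringKrullDim R' := by
  obtain ⟨h1, -⟩ := Groth.Agent.H6.SemiLin.depth_and_dim_eq (M₁ := R) (M₂ := R') σ σ.toAddEquiv
    (fun r m => by simp)
  exact ⟨h1, ringKrullDim_eq_of_ringEquiv σ⟩

theorem atPrime_congr {R : Type u} [CommRing R] {p q : Ideal R} [p.IsPrime] [q.IsPrime]
    (h : p = q) :
    LocCoh.depth (Localization.AtPrime p) (Localization.AtPrime p) =
        LocCoh.depth (Localization.AtPrime q) (Localization.AtPrime q) ∧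
      ringKrullDim (Localization.AtPrime p) = ringKrullDim (Localization.AtPrime q) := by
  subst h
  exact ⟨rfl, rfl⟩

variable {X S : Scheme.{u}} (f : X ⟶ S)

theorem stalk_depth_dim {U : X.Opens} (hU : IsAffineOpen U) [IsNoetherianRing Γ(X, U)] (x : X)
    (hx : x ∈ U) :
    LocCoh.depth (X.presheaf.stalk x) (X.presheaf.stalk x) =
        LocCoh.depth (Localization.AtPrime (hU.primeIdealOf ⟨x, hx⟩).asIdeal)
          (Localization.AtPrime (hU.primeIdealOf ⟨x, hx⟩).asIdeal) ∧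
      ringKrullDim (X.presheaf.stalk x) =
        ringKrullDim (Localization.AtPrime (hU.primeIdealOf ⟨x, hx⟩).asIdeal) := by
  haveI : IsNoetherianRing (Localization.AtPrime (hU.primeIdealOf ⟨x, hx⟩).asIdeal) :=
    IsLocalization.isNoetherianRing (hU.primeIdealOf ⟨x, hx⟩).asIdeal.primeCompl _ inferInstance
  haveI : IsNoetherianRing (X.presheaf.stalk x) :=
    isNoetherianRing_of_ringEquiv _ (stalkEquiv hU x hx).symm
  exact depth_dim_of_ringEquiv (stalkEquiv hU x hx)

theorem chart_codepth_eq {U : X.affineOpens} {V : S.affineOpens} (e : U.1 ≤ f ⁻¹ᵁ V.1) (x : X)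
    (hx : x ∈ U.1)
    (hsyn : letI := (f.appLE V.1 U.1 e).hom.toAlgebra
      Synt.IsSyntomic Γ(S, V.1) Γ(X, U.1))
    [IsNoetherianRing Γ(S, V.1)] [IsNoetherianRing Γ(X, U.1)] :
    ringKrullDim (X.presheaf.stalk x) +
        ((LocCoh.depth (S.presheaf.stalk (f x)) (S.presheaf.stalk (f x)) : ℕ∞) : WithBot ℕ∞) =
      ringKrullDim (S.presheaf.stalk (f x)) +
        ((LocCoh.depth (X.presheaf.stalk x) (X.presheaf.stalk x) : ℕ∞) : WithBot ℕ∞) := by
  obtain ⟨h1, h2⟩ := stalk_depth_dim U.2 x hx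
  obtain ⟨h3, h4⟩ := stalk_depth_dim V.2 (f x) (e hx)
  rw [h1, h2, h3, h4]
  letI := (f.appLE V.1 U.1 e).hom.toAlgebra
  haveI : Module.Flat Γ(S, V.1) Γ(X, U.1) := hsyn.1
  have h5 := Groth.Agent.H2.TenCM.codepth_eq (R := Γ(S, V.1)) (S := Γ(X, U.1))
    (U.2.primeIdealOf ⟨x, hx⟩).asIdeal (fib_cm hsyn _)
  obtain ⟨h6, h7⟩ := atPrime_congr (comap_primeIdealOf f e x hx)
  rw [h6, h7] at h5
  exact h5.symm

end Groth.Agent.H2.SyntCM
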