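import Mathlib
import Groth.Agent.Lib.Helper2.RkSmooth
import Groth.Agent.Lib.Helper2.SmCodepth

/-! `(R_k)` along smooth morphisms: scheme dictionary. -/

universe u
set_option linter.style.haveILetI false

open AlgebraicGeometry CategoryTheory

namespace Groth.Agent.H2.RkSm

theorem hasRk_of_ringEquiv {R R' : Type u} [CommRing R] [CommRing R'] (e : R ≃+* R') (n : ℕ)
    (h : LocCoh.HasRk n R) : LocCoh.HasRk n R' := by
  intro P' hP' hht
  let P : Ideal R := P'.comap e.toRingHom
  haveI : P.IsPrime := Ideal.comap_isPrime _ _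
  have H : P.primeCompl.map e.toMonoidHom = P'.primeCompl := by
    ext y
    constructor
    · rintro ⟨x, hx, rfl⟩
      exact hx
    · intro hy
      refine ⟨e.symm y, ?_, by simp⟩
      change e.symm y ∉ P
      intro h
      apply hy
      have : e (e.symm y) ∈ P' := h
      simpa using this
  have hP : P.height ≤ n := by
    have := e.height_comap P'
    change P.height = P'.height at this
    rw [this]
    exact hht
  haveI := h P hP
  let σ : Localization.AtPrime P ≃+* Localization.AtPrime P' :=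
    IsLocalization.ringEquivOfRingEquiv (Localization.AtPrime P) (Localization.AtPrime P') e H
  exact IsRegularLocalRing.of_ringEquiv σ

theorem rkBelow_congr {R : Type u} [CommRing R] (n : ℕ) {p q : Ideal R} (h : p = q) :
    RkBelow n R p ↔ RkBelow n R q := by
  subst h
  exact Iff.rfl

variable {X S : Scheme.{u}} (f : X ⟶ S)

theorem hasRk_stalk_iff {U : X.Opens} (hU : IsAffineOpen U) (x : X) (hx : x ∈ U) (n : ℕ) :
    LocCoh.HasRk n (X.presheaf.stalk x) ↔
      RkBelow n Γ(X, U) (hU.primeIdealOf ⟨x, hx⟩).asIdeal := by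
  rw [← hasRk_atPrime_iff]
  exact ⟨hasRk_of_ringEquiv (Groth.Agent.H2.SyntCM.stalkEquiv hU x hx) n,
    hasRk_of_ringEquiv (Groth.Agent.H2.SyntCM.stalkEquiv hU x hx).symm n⟩

theorem chart_hasRk_iff {U : X.affineOpens} {V : S.affineOpens} (e : U.1 ≤ f ⁻¹ᵁ V.1) (x : X)
    (hx : x ∈ U.1)
    (hsm : letI := (f.appLE V.1 U.1 e).hom.toAlgebra
      Algebra.Smooth Γ(S, V.1) Γ(X, U.1))
    [IsNoetherianRing Γ(S, V.1)] [IsNoetherianRing Γ(X, U.1)] (n : ℕ) :
    LocCoh.HasRk n (S.presheaf.stalk (f x)) ↔ LocCoh.HasRk n (X.presheaf.stalk x) := by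
  rw [hasRk_stalk_iff V.2 (f x) (e hx) n, hasRk_stalk_iff U.2 x hx n]
  letI := (f.appLE V.1 U.1 e).hom.toAlgebra
  haveI : Algebra.Smooth Γ(S, V.1) Γ(X, U.1) := hsm
  have h1 := rkBelow_iff (A := Γ(S, V.1)) (B := Γ(X, U.1)) n
    (U.2.primeIdealOf ⟨x, hx⟩).asIdeal
  exact (rkBelow_congr n (Groth.Agent.H2.SyntCM.comap_primeIdealOf f e x hx)).symm.trans h1.symm

end Groth.Agent.H2.RkSm
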