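import Mathlib
import Groth.Prelude.Def_RootCh

/-!
# Root systems: fundamental weights as a dual basis (helper2)
-/

set_option autoImplicit false
namespace Groth.Agent.H2.RootChA
open RootCh Module

universe u v w x
variable {ι : Type u} {R : Type v} {M : Type w} {N : Type x}
  [Field R] [AddCommGroup M] [Module R M] [AddCommGroup N] [Module R N]
  {P : RootPairing ι R M N} [P.IsRootSystem]

/-- pairing a combination of fundamental weights with a simple coroot -/
lemma coroot'_sum_fundWeight (b : P.Base) (c : b.support → R) (i : b.support) :
    P.coroot' i (∑ j : b.support, c j • fundWeight b j) = c i := by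
  rw [map_sum, Finset.sum_eq_single i]
  · rw [map_smul, coroot'_fundWeight_self, smul_eq_mul, mul_one]
  · intro j _ hj
    rw [map_smul, coroot'_fundWeight_of_ne b j i (Ne.symm hj), smul_zero]
  · intro h; exact absurd (Finset.mem_univ i) h

lemma root'_sum_fundCoweight (b : P.Base) (c : b.support → R) (i : b.support) :
    P.root' i (∑ j : b.support, c j • fundCoweight b j) = c i :=
  coroot'_sum_fundWeight (P := P.flip) b.flip c i

/-- two vectors of `M` with the same pairings against the simple coroots are equal -/
lemma ext_of_coroot' (b : P.Base) {x y : M} (h : ∀ j : b.support, P.coroot' j x = P.coroot' j y) :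
    x = y := by
  apply P.toPerfPair.injective
  apply b.toCoweightBasis.ext
  intro j
  rw [b.toCoweightBasis_apply]
  exact h j

lemma ext_of_root' (b : P.Base) {x y : N} (h : ∀ j : b.support, P.root' j x = P.root' j y) :
    x = y :=
  ext_of_coroot' (P := P.flip) b.flip h

/-- expansion in the basis of fundamental weights -/
lemma eq_sum_fundWeight (b : P.Base) (x : M) :
    x = ∑ j : b.support, P.coroot' j x • fundWeight b j := by
  apply ext_of_coroot' b
  intro i
  rw [coroot'_sum_fundWeight]

lemma eq_sum_fundCoweight (b : P.Base) (x : N) :
    x = ∑ j : b.support, P.root' j x • fundCoweight b j :=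
  eq_sum_fundWeight (P := P.flip) b.flip x

/-- pairing a fundamental weight with a combination of simple coroots -/
lemma fundWeight_sum_coroot (b : P.Base) (c : b.support → R) (i : b.support) :
    P.toLinearMap (fundWeight b i) (∑ j : b.support, c j • P.coroot j) = c i := by
  rw [map_sum, Finset.sum_eq_single i]
  · rw [map_smul, smul_eq_mul]
    have := coroot'_fundWeight_self b i
    change P.toLinearMap (fundWeight b i) (P.coroot i) = 1 at this
    rw [this, mul_one]
  · intro j _ hj
    have := coroot'_fundWeight_of_ne b i j hj
    change P.toLinearMap (fundWeight b i) (P.coroot j) = 0 at this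
    rw [map_smul, this, smul_zero]
  · intro h; exact absurd (Finset.mem_univ i) h

lemma sum_root_fundCoweight (b : P.Base) (c : b.support → R) (i : b.support) :
    P.toLinearMap (∑ j : b.support, c j • P.root j) (fundCoweight b i) = c i :=
  fundWeight_sum_coroot (P := P.flip) b.flip c i

/-- expansion of a vector of `N` in simple coroots, coefficients given by fundamental weights -/
lemma eq_sum_coroot (b : P.Base) (x : N) :
    x = ∑ j : b.support, P.toLinearMap (fundWeight b j) x • P.coroot j := by
  have hx := b.toCoweightBasis.sum_repr x
  simp only [b.toCoweightBasis_apply] at hx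
  have hc : ∀ j : b.support, P.toLinearMap (fundWeight b j) x = b.toCoweightBasis.repr x j := by
    intro j
    conv_lhs => rw [← hx]
    rw [fundWeight_sum_coroot]
  conv_lhs => rw [← hx]
  refine Finset.sum_congr rfl fun j _ => ?_
  rw [hc]

lemma eq_sum_root (b : P.Base) (x : M) :
    x = ∑ j : b.support, P.toLinearMap x (fundCoweight b j) • P.root j :=
  eq_sum_coroot (P := P.flip) b.flip x

/-- fundamental weights are linearly independent -/
lemma linearIndependent_fundWeight (b : P.Base) :
    LinearIndependent R (fun j : b.support => fundWeight b j) := by
  rw [Fintype.linearIndependent_iff]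
  intro g hg i
  have := congr_arg (P.coroot' i) hg
  rwa [coroot'_sum_fundWeight, map_zero] at this

lemma fundWeight_injective (b : P.Base) : Function.Injective (fun j : b.support => fundWeight b j) :=
  (linearIndependent_fundWeight b).injective

end Groth.Agent.H2.RootChA
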