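import Groth.Agent.Lib.Helper2.RootChA

/-!
# Root systems: corners of a Weyl chamber (helper2) — S14227
-/

set_option autoImplicit false
set_option linter.unusedSectionVars false
namespace Groth.Agent.H2.RootChB
open RootCh Module Groth.Agent.H2.RootChA

universe u v w x
variable {ι : Type u} {R : Type v} {M : Type w} {N : Type x}
  [Field R] [LinearOrder R] [IsStrictOrderedRing R]
  [AddCommGroup M] [Module R M] [AddCommGroup N] [Module R N]
  {P : RootPairing ι R M N} [P.IsRootSystem]

/-- every coroot is a natural-number combination of simple coroots, or the negative of one -/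
lemma exists_coroot_eq_sum_nat (b : P.Base) (k : ι) :
    ∃ f : b.support → ℕ, P.coroot k = ∑ j : b.support, (f j : R) • P.coroot j ∨
      P.coroot k = -∑ j : b.support, (f j : R) • P.coroot j := by
  obtain ⟨f, -, hf⟩ := b.flip.exists_root_eq_sum_nat_or_neg k
  refine ⟨fun j => f j, ?_⟩
  have hs : ∑ j ∈ b.support, f j • P.coroot j = ∑ j : b.support, (f j : R) • P.coroot j := by
    rw [← Finset.sum_coe_sort]
    refine Finset.sum_congr rfl fun j _ => ?_
    rw [Nat.cast_smul_eq_nsmul]
  rcases hf with h | h
  · left; rw [← hs]; exact h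
  · right; rw [← hs]; exact h

lemma exists_root_eq_sum_nat (b : P.Base) (k : ι) :
    ∃ f : b.support → ℕ, P.root k = ∑ j : b.support, (f j : R) • P.root j ∨
      P.root k = -∑ j : b.support, (f j : R) • P.root j :=
  exists_coroot_eq_sum_nat (P := P.flip) b.flip k

/-- pairing of `m` with a combination of simple coroots -/
lemma coroot'_sum (b : P.Base) (c : b.support → R) (m : M) :
    P.toLinearMap m (∑ j : b.support, c j • P.coroot j) = ∑ j : b.support, c j * P.coroot' j m := by
  rw [map_sum]
  refine Finset.sum_congr rfl fun j _ => ?_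
  rw [map_smul, smul_eq_mul]
  rfl

/-- a sum of nonnegative terms equal to zero has all terms zero -/
lemma terms_zero_of_sum_zero {α : Type*} [Fintype α] (t : α → R) (h0 : ∀ j, 0 ≤ t j)
    (hs : ∑ j, t j = 0) (j : α) : t j = 0 :=
  (Finset.sum_eq_zero_iff_of_nonneg fun j _ => h0 j).mp hs j (Finset.mem_univ j)

/-- S14227, the nontrivial inclusion -/
theorem fundWeight_mem_closedChamber (b b' : P.Base) (i' : b'.support)
    (hm : fundWeight b' i' ∈ closedChamber b) : ∃ j0 : b.support, fundWeight b' i' = fundWeight b j0 := by
  classical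
  set m := fundWeight b' i' with hmdef
  have h1 : ∀ j : b.support, 0 ≤ P.coroot' j m := fun j => hm j j.2
  have h2s : P.coroot' i' m = 1 := coroot'_fundWeight_self b' i'
  have h2n : ∀ j' : b'.support, j' ≠ i' → P.coroot' j' m = 0 := fun j' h =>
    coroot'_fundWeight_of_ne b' i' j' h
  -- Step 1: expansion of the coroot `i'` in `b`
  obtain ⟨n', hn'⟩ := exists_coroot_eq_sum_nat b (i' : ι)
  have hsum_nonneg : 0 ≤ ∑ j : b.support, (n' j : R) * P.coroot' j m :=
    Finset.sum_nonneg fun j _ => mul_nonneg (Nat.cast_nonneg _) (h1 j)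
  have hpos : P.coroot i' = ∑ j : b.support, (n' j : R) • P.coroot j := by
    rcases hn' with h | h
    · exact h
    · exfalso
      have := congr_arg (P.toLinearMap m) h
      rw [map_neg, coroot'_sum] at this
      have h3 : P.toLinearMap m (P.coroot i') = 1 := h2s
      rw [h3] at this
      linarith
  have hone : ∑ j : b.support, (n' j : R) * P.coroot' j m = 1 := by
    have := congr_arg (P.toLinearMap m) hpos
    rw [coroot'_sum] at this
    rw [← this]; exact h2s
  -- Step 2: simple coroots of `b` on which `m` is positive have natural value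
  have hnat : ∀ j : b.support, P.coroot' j m ≠ 0 → ∃ p : ℕ, 1 ≤ p ∧ P.coroot' j m = p := by
    intro j hj
    obtain ⟨n, hn⟩ := exists_coroot_eq_sum_nat b' (j : ι)
    have hval : ∀ c : b'.support → R, ∑ j' : b'.support, c j' * P.coroot' j' m = c i' := by
      intro c
      rw [Finset.sum_eq_single i']
      · rw [h2s, mul_one]
      · intro j' _ hj'; rw [h2n j' hj', mul_zero]
      · intro h; exact absurd (Finset.mem_univ i') h
    have hjpos : 0 < P.coroot' j m := lt_of_le_of_ne (h1 j) (Ne.symm hj)
    rcases hn with h | h
    · have := congr_arg (P.toLinearMap m) h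
      rw [coroot'_sum, hval] at this
      have h3 : P.coroot' j m = (n i' : R) := this
      refine ⟨n i', ?_, h3⟩
      rw [h3] at hjpos
      exact_mod_cast hjpos
    · exfalso
      have := congr_arg (P.toLinearMap m) h
      rw [map_neg, coroot'_sum, hval] at this
      have h3 : P.coroot' j m = -(n i' : R) := this
      have : (0 : R) ≤ (n i' : R) := Nat.cast_nonneg _
      linarith
  -- Step 3: a unique index carries the value
  have hterm_nonneg : ∀ j : b.support, 0 ≤ (n' j : R) * P.coroot' j m := fun j =>
    mul_nonneg (Nat.cast_nonneg _) (h1 j)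
  obtain ⟨j0, hj0⟩ : ∃ j0 : b.support, (n' j0 : R) * P.coroot' j0 m ≠ 0 := by
    by_contra hcon
    push Not at hcon
    have : ∑ j : b.support, (n' j : R) * P.coroot' j m = 0 := Finset.sum_eq_zero fun j _ => hcon j
    rw [this] at hone
    exact zero_ne_one hone
  have hn'0 : (n' j0 : R) ≠ 0 := left_ne_zero_of_mul hj0
  have ha0 : P.coroot' j0 m ≠ 0 := right_ne_zero_of_mul hj0
  obtain ⟨p, hp1, hp⟩ := hnat j0 ha0
  have hn'1 : 1 ≤ n' j0 := by
    rcases Nat.eq_zero_or_pos (n' j0) with h | h
    · rw [h, Nat.cast_zero] at hn'0; exact absurd rfl hn'0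
    · exact h
  have hterm_ge : (1 : R) ≤ (n' j0 : R) * P.coroot' j0 m := by
    rw [hp]
    have : (1 : R) ≤ (n' j0 : R) := by exact_mod_cast hn'1
    have : (1 : R) ≤ (p : R) := by exact_mod_cast hp1
    nlinarith
  have hsplit : (n' j0 : R) * P.coroot' j0 m +
      ∑ j ∈ Finset.univ.erase j0, (n' j : R) * P.coroot' j m = 1 := by
    rw [Finset.add_sum_erase Finset.univ (fun j : b.support => (n' j : R) * P.coroot' j m)
      (Finset.mem_univ j0)]; exact hone
  have hrest_nonneg : 0 ≤ ∑ j ∈ Finset.univ.erase j0, (n' j : R) * P.coroot' j m :=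
    Finset.sum_nonneg fun j _ => hterm_nonneg j
  have hterm_eq : (n' j0 : R) * P.coroot' j0 m = 1 := by linarith
  have hrest_zero : ∑ j ∈ Finset.univ.erase j0, (n' j : R) * P.coroot' j m = 0 := by linarith
  have hother : ∀ j : b.support, j ≠ j0 → (n' j : R) * P.coroot' j m = 0 := by
    intro j hj
    exact (Finset.sum_eq_zero_iff_of_nonneg fun j _ => hterm_nonneg j).mp hrest_zero j
      (Finset.mem_erase.mpr ⟨hj, Finset.mem_univ j⟩)
  have ha0one : P.coroot' j0 m = 1 := by
    rw [hp] at hterm_eq ⊢
    have h : n' j0 * p = 1 := by exact_mod_cast hterm_eq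
    have : p = 1 := Nat.eq_one_of_mul_eq_one_left h
    rw [this, Nat.cast_one]
  -- Step 4: the other simple coroots of `b` vanish on `m`
  have hvanish : ∀ j1 : b.support, j1 ≠ j0 → P.coroot' j1 m = 0 := by
    intro j1 hj1
    by_contra ha1
    have hn'j1 : (n' j1 : R) = 0 := by
      rcases mul_eq_zero.mp (hother j1 hj1) with h | h
      · exact h
      · exact absurd h ha1
    -- `μ = fundWeight b j1` pairs to zero with all simple coroots of `b'`
    have hμ : fundWeight b j1 = 0 := by
      apply ext_of_coroot' b'
      intro j'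
      rw [map_zero]
      by_cases hj' : j' = i'
      · subst hj'
        change P.toLinearMap (fundWeight b j1) (P.coroot j') = 0
        rw [hpos, fundWeight_sum_coroot, hn'j1]
      · obtain ⟨q, hq⟩ := exists_coroot_eq_sum_nat b (j' : ι)
        have hzero : ∑ j : b.support, (q j : R) * P.coroot' j m = 0 := by
          rcases hq with h | h
          · have := congr_arg (P.toLinearMap m) h
            rw [coroot'_sum] at this
            rw [← this]; exact h2n j' hj'
          · have := congr_arg (P.toLinearMap m) h
            rw [map_neg, coroot'_sum] at this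
            have h3 : P.toLinearMap m (P.coroot j') = 0 := h2n j' hj'
            rw [h3] at this
            linarith
        have hq1 : (q j1 : R) = 0 := by
          have := terms_zero_of_sum_zero (fun j : b.support => (q j : R) * P.coroot' j m)
            (fun j => mul_nonneg (Nat.cast_nonneg _) (h1 j)) hzero j1
          rcases mul_eq_zero.mp this with h | h
          · exact h
          · exact absurd h ha1
        change P.toLinearMap (fundWeight b j1) (P.coroot j') = 0
        rcases hq with h | h
        · rw [h, fundWeight_sum_coroot, hq1]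
        · rw [h, map_neg, fundWeight_sum_coroot, hq1, neg_zero]
    have := coroot'_fundWeight_self b j1
    rw [hμ, map_zero] at this
    exact zero_ne_one this
  -- Step 5
  refine ⟨j0, ?_⟩
  apply ext_of_coroot' b
  intro j
  by_cases hj : j = j0
  · subst hj; rw [ha0one, coroot'_fundWeight_self]
  · rw [hvanish j hj, coroot'_fundWeight_of_ne b j0 j hj]

/-- S14227 -/
theorem baseCorners_eq (b : P.Base) : baseCorners b = Set.range (fundWeight b) := by
  apply Set.Subset.antisymm
  · rintro m ⟨⟨b', i', rfl⟩, hm⟩
    obtain ⟨j0, hj0⟩ := fundWeight_mem_closedChamber b b' i' hm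
    exact ⟨j0, hj0.symm⟩
  · rintro _ ⟨i, rfl⟩
    refine ⟨⟨b, i, rfl⟩, fun j hj => ?_⟩
    by_cases h : (⟨j, hj⟩ : b.support) = i
    · subst h
      have := coroot'_fundWeight_self b ⟨j, hj⟩
      simp only at this
      rw [this]; exact zero_le_one
    · have := coroot'_fundWeight_of_ne b i ⟨j, hj⟩ h
      simp only at this
      rw [this]

end Groth.Agent.H2.RootChB
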