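import Groth.Agent.Lib.Helper2.RootChB

/-!
# Root systems: invariant form, root/coroot coefficient relation, S14234 (helper2)
-/

set_option autoImplicit false
set_option linter.unusedSectionVars false
namespace Groth.Agent.H2.RootChC
open RootCh Module Groth.Agent.H2.RootChA Groth.Agent.H2.RootChB

universe u v w x
variable {ι : Type u} {R : Type v} {M : Type w} {N : Type x}
  [Field R] [LinearOrder R] [IsStrictOrderedRing R]
  [AddCommGroup M] [Module R M] [AddCommGroup N] [Module R N]
  {P : RootPairing ι R M N} [P.IsRootSystem] [Finite ι]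

variable (P) in
/-- an invariant symmetric form for which coroots are positive multiples of roots -/
lemma exists_form : ∃ Φ : LinearMap.BilinForm R M, (∀ x y, Φ x y = Φ y x) ∧
    (∀ i, 0 < Φ (P.root i) (P.root i)) ∧
    ∀ i x, Φ (P.root i) (P.root i) * P.coroot' i x = 2 * Φ x (P.root i) := by
  have : Fintype ι := Fintype.ofFinite ι
  refine ⟨P.RootForm, fun x y => ?_, fun i => ?_, fun i x => ?_⟩
  · exact (LinearMap.isSymm_def.mp P.rootForm_symmetric x y).symm ▸ rfl
  · rw [P.rootForm_root_self]
    refine Finset.sum_pos' (fun j _ => mul_self_nonneg _) ⟨i, Finset.mem_univ i, ?_⟩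
    rw [P.pairing_same]; norm_num
  · have h := congr_arg (P.toLinearMap x) (P.rootForm_self_smul_coroot i)
    rw [map_smul, map_nsmul, P.toLinearMap_apply_apply_Polarization, smul_eq_mul, nsmul_eq_mul] at h
    have hs : P.RootForm (P.root i) x = P.RootForm x (P.root i) :=
      (LinearMap.isSymm_def.mp P.rootForm_symmetric x (P.root i)).symm ▸ rfl
    rw [hs] at h
    exact_mod_cast h

/-- the coefficient relation between a root and its coroot in a base -/
lemma coeff_rel (Φ : LinearMap.BilinForm R M)
    (hΦ : ∀ i x, Φ (P.root i) (P.root i) * P.coroot' i x = 2 * Φ x (P.root i))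
    (b : P.Base) (j : b.support) (k : ι) :
    Φ (P.root k) (P.root k) * P.coroot' k (fundWeight b j) =
      Φ (P.root j) (P.root j) * P.root' k (fundCoweight b j) := by
  rw [hΦ k]
  conv_lhs => rw [eq_sum_root b (P.root k)]
  rw [map_sum, Finset.mul_sum, Finset.sum_eq_single j]
  · rw [map_smul, smul_eq_mul, mul_left_comm, ← hΦ j, coroot'_fundWeight_self, mul_one, mul_comm]
  · intro i _ hij
    rw [map_smul, smul_eq_mul, mul_left_comm, ← hΦ i, coroot'_fundWeight_of_ne b j i hij,
      mul_zero, mul_zero]
  · intro h; exact absurd (Finset.mem_univ j) h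

/-- a fundamental weight pairs non-negatively with a coroot iff the corresponding fundamental
coweight pairs non-negatively with the root -/
lemma nonneg_iff (b : P.Base) (j : b.support) (k : ι) :
    0 ≤ P.coroot' k (fundWeight b j) ↔ 0 ≤ P.root' k (fundCoweight b j) := by
  obtain ⟨Φ, -, hpos, hΦ⟩ := exists_form P
  have h := coeff_rel Φ hΦ b j k
  constructor
  · intro h0
    have : 0 ≤ Φ (P.root j) (P.root j) * P.root' k (fundCoweight b j) := by
      rw [← h]; exact mul_nonneg (hpos k).le h0
    exact nonneg_of_mul_nonneg_right this (hpos j)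
  · intro h0
    have : 0 ≤ Φ (P.root k) (P.root k) * P.coroot' k (fundWeight b j) := by
      rw [h]; exact mul_nonneg (hpos j).le h0
    exact nonneg_of_mul_nonneg_right this (hpos k)

lemma pos_iff (b : P.Base) (j : b.support) (k : ι) :
    0 < P.coroot' k (fundWeight b j) ↔ 0 < P.root' k (fundCoweight b j) := by
  obtain ⟨Φ, -, hpos, hΦ⟩ := exists_form P
  have h := coeff_rel Φ hΦ b j k
  constructor
  · intro h0
    have : 0 < Φ (P.root j) (P.root j) * P.root' k (fundCoweight b j) := by
      rw [← h]; exact mul_pos (hpos k) h0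
    exact (pos_iff_pos_of_mul_pos this).mp (hpos j)
  · intro h0
    have : 0 < Φ (P.root k) (P.root k) * P.coroot' k (fundWeight b j) := by
      rw [h]; exact mul_pos (hpos j) h0
    exact (pos_iff_pos_of_mul_pos this).mp (hpos k)

section Facet

lemma coroot'_neg (k : ι) (x : M) :
    P.coroot' (P.reflectionPerm k k) x = -P.coroot' k x := by
  change P.toLinearMap x (P.coroot (P.reflectionPerm k k)) = -P.toLinearMap x (P.coroot k)
  rw [P.coroot_reflectionPerm, P.coreflection_apply_self, map_neg]

lemma sgnVec_neg (k : ι) (x : M) :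
    sgnVec P x (P.reflectionPerm k k) = -sgnVec P x k := by
  unfold sgnVec
  rw [coroot'_neg, Left.sign_neg]

lemma Facet.sgn_neg (F : Facet P) (k : ι) : F.sgn (P.reflectionPerm k k) = -F.sgn k := by
  obtain ⟨ξ, hξ⟩ := F.exists_sgnVec_eq
  rw [← hξ, sgnVec_neg]

/-- S14234 -/
theorem corners_eq_parab (F : Facet P) :
    F.corners = {m : M | m ∈ fundWeights P ∧
      ∀ y : N, Corr P m y → ∀ i ∈ F.parab, 0 ≤ P.root' i y} := by
  ext m
  constructor
  · rintro ⟨hm, hcl⟩
    refine ⟨hm, ?_⟩
    rintro y ⟨b, j, rfl, rfl⟩ k hk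
    rw [← nonneg_iff]
    rcases hcl k with h | h
    · have : P.coroot' k (fundWeight b j) = 0 := sign_eq_zero_iff.mp h
      rw [this]
    · have hk' : F.sgn k ≠ -1 := hk
      rw [← h] at hk'
      unfold sgnVec at hk'
      by_contra hneg
      push Not at hneg
      exact hk' (sign_eq_neg_one_iff.mpr hneg)
  · rintro ⟨hm, hy⟩
    refine ⟨hm, ?_⟩
    obtain ⟨b, j, rfl⟩ := hm
    have hnn : ∀ k ∈ F.parab, 0 ≤ P.coroot' k (fundWeight b j) := fun k hk =>
      (nonneg_iff b j k).mpr (hy _ ⟨b, j, rfl, rfl⟩ k hk)
    intro k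
    have hcases : F.sgn k = 0 ∨ F.sgn k = 1 ∨ F.sgn k = -1 := by
      cases F.sgn k <;> simp
    unfold sgnVec
    rcases hcases with h0 | h1 | h1
    · left
      rw [sign_eq_zero_iff]
      have hk : k ∈ F.parab := by change F.sgn k ≠ -1; rw [h0]; decide
      have hk' : P.reflectionPerm k k ∈ F.parab := by
        change F.sgn _ ≠ -1; rw [Facet.sgn_neg, h0]; decide
      have h1 := hnn k hk
      have h2 := hnn _ hk'
      rw [coroot'_neg] at h2
      linarith
    · have hk : k ∈ F.parab := by change F.sgn k ≠ -1; rw [h1]; decide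
      have h1' := hnn k hk
      rcases h1'.lt_or_eq with h | h
      · right; rw [h1]; exact sign_eq_one_iff.mpr h
      · left; rw [← h]; exact sign_zero
    · have hk' : P.reflectionPerm k k ∈ F.parab := by
        change F.sgn _ ≠ -1; rw [Facet.sgn_neg, h1]; decide
      have h2 := hnn _ hk'
      rw [coroot'_neg] at h2
      have h3 : P.coroot' k (fundWeight b j) ≤ 0 := by linarith
      rcases h3.lt_or_eq with h | h
      · right; rw [h1]; exact sign_eq_neg_one_iff.mpr h
      · left; rw [h]; exact sign_zero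

end Facet

end Groth.Agent.H2.RootChC
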