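import Groth.Agent.Lib.Helper2.RootChC

/-!
# Root systems: chambers, existence of adjacent chambers, corners of facets (helper2)
-/

set_option autoImplicit false
set_option linter.unusedSectionVars false
namespace Groth.Agent.H2.RootChD
open RootCh Module Groth.Agent.H2.RootChA Groth.Agent.H2.RootChB Groth.Agent.H2.RootChC

universe u v w x
variable {ι : Type u} {R : Type v} {M : Type w} {N : Type x}
  [Field R] [LinearOrder R] [IsStrictOrderedRing R]
  [AddCommGroup M] [Module R M] [AddCommGroup N] [Module R N]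
  {P : RootPairing ι R M N} [P.IsRootSystem] [Finite ι] [P.IsCrystallographic] [P.IsReduced]

/-- a regular vector lies in the open chamber of some base -/
theorem exists_base_openChamber (ξ : M) (hξ : ∀ i, P.coroot' i ξ ≠ 0) :
    ∃ b : P.Base, ξ ∈ openChamber b := by
  let f : Dual R N := P.toLinearMap ξ
  have hf : ∀ i, f (P.flip.root i) ≠ 0 := hξ
  let _ := P.flip.indexNeg
  have hli := P.flip.linearIndepOn_root_baseOf' (S := R) f hf
  have hsp : ∀ i, P.flip.root i ∈ AddSubmonoid.closure (P.flip.root ''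
        IsAddIndecomposable.baseOf P.flip.root (f : N →+ R)) ∨
      -P.flip.root i ∈ AddSubmonoid.closure (P.flip.root ''
        IsAddIndecomposable.baseOf P.flip.root (f : N →+ R)) := fun i =>
    IsAddIndecomposable.mem_or_neg_mem_closure_baseOf P.flip.root (f : N →+ R) i (hf i) (by simp)
  let b' : P.flip.Base := RootPairing.Base.mk' P.flip _ hli hsp
  refine ⟨b'.flip, ?_⟩
  intro i hi
  have hi' : i ∈ IsAddIndecomposable.baseOf P.flip.root (f : N →+ R) := by
    simpa [b', RootPairing.Base.mk'] using hi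
  exact IsAddIndecomposable.baseOf_subset_pos _ _ hi'

/-- there is a regular vector -/
lemma exists_regular : ∃ ξ₀ : M, ∀ i, P.coroot' i ξ₀ ≠ 0 := by
  have : Infinite R := Infinite.of_injective (fun n : ℕ => (n : R)) Nat.cast_injective
  refine Module.Dual.exists_forall_ne_zero_of_forall_exists (fun i => P.coroot' i) fun i => ?_
  refine ⟨P.root i, ?_⟩
  change P.toLinearMap (P.root i) (P.coroot i) ≠ 0
  rw [P.root_coroot_two]
  exact two_ne_zero

lemma exists_pos_lt_all {α : Type*} [Finite α] (e : α → R) (he : ∀ i, 0 < e i) :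
    ∃ ε : R, 0 < ε ∧ ∀ i, ε < e i := by
  rcases isEmpty_or_nonempty α with h | h
  · exact ⟨1, one_pos, fun i => (h.false i).elim⟩
  · obtain ⟨i0, hi0⟩ := Finite.exists_min e
    refine ⟨e i0 / 2, half_pos (he i0), fun i => ?_⟩
    exact lt_of_lt_of_le (half_lt_self (he i0)) (hi0 i)

/-- every vector lies in the closed chamber of some base -/
theorem exists_base_closedChamber (ξ : M) : ∃ b : P.Base, ξ ∈ closedChamber b := by
  obtain ⟨ξ₀, hξ₀⟩ := exists_regular (P := P)
  let a : ι → R := fun i => P.coroot' i ξ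
  let c : ι → R := fun i => P.coroot' i ξ₀
  let e : ι → R := fun i => if a i = 0 then 1 else |a i| / |c i|
  have he : ∀ i, 0 < e i := by
    intro i
    simp only [e]
    split_ifs with h
    · exact one_pos
    · exact div_pos (abs_pos.mpr h) (abs_pos.mpr (hξ₀ i))
  obtain ⟨ε, hε, hεe⟩ := exists_pos_lt_all e he
  have hkey : ∀ i, a i ≠ 0 → ε * |c i| < |a i| := by
    intro i hi
    have := hεe i
    simp only [e, if_neg hi] at this
    rwa [lt_div_iff₀ (abs_pos.mpr (hξ₀ i))] at this
  have hreg : ∀ i, P.coroot' i (ξ + ε • ξ₀) ≠ 0 := by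
    intro i
    rw [map_add, map_smul, smul_eq_mul]
    change a i + ε * c i ≠ 0
    by_cases hi : a i = 0
    · rw [hi, zero_add]
      exact mul_ne_zero hε.ne' (hξ₀ i)
    · intro h0
      have h1 : a i = -(ε * c i) := by linarith
      have h2 : |a i| = ε * |c i| := by
        rw [h1, abs_neg, abs_mul, abs_of_pos hε]
      have := hkey i hi
      rw [h2] at this
      exact lt_irrefl _ this
  obtain ⟨b, hb⟩ := exists_base_openChamber (ξ + ε • ξ₀) hreg
  refine ⟨b, fun j hj => ?_⟩
  by_contra hneg
  push Not at hneg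
  have hj0 : a j ≠ 0 := ne_of_lt hneg
  have h1 := hb j hj
  rw [map_add, map_smul, smul_eq_mul] at h1
  change 0 < a j + ε * c j at h1
  have h2 := hkey j hj0
  have h3 : |a j| = -a j := abs_of_neg hneg
  have h4 : ε * c j ≤ ε * |c j| := mul_le_mul_of_nonneg_left (le_abs_self _) hε.le
  linarith

/-- every facet is adjacent to some chamber -/
theorem Facet.exists_mem_cham (F : Facet P) : ∃ b : P.Base, b ∈ F.cham := by
  obtain ⟨ξ, hξ⟩ := F.exists_sgnVec_eq
  obtain ⟨b, hb⟩ := exists_base_closedChamber (P := P) ξ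
  refine ⟨b, fun ξ' hξ' j hj => ?_⟩
  have h1 : sgnVec P ξ' j = sgnVec P ξ j := by
    rw [hξ]; exact congr_fun hξ' j
  have h2 := hb j hj
  unfold sgnVec at h1
  by_contra hneg
  push Not at hneg
  rw [sign_eq_neg_one_iff.mpr hneg] at h1
  have := sign_eq_neg_one_iff.mp h1.symm
  linarith

section Sign

/-- pairing of a vector of a closed chamber with a positive combination of simple coroots -/
lemma pos_sum_iff (b : P.Base) {ξ : M} (hξ : ξ ∈ closedChamber b) (f : b.support → ℕ) :
    0 ≤ ∑ j : b.support, (f j : R) * P.coroot' j ξ ∧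
    (0 < ∑ j : b.support, (f j : R) * P.coroot' j ξ ↔ ∃ j : b.support, 0 < f j ∧ 0 < P.coroot' j ξ) := by
  have hnn : ∀ j ∈ (Finset.univ : Finset b.support), 0 ≤ (f j : R) * P.coroot' j ξ := fun j _ =>
    mul_nonneg (Nat.cast_nonneg _) (hξ j j.2)
  refine ⟨Finset.sum_nonneg hnn, ?_⟩
  rw [Finset.sum_pos_iff_of_nonneg hnn]
  constructor
  · rintro ⟨j, -, hj⟩
    have h1 : (f j : R) ≠ 0 := left_ne_zero_of_mul hj.ne'
    have h2 : P.coroot' j ξ ≠ 0 := right_ne_zero_of_mul hj.ne'
    refine ⟨j, ?_, lt_of_le_of_ne (hξ j j.2) (Ne.symm h2)⟩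
    rcases Nat.eq_zero_or_pos (f j) with h | h
    · rw [h, Nat.cast_zero] at h1; exact absurd rfl h1
    · exact h
  · rintro ⟨j, hj1, hj2⟩
    exact ⟨j, Finset.mem_univ j, mul_pos (by exact_mod_cast hj1) hj2⟩

/-- the sign vector of a vector in a closed chamber is determined by its signs on simple coroots -/
theorem sgnVec_eq_of_simple (b : P.Base) {ξ ξ' : M} (hξ : ξ ∈ closedChamber b)
    (hξ' : ξ' ∈ closedChamber b)
    (h : ∀ j : b.support, (0 < P.coroot' j ξ ↔ 0 < P.coroot' j ξ')) :
    sgnVec P ξ = sgnVec P ξ' := by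
  funext k
  unfold sgnVec
  obtain ⟨f, hf⟩ := exists_coroot_eq_sum_nat b k
  have h1 := pos_sum_iff b hξ f
  have h2 := pos_sum_iff b hξ' f
  have hiff : (0 < ∑ j : b.support, (f j : R) * P.coroot' j ξ) ↔
      (0 < ∑ j : b.support, (f j : R) * P.coroot' j ξ') := by
    rw [h1.2, h2.2]
    constructor
    · rintro ⟨j, hj1, hj2⟩; exact ⟨j, hj1, (h j).mp hj2⟩
    · rintro ⟨j, hj1, hj2⟩; exact ⟨j, hj1, (h j).mpr hj2⟩
  have hsign : SignType.sign (∑ j : b.support, (f j : R) * P.coroot' j ξ) =
      SignType.sign (∑ j : b.support, (f j : R) * P.coroot' j ξ') := by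
    by_cases hp : 0 < ∑ j : b.support, (f j : R) * P.coroot' j ξ
    · rw [sign_eq_one_iff.mpr hp, sign_eq_one_iff.mpr (hiff.mp hp)]
    · have e1 : ∑ j : b.support, (f j : R) * P.coroot' j ξ = 0 := le_antisymm (not_lt.mp hp) h1.1
      have e2 : ∑ j : b.support, (f j : R) * P.coroot' j ξ' = 0 :=
        le_antisymm (not_lt.mp (fun h => hp (hiff.mpr h))) h2.1
      rw [e1, e2]
  rcases hf with hf | hf
  · have e : ∀ x : M, P.coroot' k x = ∑ j : b.support, (f j : R) * P.coroot' j x := fun x => by
      change P.toLinearMap x (P.coroot k) = _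
      rw [hf, coroot'_sum]
    rw [e, e, hsign]
  · have e : ∀ x : M, P.coroot' k x = -∑ j : b.support, (f j : R) * P.coroot' j x := fun x => by
      change P.toLinearMap x (P.coroot k) = _
      rw [hf, map_neg, coroot'_sum]
    rw [e, e, Left.sign_neg, Left.sign_neg, hsign]

end Sign

section Corners

/-- a vector of the carrier of a facet adjacent to `b` -/
lemma Facet.sign_simple (F : Facet P) {b : P.Base} (hb : b ∈ F.cham) (j : b.support) :
    F.sgn j = 0 ∨ F.sgn j = 1 := by
  obtain ⟨ξ, hξ⟩ := F.exists_sgnVec_eq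
  have h := hb hξ j j.2
  rw [← hξ]
  unfold sgnVec
  rcases h.lt_or_eq with h | h
  · right; exact sign_eq_one_iff.mpr h
  · left; rw [← h]; exact sign_zero

/-- S14228/S14230 etc.: the corners of a facet adjacent to `b` are the fundamental weights of `b`
attached to the simple coroots positive on the facet -/
theorem Facet.corners_eq (F : Facet P) {b : P.Base} (hb : b ∈ F.cham) :
    F.corners = (fun j : b.support => fundWeight b j) '' {j | F.sgn j = 1} := by
  obtain ⟨ξ, hξ⟩ := F.exists_sgnVec_eq
  have hξb : ξ ∈ closedChamber b := hb hξ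
  have hsgn : ∀ k, F.sgn k = SignType.sign (P.coroot' k ξ) := fun k => (congr_fun hξ k).symm
  ext m
  constructor
  · rintro ⟨hm, hcl⟩
    have hmb : m ∈ closedChamber b := by
      intro j hj
      rcases hcl j with h | h
      · exact (sign_eq_zero_iff.mp h).ge
      · rcases Facet.sign_simple F hb ⟨j, hj⟩ with h0 | h1
        · simp only at h0
          rw [h0] at h
          exact (sign_eq_zero_iff.mp h).ge
        · simp only at h1
          rw [h1] at h
          exact (sign_eq_one_iff.mp h).le
    have : m ∈ baseCorners b := ⟨hm, hmb⟩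
    rw [baseCorners_eq] at this
    obtain ⟨j, rfl⟩ := this
    refine ⟨j, ?_, rfl⟩
    rcases hcl j with h | h
    · exfalso
      have := sign_eq_zero_iff.mp h
      rw [coroot'_fundWeight_self] at this
      exact one_ne_zero this
    · change F.sgn j = 1
      rw [← h]
      unfold sgnVec
      rw [coroot'_fundWeight_self]
      exact sign_one
  · rintro ⟨j, hj, rfl⟩
    refine ⟨⟨b, j, rfl⟩, fun k => ?_⟩
    have hj' : 0 < P.coroot' j ξ := by
      have : F.sgn j = 1 := hj
      rw [hsgn] at this
      exact sign_eq_one_iff.mp this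
    obtain ⟨f, hf⟩ := exists_coroot_eq_sum_nat b k
    unfold sgnVec
    rw [hsgn]
    rcases hf with hf | hf
    · have e1 : P.coroot' k (fundWeight b j) = (f j : R) := by
        change P.toLinearMap (fundWeight b j) (P.coroot k) = _
        rw [hf, fundWeight_sum_coroot]
      have e2 : P.coroot' k ξ = ∑ i : b.support, (f i : R) * P.coroot' i ξ := by
        change P.toLinearMap ξ (P.coroot k) = _
        rw [hf, coroot'_sum]
      rw [e1, e2]
      by_cases hfj : f j = 0
      · left; rw [hfj, Nat.cast_zero, sign_zero]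
      · right
        have hfpos : 0 < f j := Nat.pos_of_ne_zero hfj
        have hfR : (0 : R) < (f j : R) := by exact_mod_cast hfpos
        have hS : 0 < ∑ i : b.support, (f i : R) * P.coroot' i ξ :=
          (pos_sum_iff b hξb f).2.mpr ⟨j, hfpos, hj'⟩
        rw [sign_eq_one_iff.mpr hfR, sign_eq_one_iff.mpr hS]
    · have e1 : P.coroot' k (fundWeight b j) = -(f j : R) := by
        change P.toLinearMap (fundWeight b j) (P.coroot k) = _
        rw [hf, map_neg, fundWeight_sum_coroot]
      have e2 : P.coroot' k ξ = -∑ i : b.support, (f i : R) * P.coroot' i ξ := by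
        change P.toLinearMap ξ (P.coroot k) = _
        rw [hf, map_neg, coroot'_sum]
      rw [e1, e2]
      by_cases hfj : f j = 0
      · left; rw [hfj, Nat.cast_zero, neg_zero, sign_zero]
      · right
        have hfpos : 0 < f j := Nat.pos_of_ne_zero hfj
        have hfR : (0 : R) < (f j : R) := by exact_mod_cast hfpos
        have hS : 0 < ∑ i : b.support, (f i : R) * P.coroot' i ξ :=
          (pos_sum_iff b hξb f).2.mpr ⟨j, hfpos, hj'⟩
        rw [Left.sign_neg, Left.sign_neg, sign_eq_one_iff.mpr hfR, sign_eq_one_iff.mpr hS]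

end Corners

end Groth.Agent.H2.RootChD
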