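import Groth.Agent.Lib.Helper2.RootChD

/-!
# Root systems: facets as positive spans of their corners (helper2) — S14228–S14233
-/

set_option autoImplicit false
set_option linter.unusedSectionVars false
namespace Groth.Agent.H2.RootChE
open RootCh Module Groth.Agent.H2.RootChA Groth.Agent.H2.RootChB Groth.Agent.H2.RootChC
  Groth.Agent.H2.RootChD

universe u v w x
variable {ι : Type u} {R : Type v} {M : Type w} {N : Type x}
  [Field R] [LinearOrder R] [IsStrictOrderedRing R]
  [AddCommGroup M] [Module R M] [AddCommGroup N] [Module R N]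
  {P : RootPairing ι R M N} [P.IsRootSystem] [Finite ι] [P.IsCrystallographic] [P.IsReduced]

/-- S14228 -/
theorem linearIndepOn_corners (F : Facet P) : LinearIndepOn R (fun m : M => m) F.corners := by
  obtain ⟨b, hb⟩ := Facet.exists_mem_cham F
  rw [Facet.corners_eq F hb]
  have h := (linearIndependent_fundWeight b).linearIndepOn_id
  exact h.mono (Set.image_subset_range _ _)

/-- pairing of simple coroots with a positive combination of corners -/
lemma coroot'_finsupp_sum (F : Facet P) {b : P.Base} (hb : b ∈ F.cham) (c : M →₀ R)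
    (hc : (c.support : Set M) ⊆ F.corners) (j : b.support) :
    P.coroot' j (c.sum fun m r => r • m) = c (fundWeight b j) := by
  classical
  rw [Finsupp.sum, map_sum]
  rw [Facet.corners_eq F hb] at hc
  rw [Finset.sum_eq_single (fundWeight b j)]
  · rw [map_smul, coroot'_fundWeight_self, smul_eq_mul, mul_one]
  · intro m hm hne
    obtain ⟨i, -, rfl⟩ := hc hm
    have hij : j ≠ i := fun h => hne (by rw [h])
    rw [map_smul, coroot'_fundWeight_of_ne b i j hij, smul_zero]
  · intro h
    rw [Finsupp.notMem_support_iff.mp h, zero_smul, map_zero]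

/-- S14230 -/
theorem carrier_eq (F : Facet P) :
    F.carrier = {ξ : M | ∃ c : M →₀ R, (c.support : Set M) ⊆ F.corners ∧
      (∀ m ∈ F.corners, 0 < c m) ∧ c.sum (fun m r => r • m) = ξ} := by
  classical
  obtain ⟨b, hb⟩ := Facet.exists_mem_cham F
  have hcorn := Facet.corners_eq F hb
  ext ξ
  constructor
  · intro hξ
    have hξ' : sgnVec P ξ = F.sgn := hξ
    let a : b.support → R := fun j => P.coroot' j ξ
    have ha : ∀ j : b.support, SignType.sign (a j) = F.sgn j := fun j => congr_fun hξ' j
    let c0 : b.support →₀ R := Finsupp.equivFunOnFinite.symm a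
    let c : M →₀ R := Finsupp.mapDomain (fun j : b.support => fundWeight b j) c0
    have hinj := fundWeight_injective b
    have hcapp : ∀ j : b.support, c (fundWeight b j) = a j := fun j => by
      change Finsupp.mapDomain (fun j : b.support => fundWeight b j) c0
        ((fun j : b.support => fundWeight b j) j) = a j
      rw [Finsupp.mapDomain_apply hinj]
      rfl
    refine ⟨c, ?_, ?_, ?_⟩
    · intro m hm
      have := Finsupp.mapDomain_support hm
      rw [Finset.mem_image] at this
      obtain ⟨j, hj, rfl⟩ := this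
      rw [hcorn]
      refine ⟨j, ?_, rfl⟩
      have hj' : a j ≠ 0 := by
        have := Finsupp.mem_support_iff.mp hj
        exact this
      change F.sgn j = 1
      rcases Facet.sign_simple F hb j with h0 | h1
      · exfalso
        rw [← ha j] at h0
        exact hj' (sign_eq_zero_iff.mp h0)
      · exact h1
    · intro m hm
      rw [hcorn] at hm
      obtain ⟨j, hj, rfl⟩ := hm
      rw [hcapp]
      have : F.sgn j = 1 := hj
      rw [← ha j] at this
      exact sign_eq_one_iff.mp this
    · change (Finsupp.mapDomain (fun j : b.support => fundWeight b j) c0).sum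
        (fun (m : M) (r : R) => r • m) = ξ
      rw [Finsupp.sum_mapDomain_index (h := fun (m : M) (r : R) => r • m)
        (fun m => zero_smul R m) (fun m r₁ r₂ => add_smul r₁ r₂ m)]
      rw [Finsupp.sum_fintype c0 (fun (j : b.support) (r : R) => r • fundWeight b j)
        (fun j => zero_smul R _)]
      exact (eq_sum_fundWeight b ξ).symm
  · rintro ⟨c, hc, hpos, rfl⟩
    obtain ⟨ξF, hξF⟩ := F.exists_sgnVec_eq
    have hξFb : ξF ∈ closedChamber b := hb hξF
    change sgnVec P _ = F.sgn
    rw [← hξF]
    have hval : ∀ j : b.support, P.coroot' j (c.sum fun m r => r • m) = c (fundWeight b j) :=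
      fun j => coroot'_finsupp_sum F hb c hc j
    have hsimple : ∀ j : b.support, (0 < c (fundWeight b j) ↔ 0 < P.coroot' j ξF) := by
      intro j
      have hs : F.sgn j = SignType.sign (P.coroot' j ξF) := (congr_fun hξF j).symm
      constructor
      · intro h
        have hmem : fundWeight b j ∈ F.corners := hc (Finsupp.mem_support_iff.mpr h.ne')
        rw [hcorn] at hmem
        obtain ⟨i, hi, hij⟩ := hmem
        have : i = j := fundWeight_injective b hij
        subst this
        have : F.sgn i = 1 := hi
        rw [hs] at this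
        exact sign_eq_one_iff.mp this
      · intro h
        apply hpos
        rw [hcorn]
        refine ⟨j, ?_, rfl⟩
        change F.sgn j = 1
        rw [hs]; exact sign_eq_one_iff.mpr h
    apply sgnVec_eq_of_simple b _ hξFb
    · intro j; rw [hval]; exact hsimple j
    · intro j hj
      rw [hval ⟨j, hj⟩]
      by_cases h : fundWeight b ⟨j, hj⟩ ∈ F.corners
      · exact (hpos _ h).le
      · have : fundWeight b ⟨j, hj⟩ ∉ c.support := fun h' => h (hc h')
        rw [Finsupp.notMem_support_iff.mp this]

/-- S14229 -/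
theorem span_carrier_eq (F : Facet P) :
    Submodule.span R F.carrier = Submodule.span R F.corners := by
  classical
  apply le_antisymm
  · rw [Submodule.span_le]
    intro ξ hξ
    rw [carrier_eq] at hξ
    obtain ⟨c, hc, -, rfl⟩ := hξ
    refine Submodule.sum_mem _ fun m hm => ?_
    exact Submodule.smul_mem _ _ (Submodule.subset_span (hc hm))
  · rw [Submodule.span_le]
    intro m hm
    obtain ⟨ξ, hξ⟩ := F.exists_sgnVec_eq
    have hξc : ξ ∈ F.carrier := hξ
    have hξ2 := hξc
    rw [carrier_eq] at hξ2
    obtain ⟨c, hc, hpos, hsum⟩ := hξ2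
    have hξm : ξ + m ∈ F.carrier := by
      rw [carrier_eq]
      refine ⟨c + Finsupp.single m 1, ?_, ?_, ?_⟩
      · intro m' hm'
        have := Finsupp.support_add hm'
        rw [Finset.mem_union] at this
        rcases this with h | h
        · exact hc h
        · have := Finsupp.support_single_subset h
          rw [Finset.mem_singleton] at this
          rw [this]; exact hm
      · intro m' hm'
        rw [Finsupp.add_apply]
        have h1 := hpos m' hm'
        have h2 : 0 ≤ (Finsupp.single m (1 : R)) m' := by
          rw [Finsupp.single_apply]; split_ifs <;> norm_num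
        linarith
      · rw [Finsupp.sum_add_index' (h := fun (m : M) (r : R) => r • m)
          (fun m => zero_smul R m) (fun m r₁ r₂ => add_smul r₁ r₂ m), hsum,
          Finsupp.sum_single_index (h := fun (m : M) (r : R) => r • m) (zero_smul R m), one_smul]
    have : m = (ξ + m) - ξ := by abel
    rw [this]
    exact Submodule.sub_mem _ (Submodule.subset_span hξm) (Submodule.subset_span hξc)

/-- full sign agreement between a fundamental weight against a coroot and the corresponding
fundamental coweight against the root -/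
lemma sign_eq (b : P.Base) (j : b.support) (k : ι) :
    SignType.sign (P.coroot' k (fundWeight b j)) = SignType.sign (P.root' k (fundCoweight b j)) := by
  have h1 := nonneg_iff b j k
  have h2 := pos_iff b j k
  by_cases hp : 0 < P.coroot' k (fundWeight b j)
  · rw [sign_eq_one_iff.mpr hp, sign_eq_one_iff.mpr (h2.mp hp)]
  · by_cases hn : 0 ≤ P.coroot' k (fundWeight b j)
    · have e1 : P.coroot' k (fundWeight b j) = 0 := le_antisymm (not_lt.mp hp) hn
      have e2 : P.root' k (fundCoweight b j) = 0 :=
        le_antisymm (not_lt.mp fun h => hp (h2.mpr h)) (h1.mp hn)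
      rw [e1, e2]
    · have e1 : P.coroot' k (fundWeight b j) < 0 := not_le.mp hn
      have e2 : P.root' k (fundCoweight b j) < 0 := not_le.mp fun h => hn (h1.mpr h)
      rw [sign_eq_neg_one_iff.mpr e1, sign_eq_neg_one_iff.mpr e2]

/-- S14231 -/
theorem dualCorners_eq (F : Facet P) :
    F.dualCorners = {y : N | ∃ m ∈ F.corners, Corr P m y} := by
  ext y
  constructor
  · rintro ⟨⟨b'', i, rfl⟩, hcl⟩
    let b' : P.Base := b''.flip
    refine ⟨fundWeight b' i, ⟨⟨b', i, rfl⟩, fun k => ?_⟩, ⟨b', i, rfl, rfl⟩⟩
    have := hcl k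
    unfold cosgnVec at this
    unfold sgnVec
    rw [sign_eq b' i k]
    exact this
  · rintro ⟨m, ⟨-, hcl⟩, ⟨b', i, rfl, rfl⟩⟩
    refine ⟨⟨b'.flip, i, rfl⟩, fun k => ?_⟩
    have := hcl k
    unfold sgnVec at this
    unfold cosgnVec
    rw [← sign_eq b' i k]
    exact this

/-- a base whose closed chamber contains `ξ` is adjacent to the facet of `ξ` -/
lemma mem_cham_ofVec {b : P.Base} {ξ : M} (hξ : ξ ∈ closedChamber b) :
    b ∈ (Facet.ofVec P ξ).cham := by
  intro ξ' hξ' j hj
  have h1 : sgnVec P ξ' j = sgnVec P ξ j := congr_fun hξ' j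
  have h2 := hξ j hj
  unfold sgnVec at h1
  by_contra hneg
  push Not at hneg
  rw [sign_eq_neg_one_iff.mpr hneg] at h1
  have := sign_eq_neg_one_iff.mp h1.symm
  linarith

/-- S14232 -/
theorem exists_insert_corner (F : Facet P) (m : M) (hm : m ∈ F.corners') :
    ∃ G : Facet P, G.corners = insert m F.corners := by
  classical
  simp only [Facet.corners', Set.mem_iUnion] at hm
  obtain ⟨b, hb, hmb⟩ := hm
  rw [baseCorners_eq] at hmb
  obtain ⟨j1, rfl⟩ := hmb
  obtain ⟨ξ, hξ⟩ := F.exists_sgnVec_eq
  have hξb : ξ ∈ closedChamber b := hb hξ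
  have hval : ∀ j : b.support, P.coroot' j (ξ + fundWeight b j1) =
      P.coroot' j ξ + if j = j1 then 1 else 0 := by
    intro j
    rw [map_add]
    split_ifs with h
    · subst h; rw [coroot'_fundWeight_self]
    · rw [coroot'_fundWeight_of_ne b j1 j h]
  have hmem : ξ + fundWeight b j1 ∈ closedChamber b := by
    intro j hj
    rw [hval ⟨j, hj⟩]
    have := hξb j hj
    split_ifs <;> linarith
  refine ⟨Facet.ofVec P (ξ + fundWeight b j1), ?_⟩
  rw [Facet.corners_eq _ (mem_cham_ofVec hmem), Facet.corners_eq F hb]
  have hsgnF : ∀ j : b.support, F.sgn j = SignType.sign (P.coroot' j ξ) := fun j =>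
    (congr_fun hξ j).symm
  ext m
  simp only [Set.mem_image, Set.mem_ofPred_eq, Set.mem_insert_iff]
  constructor
  · rintro ⟨j, hj, rfl⟩
    by_cases h : j = j1
    · left; rw [h]
    · right
      refine ⟨j, ?_, rfl⟩
      change SignType.sign (P.coroot' j (ξ + fundWeight b j1)) = 1 at hj
      rw [hval, if_neg h, add_zero] at hj
      rw [hsgnF]; exact hj
  · rintro (rfl | ⟨j, hj, rfl⟩)
    · refine ⟨j1, ?_, rfl⟩
      change SignType.sign (P.coroot' j1 (ξ + fundWeight b j1)) = 1
      rw [hval, if_pos rfl, sign_eq_one_iff]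
      have := hξb j1 j1.2
      linarith
    · refine ⟨j, ?_, rfl⟩
      change SignType.sign (P.coroot' j (ξ + fundWeight b j1)) = 1
      rw [hsgnF, sign_eq_one_iff] at hj
      rw [hval, sign_eq_one_iff]
      split_ifs <;> linarith

/-- S14233 -/
theorem exists_erase_corner (F : Facet P) (m : M) (hm : m ∈ F.corners) :
    ∃ G : Facet P, G.corners = F.corners \ {m} := by
  classical
  obtain ⟨b, hb⟩ := Facet.exists_mem_cham F
  have hm' := hm
  rw [Facet.corners_eq F hb] at hm'
  obtain ⟨j1, hj1, rfl⟩ := hm'
  obtain ⟨ξ, hξ⟩ := F.exists_sgnVec_eq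
  have hξb : ξ ∈ closedChamber b := hb hξ
  let ξ' : M := ξ - P.coroot' j1 ξ • fundWeight b j1
  have hval : ∀ j : b.support, P.coroot' j ξ' = if j = j1 then 0 else P.coroot' j ξ := by
    intro j
    simp only [ξ']
    rw [map_sub, map_smul, smul_eq_mul]
    split_ifs with h
    · subst h; rw [coroot'_fundWeight_self, mul_one, sub_self]
    · rw [coroot'_fundWeight_of_ne b j1 j h, mul_zero, sub_zero]
  have hmem : ξ' ∈ closedChamber b := by
    intro j hj
    rw [hval ⟨j, hj⟩]
    have := hξb j hj
    split_ifs
    · exact le_rfl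
    · exact this
  refine ⟨Facet.ofVec P ξ', ?_⟩
  rw [Facet.corners_eq _ (mem_cham_ofVec hmem), Facet.corners_eq F hb]
  have hsgnF : ∀ j : b.support, F.sgn j = SignType.sign (P.coroot' j ξ) := fun j =>
    (congr_fun hξ j).symm
  ext m
  simp only [Set.mem_image, Set.mem_ofPred_eq, Set.mem_sdiff, Set.mem_singleton_iff]
  constructor
  · rintro ⟨j, hj, rfl⟩
    change SignType.sign (P.coroot' j ξ') = 1 at hj
    rw [hval] at hj
    by_cases h : j = j1
    · rw [if_pos h, sign_zero] at hj
      exact absurd hj (by decide)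
    · rw [if_neg h] at hj
      refine ⟨⟨j, ?_, rfl⟩, fun heq => h (fundWeight_injective b heq)⟩
      rw [hsgnF]; exact hj
  · rintro ⟨⟨j, hj, rfl⟩, hne⟩
    have h : j ≠ j1 := fun h => hne (by rw [h])
    refine ⟨j, ?_, rfl⟩
    change SignType.sign (P.coroot' j ξ') = 1
    rw [hval, if_neg h, ← hsgnF]
    exact hj

end Groth.Agent.H2.RootChE
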