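import Groth.Agent.Lib.Helper2.RootChE

/-!
# Root systems: parabolic sets of roots and facets (helper2) — S14235–S14237
-/

set_option autoImplicit false
set_option linter.unusedSectionVars false
namespace Groth.Agent.H2.RootChF
open RootCh Module Groth.Agent.H2.RootChA Groth.Agent.H2.RootChB Groth.Agent.H2.RootChC
  Groth.Agent.H2.RootChD Groth.Agent.H2.RootChE

universe u v w x
variable {ι : Type u} {R : Type v} {M : Type w} {N : Type x}
  [Field R] [LinearOrder R] [IsStrictOrderedRing R]
  [AddCommGroup M] [Module R M] [AddCommGroup N] [Module R N]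
  {P : RootPairing ι R M N} [P.IsRootSystem] [Finite ι] [P.IsCrystallographic] [P.IsReduced]

lemma root_reflectionPerm' (k i : ι) :
    P.root (P.reflectionPerm k i) = P.root i - P.pairing i k • P.root k := by
  rw [P.root_reflectionPerm, P.reflection_apply_root]

/-- a closed set of roots containing `k` and `i` with `⟨α_i, α_k^∨⟩ < 0` contains `s_k α_i` -/
lemma closed_string {S : Set ι}
    (hS : ∀ i j k : ι, i ∈ S → j ∈ S → P.root k = P.root i + P.root j → k ∈ S)
    {i k : ι} (hi : i ∈ S) (hk : k ∈ S) (hn : P.pairing i k < 0) :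
    P.reflectionPerm k i ∈ S := by
  have hnZ : P.pairingIn ℤ i k < 0 := by
    have h := P.algebraMap_pairingIn ℤ i k
    rw [← h] at hn
    simpa using hn
  by_cases hik : P.root i = -P.root k
  · -- then `s_k i = k`
    have : P.reflectionPerm k i = k := by
      apply P.root.injective
      rw [root_reflectionPerm']
      have hp : P.pairing i k = -2 := by
        rw [RootPairing.pairing, RootPairing.root', hik, map_neg, LinearMap.neg_apply]
        rw [P.root_coroot_two]
      rw [hp, hik]; module
    rw [this]; exact hk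
  have hne : i ≠ k := by
    rintro rfl
    rw [P.pairing_same] at hn
    linarith [(two_pos : (0 : R) < 2)]
  have hli : LinearIndependent R ![P.root k, P.root i] :=
    RootPairing.IsReduced.linearIndependent P (Ne.symm hne) (fun h => hik (by rw [h, neg_neg]))
  -- the reflected root is `root i + (-n) • root k`
  have htop : (-P.pairingIn ℤ i k) ≤ P.chainTopCoeff k i := by
    have hmem : P.root i + (-P.pairingIn ℤ i k) • P.root k ∈ Set.range P.root := by
      refine ⟨P.reflectionPerm k i, ?_⟩
      rw [root_reflectionPerm', ← P.algebraMap_pairingIn ℤ i k]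
      simp only [algebraMap_int_eq, eq_intCast, neg_smul, Int.cast_smul_eq_zsmul]
      abel
    rw [P.root_add_zsmul_mem_range_iff hli] at hmem
    exact hmem.2
  have key : ∀ z : ℕ, (z : ℤ) ≤ -P.pairingIn ℤ i k → ∃ l ∈ S, P.root l = P.root i + z • P.root k := by
    intro z
    induction z with
    | zero => intro _; exact ⟨i, hi, by simp⟩
    | succ z ih =>
      intro hz
      obtain ⟨l, hl, hroot⟩ := ih (by push_cast at hz ⊢; omega)
      have hmem : P.root i + ((z + 1 : ℕ) : ℤ) • P.root k ∈ Set.range P.root := by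
        rw [P.root_add_zsmul_mem_range_iff hli]
        constructor
        · have : (0 : ℤ) ≤ ((z + 1 : ℕ) : ℤ) := Int.natCast_nonneg _
          have h2 : -(P.chainBotCoeff k i : ℤ) ≤ 0 := by simp
          omega
        · omega
      obtain ⟨l', hl'⟩ := hmem
      refine ⟨l', hS l k l' hl hk ?_, ?_⟩
      · rw [hl', hroot]; push_cast; rw [add_smul, one_smul, natCast_zsmul, add_assoc]
      · rw [hl', natCast_zsmul]
  obtain ⟨l, hl, hroot⟩ := key (-P.pairingIn ℤ i k).toNat (by omega)
  have : l = P.reflectionPerm k i := by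
    apply P.root.injective
    rw [hroot, root_reflectionPerm', ← P.algebraMap_pairingIn ℤ i k]
    have h1 : (((-P.pairingIn ℤ i k).toNat : ℕ) : ℤ) = -P.pairingIn ℤ i k := Int.toNat_of_nonneg (by omega)
    rw [← natCast_zsmul, h1]
    simp only [algebraMap_int_eq, eq_intCast, neg_smul, Int.cast_smul_eq_zsmul]
    abel
  rw [← this]; exact hl

lemma root_neg (k : ι) : P.root (P.reflectionPerm k k) = -P.root k := by
  rw [P.root_reflectionPerm, P.reflection_apply_self]

lemma pairing_reflectionPerm_left (k i : ι) :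
    P.pairing (P.reflectionPerm k i) k = -P.pairing i k := by
  have h : P.pairing (P.reflectionPerm k i) k =
      P.toLinearMap (P.root (P.reflectionPerm k i)) (P.coroot k) := rfl
  rw [h, root_reflectionPerm', map_sub, map_smul, LinearMap.sub_apply, LinearMap.smul_apply,
    P.root_coroot_two, P.root_coroot_eq_pairing, smul_eq_mul]
  ring

lemma reflectionPerm_neg (k i : ι) :
    P.reflectionPerm (P.reflectionPerm k k) i = P.reflectionPerm k i := by
  apply P.root.injective
  rw [root_reflectionPerm' (P.reflectionPerm k k) i, root_reflectionPerm' k i, root_neg,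
    P.pairing_reflectionPerm_self_right]
  module

/-- a parabolic set containing `±α_k` is stable under `s_k` -/
lemma parab_stable {S : Set ι}
    (hS : ∀ i j k : ι, i ∈ S → j ∈ S → P.root k = P.root i + P.root j → k ∈ S)
    {k : ι} (hk : k ∈ S) (hk' : P.reflectionPerm k k ∈ S) {i : ι} (hi : i ∈ S) :
    P.reflectionPerm k i ∈ S := by
  rcases lt_trichotomy (P.pairing i k) 0 with h | h | h
  · exact closed_string hS hi hk h
  · have : P.reflectionPerm k i = i := by
      apply P.root.injective
      rw [root_reflectionPerm', h, zero_smul, sub_zero]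
    rw [this]; exact hi
  · rw [← reflectionPerm_neg]
    apply closed_string hS hi hk'
    rw [P.pairing_reflectionPerm_self_right]
    linarith

variable (P) in
/-- pairing of the sum of the roots of `S` with the coroot `k` -/
noncomputable def pairSum (S : Set ι) (k : ι) : R :=
  ∑ i ∈ (Set.toFinite S).toFinset, P.pairing i k

lemma coroot'_sum_root (S : Set ι) (k : ι) :
    P.coroot' k (∑ i ∈ (Set.toFinite S).toFinset, P.root i) = pairSum P S k := by
  rw [map_sum]
  exact Finset.sum_congr rfl fun i _ => P.root_coroot'_eq_pairing k i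

lemma pairSum_zero {S : Set ι}
    (hS : ∀ i j k : ι, i ∈ S → j ∈ S → P.root k = P.root i + P.root j → k ∈ S)
    {k : ι} (hk : k ∈ S) (hk' : P.reflectionPerm k k ∈ S) : pairSum P S k = 0 := by
  have h : pairSum P S k = ∑ i ∈ (Set.toFinite S).toFinset, -P.pairing i k := by
    unfold pairSum
    refine Finset.sum_equiv (P.reflectionPerm k) (fun i => ?_) (fun i _ => ?_)
    · simp only [Set.Finite.mem_toFinset]
      constructor
      · exact fun hi => parab_stable hS hk hk' hi
      · intro hi
        have := parab_stable hS hk hk' hi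
        rwa [P.reflectionPerm_self] at this
    · rw [pairing_reflectionPerm_left, neg_neg]
  rw [Finset.sum_neg_distrib] at h
  have h2 : pairSum P S k = -pairSum P S k := h
  linarith

lemma pairSum_pos {S : Set ι}
    (hS : ∀ i j k : ι, i ∈ S → j ∈ S → P.root k = P.root i + P.root j → k ∈ S)
    {k : ι} (hk : k ∈ S) (hk' : P.reflectionPerm k k ∉ S) : 0 < pairSum P S k := by
  classical
  set Sf := (Set.toFinite S).toFinset with hSf
  have hmem : ∀ i, i ∈ Sf ↔ i ∈ S := fun i => Set.Finite.mem_toFinset _
  let g : ι → R := fun i => P.pairing i k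
  let A := Sf.filter fun i => g i < 0
  let B := A.image (P.reflectionPerm k)
  have hA : ∀ i ∈ A, i ∈ S ∧ g i < 0 := fun i hi => by
    rw [Finset.mem_filter, hmem] at hi; exact hi
  have hBsub : B ⊆ Sf := by
    intro j hj
    rw [Finset.mem_image] at hj
    obtain ⟨i, hi, rfl⟩ := hj
    rw [hmem]
    exact closed_string hS (hA i hi).1 hk (hA i hi).2
  have hgB : ∀ j ∈ B, 0 < g j := by
    intro j hj
    rw [Finset.mem_image] at hj
    obtain ⟨i, hi, rfl⟩ := hj
    change 0 < P.pairing (P.reflectionPerm k i) k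
    rw [pairing_reflectionPerm_left]
    have := (hA i hi).2
    change P.pairing i k < 0 at this
    linarith
  have hdisj : Disjoint A B := by
    rw [Finset.disjoint_left]
    intro i hiA hiB
    have h1 := (hA i hiA).2
    have h2 := hgB i hiB
    linarith
  have hAB : ∑ i ∈ A ∪ B, g i = 0 := by
    rw [Finset.sum_union hdisj, Finset.sum_image (fun i _ j _ h => (P.reflectionPerm k).injective h),
      ← Finset.sum_add_distrib]
    refine Finset.sum_eq_zero fun i _ => ?_
    change P.pairing i k + P.pairing (P.reflectionPerm k i) k = 0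
    rw [pairing_reflectionPerm_left]; ring
  have hABsub : A ∪ B ⊆ Sf := Finset.union_subset (Finset.filter_subset _ _) hBsub
  have hsplit : ∑ i ∈ Sf, g i = ∑ i ∈ Sf \ (A ∪ B), g i + ∑ i ∈ A ∪ B, g i :=
    (Finset.sum_sdiff hABsub).symm
  have hkC : k ∈ Sf \ (A ∪ B) := by
    rw [Finset.mem_sdiff, hmem, Finset.mem_union]
    refine ⟨hk, ?_⟩
    rintro (h | h)
    · have := (hA k h).2
      change P.pairing k k < 0 at this
      rw [P.pairing_same] at this
      linarith [(two_pos : (0 : R) < 2)]
    · rw [Finset.mem_image] at h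
      obtain ⟨i, hi, hik⟩ := h
      have : i = P.reflectionPerm k k := by
        have := congr_arg (P.reflectionPerm k) hik
        rwa [P.reflectionPerm_self] at this
      rw [this] at hi
      exact hk' (hA _ hi).1
  have hCnn : ∀ i ∈ Sf \ (A ∪ B), 0 ≤ g i := by
    intro i hi
    rw [Finset.mem_sdiff, Finset.mem_union] at hi
    by_contra hneg
    push Not at hneg
    exact hi.2 (Or.inl (Finset.mem_filter.mpr ⟨hi.1, hneg⟩))
  have hge : g k ≤ ∑ i ∈ Sf \ (A ∪ B), g i := Finset.single_le_sum hCnn hkC
  have hgk : g k = 2 := P.pairing_same k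
  change 0 < ∑ i ∈ Sf, g i
  rw [hsplit, hAB, add_zero]
  linarith [(two_pos : (0 : R) < 2)]

lemma pairSum_neg {S : Set ι} (hS : IsParabolicSubset P S) {k : ι} (hk : k ∉ S) :
    pairSum P S k < 0 := by
  have hk' : P.reflectionPerm k k ∈ S := (hS.2 k).resolve_left hk
  have hk'' : P.reflectionPerm (P.reflectionPerm k k) (P.reflectionPerm k k) ∉ S := by
    rw [reflectionPerm_neg, P.reflectionPerm_self]; exact hk
  have h := pairSum_pos hS.1 hk' hk''
  have e : pairSum P S (P.reflectionPerm k k) = -pairSum P S k := by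
    unfold pairSum
    rw [← Finset.sum_neg_distrib]
    exact Finset.sum_congr rfl fun i _ => P.pairing_reflectionPerm_self_right i k
  rw [e] at h
  linarith

/-- the parabolic set of a facet is a parabolic set of roots -/
theorem isParabolicSubset_parab (F : Facet P) : IsParabolicSubset P F.parab := by
  obtain ⟨ξ, hξ⟩ := F.exists_sgnVec_eq
  have hsgn : ∀ k, F.sgn k = SignType.sign (P.coroot' k ξ) := fun k => (congr_fun hξ k).symm
  have hmem : ∀ k, k ∈ F.parab ↔ 0 ≤ P.coroot' k ξ := by
    intro k
    change F.sgn k ≠ -1 ↔ _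
    rw [hsgn, Ne, sign_eq_neg_one_iff, not_lt]
  constructor
  · intro i j k hi hj hk
    rw [hmem] at hi hj ⊢
    obtain ⟨Φ, -, hpos, hΦ⟩ := exists_form P
    have h1 := hΦ i ξ
    have h2 := hΦ j ξ
    have h3 := hΦ k ξ
    have h3' : Φ ξ (P.root k) = Φ ξ (P.root i) + Φ ξ (P.root j) := by rw [hk, map_add]
    have h4 : Φ (P.root k) (P.root k) * P.coroot' k ξ =
        Φ (P.root i) (P.root i) * P.coroot' i ξ + Φ (P.root j) (P.root j) * P.coroot' j ξ := by
      rw [h3, h1, h2, h3']; ring
    have h5 : 0 ≤ Φ (P.root k) (P.root k) * P.coroot' k ξ := by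
      rw [h4]
      exact add_nonneg (mul_nonneg (hpos i).le hi) (mul_nonneg (hpos j).le hj)
    exact nonneg_of_mul_nonneg_right h5 (hpos k)
  · intro k
    by_cases h : k ∈ F.parab
    · exact Or.inl h
    · right
      rw [hmem] at h ⊢
      rw [coroot'_neg]
      push Not at h
      linarith

/-- the sign vector of the sum of the roots of a parabolic set -/
theorem sgnVec_sum_root {S : Set ι} (hS : IsParabolicSubset P S) (k : ι) :
    (k ∉ S → sgnVec P (∑ i ∈ (Set.toFinite S).toFinset, P.root i) k = -1) ∧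
    (k ∈ S → P.reflectionPerm k k ∈ S →
      sgnVec P (∑ i ∈ (Set.toFinite S).toFinset, P.root i) k = 0) ∧
    (k ∈ S → P.reflectionPerm k k ∉ S →
      sgnVec P (∑ i ∈ (Set.toFinite S).toFinset, P.root i) k = 1) := by
  unfold sgnVec
  rw [coroot'_sum_root]
  refine ⟨fun hk => ?_, fun hk hk' => ?_, fun hk hk' => ?_⟩
  · exact sign_eq_neg_one_iff.mpr (pairSum_neg hS hk)
  · rw [pairSum_zero hS.1 hk hk']; exact sign_zero
  · exact sign_eq_one_iff.mpr (pairSum_pos hS.1 hk hk')

/-- S14237 -/
theorem sum_root_parab_mem_carrier (F : Facet P) :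
    (∑ i ∈ (Set.toFinite F.parab).toFinset, P.root i) ∈ F.carrier := by
  change sgnVec P _ = F.sgn
  funext k
  have hS := isParabolicSubset_parab F
  obtain ⟨h1, h2, h3⟩ := sgnVec_sum_root hS k
  have hcases : F.sgn k = 0 ∨ F.sgn k = 1 ∨ F.sgn k = -1 := by
    cases F.sgn k <;> simp
  rcases hcases with h | h | h
  · rw [h]
    apply h2
    · change F.sgn k ≠ -1; rw [h]; decide
    · change F.sgn _ ≠ -1; rw [Facet.sgn_neg, h]; decide
  · rw [h]
    apply h3
    · change F.sgn k ≠ -1; rw [h]; decide
    · change ¬ (F.sgn _ ≠ -1); rw [Facet.sgn_neg, h]; decide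
  · rw [h]
    apply h1
    change ¬ (F.sgn k ≠ -1); rw [h]; decide

/-- the facet attached to a parabolic set -/
noncomputable def facetOfParab (S : Set ι) : Facet P :=
  Facet.ofVec P (∑ i ∈ (Set.toFinite S).toFinset, P.root i)

theorem parab_facetOfParab {S : Set ι} (hS : IsParabolicSubset P S) :
    (facetOfParab (P := P) S).parab = S := by
  ext k
  obtain ⟨h1, h2, h3⟩ := sgnVec_sum_root hS k
  change sgnVec P _ k ≠ -1 ↔ _
  constructor
  · intro h
    by_contra hk
    exact h (h1 hk)
  · intro hk
    by_cases hk' : P.reflectionPerm k k ∈ S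
    · rw [h2 hk hk']; decide
    · rw [h3 hk hk']; decide

/-- a facet is determined by its parabolic set -/
theorem Facet.eq_of_parab_eq {F G : Facet P} (h : F.parab = G.parab) : F = G := by
  apply Facet.ext
  funext k
  have hk : F.sgn k = -1 ↔ G.sgn k = -1 := by
    have : k ∈ F.parab ↔ k ∈ G.parab := by rw [h]
    change F.sgn k ≠ -1 ↔ G.sgn k ≠ -1 at this
    exact not_iff_not.mp this
  have hk' : F.sgn k = 1 ↔ G.sgn k = 1 := by
    have : P.reflectionPerm k k ∈ F.parab ↔ P.reflectionPerm k k ∈ G.parab := by rw [h]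
    change F.sgn _ ≠ -1 ↔ G.sgn _ ≠ -1 at this
    rw [Facet.sgn_neg, Facet.sgn_neg] at this
    have := not_iff_not.mp this
    rw [neg_eq_iff_eq_neg, neg_eq_iff_eq_neg, neg_neg] at this
    exact this
  have hF : F.sgn k = 0 ∨ F.sgn k = 1 ∨ F.sgn k = -1 := by cases F.sgn k <;> simp
  have hG : G.sgn k = 0 ∨ G.sgn k = 1 ∨ G.sgn k = -1 := by cases G.sgn k <;> simp
  rcases hF with h0 | h1 | h1
  · rcases hG with g0 | g1 | g1
    · rw [h0, g0]
    · rw [hk'.mpr g1] at h0; exact absurd h0 (by decide)
    · rw [hk.mpr g1] at h0; exact absurd h0 (by decide)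
  · rw [h1, hk'.mp h1]
  · rw [h1, hk.mp h1]

/-- S14236 -/
theorem parab_bijection :
    (∀ S : Set ι, IsParabolicSubset P S ↔ ∃! F : Facet P, F.parab = S) ∧
      ∀ F G : Facet P, F ≤ G ↔ F.parab ⊆ G.parab := by
  refine ⟨fun S => ⟨fun hS => ?_, ?_⟩, fun F G => ?_⟩
  · refine ⟨facetOfParab S, parab_facetOfParab hS, fun G hG => ?_⟩
    exact Facet.eq_of_parab_eq (hG.trans (parab_facetOfParab hS).symm)
  · rintro ⟨F, rfl, -⟩
    exact isParabolicSubset_parab F
  · rw [Facet.le_def]
    constructor
    · intro h k hk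
      change F.sgn k ≠ -1 at hk
      change G.sgn k ≠ -1
      rcases h k with h0 | h1
      · rw [h0]; decide
      · rw [h1]; exact hk
    · intro h k
      have hG : G.sgn k = 0 ∨ G.sgn k = 1 ∨ G.sgn k = -1 := by cases G.sgn k <;> simp
      rcases hG with g0 | g1 | g1
      · exact Or.inl g0
      · right
        -- `-k ∉ G.parab`, hence `-k ∉ F.parab`
        have h1 : P.reflectionPerm k k ∉ G.parab := by
          change ¬ (G.sgn _ ≠ -1); rw [Facet.sgn_neg, g1]; decide
        have h2 : P.reflectionPerm k k ∉ F.parab := fun h' => h1 (h h')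
        change ¬ (F.sgn _ ≠ -1) at h2
        rw [Facet.sgn_neg, not_not, neg_eq_iff_eq_neg, neg_neg] at h2
        rw [g1, h2]
      · right
        have h1 : k ∉ G.parab := by change ¬ (G.sgn k ≠ -1); rw [g1]; decide
        have h2 : k ∉ F.parab := fun h' => h1 (h h')
        change ¬ (F.sgn k ≠ -1) at h2
        rw [not_not] at h2
        rw [g1, h2]

/-- a facet is determined by its corners -/
theorem Facet.eq_of_corners_eq {F G : Facet P} (h : F.corners = G.corners) : F = G := by
  have hc : F.carrier = G.carrier := by rw [carrier_eq F, carrier_eq G, h]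
  obtain ⟨ξ, hξ⟩ := F.exists_sgnVec_eq
  have hξF : ξ ∈ F.carrier := hξ
  have hξG : ξ ∈ G.carrier := hc ▸ hξF
  apply Facet.ext
  rw [← hξ]; exact hξG

/-- S14235 -/
theorem exists_unique_facet_of_parabolic (S : Set ι) (hS : IsParabolicSubset P S) :
    ∃ F : Facet P,
      (F.corners = {m : M | m ∈ fundWeights P ∧ ∀ y : N, Corr P m y → ∀ i ∈ S, 0 ≤ P.root' i y} ∧
        F.parab = S) ∧
      ∀ G : Facet P,
        G.corners = {m : M | m ∈ fundWeights P ∧ ∀ y : N, Corr P m y → ∀ i ∈ S, 0 ≤ P.root' i y} →
        G = F := by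
  have hp := parab_facetOfParab hS
  have hc : (facetOfParab (P := P) S).corners =
      {m : M | m ∈ fundWeights P ∧ ∀ y : N, Corr P m y → ∀ i ∈ S, 0 ≤ P.root' i y} := by
    rw [corners_eq_parab, hp]
  refine ⟨facetOfParab S, ⟨hc, hp⟩, fun G hG => ?_⟩
  exact Facet.eq_of_corners_eq (hG.trans hc.symm)

end Groth.Agent.H2.RootChF
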