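import Groth.Agent.Lib.Helper2.RootChF
import Groth.Prelude.Def_RootCh2

/-!
# Root systems with a complementary convex solid: degrees and numerical invariants (helper2)
S14242, S14249, S14250
-/

set_option autoImplicit false
set_option linter.unusedSectionVars false
namespace Groth.Agent.H2.RootChG
open RootCh Module Groth.Agent.H2.RootChA Groth.Agent.H2.RootChB Groth.Agent.H2.RootChC
  Groth.Agent.H2.RootChD Groth.Agent.H2.RootChE Groth.Agent.H2.RootChF

universe u v w x
variable {ι : Type u} {R : Type v} {M : Type w} {N : Type x}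
  [Field R] [LinearOrder R] [IsStrictOrderedRing R]
  [AddCommGroup M] [Module R M] [AddCommGroup N] [Module R N]
  {P : RootPairing ι R M N} [P.IsRootSystem] [Finite ι] [P.IsCrystallographic] [P.IsReduced]

/-- the closure of a facet lies in the closed chamber of every adjacent base -/
lemma Facet.closure_subset_closedChamber (F : Facet P) {b : P.Base} (hb : b ∈ F.cham) :
    F.closure ⊆ closedChamber b := by
  intro m hcl j hj
  rcases hcl j with h | h
  · exact (sign_eq_zero_iff.mp h).ge
  · rcases Facet.sign_simple F hb ⟨j, hj⟩ with h0 | h1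
    · simp only at h0
      rw [h0] at h
      exact (sign_eq_zero_iff.mp h).ge
    · simp only at h1
      rw [h1] at h
      exact (sign_eq_one_iff.mp h).le

/-- corners of a facet are corners of every adjacent chamber -/
lemma Facet.corners_subset_baseCorners (F : Facet P) {b : P.Base} (hb : b ∈ F.cham) :
    F.corners ⊆ baseCorners b :=
  fun _ hm => ⟨hm.1, Facet.closure_subset_closedChamber F hb hm.2⟩

/-- (B1) extended to the span of the corners of a facet -/
lemma pairing_eq_of_mem_span_corners {d : P.Base → N} (hd : IsCCS d) (F : Facet P)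
    {b b' : P.Base} (hb : b ∈ F.cham) (hb' : b' ∈ F.cham) {x : M}
    (hx : x ∈ Submodule.span R F.corners) :
    P.toLinearMap x (d b) = P.toLinearMap x (d b') := by
  induction hx using Submodule.span_induction with
  | mem m hm =>
    exact hd.corner_eq b b' m (Facet.corners_subset_baseCorners F hb hm)
      (Facet.corners_subset_baseCorners F hb' hm)
  | zero => simp
  | add x y _ _ hx hy => rw [map_add, LinearMap.add_apply, LinearMap.add_apply, hx, hy]
  | smul r x _ hx => rw [map_smul, LinearMap.smul_apply, LinearMap.smul_apply, hx]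

/-- S14249 -/
theorem deg_eq {d : P.Base → N} (hd : IsCCS d) (F : Facet P)
    {b b' : P.Base} (hb : b ∈ F.cham) (hb' : b' ∈ F.cham) :
    F.deg d b = F.deg d b' := by
  have h : ∀ c : P.Base, F.deg d c =
      P.toLinearMap (∑ i ∈ (Set.toFinite F.parab).toFinset, P.root i) (d c) := by
    intro c
    unfold Facet.deg
    rw [map_sum, LinearMap.sum_apply]
  rw [h, h]
  apply pairing_eq_of_mem_span_corners hd F hb hb'
  rw [← span_carrier_eq]
  exact Submodule.subset_span (sum_root_parab_mem_carrier F)

/-- simple coroots outside the support of the facet kill the coweights of the corners -/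
lemma root'_eq_zero_of_corr (F : Facet P) {b : P.Base} (hb : b ∈ F.cham) (j : b.support)
    (hj : F.sgn j ≠ 1) {w : M} (hw : w ∈ F.corners) {y : N} (hy : Corr P w y) :
    P.root' j y = 0 := by
  obtain ⟨b'', i'', rfl, rfl⟩ := hy
  have h1 := sign_eq b'' i'' (j : ι)
  rw [Facet.corners_eq F hb] at hw
  obtain ⟨j', hj', hjj'⟩ := hw
  have hne : j ≠ j' := by
    rintro rfl
    exact hj hj'
  have h2 : P.coroot' j (fundWeight b'' i'') = 0 := by
    rw [← hjj']
    exact coroot'_fundWeight_of_ne b j' j hne
  rw [h2, sign_zero] at h1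
  exact sign_eq_zero_iff.mp h1.symm

lemma root'_reflectionPerm (k i : ι) (y : N) :
    P.root' (P.reflectionPerm k i) y = P.root' i y - P.pairing i k * P.root' k y := by
  change P.toLinearMap (P.root (P.reflectionPerm k i)) y = _
  rw [root_reflectionPerm', map_sub, map_smul, LinearMap.sub_apply, LinearMap.smul_apply,
    smul_eq_mul]

/-- the elementary set of roots is stable under the simple reflections outside the facet -/
lemma Psi_stable (F : Facet P) {b : P.Base} (hb : b ∈ F.cham) (j : b.support)
    (hj : F.sgn j ≠ 1) {m : M} (hm : m ∈ F.corners) {i : ι} (hi : i ∈ F.Psi m) :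
    P.reflectionPerm j i ∈ F.Psi m := by
  refine ⟨fun x hx => ?_, fun w' hw' hne x hx => ?_⟩
  · rw [root'_reflectionPerm, root'_eq_zero_of_corr F hb j hj hm hx, mul_zero, sub_zero]
    exact hi.1 x hx
  · rw [root'_reflectionPerm, root'_eq_zero_of_corr F hb j hj hw' hx, mul_zero, sub_zero]
    exact hi.2 w' hw' hne x hx

/-- S14242 -/
theorem sum_root_Psi_mem_span (F : Facet P) (m : M) (hm : m ∈ F.corners) :
    (∑ i ∈ (Set.toFinite (F.Psi m)).toFinset, P.root i) ∈ Submodule.span R F.corners := by
  obtain ⟨b, hb⟩ := Facet.exists_mem_cham F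
  set x := ∑ i ∈ (Set.toFinite (F.Psi m)).toFinset, P.root i with hx
  have hzero : ∀ j : b.support, F.sgn j ≠ 1 → P.coroot' j x = 0 := by
    intro j hj
    have h1 : P.coroot' j x = ∑ i ∈ (Set.toFinite (F.Psi m)).toFinset, P.pairing i j := by
      rw [hx, map_sum]
      exact Finset.sum_congr rfl fun i _ => P.root_coroot'_eq_pairing j i
    have h2 : ∑ i ∈ (Set.toFinite (F.Psi m)).toFinset, P.pairing i j =
        ∑ i ∈ (Set.toFinite (F.Psi m)).toFinset, -P.pairing i j := by
      refine Finset.sum_equiv (P.reflectionPerm j) (fun i => ?_) (fun i _ => ?_)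
      · simp only [Set.Finite.mem_toFinset]
        constructor
        · exact fun hi => Psi_stable F hb j hj hm hi
        · intro hi
          have := Psi_stable F hb j hj hm hi
          rwa [P.reflectionPerm_self] at this
      · rw [pairing_reflectionPerm_left, neg_neg]
    rw [Finset.sum_neg_distrib] at h2
    rw [h1]
    linarith
  rw [eq_sum_fundWeight b x]
  refine Submodule.sum_mem _ fun j _ => ?_
  by_cases hj : F.sgn j = 1
  · apply Submodule.smul_mem
    apply Submodule.subset_span
    rw [Facet.corners_eq F hb]
    exact ⟨j, hj, rfl⟩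
  · rw [hzero j hj, zero_smul]
    exact Submodule.zero_mem _

/-- S14250 -/
theorem numInv_eq {d : P.Base → N} (hd : IsCCS d) (F : Facet P) (m : M) (hm : m ∈ F.corners)
    {b b' : P.Base} (hb : b ∈ F.cham) (hb' : b' ∈ F.cham) :
    F.numInv d m b = F.numInv d m b' := by
  have h : ∀ c : P.Base, F.numInv d m c =
      P.toLinearMap (∑ i ∈ (Set.toFinite (F.Psi m)).toFinset, P.root i) (d c) := by
    intro c
    unfold Facet.numInv
    rw [map_sum, LinearMap.sum_apply]
  rw [h, h]
  exact pairing_eq_of_mem_span_corners hd F hb hb' (sum_root_Psi_mem_span F m hm)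

end Groth.Agent.H2.RootChG
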