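import Groth.Agent.Lib.Helper2.RootChG
import Groth.Agent.Lib.Helper2.Farkas

/-!
# Root systems: reflecting a base in a simple root, wall crossing for complementary convex solids,
and the description of dual solids by half-spaces (helper2) — S14238, S14241
-/

set_option autoImplicit false
set_option linter.unusedSectionVars false
namespace Groth.Agent.H2.RootChH
open RootCh Module Groth.Agent.H2.RootChA Groth.Agent.H2.RootChB Groth.Agent.H2.RootChC
  Groth.Agent.H2.RootChD Groth.Agent.H2.RootChE Groth.Agent.H2.RootChF Groth.Agent.H2.RootChG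

universe u v w x
variable {ι : Type u} {R : Type v} {M : Type w} {N : Type x}
  [Field R] [LinearOrder R] [IsStrictOrderedRing R]
  [AddCommGroup M] [Module R M] [AddCommGroup N] [Module R N]
  {P : RootPairing ι R M N} [P.IsRootSystem] [Finite ι] [P.IsCrystallographic] [P.IsReduced]

section ReflBase

lemma root_image_image (k : ι) (S : Set ι) :
    P.root '' (P.reflectionPerm k '' S) = (P.reflection k) '' (P.root '' S) := by
  rw [Set.image_image, Set.image_image]
  refine Set.image_congr fun j _ => ?_
  rw [P.root_reflectionPerm]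

lemma closure_root_image (k : ι) (S : Set ι) :
    AddSubmonoid.closure (P.root '' (P.reflectionPerm k '' S)) =
      (AddSubmonoid.closure (P.root '' S)).map ((P.reflection k : M →ₗ[R] M) : M →+ M) := by
  rw [AddMonoidHom.map_mclosure, root_image_image]
  rfl

lemma mem_closure_root_image (k : ι) (S : Set ι) (x : M) :
    x ∈ AddSubmonoid.closure (P.root '' (P.reflectionPerm k '' S)) ↔
      P.reflection k x ∈ AddSubmonoid.closure (P.root '' S) := by
  rw [closure_root_image, AddSubmonoid.mem_map]
  constructor
  · rintro ⟨y, hy, rfl⟩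
    change P.reflection k (P.reflection k y) ∈ _
    rw [P.reflection_same]
    exact hy
  · intro h
    refine ⟨P.reflection k x, h, ?_⟩
    change P.reflection k (P.reflection k x) = x
    rw [P.reflection_same]

/-- the reflection of a base in the root `k` -/
noncomputable def reflBase (b : P.Base) (k : ι) : P.Base :=
  RootPairing.Base.mk' P (P.reflectionPerm k '' (b.support : Set ι))
    (by
      apply LinearIndepOn.image_of_comp
      have h := b.linearIndepOn_root.map' ((P.reflection k : M ≃ₗ[R] M) : M →ₗ[R] M)
        (LinearMap.ker_eq_bot.mpr (P.reflection k).injective)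
      have e : P.root ∘ (P.reflectionPerm k) = ⇑((P.reflection k : M ≃ₗ[R] M) : M →ₗ[R] M) ∘ P.root := by
        funext j
        simp only [Function.comp_apply]
        rw [P.root_reflectionPerm]; rfl
      rw [e]
      exact h)
    (by
      intro i
      rw [mem_closure_root_image, mem_closure_root_image, map_neg, ← P.root_reflectionPerm]
      exact b.root_mem_or_neg_mem _)

lemma mem_reflBase_support (b : P.Base) (k j : ι) :
    j ∈ (reflBase b k).support ↔ P.reflectionPerm k j ∈ b.support := by
  unfold reflBase RootPairing.Base.mk'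
  simp only [Set.Finite.mem_toFinset, Set.mem_image, Finset.mem_coe]
  constructor
  · rintro ⟨i, hi, rfl⟩
    rwa [P.reflectionPerm_self]
  · intro h
    exact ⟨_, h, P.reflectionPerm_self k j⟩

lemma coe_reflBase_support (b : P.Base) (k : ι) :
    ((reflBase b k).support : Set ι) = P.reflectionPerm k '' (b.support : Set ι) := by
  ext j
  rw [Finset.mem_coe, mem_reflBase_support]
  constructor
  · intro h
    exact ⟨_, h, P.reflectionPerm_self k j⟩
  · rintro ⟨i, hi, rfl⟩
    rwa [P.reflectionPerm_self]

end ReflBase

section Pos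

/-- the sum of the fundamental coweights: pairing with it is the height -/
noncomputable def rhoCo (b : P.Base) : N := ∑ j : b.support, fundCoweight b j

lemma root'_rhoCo (b : P.Base) (j : b.support) : P.root' j (rhoCo b) = 1 := by
  have := root'_sum_fundCoweight b (fun _ => (1 : R)) j
  simp only [one_smul] at this
  exact this

lemma height_eq (b : P.Base) (i : ι) : (b.height i : R) = P.root' i (rhoCo b) := by
  obtain ⟨f, -, -, hf2⟩ := b.exists_root_eq_sum_int i
  have e : P.root' i (rhoCo b) = P.toLinearMap (P.root i) (rhoCo b) := rfl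
  rw [e, hf2, map_sum, LinearMap.sum_apply, RootPairing.Base.height_eq_sum hf2, Int.cast_sum]
  refine Finset.sum_congr rfl fun j hj => ?_
  rw [map_zsmul, LinearMap.smul_apply]
  have : P.toLinearMap (P.root j) (rhoCo b) = 1 := root'_rhoCo b ⟨j, hj⟩
  rw [this, zsmul_eq_mul, mul_one]

lemma isPos_iff_pos (b : P.Base) (i : ι) : b.IsPos i ↔ 0 < P.root' i (rhoCo b) := by
  rw [RootPairing.Base.isPos_iff, ← height_eq, Int.cast_pos]

lemma nonneg_of_mem_closure (b : P.Base) {x : M}
    (hx : x ∈ AddSubmonoid.closure (P.root '' (b.support : Set ι))) :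
    0 ≤ P.toLinearMap x (rhoCo b) := by
  induction hx using AddSubmonoid.closure_induction with
  | mem x hx =>
    obtain ⟨j, hj, rfl⟩ := hx
    have : P.toLinearMap (P.root j) (rhoCo b) = 1 := root'_rhoCo b ⟨j, hj⟩
    rw [this]; exact zero_le_one
  | zero => simp
  | add x y _ _ hx hy =>
    rw [map_add, LinearMap.add_apply]; exact add_nonneg hx hy

lemma isPos_iff_mem_closure (b : P.Base) (i : ι) :
    b.IsPos i ↔ P.root i ∈ AddSubmonoid.closure (P.root '' (b.support : Set ι)) := by
  constructor
  · intro h
    rcases b.root_mem_or_neg_mem i with h1 | h1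
    · exact h1
    · exfalso
      have h2 := nonneg_of_mem_closure b h1
      rw [map_neg, LinearMap.neg_apply] at h2
      have h3 := (isPos_iff_pos b i).mp h
      change 0 < P.toLinearMap (P.root i) (rhoCo b) at h3
      linarith
  · intro h
    rw [RootPairing.Base.isPos_iff']
    have h2 := nonneg_of_mem_closure b h
    have h3 : P.toLinearMap (P.root i) (rhoCo b) = (b.height i : R) := (height_eq b i).symm
    rw [h3] at h2
    exact_mod_cast h2

lemma isPos_reflBase (b : P.Base) (k i : ι) :
    (reflBase b k).IsPos i ↔ b.IsPos (P.reflectionPerm k i) := by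
  rw [isPos_iff_mem_closure, isPos_iff_mem_closure, coe_reflBase_support, mem_closure_root_image,
    ← P.root_reflectionPerm]

/-- the unique root positive for `b` and not for the reflected base is the simple root `k` -/
lemma isPos_and_not_iff (b : P.Base) {k : ι} (hk : k ∈ b.support) (j : ι) :
    (b.IsPos j ∧ ¬ (reflBase b k).IsPos j) ↔ j = k := by
  rw [isPos_reflBase]
  constructor
  · rintro ⟨h1, h2⟩
    by_contra hne
    exact h2 (h1.reflectionPerm hk hne)
  · rintro rfl
    refine ⟨RootPairing.Base.isPos_of_mem_support hk, ?_⟩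
    have := RootPairing.Base.IsPos.neg_iff_not b j
    exact fun h => (this.mp h) (RootPairing.Base.isPos_of_mem_support hk)

end Pos

section Weights

/-- transport of a simple index of `b` to the reflected base -/
noncomputable def reflIdx (b : P.Base) (k : ι) (j : b.support) : (reflBase b k).support :=
  ⟨P.reflectionPerm k j, by rw [mem_reflBase_support, P.reflectionPerm_self]; exact j.2⟩

/-- transport back -/
noncomputable def reflIdx' (b : P.Base) (k : ι) (l : (reflBase b k).support) : b.support :=
  ⟨P.reflectionPerm k l, (mem_reflBase_support b k l).mp l.2⟩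

lemma reflIdx_reflIdx' (b : P.Base) (k : ι) (l : (reflBase b k).support) :
    reflIdx b k (reflIdx' b k l) = l := by
  apply Subtype.ext
  change P.reflectionPerm k (P.reflectionPerm k l) = l
  rw [P.reflectionPerm_self]

lemma reflIdx'_reflIdx (b : P.Base) (k : ι) (j : b.support) :
    reflIdx' b k (reflIdx b k j) = j := by
  apply Subtype.ext
  change P.reflectionPerm k (P.reflectionPerm k j) = j
  rw [P.reflectionPerm_self]

/-- the fundamental weights of the reflected base are the reflected fundamental weights -/
lemma fundWeight_reflBase (b : P.Base) (k : ι) (j : b.support) :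
    fundWeight (reflBase b k) (reflIdx b k j) = P.reflection k (fundWeight b j) := by
  apply ext_of_coroot' (reflBase b k)
  intro l
  rw [P.coroot'_reflection]
  have e : P.coroot' (P.reflectionPerm k l) (fundWeight b j) =
      P.coroot' (reflIdx' b k l) (fundWeight b j) := rfl
  rw [e]
  by_cases h : l = reflIdx b k j
  · subst h
    rw [coroot'_fundWeight_self, reflIdx'_reflIdx, coroot'_fundWeight_self]
  · rw [coroot'_fundWeight_of_ne _ _ _ h, coroot'_fundWeight_of_ne]
    intro h'
    apply h
    rw [← h', reflIdx_reflIdx']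

lemma reflection_fundWeight_of_ne (b : P.Base) {k : ι} (hk : k ∈ b.support) (j : b.support)
    (hj : j ≠ ⟨k, hk⟩) : P.reflection k (fundWeight b j) = fundWeight b j := by
  rw [P.reflection_apply]
  have : P.coroot' k (fundWeight b j) = 0 :=
    coroot'_fundWeight_of_ne b j ⟨k, hk⟩ (Ne.symm hj)
  rw [this, zero_smul, sub_zero]

lemma coroot'_reflection_fundWeight_self (b : P.Base) {k : ι} (hk : k ∈ b.support) :
    P.coroot' k (P.reflection k (fundWeight b ⟨k, hk⟩)) = -1 := by
  rw [P.reflection_apply, map_sub, map_smul]
  have h1 : P.coroot' k (fundWeight b ⟨k, hk⟩) = 1 := coroot'_fundWeight_self b ⟨k, hk⟩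
  have h2 : P.coroot' k (P.root k) = 2 := P.root_coroot_two k
  rw [h1, h2]
  norm_num

lemma coroot'_fundWeight_mem (b : P.Base) {k : ι} (hk : k ∈ b.support) (j : b.support) :
    P.coroot' k (fundWeight b j) = 0 ∨ P.coroot' k (fundWeight b j) = 1 := by
  by_cases h : j = ⟨k, hk⟩
  · right; subst h; exact coroot'_fundWeight_self b ⟨k, hk⟩
  · left; exact coroot'_fundWeight_of_ne b j ⟨k, hk⟩ (Ne.symm h)

/-- the corners of the reflected chamber -/
lemma baseCorners_reflBase (b : P.Base) (k : ι) :
    baseCorners (reflBase b k) = Set.range fun j : b.support => P.reflection k (fundWeight b j) := by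
  rw [baseCorners_eq]
  ext x
  constructor
  · rintro ⟨l, rfl⟩
    refine ⟨reflIdx' b k l, ?_⟩
    simp only
    rw [← fundWeight_reflBase, reflIdx_reflIdx']
  · rintro ⟨j, rfl⟩
    exact ⟨reflIdx b k j, fundWeight_reflBase b k j⟩

/-- the common corners of a chamber and its reflection in a simple root -/
lemma baseCorners_inter (b : P.Base) {k : ι} (hk : k ∈ b.support) :
    baseCorners b ∩ baseCorners (reflBase b k) =
      (fun j : b.support => fundWeight b j) '' {j | j ≠ ⟨k, hk⟩} := by
  rw [baseCorners_reflBase, baseCorners_eq]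
  ext x
  constructor
  · rintro ⟨⟨j, rfl⟩, ⟨j', hj'⟩⟩
    simp only at hj'
    refine ⟨j, ?_, rfl⟩
    by_cases h' : j' = ⟨k, hk⟩
    · exfalso
      subst h'
      have h1 := coroot'_reflection_fundWeight_self b hk
      rw [hj'] at h1
      rcases coroot'_fundWeight_mem b hk j with h2 | h2
      · rw [h2] at h1; norm_num at h1
      · rw [h2] at h1; norm_num at h1
    · rw [reflection_fundWeight_of_ne b hk j' h'] at hj'
      have := fundWeight_injective b hj'
      rw [← this]; exact h'
  · rintro ⟨j, hj, rfl⟩
    exact ⟨⟨j, rfl⟩, ⟨j, reflection_fundWeight_of_ne b hk j hj⟩⟩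

lemma ncard_baseCorners_inter (b : P.Base) {k : ι} (hk : k ∈ b.support) :
    (baseCorners b ∩ baseCorners (reflBase b k)).ncard + 1 = b.support.card := by
  rw [baseCorners_inter b hk, Set.ncard_image_of_injective _ (fundWeight_injective b)]
  have h1 : ({j : b.support | j ≠ ⟨k, hk⟩} : Set b.support) = {⟨k, hk⟩}ᶜ := by
    ext j; simp
  rw [h1, Set.ncard_compl, Set.ncard_singleton, Nat.card_eq_fintype_card, Fintype.card_coe]
  have : 0 < b.support.card := Finset.card_pos.mpr ⟨k, hk⟩
  omega

end Weights

section Wall

variable {d : P.Base → N}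

/-- crossing the wall of the simple root `k` moves `d` by a non-negative multiple of the coroot -/
lemma exists_wall (hd : IsCCS d) (b : P.Base) {k : ι} (hk : k ∈ b.support) :
    ∃ c : R, 0 ≤ c ∧ d (reflBase b k) = d b + c • P.coroot k := by
  set b' := reflBase b k with hb'
  set c : R := P.toLinearMap (fundWeight b ⟨k, hk⟩) (d b' - d b) with hc
  have hB1 : ∀ j : b.support, j ≠ ⟨k, hk⟩ → P.toLinearMap (fundWeight b j) (d b' - d b) = 0 := by
    intro j hj
    have hmem : fundWeight b j ∈ baseCorners b ∩ baseCorners b' := by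
      rw [baseCorners_inter b hk]; exact ⟨j, hj, rfl⟩
    rw [map_sub, sub_eq_zero]
    exact (hd.corner_eq b b' _ hmem.1 hmem.2).symm
  have hdiff : d b' - d b = c • P.coroot k := by
    rw [eq_sum_coroot b (d b' - d b), Finset.sum_eq_single (⟨k, hk⟩ : b.support)]
    · intro j _ hj
      rw [hB1 j hj, zero_smul]
    · intro h; exact absurd (Finset.mem_univ _) h
  have hd' : d b' = d b + c • P.coroot k := by rw [← hdiff]; abel
  refine ⟨c, ?_, hd'⟩
  have hw := hd.wall_le b b' k (ncard_baseCorners_inter b hk) (isPos_and_not_iff b hk)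
  rw [hd', map_add, map_smul] at hw
  have h2 : P.root' k (P.coroot k) = 2 := P.root_coroot_two k
  rw [h2, smul_eq_mul] at hw
  linarith

end Wall

section Descent

variable {d : P.Base → N}

/-- descent along simple reflections to a chamber whose closure contains `m` -/
lemma exists_le_closedChamber (hd : IsCCS d) (m : M) (b : P.Base) :
    ∃ b₀ : P.Base, m ∈ closedChamber b₀ ∧ P.toLinearMap m (d b₀) ≤ P.toLinearMap m (d b) := by
  induction h : ({i | b.IsPos i ∧ P.coroot' i m < 0} : Set ι).ncard using
    Nat.strong_induction_on generalizing b with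
  | _ n ih =>
    by_cases hcl : m ∈ closedChamber b
    · exact ⟨b, hcl, le_rfl⟩
    · simp only [closedChamber, Set.mem_ofPred_eq, not_forall, not_le] at hcl
      obtain ⟨k, hk, hkm⟩ := hcl
      obtain ⟨c, hc, hdc⟩ := exists_wall hd b hk
      have hsub : ({i | (reflBase b k).IsPos i ∧ P.coroot' i m < 0} : Set ι) ⊆
          {i | b.IsPos i ∧ P.coroot' i m < 0} := by
        rintro i ⟨hi1, hi2⟩
        refine ⟨?_, hi2⟩
        rw [isPos_reflBase] at hi1
        by_cases hik : P.reflectionPerm k i = k
        · exfalso
          have : i = P.reflectionPerm k k := by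
            have h' := P.reflectionPerm_self k i
            rw [hik] at h'
            exact h'.symm
          rw [this, coroot'_neg] at hi2
          linarith
        · have := hi1.reflectionPerm hk hik
          rwa [P.reflectionPerm_self] at this
      have hss : ({i | (reflBase b k).IsPos i ∧ P.coroot' i m < 0} : Set ι) ⊂
          {i | b.IsPos i ∧ P.coroot' i m < 0} := by
        rw [Set.ssubset_iff_of_subset hsub]
        refine ⟨k, ⟨RootPairing.Base.isPos_of_mem_support hk, hkm⟩, ?_⟩
        rintro ⟨h1, -⟩
        exact ((isPos_and_not_iff b hk k).mpr rfl).2 h1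
      have hlt := Set.ncard_lt_ncard hss (Set.toFinite _)
      rw [h] at hlt
      obtain ⟨b₀, hb₀, hle⟩ := ih _ hlt (reflBase b k) rfl
      refine ⟨b₀, hb₀, hle.trans ?_⟩
      rw [hdc, map_add, map_smul, smul_eq_mul]
      have hkm' : P.toLinearMap m (P.coroot k) < 0 := hkm
      nlinarith

/-- the key inequality: a corner of a chamber pairs minimally with the value of `d` at a chamber
having it as a corner -/
theorem corner_le (hd : IsCCS d) {b' : P.Base} {m : M} (hm : m ∈ baseCorners b') (b : P.Base) :
    P.toLinearMap m (d b') ≤ P.toLinearMap m (d b) := by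
  obtain ⟨b₀, hb₀, hle⟩ := exists_le_closedChamber hd m b
  have : m ∈ baseCorners b₀ := ⟨hm.1, hb₀⟩
  rw [hd.corner_eq b' b₀ m hm this]
  exact hle

end Descent

section Solid

variable {d : P.Base → N}

lemma base_ext {b b' : P.Base} (h : b.support = b'.support) : b = b' := by
  cases b; cases b'; simp only at h; subst h; rfl

instance finite_base : Finite P.Base :=
  Finite.of_injective (fun b : P.Base => b.support) (fun _ _ h => base_ext h)

lemma convex_hyper (d : P.Base → N) (m : M) : Convex R (hyper d m) := by
  intro x hx y hy a c _ _ hac b' hb'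
  rw [map_add, map_smul, map_smul, hx b' hb', hy b' hb', ← add_smul, hac, one_smul]

lemma convex_halfClosed (d : P.Base → N) (m : M) : Convex R (halfClosed d m) := by
  intro x hx y hy a c ha hc hac b' hb'
  rw [map_add, map_smul, map_smul]
  have h1 := hx b' hb'
  have h2 := hy b' hb'
  have : P.toLinearMap m (d b') = a • P.toLinearMap m (d b') + c • P.toLinearMap m (d b') := by
    rw [← add_smul, hac, one_smul]
  rw [this]
  exact add_le_add (smul_le_smul_of_nonneg_left h1 ha) (smul_le_smul_of_nonneg_left h2 hc)

/-- the dual solid lies in the hyperplanes of the corners and the half-spaces of all fundamental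
weights -/
theorem dualSolid_subset (hd : IsCCS d) (F : Facet P) :
    dualSolid d F ⊆ (⋂ m ∈ F.corners, hyper d m) ∩ ⋂ m ∈ F.corners', halfClosed d m := by
  apply convexHull_min
  · rintro _ ⟨b, hb, rfl⟩
    refine ⟨?_, ?_⟩
    · simp only [Set.mem_iInter]
      intro m hm b' hb'
      exact hd.corner_eq b b' m (Facet.corners_subset_baseCorners F hb hm) hb'
    · simp only [Set.mem_iInter]
      intro m _ b' hb'
      exact corner_le hd hb' b
  · exact (convex_iInter₂ fun m _ => convex_hyper d m).inter
      (convex_iInter₂ fun m _ => convex_halfClosed d m)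

/-- given a vector `ξF` of a facet and an arbitrary vector `ξ`, there is a chamber adjacent to the
facet of `ξF` on whose zero-walls `ξ` is non-negative -/
lemma exists_cham_perturb (ξF ξ : M) :
    ∃ b₀ : P.Base, ξF ∈ closedChamber b₀ ∧
      ∀ j ∈ b₀.support, P.coroot' j ξF = 0 → 0 ≤ P.coroot' j ξ := by
  let a : ι → R := fun i => P.coroot' i ξF
  let c : ι → R := fun i => P.coroot' i ξ
  let e : ι → R := fun i => if a i = 0 then 1 else |a i| / (|c i| + 1)
  have hc1 : ∀ i, 0 < |c i| + 1 := fun i => by positivity
  have he : ∀ i, 0 < e i := by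
    intro i
    simp only [e]
    split_ifs with h
    · exact one_pos
    · exact div_pos (abs_pos.mpr h) (hc1 i)
  obtain ⟨ε, hε, hεe⟩ := exists_pos_lt_all e he
  have hkey : ∀ i, a i ≠ 0 → ε * |c i| < |a i| := by
    intro i hi
    have := hεe i
    simp only [e, if_neg hi] at this
    rw [lt_div_iff₀ (hc1 i)] at this
    nlinarith [abs_nonneg (c i)]
  obtain ⟨b₀, hb₀⟩ := exists_base_closedChamber (P := P) (ξF + ε • ξ)
  have hsum : ∀ j ∈ b₀.support, 0 ≤ a j + ε * c j := by
    intro j hj
    have := hb₀ j hj
    rwa [map_add, map_smul, smul_eq_mul] at this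
  refine ⟨b₀, fun j hj => ?_, fun j hj h0 => ?_⟩
  · by_contra hneg
    push Not at hneg
    change a j < 0 at hneg
    have h1 := hsum j hj
    have h2 := hkey j (ne_of_lt hneg)
    have h3 : |a j| = -a j := abs_of_neg hneg
    have h4 : ε * c j ≤ ε * |c j| := mul_le_mul_of_nonneg_left (le_abs_self _) hε.le
    linarith
  · have h1 := hsum j hj
    change a j = 0 at h0
    rw [h0, zero_add] at h1
    exact nonneg_of_mul_nonneg_right (by linarith) hε |> fun h => h

/-- a facet is the facet of any of its vectors -/
lemma facet_eq_ofVec (F : Facet P) {ξ : M} (hξ : sgnVec P ξ = F.sgn) : F = Facet.ofVec P ξ := by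
  apply Facet.ext
  exact hξ.symm

/-- the intersection of the hyperplanes of the corners and of the half-spaces of the corners of the
adjacent chambers lies in the dual solid -/
theorem subset_dualSolid (F : Facet P) :
    (⋂ m ∈ F.corners, hyper d m) ∩ ⋂ m ∈ F.corners', halfClosed d m ⊆ dualSolid d F := by
  classical
  rintro y ⟨hy1, hy2⟩
  simp only [Set.mem_iInter] at hy1 hy2
  by_contra hy
  have : Fintype P.Base := Fintype.ofFinite _
  let s : Finset P.Base := Finset.univ.filter (· ∈ F.cham)
  have hs : (s : Set P.Base) = F.cham := by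
    ext b; simp [s]
  obtain ⟨f, hf⟩ := Farkas.exists_separating s d y (by rw [hs]; exact hy)
  let ξ : M := P.toPerfPair.symm f
  have hξ : P.toLinearMap ξ = f := P.toLinearMap.apply_symm_toPerfPair_self f
  obtain ⟨ξF, hξF⟩ := F.exists_sgnVec_eq
  obtain ⟨b₀, hb₀, hnn⟩ := exists_cham_perturb (P := P) ξF ξ
  have hb₀F : b₀ ∈ F.cham := by
    rw [facet_eq_ofVec F hξF]
    exact mem_cham_ofVec hb₀
  have hlt := hf b₀ (by rw [← Finset.mem_coe, hs]; exact hb₀F)
  rw [← hξ] at hlt
  have hexp := eq_sum_fundWeight b₀ ξ
  have hterm : ∀ j : b₀.support,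
      P.coroot' j ξ * P.toLinearMap (fundWeight b₀ j) (d b₀) ≤
        P.coroot' j ξ * P.toLinearMap (fundWeight b₀ j) y := by
    intro j
    have hjc : fundWeight b₀ j ∈ baseCorners b₀ := by
      rw [baseCorners_eq]; exact ⟨j, rfl⟩
    rcases Facet.sign_simple F hb₀F j with h0 | h1
    · have ha : P.coroot' j ξF = 0 := by
        have := congr_fun hξF j
        rw [h0] at this
        exact sign_eq_zero_iff.mp this
      have hc := hnn j j.2 ha
      have hmem : fundWeight b₀ j ∈ F.corners' := by
        simp only [Facet.corners', Set.mem_iUnion]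
        exact ⟨b₀, hb₀F, hjc⟩
      exact mul_le_mul_of_nonneg_left (hy2 _ hmem b₀ hjc) hc
    · have hmem : fundWeight b₀ j ∈ F.corners := by
        rw [Facet.corners_eq F hb₀F]
        exact ⟨j, h1, rfl⟩
      rw [hy1 _ hmem b₀ hjc]
  have h1 : P.toLinearMap ξ (d b₀) =
      ∑ j : b₀.support, P.coroot' j ξ * P.toLinearMap (fundWeight b₀ j) (d b₀) := by
    conv_lhs => rw [hexp]
    rw [map_sum, LinearMap.sum_apply]
    refine Finset.sum_congr rfl fun j _ => ?_
    rw [map_smul, LinearMap.smul_apply, smul_eq_mul]
  have h2 : P.toLinearMap ξ y =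
      ∑ j : b₀.support, P.coroot' j ξ * P.toLinearMap (fundWeight b₀ j) y := by
    conv_lhs => rw [hexp]
    rw [map_sum, LinearMap.sum_apply]
    refine Finset.sum_congr rfl fun j _ => ?_
    rw [map_smul, LinearMap.smul_apply, smul_eq_mul]
  rw [h1, h2] at hlt
  exact absurd (Finset.sum_le_sum fun j _ => hterm j) (not_le.mpr hlt)

/-- S14238 -/
theorem dualSolid_eq (hd : IsCCS d) (F : Facet P) :
    dualSolid d F = (⋂ m ∈ F.corners, hyper d m) ∩ ⋂ m ∈ F.corners', halfClosed d m :=
  Set.Subset.antisymm (dualSolid_subset hd F) (subset_dualSolid F)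

end Solid

section Origin

variable {d : P.Base → N}

lemma origin_sgn (i : ι) : (Facet.origin P).sgn i = 0 := by
  change SignType.sign (P.coroot' i 0) = 0
  rw [map_zero, sign_zero]

lemma origin_cham : (Facet.origin P).cham = Set.univ := by
  ext b
  simp only [Set.mem_univ, iff_true]
  intro ξ hξ j _
  have := congr_fun hξ j
  rw [origin_sgn] at this
  exact (sign_eq_zero_iff.mp this).ge

lemma origin_corners : (Facet.origin P).corners = ∅ := by
  ext m
  simp only [Set.mem_empty_iff_false, iff_false]
  rintro ⟨⟨b, i, rfl⟩, hcl⟩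
  have h := hcl i
  rw [origin_sgn, or_self] at h
  have h' := sign_eq_zero_iff.mp h
  rw [coroot'_fundWeight_self] at h'
  exact one_ne_zero h'

lemma solid_eq_dualSolid_origin (d : P.Base → N) : solid d = dualSolid d (Facet.origin P) := by
  unfold solid dualSolid
  rw [origin_cham, Set.image_univ]

/-- S14241 -/
theorem semistable_iff_corners (hd : IsCCS d) :
    (∀ (b : P.Base), ∀ m ∈ baseCorners b, P.toLinearMap m (d b) ≤ 0) ↔ IsSemistable d := by
  unfold IsSemistable
  rw [solid_eq_dualSolid_origin, dualSolid_eq hd, origin_corners]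
  simp only [Set.mem_inter_iff, Set.mem_iInter, Set.mem_empty_iff_false, IsEmpty.forall_iff,
    implies_true, true_and, Facet.corners', Set.mem_iUnion, origin_cham, Set.mem_univ, exists_true_left]
  constructor
  · rintro h m ⟨b, hb⟩ b' hb'
    rw [map_zero]
    exact h b' m hb'
  · intro h b m hm
    have := h m ⟨b, hm⟩ b hm
    rwa [map_zero] at this

end Origin

end Groth.Agent.H2.RootChH
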