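import Groth.Agent.Lib.Helper2.RootChH

/-!
# Root systems with a complementary convex solid: semi-stability through degrees of facets
(helper2) — S14239, S14240
-/

set_option autoImplicit false
set_option linter.unusedSectionVars false
namespace Groth.Agent.H2.RootChI
open RootCh Module Groth.Agent.H2.RootChA Groth.Agent.H2.RootChB Groth.Agent.H2.RootChC
  Groth.Agent.H2.RootChD Groth.Agent.H2.RootChE Groth.Agent.H2.RootChF Groth.Agent.H2.RootChG
  Groth.Agent.H2.RootChH

universe u v w x
variable {ι : Type u} {R : Type v} {M : Type w} {N : Type x}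
  [Field R] [LinearOrder R] [IsStrictOrderedRing R]
  [AddCommGroup M] [Module R M] [AddCommGroup N] [Module R N]
  {P : RootPairing ι R M N} [P.IsRootSystem] [Finite ι] [P.IsCrystallographic] [P.IsReduced]
  {d : P.Base → N}

lemma deg_eq_pairing (d : P.Base → N) (F : Facet P) (b : P.Base) :
    F.deg d b = P.toLinearMap (∑ i ∈ (Set.toFinite F.parab).toFinset, P.root i) (d b) := by
  unfold Facet.deg
  rw [map_sum, LinearMap.sum_apply]

/-- (iii) ⇒ (i) -/
theorem deg_le_zero (h3 : ∀ (b : P.Base), ∀ m ∈ baseCorners b, P.toLinearMap m (d b) ≤ 0)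
    (F : Facet P) (b : P.Base) (hb : b ∈ F.cham) : F.deg d b ≤ 0 := by
  have hmem := sum_root_parab_mem_carrier F
  rw [carrier_eq] at hmem
  obtain ⟨c, hc, hpos, hsum⟩ := hmem
  rw [deg_eq_pairing, ← hsum, Finsupp.sum, map_sum, LinearMap.sum_apply]
  refine Finset.sum_nonpos fun m hm => ?_
  rw [map_smul, LinearMap.smul_apply, smul_eq_mul]
  have hmc : m ∈ F.corners := hc hm
  exact mul_nonpos_of_nonneg_of_nonpos (hpos m hmc).le
    (h3 b m (Facet.corners_subset_baseCorners F hb hmc))

/-- a vector with the same sign vector as a fundamental weight is a positive multiple of it -/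
lemma eq_smul_fundWeight (b : P.Base) (j : b.support) {x : M}
    (hx : sgnVec P x = sgnVec P (fundWeight b j)) : ∃ t : R, 0 < t ∧ x = t • fundWeight b j := by
  refine ⟨P.coroot' j x, ?_, ?_⟩
  · have := congr_fun hx j
    unfold sgnVec at this
    rw [coroot'_fundWeight_self, sign_one] at this
    exact sign_eq_one_iff.mp this
  · conv_lhs => rw [eq_sum_fundWeight b x]
    rw [Finset.sum_eq_single j]
    · intro i _ hij
      have := congr_fun hx i
      unfold sgnVec at this
      rw [coroot'_fundWeight_of_ne b j i hij, sign_zero] at this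
      rw [sign_eq_zero_iff.mp this, zero_smul]
    · intro h; exact absurd (Finset.mem_univ j) h

/-- the facet of a fundamental weight has dimension one -/
lemma dim_ofVec_fundWeight (b : P.Base) (j : b.support) :
    (Facet.ofVec P (fundWeight b j)).dim = 1 := by
  unfold Facet.dim
  have hspan : Submodule.span R (Facet.ofVec P (fundWeight b j)).carrier =
      Submodule.span R {fundWeight b j} := by
    apply le_antisymm
    · rw [Submodule.span_le]
      intro x hx
      obtain ⟨t, -, rfl⟩ := eq_smul_fundWeight b j hx
      exact Submodule.smul_mem _ _ (Submodule.subset_span rfl)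
    · rw [Submodule.span_le]
      rintro x rfl
      exact Submodule.subset_span rfl
  rw [hspan]
  apply finrank_span_singleton
  intro h0
  have := coroot'_fundWeight_self b j
  rw [h0, map_zero] at this
  exact zero_ne_one this

/-- (ii) ⇒ (iii) -/
theorem corners_le_zero
    (h2 : ∀ (F : Facet P) (b : P.Base), F.dim = 1 → b ∈ F.cham → F.deg d b ≤ 0)
    (b : P.Base) (m : M) (hm : m ∈ baseCorners b) : P.toLinearMap m (d b) ≤ 0 := by
  have hm' := hm
  rw [baseCorners_eq] at hm'
  obtain ⟨j, rfl⟩ := hm'
  have hdeg := h2 (Facet.ofVec P (fundWeight b j)) b (dim_ofVec_fundWeight b j)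
    (mem_cham_ofVec hm.2)
  obtain ⟨t, ht, hx⟩ := eq_smul_fundWeight b j
    (sum_root_parab_mem_carrier (Facet.ofVec P (fundWeight b j)))
  rw [deg_eq_pairing, hx, map_smul, LinearMap.smul_apply, smul_eq_mul] at hdeg
  by_contra hneg
  push Not at hneg
  have := mul_pos ht hneg
  linarith

/-- S14239 -/
theorem semistable_iff_deg (hd : IsCCS d) :
    (∀ (F : Facet P) (b : P.Base), b ∈ F.cham → F.deg d b ≤ 0) ↔ IsSemistable d := by
  rw [← semistable_iff_corners hd]
  constructor
  · intro h
    exact corners_le_zero fun F b _ hb => h F b hb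
  · intro h F b hb
    exact deg_le_zero h F b hb

/-- S14240 -/
theorem semistable_iff_deg_dim_one (hd : IsCCS d) :
    (∀ (F : Facet P) (b : P.Base), F.dim = 1 → b ∈ F.cham → F.deg d b ≤ 0) ↔
      IsSemistable d := by
  rw [← semistable_iff_corners hd]
  constructor
  · intro h
    exact corners_le_zero h
  · intro h F b _ hb
    exact deg_le_zero h F b hb

end Groth.Agent.H2.RootChI
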