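import Groth.Agent.Lib.Helper2.RootChI

/-!
# Root systems with a complementary convex solid: the point `y(F)` of a special facet
(helper2) — S14251
-/

set_option autoImplicit false
set_option linter.unusedSectionVars false
namespace Groth.Agent.H2.RootChJ
open RootCh Module Groth.Agent.H2.RootChA Groth.Agent.H2.RootChB Groth.Agent.H2.RootChC
  Groth.Agent.H2.RootChD Groth.Agent.H2.RootChE Groth.Agent.H2.RootChF Groth.Agent.H2.RootChG
  Groth.Agent.H2.RootChH Groth.Agent.H2.RootChI

universe u v w x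
variable {ι : Type u} {R : Type v} {M : Type w} {N : Type x}
  [Field R] [LinearOrder R] [IsStrictOrderedRing R]
  [AddCommGroup M] [Module R M] [AddCommGroup N] [Module R N]

section Form

variable (P : RootPairing ι R M N) [P.IsRootSystem] [Finite ι]

/-- an invariant symmetric positive definite form for which coroots are positive multiples of
roots -/
lemma exists_form_aniso : ∃ Φ : LinearMap.BilinForm R M, (∀ x y, Φ x y = Φ y x) ∧
    (∀ i, 0 < Φ (P.root i) (P.root i)) ∧
    (∀ i x, Φ (P.root i) (P.root i) * P.coroot' i x = 2 * Φ x (P.root i)) ∧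
    (∀ x, 0 ≤ Φ x x) ∧ ∀ x, Φ x x = 0 → x = 0 := by
  have : Fintype ι := Fintype.ofFinite ι
  refine ⟨P.RootForm, fun x y => ?_, fun i => ?_, fun i x => ?_, P.zero_le_rootForm, fun x hx => ?_⟩
  · exact (LinearMap.isSymm_def.mp P.rootForm_symmetric x y).symm ▸ rfl
  · rw [P.rootForm_root_self]
    refine Finset.sum_pos' (fun j _ => mul_self_nonneg _) ⟨i, Finset.mem_univ i, ?_⟩
    rw [P.pairing_same]; norm_num
  · have h := congr_arg (P.toLinearMap x) (P.rootForm_self_smul_coroot i)
    rw [map_smul, map_nsmul, P.toLinearMap_apply_apply_Polarization, smul_eq_mul, nsmul_eq_mul] at h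
    have hs : P.RootForm (P.root i) x = P.RootForm x (P.root i) :=
      (LinearMap.isSymm_def.mp P.rootForm_symmetric x (P.root i)).symm ▸ rfl
    rw [hs] at h
    exact_mod_cast h
  · exact P.rootForm_anisotropic x hx

/-- the same for the dual root system -/
lemma exists_coform_aniso : ∃ Ψ : LinearMap.BilinForm R N, (∀ x y, Ψ x y = Ψ y x) ∧
    (∀ i, 0 < Ψ (P.coroot i) (P.coroot i)) ∧
    (∀ i x, Ψ (P.coroot i) (P.coroot i) * P.root' i x = 2 * Ψ x (P.coroot i)) ∧
    (∀ x, 0 ≤ Ψ x x) ∧ ∀ x, Ψ x x = 0 → x = 0 :=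
  exists_form_aniso P.flip

end Form

variable {P : RootPairing ι R M N} [P.IsRootSystem] [Finite ι] [P.IsCrystallographic] [P.IsReduced]
  {d : P.Base → N}

/-- a vector of the span of the dual facet killed by the corners of the facet vanishes -/
lemma eq_zero_of_mem_span_dualCarrier (F : Facet P) {z : N}
    (hz : z ∈ Submodule.span R F.dualCarrier) (hz' : ∀ w ∈ F.corners, P.toLinearMap w z = 0) :
    z = 0 := by
  obtain ⟨b, hb⟩ := Facet.exists_mem_cham F
  obtain ⟨Ψ, hsymm, -, hΨ, -, haniso⟩ := exists_coform_aniso P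
  have hJ' : ∀ z' ∈ Submodule.span R F.dualCarrier, ∀ j : b.support, F.sgn j = 0 →
      P.root' j z' = 0 := by
    intro z' hz' j hj
    induction hz' using Submodule.span_induction with
    | mem x hx =>
      have := congr_fun hx j
      rw [hj] at this
      exact sign_eq_zero_iff.mp this
    | zero => simp
    | add x y _ _ hx hy => rw [map_add, hx, hy, add_zero]
    | smul r x _ hx => rw [map_smul, hx, smul_zero]
  have hJ : ∀ j : b.support, F.sgn j = 0 → P.root' j z = 0 := hJ' z hz
  have hI : ∀ j : b.support, F.sgn j = 1 → P.toLinearMap (fundWeight b j) z = 0 := by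
    intro j hj
    apply hz'
    rw [Facet.corners_eq F hb]
    exact ⟨j, hj, rfl⟩
  apply haniso
  rw [congr_arg (Ψ z) (eq_sum_coroot b z), map_sum]
  refine Finset.sum_eq_zero fun j _ => ?_
  rw [map_smul, smul_eq_mul]
  rcases Facet.sign_simple F hb j with h0 | h1
  · have h2 := hΨ j z
    rw [hJ j h0, mul_zero] at h2
    have h3 : Ψ z (P.coroot j) = 0 := by linarith
    rw [h3, mul_zero]
  · rw [hI j h1, zero_mul]

/-- S14251 -/
theorem yLocus_eq_singleton (hd : IsCCS d) (F : Facet P) (hF : IsSpecial d F) :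
    ∃ y₀ : N, yLocus d F = {y₀} ∧ F.dualCarrier ∩ dualSolid d F = {y₀} := by
  obtain ⟨y₁, hy₁c, hy₁s⟩ := hF
  obtain ⟨b, hb⟩ := Facet.exists_mem_cham F
  have hsub : F.dualCarrier ∩ dualSolid d F ⊆ yLocus d F := by
    rintro y ⟨hyc, hys⟩
    exact ⟨(dualSolid_subset hd F hys).1, Submodule.subset_span hyc⟩
  have huniq : ∀ y ∈ yLocus d F, y = y₁ := by
    intro y hy
    have hy₁ := hsub ⟨hy₁c, hy₁s⟩
    rw [← sub_eq_zero]
    apply eq_zero_of_mem_span_dualCarrier F (Submodule.sub_mem _ hy.2 hy₁.2)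
    intro w hw
    have h1 := hy.1
    have h2 := hy₁.1
    simp only [Set.mem_iInter] at h1 h2
    have hwb := Facet.corners_subset_baseCorners F hb hw
    rw [map_sub, h1 w hw b hwb, h2 w hw b hwb, sub_self]
  refine ⟨y₁, ?_, ?_⟩
  · apply Set.Subset.antisymm
    · intro y hy; exact huniq y hy
    · rintro y rfl; exact hsub ⟨hy₁c, hy₁s⟩
  · apply Set.Subset.antisymm
    · intro y hy; exact huniq y (hsub hy)
    · rintro y rfl; exact ⟨hy₁c, hy₁s⟩

end Groth.Agent.H2.RootChJ
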