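import Groth.Agent.Lib.Helper2.RootChJ

/-!
# Root systems with a complementary convex solid: the special facet has maximal degree
(helper2) — S14248
-/

set_option autoImplicit false
set_option linter.unusedSectionVars false
namespace Groth.Agent.H2.RootChK
open RootCh Module Groth.Agent.H2.RootChA Groth.Agent.H2.RootChB Groth.Agent.H2.RootChC
  Groth.Agent.H2.RootChD Groth.Agent.H2.RootChE Groth.Agent.H2.RootChF Groth.Agent.H2.RootChG
  Groth.Agent.H2.RootChH Groth.Agent.H2.RootChI Groth.Agent.H2.RootChJ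

universe u v w x
variable {ι : Type u} {R : Type v} {M : Type w} {N : Type x}
  [Field R] [LinearOrder R] [IsStrictOrderedRing R]
  [AddCommGroup M] [Module R M] [AddCommGroup N] [Module R N]

/-- comparison of two finite sums -/
lemma sum_le_sum_of_signs {α : Type*} [DecidableEq α] (a : α → R) (S T : Finset α)
    (hS : ∀ i ∈ S, i ∉ T → 0 ≤ a i) (hT : ∀ i ∈ T, i ∉ S → a i < 0) :
    ∑ i ∈ T, a i ≤ ∑ i ∈ S, a i ∧ (∑ i ∈ T, a i = ∑ i ∈ S, a i → T ⊆ S) := by
  have hkey := Finset.sum_sdiff_sub_sum_sdiff (s₁ := S) (s₂ := T) (f := a)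
  have h1 : 0 ≤ ∑ i ∈ S \ T, a i :=
    Finset.sum_nonneg fun i hi => hS i (Finset.mem_sdiff.mp hi).1 (Finset.mem_sdiff.mp hi).2
  have h2 : ∑ i ∈ T \ S, a i ≤ 0 :=
    Finset.sum_nonpos fun i hi => (hT i (Finset.mem_sdiff.mp hi).1 (Finset.mem_sdiff.mp hi).2).le
  refine ⟨by linarith, fun heq i hi => ?_⟩
  by_contra hiS
  have h3 : ∑ i ∈ T \ S, a i < 0 :=
    Finset.sum_neg' (fun j hj => (hT j (Finset.mem_sdiff.mp hj).1 (Finset.mem_sdiff.mp hj).2).le)
      ⟨i, Finset.mem_sdiff.mpr ⟨hi, hiS⟩, hT i hi hiS⟩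
  linarith

variable {P : RootPairing ι R M N} [P.IsRootSystem] [Finite ι] [P.IsCrystallographic] [P.IsReduced]
  {d : P.Base → N}

lemma dualSolid_subset_solid (d : P.Base → N) (F : Facet P) : dualSolid d F ⊆ solid d :=
  convexHull_mono (Set.image_subset_range _ _)

lemma solid_subset_halfClosed (hd : IsCCS d) (m : M) : solid d ⊆ halfClosed d m := by
  apply convexHull_min
  · rintro _ ⟨b', rfl⟩ b'' hb''
    exact corner_le hd hb'' b'
  · exact convex_halfClosed d m

/-- pairing with a vector of the span of the corners is constant on the hyperplanes of the corners -/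
lemma pairing_eq_of_mem_hyper (F : Facet P) {b : P.Base} (hb : b ∈ F.cham) {y : N}
    (hy : y ∈ ⋂ m ∈ F.corners, hyper d m) {x : M} (hx : x ∈ Submodule.span R F.corners) :
    P.toLinearMap x y = P.toLinearMap x (d b) := by
  simp only [Set.mem_iInter] at hy
  induction hx using Submodule.span_induction with
  | mem m hm => exact hy m hm b (Facet.corners_subset_baseCorners F hb hm)
  | zero => simp
  | add x y _ _ hx hy => rw [map_add, LinearMap.add_apply, LinearMap.add_apply, hx, hy]
  | smul r x _ hx => rw [map_smul, LinearMap.smul_apply, LinearMap.smul_apply, hx]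

lemma sum_root_parab_mem_span (F : Facet P) :
    (∑ i ∈ (Set.toFinite F.parab).toFinset, P.root i) ∈ Submodule.span R F.corners := by
  rw [← span_carrier_eq]
  exact Submodule.subset_span (sum_root_parab_mem_carrier F)

/-- the degree of a facet is computed by any point of the hyperplanes of its corners -/
lemma deg_eq_of_mem_hyper (F : Facet P) {b : P.Base} (hb : b ∈ F.cham) {y : N}
    (hy : y ∈ ⋂ m ∈ F.corners, hyper d m) :
    F.deg d b = ∑ i ∈ (Set.toFinite F.parab).toFinset, P.root' i y := by
  rw [deg_eq_pairing, ← pairing_eq_of_mem_hyper F hb hy (sum_root_parab_mem_span F), map_sum,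
    LinearMap.sum_apply]

/-- the degree of a facet is at most the pairing with any point of the solid -/
lemma deg_le_of_mem_solid (hd : IsCCS d) (G : Facet P) {c : P.Base} (hc : c ∈ G.cham) {y : N}
    (hy : y ∈ solid d) :
    G.deg d c ≤ ∑ i ∈ (Set.toFinite G.parab).toFinset, P.root' i y := by
  have hmem := sum_root_parab_mem_carrier G
  rw [carrier_eq] at hmem
  obtain ⟨e, he, hpos, hsum⟩ := hmem
  have h2 : ∑ i ∈ (Set.toFinite G.parab).toFinset, P.root' i y =
      P.toLinearMap (∑ i ∈ (Set.toFinite G.parab).toFinset, P.root i) y := by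
    rw [map_sum, LinearMap.sum_apply]
  rw [h2, deg_eq_pairing, ← hsum, Finsupp.sum, map_sum, LinearMap.sum_apply, LinearMap.sum_apply]
  refine Finset.sum_le_sum fun m hm => ?_
  rw [map_smul, LinearMap.smul_apply, LinearMap.smul_apply, smul_eq_mul, smul_eq_mul]
  have hmc : m ∈ G.corners := he hm
  have hmb := Facet.corners_subset_baseCorners G hc hmc
  exact mul_le_mul_of_nonneg_left (solid_subset_halfClosed hd m hy c hmb) (hpos m hmc).le

/-- S14248 -/
theorem special_max_deg (hd : IsCCS d) (F : Facet P) (b : P.Base) (hb : b ∈ F.cham)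
    (hF : IsSpecial d F) :
    (∀ (G : Facet P) (c : P.Base), c ∈ G.cham → G.deg d c ≤ F.deg d b) ∧
      ∀ (G : Facet P) (c : P.Base), c ∈ G.cham → G.deg d c = F.deg d b → G ≤ F := by
  classical
  obtain ⟨y₀, hy₀c, hy₀s⟩ := hF
  have hyh := (dualSolid_subset hd F hy₀s).1
  have hys := dualSolid_subset_solid d F hy₀s
  have hsgn : ∀ i, SignType.sign (P.root' i y₀) = F.sgn i := fun i => congr_fun hy₀c i
  have hcmp : ∀ G : Facet P,
      ∑ i ∈ (Set.toFinite G.parab).toFinset, P.root' i y₀ ≤
        ∑ i ∈ (Set.toFinite F.parab).toFinset, P.root' i y₀ ∧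
      (∑ i ∈ (Set.toFinite G.parab).toFinset, P.root' i y₀ =
        ∑ i ∈ (Set.toFinite F.parab).toFinset, P.root' i y₀ →
        (Set.toFinite G.parab).toFinset ⊆ (Set.toFinite F.parab).toFinset) := by
    intro G
    apply sum_le_sum_of_signs
    · intro i hi _
      rw [Set.Finite.mem_toFinset] at hi
      by_contra hneg
      push Not at hneg
      have := sign_eq_neg_one_iff.mpr hneg
      rw [hsgn] at this
      exact hi this
    · intro i _ hi
      rw [Set.Finite.mem_toFinset] at hi
      have : F.sgn i = -1 := by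
        by_contra h; exact hi h
      rw [← hsgn] at this
      exact sign_eq_neg_one_iff.mp this
  rw [deg_eq_of_mem_hyper F hb hyh]
  refine ⟨fun G c hc => (deg_le_of_mem_solid hd G hc hys).trans (hcmp G).1, fun G c hc heq => ?_⟩
  have h1 := deg_le_of_mem_solid hd G hc hys
  have h2 := hcmp G
  have hsub := h2.2 (le_antisymm h2.1 (heq ▸ h1))
  have hsub' : ∀ i, G.sgn i ≠ -1 → F.sgn i ≠ -1 := by
    intro i hi
    have : i ∈ (Set.toFinite G.parab).toFinset := by
      rw [Set.Finite.mem_toFinset]; exact hi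
    have := hsub this
    rwa [Set.Finite.mem_toFinset] at this
  intro i
  have hcases : F.sgn i = 0 ∨ F.sgn i = 1 ∨ F.sgn i = -1 := by
    cases F.sgn i <;> simp
  rcases hcases with h | h | h
  · left; exact h
  · right
    rw [h]
    have h3 : F.sgn (P.reflectionPerm i i) = -1 := by rw [Facet.sgn_neg, h]
    have h4 : G.sgn (P.reflectionPerm i i) = -1 := by
      by_contra hne; exact hsub' _ hne h3
    rw [Facet.sgn_neg] at h4
    have : G.sgn i = -(-1) := by rw [← h4, neg_neg]
    rw [this]; rfl
  · right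
    rw [h]
    by_contra hne
    exact hsub' i (fun h' => hne h'.symm) h

end Groth.Agent.H2.RootChK
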