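import Groth.Agent.Lib.Helper2.RootChK

/-!
# Root systems with a complementary convex solid: the point of the special facet is the point of
the solid closest to the origin (helper2) — S14244, S14245
-/

set_option autoImplicit false
set_option linter.unusedSectionVars false
namespace Groth.Agent.H2.RootChL
open RootCh Module Groth.Agent.H2.RootChA Groth.Agent.H2.RootChB Groth.Agent.H2.RootChC
  Groth.Agent.H2.RootChD Groth.Agent.H2.RootChE Groth.Agent.H2.RootChF Groth.Agent.H2.RootChG
  Groth.Agent.H2.RootChH Groth.Agent.H2.RootChI Groth.Agent.H2.RootChJ Groth.Agent.H2.RootChK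

universe u v w x
variable {ι : Type u} {R : Type v} {M : Type w} {N : Type x}
  [Field R] [LinearOrder R] [IsStrictOrderedRing R]
  [AddCommGroup M] [Module R M] [AddCommGroup N] [Module R N]
  {P : RootPairing ι R M N} [P.IsRootSystem] [Finite ι] [P.IsCrystallographic] [P.IsReduced]
  {d : P.Base → N}

section Form

variable (B : LinearMap.BilinForm R N)

/-- for a form invariant under the coreflections, a coroot is a positive multiple of its root -/
lemma form_coroot (hBi : ∀ (i : ι) (y z : N), B (P.coreflection i y) (P.coreflection i z) = B y z)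
    (i : ι) (x : N) : B (P.coroot i) (P.coroot i) * P.root' i x = 2 * B x (P.coroot i) := by
  have h := hBi i x (P.coroot i)
  rw [P.coreflection_apply_self, P.coreflection_apply, map_neg, map_sub, LinearMap.sub_apply,
    map_smul, LinearMap.smul_apply, smul_eq_mul] at h
  linarith

lemma form_coroot_pos (hBp : ∀ y : N, y ≠ 0 → 0 < B y y) (i : ι) :
    0 < B (P.coroot i) (P.coroot i) :=
  hBp _ (P.flip.ne_zero i)

/-- the vector of `M` representing `B y₀` -/
noncomputable def dualVec (y₀ : N) : M := P.toPerfPair.symm (B y₀)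

lemma dualVec_apply (y₀ x : N) : P.toLinearMap (dualVec (P := P) B y₀) x = B y₀ x := by
  unfold dualVec
  rw [P.toLinearMap.apply_symm_toPerfPair_self]

lemma sgnVec_dualVec (hBp : ∀ y : N, y ≠ 0 → 0 < B y y)
    (hBi : ∀ (i : ι) (y z : N), B (P.coreflection i y) (P.coreflection i z) = B y z) (y₀ : N) :
    sgnVec P (dualVec (P := P) B y₀) = cosgnVec P y₀ := by
  funext i
  unfold sgnVec cosgnVec
  have h1 : P.coroot' i (dualVec (P := P) B y₀) = B y₀ (P.coroot i) := dualVec_apply B y₀ _
  have h2 := form_coroot B hBi i y₀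
  have h3 := form_coroot_pos (P := P) B hBp i
  rw [h1]
  rcases lt_trichotomy (P.root' i y₀) 0 with h | h | h
  · rw [sign_eq_neg_one_iff.mpr h, sign_eq_neg_one_iff]
    nlinarith
  · rw [h, sign_zero, sign_eq_zero_iff]
    rw [h, mul_zero] at h2
    linarith
  · rw [sign_eq_one_iff.mpr h, sign_eq_one_iff]
    nlinarith

end Form

/-- if `y₀` lies in the dual facet and the hyperplanes of the corners, then `B y₀` is minimal at
`y₀` over the solid -/
lemma form_nonneg (hd : IsCCS d) (B : LinearMap.BilinForm R N)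
    (hBp : ∀ y : N, y ≠ 0 → 0 < B y y)
    (hBi : ∀ (i : ι) (y z : N), B (P.coreflection i y) (P.coreflection i z) = B y z)
    (F : Facet P) {y₀ : N} (hy₀c : y₀ ∈ F.dualCarrier) (hy₀h : y₀ ∈ ⋂ m ∈ F.corners, hyper d m)
    {y : N} (hy : y ∈ solid d) : 0 ≤ B y₀ (y - y₀) := by
  obtain ⟨b, hb⟩ := Facet.exists_mem_cham F
  have hmem : dualVec (P := P) B y₀ ∈ F.carrier := by
    change sgnVec P _ = F.sgn
    rw [sgnVec_dualVec B hBp hBi]
    exact hy₀c
  rw [carrier_eq] at hmem
  obtain ⟨e, he, hpos, hsum⟩ := hmem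
  rw [← dualVec_apply (P := P) B y₀, ← hsum, Finsupp.sum, map_sum, LinearMap.sum_apply]
  refine Finset.sum_nonneg fun m hm => ?_
  rw [map_smul, LinearMap.smul_apply, smul_eq_mul, map_sub]
  have hmc : m ∈ F.corners := he hm
  have hmb := Facet.corners_subset_baseCorners F hb hmc
  simp only [Set.mem_iInter] at hy₀h
  rw [hy₀h m hmc b hmb]
  exact mul_nonneg (hpos m hmc).le (sub_nonneg.mpr (solid_subset_halfClosed hd m hy b hmb))

/-- S14244 -/
theorem special_closest (hd : IsCCS d) (B : LinearMap.BilinForm R N)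
    (hBs : ∀ y z : N, B y z = B z y) (hBp : ∀ y : N, y ≠ 0 → 0 < B y y)
    (hBi : ∀ (i : ι) (y z : N), B (P.coreflection i y) (P.coreflection i z) = B y z)
    (F : Facet P) (hF : IsSpecial d F) :
    ∃ y₀ : N, yLocus d F = {y₀} ∧ y₀ ∈ solid d ∧
      ∀ y ∈ solid d, y ≠ y₀ → B y₀ y₀ < B y y := by
  obtain ⟨y₀, h1, h2⟩ := yLocus_eq_singleton hd F hF
  have hy₀ : y₀ ∈ F.dualCarrier ∩ dualSolid d F := by rw [h2]; rfl
  refine ⟨y₀, h1, dualSolid_subset_solid d F hy₀.2, fun y hy hne => ?_⟩
  have hnn := form_nonneg hd B hBp hBi F hy₀.1 (dualSolid_subset hd F hy₀.2).1 hy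
  have hpos := hBp (y - y₀) (sub_ne_zero.mpr hne)
  have hexp : B y y = B y₀ y₀ + 2 * B y₀ (y - y₀) + B (y - y₀) (y - y₀) := by
    simp only [map_sub, LinearMap.sub_apply]
    rw [hBs y y₀]
    ring
  rw [hexp]
  linarith

/-- first order condition for a minimum of a positive definite form on a convex set -/
lemma first_order (B : LinearMap.BilinForm R N) (hBs : ∀ y z : N, B y z = B z y)
    (hBp : ∀ y : N, y ≠ 0 → 0 < B y y) {C : Set N} (hC : Convex R C) {y₀ : N} (hy₀ : y₀ ∈ C)
    (hmin : ∀ y ∈ C, B y₀ y₀ ≤ B y y) {y : N} (hy : y ∈ C) : 0 ≤ B y₀ (y - y₀) := by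
  by_contra hneg
  push Not at hneg
  set v := y - y₀ with hv
  have hv0 : v ≠ 0 := by
    intro h0
    rw [h0, map_zero] at hneg
    exact lt_irrefl _ hneg
  have hvv := hBp v hv0
  set t : R := min 1 (-(B y₀ v) / B v v) with ht
  have ht0 : 0 < t := lt_min one_pos (div_pos (neg_pos.mpr hneg) hvv)
  have ht1 : t ≤ 1 := min_le_left _ _
  have ht2 : t * B v v ≤ -(B y₀ v) := by
    have : t ≤ -(B y₀ v) / B v v := min_le_right _ _
    rwa [le_div_iff₀ hvv] at this
  have hmem : y₀ + t • v ∈ C := by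
    have := hC hy₀ hy (sub_nonneg.mpr ht1) ht0.le (by ring)
    convert this using 1
    rw [hv, smul_sub, sub_smul, one_smul]
    abel
  have h1 := hmin _ hmem
  have hexp : B (y₀ + t • v) (y₀ + t • v) = B y₀ y₀ + t * (2 * B y₀ v + t * B v v) := by
    simp only [map_add, map_smul, LinearMap.add_apply, LinearMap.smul_apply, smul_eq_mul]
    rw [hBs v y₀]
    ring
  rw [hexp] at h1
  have h2 : 2 * B y₀ v + t * B v v < 0 := by linarith
  have h3 := mul_neg_of_pos_of_neg ht0 h2
  linarith

/-- S14245 -/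
theorem closest_special (hd : IsCCS d) (B : LinearMap.BilinForm R N)
    (hBs : ∀ y z : N, B y z = B z y) (hBp : ∀ y : N, y ≠ 0 → 0 < B y y)
    (hBi : ∀ (i : ι) (y z : N), B (P.coreflection i y) (P.coreflection i z) = B y z)
    (y₀ : N) (hy₀ : y₀ ∈ solid d) (hmin : ∀ y ∈ solid d, B y₀ y₀ ≤ B y y)
    (F : Facet P) (hF : y₀ ∈ F.dualCarrier) :
    IsSpecial d F ∧ yLocus d F = {y₀} := by
  obtain ⟨b, hb⟩ := Facet.exists_mem_cham F
  have hfo := first_order B hBs hBp (convex_convexHull R _) hy₀ hmin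
    (subset_convexHull R _ ⟨b, rfl⟩ : d b ∈ solid d)
  have hmem : dualVec (P := P) B y₀ ∈ F.carrier := by
    change sgnVec P _ = F.sgn
    rw [sgnVec_dualVec B hBp hBi]
    exact hF
  rw [carrier_eq] at hmem
  obtain ⟨e, he, hpos, hsum⟩ := hmem
  rw [← dualVec_apply (P := P) B y₀, ← hsum, Finsupp.sum, map_sum, LinearMap.sum_apply] at hfo
  have hterm : ∀ m ∈ e.support, P.toLinearMap (e m • m) (d b - y₀) ≤ 0 := by
    intro m hm
    have hmc : m ∈ F.corners := he hm
    have hmb := Facet.corners_subset_baseCorners F hb hmc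
    rw [map_smul, LinearMap.smul_apply, smul_eq_mul, map_sub]
    exact mul_nonpos_of_nonneg_of_nonpos (hpos m hmc).le
      (sub_nonpos.mpr (solid_subset_halfClosed hd m hy₀ b hmb))
  have hzero := (Finset.sum_eq_zero_iff_of_nonpos hterm).mp
    (le_antisymm (Finset.sum_nonpos hterm) hfo)
  have hcorner : ∀ m ∈ F.corners, P.toLinearMap m y₀ = P.toLinearMap m (d b) := by
    intro m hmc
    have hm : m ∈ e.support := Finsupp.mem_support_iff.mpr (hpos m hmc).ne'
    have := hzero m hm
    rw [map_smul, LinearMap.smul_apply, smul_eq_mul, map_sub] at this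
    rcases mul_eq_zero.mp this with h | h
    · exact absurd h (hpos m hmc).ne'
    · exact (sub_eq_zero.mp h).symm
  have hhyper : y₀ ∈ ⋂ m ∈ F.corners, hyper d m := by
    simp only [Set.mem_iInter]
    intro m hmc b' hb'
    rw [hcorner m hmc]
    exact hd.corner_eq b b' m (Facet.corners_subset_baseCorners F hb hmc) hb'
  have hhalf : y₀ ∈ ⋂ m ∈ F.corners', halfClosed d m := by
    simp only [Set.mem_iInter]
    intro m _
    exact solid_subset_halfClosed hd m hy₀
  have hsolid : y₀ ∈ dualSolid d F := subset_dualSolid F ⟨hhyper, hhalf⟩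
  have hspecial : IsSpecial d F := ⟨y₀, hF, hsolid⟩
  refine ⟨hspecial, ?_⟩
  obtain ⟨y₁, h1, h2⟩ := yLocus_eq_singleton hd F hspecial
  have : y₀ ∈ ({y₁} : Set N) := by rw [← h2]; exact ⟨hF, hsolid⟩
  rw [h1, Set.mem_singleton_iff.mp this]

end Groth.Agent.H2.RootChL
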