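import Groth.Agent.Lib.Helper2.RootChL

/-!
# Root systems with a complementary convex solid: special facets through numerical invariants
(helper2) — S14243
-/

set_option autoImplicit false
set_option linter.unusedSectionVars false
namespace Groth.Agent.H2.RootChM
open RootCh Module Groth.Agent.H2.RootChA Groth.Agent.H2.RootChB Groth.Agent.H2.RootChC
  Groth.Agent.H2.RootChD Groth.Agent.H2.RootChE Groth.Agent.H2.RootChF Groth.Agent.H2.RootChG
  Groth.Agent.H2.RootChH Groth.Agent.H2.RootChI Groth.Agent.H2.RootChJ Groth.Agent.H2.RootChK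
  Groth.Agent.H2.RootChL

universe u v w x
variable {ι : Type u} {R : Type v} {M : Type w} {N : Type x}
  [Field R] [LinearOrder R] [IsStrictOrderedRing R]
  [AddCommGroup M] [Module R M] [AddCommGroup N] [Module R N]
  {P : RootPairing ι R M N} [P.IsRootSystem] [Finite ι] [P.IsCrystallographic] [P.IsReduced]
  {d : P.Base → N}

section Corr

/-- the pairing of a root with a fundamental coweight is an integer of the sign given by the base -/
lemma root'_fundCoweight_nat (b : P.Base) (i : b.support) (k : ι)
    (hpos : 0 < P.root' k (fundCoweight b i)) : ∃ n : ℕ, P.root' k (fundCoweight b i) = n := by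
  obtain ⟨f, hf⟩ := exists_root_eq_sum_nat b k
  rcases hf with hf | hf
  · refine ⟨f i, ?_⟩
    change P.toLinearMap (P.root k) (fundCoweight b i) = _
    rw [hf, sum_root_fundCoweight]
  · exfalso
    have : P.root' k (fundCoweight b i) = -(f i : R) := by
      change P.toLinearMap (P.root k) (fundCoweight b i) = _
      rw [hf, map_neg, LinearMap.neg_apply, sum_root_fundCoweight]
    rw [this] at hpos
    have : (0 : R) ≤ f i := Nat.cast_nonneg _
    linarith

/-- if two fundamental weights of two bases coincide, the simple root of the one pairs to `1` with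
the fundamental coweight of the other -/
lemma root'_fundCoweight_of_eq (b b' : P.Base) (j : b.support) (j' : b'.support)
    (h : fundWeight b' j' = fundWeight b j) : P.root' j (fundCoweight b' j') = 1 := by
  obtain ⟨Φ, -, hpos, hΦ⟩ := exists_form P
  have h1 := coeff_rel Φ hΦ b' j' (j : ι)
  rw [h, coroot'_fundWeight_self, mul_one] at h1
  have h2 := coeff_rel Φ hΦ b j (j' : ι)
  rw [← h, coroot'_fundWeight_self, mul_one] at h2
  set A := P.root' j (fundCoweight b' j') with hA
  set A' := P.root' j' (fundCoweight b j) with hA'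
  have hApos : 0 < A := by
    have := hpos (j : ι)
    rw [h1] at this
    exact (pos_iff_pos_of_mul_pos this).mp (hpos j')
  have hA'pos : 0 < A' := by
    have := hpos (j' : ι)
    rw [h2] at this
    exact (pos_iff_pos_of_mul_pos this).mp (hpos j)
  obtain ⟨n, hn⟩ := root'_fundCoweight_nat b' j' j hApos
  obtain ⟨n', hn'⟩ := root'_fundCoweight_nat b j j' hA'pos
  have hprod : A * A' = 1 := by
    have hj := (hpos (j : ι)).ne'
    have hj' := (hpos (j' : ι)).ne'
    have : Φ (P.root j) (P.root j) * (A * A') = Φ (P.root j) (P.root j) * 1 := by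
      rw [mul_one]
      calc Φ (P.root j) (P.root j) * (A * A') = (Φ (P.root j) (P.root j) * A') * A := by ring
        _ = Φ (P.root j') (P.root j') * A := by rw [← h2]
        _ = Φ (P.root j) (P.root j) := h1.symm
    exact mul_left_cancel₀ hj this
  change A = 1
  have hn1 : A = n := hn
  have hn2 : A' = n' := hn'
  rw [hn1, hn2] at hprod
  have : n * n' = 1 := by exact_mod_cast hprod
  rw [hn1, Nat.eq_one_of_mul_eq_one_right this, Nat.cast_one]

end Corr

section Psi

lemma fundWeight_mem_corners (F : Facet P) {b : P.Base} (hb : b ∈ F.cham) (j : b.support)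
    (hj : F.sgn j = 1) : fundWeight b j ∈ F.corners := by
  rw [Facet.corners_eq F hb]
  exact ⟨j, hj, rfl⟩

/-- the simple root attached to a corner lies in the elementary set of that corner -/
lemma mem_Psi_self (F : Facet P) {b : P.Base} (hb : b ∈ F.cham) (j : b.support)
    (hj : F.sgn j = 1) : (j : ι) ∈ F.Psi (fundWeight b j) := by
  refine ⟨?_, ?_⟩
  · rintro x ⟨b', j', hw, rfl⟩
    exact root'_fundCoweight_of_eq b b' j j' hw
  · rintro w' hw' hne x ⟨b', j', rfl, rfl⟩
    have hw'' := hw'
    rw [Facet.corners_eq F hb] at hw''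
    obtain ⟨l, -, hl⟩ := hw''
    have hlj : l ≠ j := by
      rintro rfl
      exact hne hl.symm
    have h1 := sign_eq b' j' (j : ι)
    have h2 : P.coroot' j (fundWeight b' j') = 0 := by
      rw [← hl]
      exact coroot'_fundWeight_of_ne b l j (Ne.symm hlj)
    rw [h2, sign_zero] at h1
    exact sign_eq_zero_iff.mp h1.symm

/-- on a vector killed by the simple roots vanishing on the facet, the roots of the elementary set
of a corner all take the value of the simple root of that corner -/
lemma root'_eq_of_mem_Psi (F : Facet P) {b : P.Base} (hb : b ∈ F.cham) (j : b.support)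
    (_hj : F.sgn j = 1) {i : ι} (hi : i ∈ F.Psi (fundWeight b j)) {y : N}
    (hy : ∀ l : b.support, F.sgn l = 0 → P.root' l y = 0) : P.root' i y = P.root' j y := by
  have hexp := eq_sum_root b (P.root i)
  change P.toLinearMap (P.root i) y = _
  rw [hexp, map_sum, LinearMap.sum_apply, Finset.sum_eq_single j]
  · rw [map_smul, LinearMap.smul_apply, smul_eq_mul]
    have : P.toLinearMap (P.root i) (fundCoweight b j) = 1 :=
      hi.1 (fundCoweight b j) ⟨b, j, rfl, rfl⟩
    rw [this, one_mul]
  · intro l _ hlj
    rw [map_smul, LinearMap.smul_apply, smul_eq_mul]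
    rcases Facet.sign_simple F hb l with h0 | h1
    · have : P.toLinearMap (P.root l) y = 0 := hy l h0
      rw [this, mul_zero]
    · have : P.toLinearMap (P.root i) (fundCoweight b l) = 0 := by
        apply hi.2 (fundWeight b l) (fundWeight_mem_corners F hb l h1) _ (fundCoweight b l)
          ⟨b, l, rfl, rfl⟩
        intro heq
        exact hlj (fundWeight_injective b heq)
      rw [this, zero_mul]
  · intro h; exact absurd (Finset.mem_univ j) h

/-- vectors of the span of the dual facet are killed by the simple roots vanishing on the facet -/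
lemma root'_eq_zero_of_mem_span (F : Facet P) {z : N}
    (hz : z ∈ Submodule.span R F.dualCarrier) {l : ι} (hl : F.sgn l = 0) : P.root' l z = 0 := by
  induction hz using Submodule.span_induction with
  | mem x hx =>
    have := congr_fun hx l
    rw [hl] at this
    exact sign_eq_zero_iff.mp this
  | zero => simp
  | add x y _ _ hx hy => rw [map_add, hx, hy, add_zero]
  | smul r x _ hx => rw [map_smul, hx, smul_zero]

/-- the numerical invariant through the point `y` -/
lemma numInv_eq_card_mul (F : Facet P) {b : P.Base} (hb : b ∈ F.cham) (j : b.support)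
    (hj : F.sgn j = 1) {y : N} (hy1 : y ∈ ⋂ m ∈ F.corners, hyper d m)
    (hy2 : y ∈ Submodule.span R F.dualCarrier) :
    F.numInv d (fundWeight b j) b =
      ((Set.toFinite (F.Psi (fundWeight b j))).toFinset.card : R) * P.root' j y := by
  have h1 : F.numInv d (fundWeight b j) b = P.toLinearMap
      (∑ i ∈ (Set.toFinite (F.Psi (fundWeight b j))).toFinset, P.root i) (d b) := by
    unfold Facet.numInv
    rw [map_sum, LinearMap.sum_apply]
  rw [h1, ← pairing_eq_of_mem_hyper F hb hy1
    (sum_root_Psi_mem_span F _ (fundWeight_mem_corners F hb j hj)), map_sum, LinearMap.sum_apply]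
  rw [Finset.sum_congr rfl (fun i hi => root'_eq_of_mem_Psi F hb j hj
    ((Set.Finite.mem_toFinset _).mp hi) (fun l hl => root'_eq_zero_of_mem_span F hy2 hl))]
  rw [Finset.sum_const, nsmul_eq_mul]

end Psi

section Special

/-- the vector of `M` representing `B y₀` has the sign vector of `y₀`, for a form `B` for which
coroots are positive multiples of roots -/
lemma sgnVec_dualVec' (B : LinearMap.BilinForm R N)
    (hpos : ∀ i, 0 < B (P.coroot i) (P.coroot i))
    (hrel : ∀ i x, B (P.coroot i) (P.coroot i) * P.root' i x = 2 * B x (P.coroot i)) (y₀ : N) :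
    sgnVec P (dualVec (P := P) B y₀) = cosgnVec P y₀ := by
  funext i
  unfold sgnVec cosgnVec
  have h1 : P.coroot' i (dualVec (P := P) B y₀) = B y₀ (P.coroot i) := dualVec_apply B y₀ _
  have h2 := hrel i y₀
  have h3 := hpos i
  rw [h1]
  rcases lt_trichotomy (P.root' i y₀) 0 with h | h | h
  · rw [sign_eq_neg_one_iff.mpr h, sign_eq_neg_one_iff]
    nlinarith
  · rw [h, sign_zero, sign_eq_zero_iff]
    rw [h, mul_zero] at h2
    linarith
  · rw [sign_eq_one_iff.mpr h, sign_eq_one_iff]
    nlinarith

/-- every sign vector of the dual root system is a sign vector of the root system -/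
lemma exists_sgnVec_eq_cosgnVec (y : N) : ∃ ξ : M, sgnVec P ξ = cosgnVec P y := by
  obtain ⟨Ψ, -, hpos, hrel, -, -⟩ := exists_coform_aniso P
  exact ⟨_, sgnVec_dualVec' Ψ hpos hrel y⟩

/-- a vector of `N` whose signs on the simple roots of an adjacent chamber are those of the facet
lies in the dual facet -/
lemma mem_dualCarrier_of_simple (F : Facet P) {b : P.Base} (hb : b ∈ F.cham) {y : N}
    (hy : ∀ l : b.support, SignType.sign (P.root' l y) = F.sgn l) : y ∈ F.dualCarrier := by
  obtain ⟨ξ, hξ⟩ := exists_sgnVec_eq_cosgnVec (P := P) y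
  obtain ⟨ξF, hξF⟩ := F.exists_sgnVec_eq
  change cosgnVec P y = F.sgn
  rw [← hξ, ← hξF]
  have hs : ∀ l : b.support, SignType.sign (P.coroot' l ξ) = SignType.sign (P.coroot' l ξF) := by
    intro l
    have h1 := congr_fun hξ l
    have h2 := congr_fun hξF l
    unfold sgnVec cosgnVec at h1
    unfold sgnVec at h2
    rw [h1, h2, hy]
  have hξFb : ξF ∈ closedChamber b := hb hξF
  have hξb : ξ ∈ closedChamber b := by
    intro l hl
    have h1 := hs ⟨l, hl⟩
    have h2 := hξFb l hl
    by_contra hneg
    push Not at hneg
    simp only at h1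
    rw [sign_eq_neg_one_iff.mpr hneg] at h1
    have := sign_eq_neg_one_iff.mp h1.symm
    linarith
  apply sgnVec_eq_of_simple b hξb hξFb
  intro l
  rw [← sign_eq_one_iff, ← sign_eq_one_iff, hs l]

/-- S14243 -/
theorem special_iff (hd : IsCCS d) (F : Facet P) :
    ((∀ m ∈ F.corners, ∀ b ∈ F.cham, 0 < F.numInv d m b) ∧
        (dualSolid d F ∩ (Submodule.span R F.dualCarrier : Set N)).Nonempty) ↔
      IsSpecial d F := by
  constructor
  · rintro ⟨hS1, y, hys, hyspan⟩
    obtain ⟨b, hb⟩ := Facet.exists_mem_cham F
    have hyh := (dualSolid_subset hd F hys).1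
    refine ⟨y, mem_dualCarrier_of_simple F hb fun l => ?_, hys⟩
    rcases Facet.sign_simple F hb l with h0 | h1
    · rw [h0, root'_eq_zero_of_mem_span F hyspan h0, sign_zero]
    · rw [h1, sign_eq_one_iff]
      have h2 := hS1 _ (fundWeight_mem_corners F hb l h1) b hb
      rw [numInv_eq_card_mul F hb l h1 hyh hyspan] at h2
      by_contra hle
      push Not at hle
      have := mul_nonpos_of_nonneg_of_nonpos
        (Nat.cast_nonneg (α := R) (Set.toFinite (F.Psi (fundWeight b l))).toFinset.card) hle
      linarith
  · rintro ⟨y₀, hc, hs⟩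
    have hyh := (dualSolid_subset hd F hs).1
    have hyspan : y₀ ∈ Submodule.span R F.dualCarrier := Submodule.subset_span hc
    refine ⟨fun m hm b hb => ?_, ⟨y₀, hs, hyspan⟩⟩
    rw [Facet.corners_eq F hb] at hm
    obtain ⟨j, hj, rfl⟩ := hm
    simp only
    rw [numInv_eq_card_mul F hb j hj hyh hyspan]
    apply mul_pos
    · have : 0 < (Set.toFinite (F.Psi (fundWeight b j))).toFinset.card :=
        Finset.card_pos.mpr ⟨j, (Set.Finite.mem_toFinset _).mpr (mem_Psi_self F hb j hj)⟩
      exact_mod_cast this
    · have := congr_fun hc j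
      unfold cosgnVec at this
      have hj' : F.sgn j = 1 := hj
      rw [hj'] at this
      exact sign_eq_one_iff.mp this

end Special

end Groth.Agent.H2.RootChM
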