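import Groth.Agent.Lib.Helper2.RootChM
import Groth.Agent.Lib.Helper2.MinNorm

/-!
# Root systems with a complementary convex solid: existence and uniqueness of the special facet
(helper2) — S14246, S14247
-/

set_option autoImplicit false
set_option linter.unusedSectionVars false
namespace Groth.Agent.H2.RootChN
open RootCh Module Groth.Agent.H2.RootChA Groth.Agent.H2.RootChB Groth.Agent.H2.RootChC
  Groth.Agent.H2.RootChD Groth.Agent.H2.RootChE Groth.Agent.H2.RootChF Groth.Agent.H2.RootChG
  Groth.Agent.H2.RootChH Groth.Agent.H2.RootChI Groth.Agent.H2.RootChJ Groth.Agent.H2.RootChK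
  Groth.Agent.H2.RootChL Groth.Agent.H2.RootChM

universe u v w x
variable {ι : Type u} {R : Type v} {M : Type w} {N : Type x}
  [Field R] [LinearOrder R] [IsStrictOrderedRing R]
  [AddCommGroup M] [Module R M] [AddCommGroup N] [Module R N]

/-- a scalar product on `N` invariant under the coreflections -/
lemma exists_invariant_coform (P : RootPairing ι R M N) [P.IsRootSystem] [Finite ι] :
    ∃ B : LinearMap.BilinForm R N, (∀ y z : N, B y z = B z y) ∧ (∀ y : N, y ≠ 0 → 0 < B y y) ∧
      ∀ (i : ι) (y z : N), B (P.coreflection i y) (P.coreflection i z) = B y z := by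
  have : Fintype ι := Fintype.ofFinite ι
  refine ⟨P.flip.RootForm, fun y z => ?_, fun y hy => ?_, fun i y z => ?_⟩
  · exact (LinearMap.isSymm_def.mp P.flip.rootForm_symmetric y z).symm ▸ rfl
  · refine lt_of_le_of_ne (P.flip.zero_le_rootForm y) fun h => hy ?_
    exact P.flip.rootForm_anisotropic y h.symm
  · exact P.flip.rootForm_reflection_reflection_apply i y z

variable {P : RootPairing ι R M N} [P.IsRootSystem] [Finite ι] [P.IsCrystallographic] [P.IsReduced]
  {d : P.Base → N}

variable (P) in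
lemma nonempty_base' : Nonempty P.Base := by
  obtain ⟨b, -⟩ := Facet.exists_mem_cham (Facet.origin P)
  exact ⟨b⟩

include P in
variable (P) in
lemma finiteDimensional_coweight : FiniteDimensional R N := by
  obtain ⟨b⟩ := nonempty_base' P
  exact Module.Finite.of_basis b.toCoweightBasis

/-- there is a special facet -/
theorem exists_special (hd : IsCCS d) : ∃ F : Facet P, IsSpecial d F := by
  obtain ⟨B, hBs, hBp, hBi⟩ := exists_invariant_coform P
  have := finiteDimensional_coweight P
  have := nonempty_base' P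
  obtain ⟨y₀, hy₀, hmin⟩ := MinNorm.exists_min_convexHull B hBs hBp d
  let F : Facet P := ⟨cosgnVec P y₀, exists_sgnVec_eq_cosgnVec y₀⟩
  exact ⟨F, (closest_special hd B hBs hBp hBi y₀ hy₀ hmin F rfl).1⟩

/-- S14246 -/
theorem existsUnique_special (hd : IsCCS d) : ∃! F : Facet P, IsSpecial d F := by
  obtain ⟨F, hF⟩ := exists_special hd
  refine ⟨F, hF, fun F' hF' => ?_⟩
  obtain ⟨b, hb⟩ := Facet.exists_mem_cham F
  obtain ⟨b', hb'⟩ := Facet.exists_mem_cham F'
  have h1 := special_max_deg hd F b hb hF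
  have h2 := special_max_deg hd F' b' hb' hF'
  have heq : F'.deg d b' = F.deg d b := le_antisymm (h1.1 F' b' hb') (h2.1 F b hb)
  exact le_antisymm (h1.2 F' b' hb' heq) (h2.2 F b hb heq.symm)

/-- S14247 -/
theorem special_of_max_deg (hd : IsCCS d) (F : Facet P) (b : P.Base) (hb : b ∈ F.cham)
    (hmax : ∀ (G : Facet P) (c : P.Base), c ∈ G.cham → G.deg d c ≤ F.deg d b)
    (hmaxl : ∀ (G : Facet P) (c : P.Base), c ∈ G.cham → G.deg d c = F.deg d b → F ≤ G → G = F) :
    IsSpecial d F := by
  obtain ⟨F₀, hF₀⟩ := exists_special hd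
  obtain ⟨b₀, hb₀⟩ := Facet.exists_mem_cham F₀
  have h1 := special_max_deg hd F₀ b₀ hb₀ hF₀
  have heq : F₀.deg d b₀ = F.deg d b := le_antisymm (hmax F₀ b₀ hb₀) (h1.1 F b hb)
  have hle : F ≤ F₀ := h1.2 F b hb heq.symm
  rw [← hmaxl F₀ b₀ hb₀ heq hle]
  exact hF₀

end Groth.Agent.H2.RootChN
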