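import Mathlib
import Groth.Prelude.Def_Coh
import Groth.Agent.Lib.Lead.SC.Efface
import Groth.Agent.Lib.Lead.CohLES.Basic
import Groth.Agent.Lib.Lead.CohLES.H0Lin
import Groth.Agent.Lib.Helper2.RDer7
import Groth.Agent.Lib.Lead.QCQS.AffineBase
import Groth.Agent.Lib.Lead.RP.Compare2
import Groth.Agent.Lib.Lead.QC.Iso
import Groth.Agent.Lib.Lead.QC.Gen
import Groth.Agent.Lib.Lead.QC.IdealMod
import Groth.Agent.S0032

/-!
# Sections of higher direct images over an affine base, linearly (helper2)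

Part 1: long exact sequences (both sides) and the resulting connecting isomorphisms.
-/

set_option autoImplicit false
universe u

open CategoryTheory CategoryTheory.Limits AlgebraicGeometry Opposite TopologicalSpace Abelian

namespace Groth.Agent.H2.RpA

open Groth.Agent.LD Groth.Agent.LD.CL Groth.Agent.LD.SC Groth.Agent.LD.QC

section XSide

variable {X : Scheme.{u}} {S : ShortComplex X.Modules} (hS : S.ShortExact)

theorem exact₁Γ (i : ℕ) (x₁ : Coh.HH X S.X₁ (i+1)) (h : HHmapΓ S.f (i+1) x₁ = 0) :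
    ∃ x₃ : Coh.HH X S.X₃ i, HHδΓ hS i x₃ = x₁ :=
  Ext.covariant_sequence_exact₁.{u, u, u+1} (C := Sheaf (SC.JX X) AddCommGrpCat.{u}) _
    (SC.shortExact_toSheaf hS) x₁ h rfl

include hS in
theorem exact₂Γ (i : ℕ) (x₂ : Coh.HH X S.X₂ i) (h : HHmapΓ S.g i x₂ = 0) :
    ∃ x₁ : Coh.HH X S.X₁ i, HHmapΓ S.f i x₁ = x₂ :=
  Ext.covariant_sequence_exact₂.{u, u, u+1} (C := Sheaf (SC.JX X) AddCommGrpCat.{u}) _
    (SC.shortExact_toSheaf hS) x₂ h

theorem exact₃Γ (i : ℕ) (x₃ : Coh.HH X S.X₃ i) (h : HHδΓ hS i x₃ = 0) :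
    ∃ x₂ : Coh.HH X S.X₂ i, HHmapΓ S.g i x₂ = x₃ :=
  Ext.covariant_sequence_exact₃.{u, u, u+1} (C := Sheaf (SC.JX X) AddCommGrpCat.{u}) _
    (SC.shortExact_toSheaf hS) x₃ rfl h

/-- the connecting map is bijective when the middle term is acyclic in the two degrees. -/
theorem bijective_HHδΓ (i : ℕ) (h₁ : Subsingleton (Coh.HH X S.X₂ i))
    (h₂ : Subsingleton (Coh.HH X S.X₂ (i + 1))) : Function.Bijective (HHδΓ hS i) := by
  constructor
  · rw [injective_iff_map_eq_zero]
    intro x hx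
    obtain ⟨x₂, rfl⟩ := exact₃Γ hS i x hx
    rw [Subsingleton.elim x₂ 0, map_zero]
  · intro x₁
    exact exact₁Γ hS i x₁ (Subsingleton.elim _ _)

/-- the connecting map is surjective when the middle term is acyclic in the upper degree. -/
theorem surjective_HHδΓ (i : ℕ)
    (h₂ : Subsingleton (Coh.HH X S.X₂ (i + 1))) : Function.Surjective (HHδΓ hS i) := by
  intro x₁
  exact exact₁Γ hS i x₁ (Subsingleton.elim _ _)

end XSide

section SSide

variable {X Y : Scheme.{u}} (g : X ⟶ Y) [HasInjectiveResolutions X.Modules]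
  {S : ShortComplex X.Modules} (hS : S.ShortExact)

/-- the connecting morphism of higher direct images is an isomorphism when the middle term is
acyclic in the two degrees. -/
theorem isIso_δ (n : ℕ) (h₁ : IsZero ((Coh.Rpush g n).obj S.X₂))
    (h₂ : IsZero ((Coh.Rpush g (n + 1)).obj S.X₂)) :
    IsIso (RDer.LES.δ (Scheme.Modules.pushforward g) hS n) := by
  have e3 := RDer.LES.exact₃ (Scheme.Modules.pushforward g) hS n
  have e1 := RDer.LES.exact₁ (Scheme.Modules.pushforward g) hS n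
  haveI : Mono (RDer.LES.δ (Scheme.Modules.pushforward g) hS n) :=
    e3.mono_g (h₁.eq_of_src _ _)
  haveI : Epi (RDer.LES.δ (Scheme.Modules.pushforward g) hS n) :=
    e1.epi_f (h₂.eq_of_tgt _ _)
  exact isIso_of_mono_of_epi _

end SSide

end Groth.Agent.H2.RpA
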