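import Groth.Agent.Lib.Helper2.RpA2

/-!
# Sections of higher direct images over an affine base, linearly (helper2)

Part 3: comparison of cokernels; the degree-zero comparison.
-/

set_option autoImplicit false
universe u

open CategoryTheory CategoryTheory.Limits AlgebraicGeometry Opposite TopologicalSpace Abelian

namespace Groth.Agent.H2.RpA

open Groth.Agent.LD Groth.Agent.LD.CL Groth.Agent.LD.SC Groth.Agent.LD.QC

section Algebra

variable {k : Type*} [Ring k] {A₁ A₂ A₃ A₁' A₂' A₃' : Type*}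
  [AddCommGroup A₁] [AddCommGroup A₂] [AddCommGroup A₃]
  [AddCommGroup A₁'] [AddCommGroup A₂'] [AddCommGroup A₃']
  [Module k A₁] [Module k A₂] [Module k A₃] [Module k A₁'] [Module k A₂'] [Module k A₃']

/-- two cokernels of isomorphic maps are isomorphic. -/
theorem nonempty_linearEquiv_of_cokernels
    (a : A₁ →ₗ[k] A₂) (b : A₂ →ₗ[k] A₃) (hb : Function.Surjective b)
    (hab : LinearMap.ker b = LinearMap.range a)
    (a' : A₁' →ₗ[k] A₂') (b' : A₂' →ₗ[k] A₃') (hb' : Function.Surjective b')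
    (hab' : LinearMap.ker b' = LinearMap.range a')
    (e₁ : A₁ ≃ₗ[k] A₁') (e₂ : A₂ ≃ₗ[k] A₂') (comm : ∀ x, e₂ (a x) = a' (e₁ x)) :
    Nonempty (A₃ ≃ₗ[k] A₃') := by
  have h : (LinearMap.ker b).map (e₂ : A₂ →ₗ[k] A₂') = LinearMap.ker b' := by
    rw [hab, hab', ← LinearMap.range_comp]
    have hc : (e₂ : A₂ →ₗ[k] A₂').comp a = a'.comp (e₁ : A₁ →ₗ[k] A₁') := by
      ext x
      exact comm x
    rw [hc, LinearMap.range_comp, LinearEquiv.range, Submodule.map_top]
  exact ⟨(b.quotKerEquivOfSurjective hb).symm ≪≫ₗ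
    (Submodule.Quotient.equiv (LinearMap.ker b) (LinearMap.ker b') e₂ h) ≪≫ₗ
    (b'.quotKerEquivOfSurjective hb')⟩

end Algebra

section Base

variable {X S : Scheme.{u}} (g : X ⟶ S)

/-- `H^p(X, M)` as a module over the global functions of the base. -/
def HS (_g : X ⟶ S) (M : X.Modules) (p : ℕ) : Type u := Coh.HH X M p

noncomputable instance (M : X.Modules) (p : ℕ) : AddCommGroup (HS g M p) :=
  inferInstanceAs (AddCommGroup (Coh.HH X M p))

noncomputable instance (M : X.Modules) (p : ℕ) : Module Γ(S, ⊤) (HS g M p) :=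
  Module.compHom (Coh.HH X M p) (show Γ(S, ⊤) →+* Coh.Γtop X from g.appTop.hom)

lemma HS_smul (M : X.Modules) (p : ℕ) (r : Γ(S, ⊤)) (x : HS g M p) :
    r • x = (show HS g M p from
      (show Coh.Γtop X from g.appTop.hom r) • (show Coh.HH X M p from x)) := rfl

/-- a map linear over the global functions of `X` is linear over those of the base. -/
noncomputable def HSmap {M N : X.Modules} {p q : ℕ}
    (φ : Coh.HH X M p →ₗ[Coh.Γtop X] Coh.HH X N q) : HS g M p →ₗ[Γ(S, ⊤)] HS g N q where
  toFun := φ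
  map_add' := φ.map_add
  map_smul' r x := φ.map_smul (g.appTop.hom r) x

lemma HSmap_apply {M N : X.Modules} {p q : ℕ}
    (φ : Coh.HH X M p →ₗ[Coh.Γtop X] Coh.HH X N q) (x : HS g M p) :
    HSmap g φ x = φ x := rfl

end Base

end Groth.Agent.H2.RpA
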