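import Groth.Agent.Lib.Helper2.RpA3

/-!
# Sections of higher direct images over an affine base, linearly (helper2)

Part 4: the degree-zero comparison and the main theorem.
-/

set_option autoImplicit false
universe u

open CategoryTheory CategoryTheory.Limits AlgebraicGeometry Opposite TopologicalSpace Abelian

namespace Groth.Agent.H2.RpA

open Groth.Agent.LD Groth.Agent.LD.CL Groth.Agent.LD.SC Groth.Agent.LD.QC

section Zero

variable {X S : Scheme.{u}} (g : X ⟶ S) [HasInjectiveResolutions X.Modules]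

/-- `R⁰g_* ≅ g_*`. -/
noncomputable def r0Iso : Coh.Rpush g 0 ≅ Scheme.Modules.pushforward g :=
  Functor.rightDerivedZeroIsoSelf _

/-- `Γ(S, g_* N) ≃ H⁰(X, N)`, linearly over the base. -/
noncomputable def θ₀ (N : X.Modules) :
    Γ((Scheme.Modules.pushforward g).obj N, ⊤) ≃ₗ[Γ(S, ⊤)] HS g N 0 where
  toFun x := (HH0Equiv N).symm (show Γ(N, ⊤) from x)
  invFun y := HH0Equiv N (show Coh.HH X N 0 from y)
  left_inv x := (HH0Equiv N).apply_symm_apply _
  right_inv y := (HH0Equiv N).symm_apply_apply _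
  map_add' x y := (HH0Equiv N).symm.map_add _ _
  map_smul' r x := by
    apply (HH0Equiv N).injective
    refine ((HH0Equiv N).apply_symm_apply _).trans ?_
    refine Eq.trans ?_ (HH0Equiv_smul N (g.appTop.hom r) ((HH0Equiv N).symm x)).symm
    rw [(HH0Equiv N).apply_symm_apply]
    rfl

lemma θ₀_apply (N : X.Modules) (x : Γ((Scheme.Modules.pushforward g).obj N, ⊤)) :
    θ₀ g N x = (HH0Equiv N).symm (show Γ(N, ⊤) from x) := rfl

lemma θ₀_naturality {N N' : X.Modules} (φ : N ⟶ N')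
    (x : Γ((Scheme.Modules.pushforward g).obj N, ⊤)) :
    θ₀ g N' (((Scheme.Modules.pushforward g).map φ).app ⊤ x) =
      HSmap g (HHmapΓ φ 0) (θ₀ g N x) := by
  apply (HH0Equiv N').injective
  refine ((HH0Equiv N').apply_symm_apply _).trans ?_
  refine Eq.trans ?_ (HH0Equiv_map φ ((HH0Equiv N).symm x)).symm
  rw [(HH0Equiv N).apply_symm_apply]
  rfl

/-- `Γ(S, R⁰g_* N) ≃ H⁰(X, N)`, linearly over the base. -/
noncomputable def θ (N : X.Modules) :
    Γ((Coh.Rpush g 0).obj N, ⊤) ≃ₗ[Γ(S, ⊤)] HS g N 0 :=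
  secEquiv ((r0Iso g).app N) ⊤ ≪≫ₗ θ₀ g N

lemma θ_naturality {N N' : X.Modules} (φ : N ⟶ N') (x : Γ((Coh.Rpush g 0).obj N, ⊤)) :
    θ g N' (((Coh.Rpush g 0).map φ).app ⊤ x) = HSmap g (HHmapΓ φ 0) (θ g N x) := by
  change θ₀ g N' (((r0Iso g).hom.app N').app ⊤ (((Coh.Rpush g 0).map φ).app ⊤ x)) = _
  rw [← comp_app_apply, (r0Iso g).hom.naturality φ, comp_app_apply, θ₀_naturality]
  rfl

end Zero

end Groth.Agent.H2.RpA
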