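import Groth.Agent.Lib.Helper2.RpA4

/-!
# Sections of higher direct images over an affine base, linearly (helper2)

Part 5: the main theorem `Γ(S, Rᵖg_* M) ≃ₗ[Γ(S, O_S)] Hᵖ(X, M)`.
-/

set_option autoImplicit false
universe u

open CategoryTheory CategoryTheory.Limits AlgebraicGeometry Opposite TopologicalSpace Abelian

namespace Groth.Agent.H2.RpA

open Groth.Agent.LD Groth.Agent.LD.CL Groth.Agent.LD.SC Groth.Agent.LD.QC

section XSide

variable {X : Scheme.{u}} {T : ShortComplex X.Modules} (hT : T.ShortExact)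

lemma HHδΓ_HHmapΓ (i : ℕ) (x : Coh.HH X T.X₂ i) : HHδΓ hT i (HHmapΓ T.g i x) = 0 := by
  change (x.comp (Ext.mk₀ (T.map (SC.toAbF X)).g) (add_zero i)).comp
    (SC.shortExact_toSheaf hT).extClass (rfl : i + 1 = i + 1) = 0
  rw [Ext.comp_assoc_of_second_deg_zero]
  have h4 := (SC.shortExact_toSheaf hT).comp_extClass
  refine (congrArg (fun z => Ext.comp x z (rfl : i + 1 = i + 1)) h4).trans ?_
  exact Ext.comp_zero.{u, u, u+1} (C := Sheaf (SC.JX X) AddCommGrpCat.{u}) _ _ _ _ _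

end XSide

section Main

variable {X S : Scheme.{u}} (g : X ⟶ S) [HasInjectiveResolutions X.Modules]
  [QuasiCompact g] [QuasiSeparated g] [IsAffine S]

/-- degree one. -/
theorem step_zero {T : ShortComplex X.Modules} (hT : T.ShortExact)
    (h₁ : T.X₁.IsQuasicoherent) (h₂ : T.X₂.IsQuasicoherent) (h₃ : T.X₃.IsQuasicoherent)
    (hac : Subsingleton (Coh.HH X T.X₂ 1)) :
    Nonempty (Γ((Coh.Rpush g 1).obj T.X₁, ⊤) ≃ₗ[Γ(S, ⊤)] HS g T.X₁ 1) := by
  have hz : IsZero ((Coh.Rpush g 1).obj T.X₂) := isZero_Rpush_of_subsingleton g T.X₂ 1 hac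
  have e3 := RDer.LES.exact₃ (Scheme.Modules.pushforward g) hT 0
  have e1 := RDer.LES.exact₁ (Scheme.Modules.pushforward g) hT 0
  haveI : Epi (RDer.LES.δ (Scheme.Modules.pushforward g) hT 0) :=
    e1.epi_f (hz.eq_of_tgt _ _)
  obtain ⟨hsurj, hker⟩ := sections_exact
    (QCQS.qc_Rpush_of_isAffine g T.X₂ 0) (QCQS.qc_Rpush_of_isAffine g T.X₃ 0)
    (QCQS.qc_Rpush_of_isAffine g T.X₁ 1) _ _ _ e3
  refine nonempty_linearEquiv_of_cokernels
    (appLinear ((Coh.Rpush g 0).map T.g) ⊤)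
    (appLinear (RDer.LES.δ (Scheme.Modules.pushforward g) hT 0) ⊤) hsurj ?_
    (HSmap g (HHmapΓ T.g 0)) (HSmap g (HHδΓ hT 0))
    (surjective_HHδΓ hT 0 hac) ?_ (θ g T.X₂) (θ g T.X₃) (fun x => θ_naturality g T.g x)
  · ext x
    constructor
    · intro hx
      obtain ⟨y, hy⟩ := hker x hx
      exact ⟨y, hy⟩
    · rintro ⟨y, rfl⟩
      change (RDer.LES.δ (Scheme.Modules.pushforward g) hT 0).app ⊤
        (((Coh.Rpush g 0).map T.g).app ⊤ y) = 0
      rw [← comp_app_apply, RDer.LES.map_g_δ]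
      rfl
  · ext x
    constructor
    · intro hx
      obtain ⟨y, hy⟩ := exact₃Γ hT 0 x hx
      exact ⟨y, hy⟩
    · rintro ⟨y, rfl⟩
      exact HHδΓ_HHmapΓ hT 0 y

/-- the inductive step in positive degrees. -/
theorem step_succ (p : ℕ) {T : ShortComplex X.Modules} (hT : T.ShortExact)
    (h₂ : T.X₂.IsQuasicoherent)
    (hac : ∀ q : ℕ, Subsingleton (Coh.HH X T.X₂ (q + 1)))
    (ih : Nonempty (Γ((Coh.Rpush g (p + 1)).obj T.X₃, ⊤) ≃ₗ[Γ(S, ⊤)] HS g T.X₃ (p + 1))) :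
    Nonempty (Γ((Coh.Rpush g (p + 2)).obj T.X₁, ⊤) ≃ₗ[Γ(S, ⊤)] HS g T.X₁ (p + 2)) := by
  have hz1 : IsZero ((Coh.Rpush g (p + 1)).obj T.X₂) :=
    isZero_Rpush_of_subsingleton g T.X₂ (p + 1) (hac p)
  have hz2 : IsZero ((Coh.Rpush g (p + 2)).obj T.X₂) :=
    isZero_Rpush_of_subsingleton g T.X₂ (p + 2) (hac (p + 1))
  haveI := isIso_δ g hT (p + 1) hz1 hz2
  let e1 := asIso (RDer.LES.δ (Scheme.Modules.pushforward g) hT (p + 1))
  obtain ⟨e2⟩ := ih
  let e3 : HS g T.X₃ (p + 1) ≃ₗ[Γ(S, ⊤)] HS g T.X₁ (p + 2) :=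
    LinearEquiv.ofBijective (HSmap g (HHδΓ hT (p + 1)))
      (bijective_HHδΓ hT (p + 1) (hac p) (hac (p + 1)))
  exact ⟨(secEquiv e1 ⊤).symm ≪≫ₗ e2 ≪≫ₗ e3⟩

/-- **Sections of higher direct images over an affine base**: for `g : X ⟶ S` quasi-compact with
`S` affine and `X` with affine diagonal, and `M` quasi-coherent,
`Γ(S, Rᵖg_* M) ≃ₗ[Γ(S, O_S)] Hᵖ(X, M)`. -/
theorem nonempty_sections_Rpush_equiv [CompactSpace X]
    (hd : ∀ V W : X.Opens, IsAffineOpen V → IsAffineOpen W → IsAffineOpen (V ⊓ W)) :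
    ∀ (p : ℕ) (M : X.Modules), M.IsQuasicoherent →
      Nonempty (Γ((Coh.Rpush g p).obj M, ⊤) ≃ₗ[Γ(S, ⊤)] HS g M p) := by
  intro p
  induction p with
  | zero => exact fun M _ => ⟨θ g M⟩
  | succ p ih =>
    intro M hM
    obtain ⟨C, Q, i, π, w, hT, hC, hQ, hac⟩ := exists_ses hd M
    cases p with
    | zero =>
      have h := step_zero g hT hM hC hQ (hac 0)
      exact h
    | succ p =>
      have h := step_succ g p hT hC hac (ih Q hQ)
      exact h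

end Main

end Groth.Agent.H2.RpA
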