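import Groth.Agent.Lib.Helper2.RpA5
import Groth.Agent.S0002
import Groth.Agent.Lib.Lead.QCQS.Main
import Groth.Agent.Lib.Lead.QC.SubExt
import Groth.Agent.Lib.Lead.QC.FinType

/-!
# Sections of higher direct images over an affine base, linearly (helper2)

Part 6: the over-structure attached to a morphism to an affine scheme; finiteness of sections
of higher direct images along a proper morphism; coherence of higher direct images.
-/

set_option autoImplicit false
set_option linter.style.haveILetI false
universe u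

open CategoryTheory CategoryTheory.Limits AlgebraicGeometry Opposite TopologicalSpace Abelian

namespace Groth.Agent.H2.RpA

open Groth.Agent.LD Groth.Agent.LD.CL Groth.Agent.LD.SC Groth.Agent.LD.QC

section Over

variable {X S : Scheme.{u}} (g : X ⟶ S)

/-- a scheme over `S` is a scheme over `Spec Γ(S, O_S)`. -/
@[reducible] noncomputable def overΓ : X.Over (Spec (CommRingCat.of Γ(S, ⊤))) := ⟨g ≫ S.toSpecΓ⟩

lemma toGlobal_overΓ : Coh.toGlobal (g ≫ S.toSpecΓ) =
    (show Γ(S, ⊤) →+* Coh.Γtop X from g.appTop.hom) := by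
  ext r
  change (g ≫ S.toSpecΓ).appTop.hom ((Scheme.ΓSpecIso (CommRingCat.of Γ(S, ⊤))).inv.hom r) = _
  rw [Scheme.Hom.comp_appTop, Scheme.toSpecΓ_appTop]
  change g.appTop.hom ((Scheme.ΓSpecIso Γ(S, ⊤)).hom.hom
    ((Scheme.ΓSpecIso Γ(S, ⊤)).inv.hom r)) = g.appTop.hom r
  congr 1
  exact Iso.inv_hom_id_apply (Scheme.ΓSpecIso Γ(S, ⊤)) r

/-- the two module structures on `H^p(X, M)` agree. -/
noncomputable def HSEquiv (M : X.Modules) (p : ℕ) :
    letI := overΓ g
    HS g M p ≃ₗ[Γ(S, ⊤)] Coh.HH X M p :=
  letI := overΓ g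
  { AddEquiv.refl (Coh.HH X M p) with
    map_smul' := fun r x => by
      change (show Coh.Γtop X from g.appTop.hom r) • (show Coh.HH X M p from x) =
        (Coh.toGlobal (g ≫ S.toSpecΓ) r) • (show Coh.HH X M p from x)
      rw [toGlobal_overΓ]
      rfl }

end Over

end Groth.Agent.H2.RpA

namespace Groth.Agent.H2.RpA

open Groth.Agent.LD Groth.Agent.LD.CL Groth.Agent.LD.SC Groth.Agent.LD.QC

section Proper

variable {X S : Scheme.{u}} (g : X ⟶ S)

/-- over an affine base, a separated morphism has a source with affine intersections. -/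
lemma affineInter_of_isSeparated [IsSeparated g] [IsAffine S] (V W : X.Opens)
    (hV : IsAffineOpen V) (hW : IsAffineOpen W) : IsAffineOpen (V ⊓ W) :=
  (isAffineHom_diagonal_iff (f := g)).mp inferInstance ⊤
    (isAffineOpen_top _) V (fun _ _ => trivial) W (fun _ _ => trivial) hV hW

variable [HasInjectiveResolutions X.Modules]

/-- the comparison for a quasi-compact separated morphism to an affine scheme. -/
theorem nonempty_sections_Rpush_equiv_of_isSeparated [QuasiCompact g] [IsSeparated g] [IsAffine S]
    (p : ℕ) (M : X.Modules) [M.IsQuasicoherent] :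
    Nonempty (Γ((Coh.Rpush g p).obj M, ⊤) ≃ₗ[Γ(S, ⊤)] HS g M p) := by
  haveI : CompactSpace X := QuasiCompact.compactSpace_of_compactSpace g
  exact nonempty_sections_Rpush_equiv g (affineInter_of_isSeparated g) p M inferInstance

/-- finiteness of the sections of higher direct images along a proper morphism to a Noetherian
affine scheme. -/
theorem finite_sections_Rpush_top [IsProper g] [IsAffine S] [IsNoetherianRing Γ(S, ⊤)]
    (M : X.Modules) (hM : Coh.IsCoh M) (i : ℕ) :
    Module.Finite Γ(S, ⊤) Γ((Coh.Rpush g i).obj M, ⊤) := by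
  haveI : M.IsQuasicoherent := hM.1
  obtain ⟨ℓ⟩ := nonempty_sections_Rpush_equiv_of_isSeparated g i M
  letI := overΓ g
  haveI : IsProper (X ↘ Spec (CommRingCat.of Γ(S, ⊤))) :=
    inferInstanceAs (IsProper (g ≫ S.toSpecΓ))
  haveI := Groth.Agent.S0002.result Γ(S, ⊤) X M hM i
  exact Module.Finite.equiv (ℓ ≪≫ₗ HSEquiv g M i).symm

end Proper

end Groth.Agent.H2.RpA
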