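import Mathlib
import Groth.Prelude.Def_ega3
import Groth.Agent.Lib.Helper8.DRankBC

/-!
# Rank of the homology of a base change to a field (helper2)
-/

set_option autoImplicit false
universe u

open CategoryTheory

namespace Groth.Agent.H2.RpB

open Groth.Agent.H8.DRank

variable {A K : Type u} [CommRing A] [Field K]

/-- the point of `Spec A` defined by a field-valued point. -/
def ptOf (φ : A →+* K) : PrimeSpectrum A := ⟨RingHom.ker φ, RingHom.ker_isPrime φ⟩

lemma ptOf_le (φ : A →+* K) :
    (ptOf φ).asIdeal.primeCompl ≤ Submonoid.comap φ (IsUnit.submonoid K) := by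
  intro a ha
  change IsUnit (φ a)
  rw [isUnit_iff_ne_zero]
  exact fun h => ha h

/-- the factorization of a field-valued point through the residue field. -/
noncomputable def resLift (φ : A →+* K) : (ptOf φ).asIdeal.ResidueField →+* K :=
  Ideal.ResidueField.lift (ptOf φ).asIdeal φ le_rfl (ptOf_le φ)

lemma resLift_comp (φ : A →+* K) :
    (resLift φ).comp (algebraMap A (ptOf φ).asIdeal.ResidueField) = φ := by
  ext a
  exact Ideal.ResidueField.lift_algebraMap (ptOf φ).asIdeal φ le_rfl (ptOf_le φ) a

/-- the dimension of the homology of the base change to a field is the rank function at the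
corresponding point. -/
theorem finrank_homology_bc_of_field (φ : A →+* K) (P : ChainComplex (ModuleCat.{u} A) ℤ)
    (p : ℤ) :
    Module.finrank K ((CohIII.bcCx φ P).homology p) = CohIII.dRank P p (ptOf φ) := by
  have e : CohIII.bcCx φ P ≅
      CohIII.bcCx (resLift φ) (CohIII.bcCx (algebraMap A (ptOf φ).asIdeal.ResidueField) P) :=
    eqToIso (by rw [resLift_comp]) ≪≫
      (bcCxCompIso (algebraMap A (ptOf φ).asIdeal.ResidueField) (resLift φ) P).symm
  have e' := (HomologicalComplex.homologyFunctor _ _ p).mapIso e
  refine (e'.toLinearEquiv.finrank_eq).trans ?_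
  exact finrank_homology_bc_field (resLift φ) _ p

end Groth.Agent.H2.RpB
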