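import Mathlib
import Groth.Prelude.Def_ega3
import Groth.Agent.Lib.Helper2.RpB1

/-!
# Fibres of a morphism over an affine open of the base (helper2)

For `f : X ⟶ Y`, an open `V ⊆ Y` and a point `y ∈ V`, the fibre `X_y` is the pullback of
`f⁻¹V ⟶ V ⟶ Spec Γ(V, O)` along `Spec κ(y) ⟶ Spec Γ(V, O)`.
-/

set_option autoImplicit false
universe u

open CategoryTheory CategoryTheory.Limits AlgebraicGeometry Opposite TopologicalSpace

namespace Groth.Agent.H2.RpB

variable {X Y : Scheme.{u}} (f : X ⟶ Y) (V : Y.Opens) (y : Y) (hy : y ∈ V)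

include hy in
lemma range_fromSpecResidueField_subset :
    Set.range (Y.fromSpecResidueField y) ⊆ Set.range V.ι := by
  rw [Scheme.range_fromSpecResidueField, Scheme.Opens.range_ι]
  simpa using hy

/-- `Spec κ(y) ⟶ V`. -/
noncomputable def tV : Spec (Y.residueField y) ⟶ V.toScheme :=
  IsOpenImmersion.lift V.ι (Y.fromSpecResidueField y)
    (range_fromSpecResidueField_subset V y hy)

@[reassoc]
lemma tV_ι : tV V y hy ≫ V.ι = Y.fromSpecResidueField y :=
  IsOpenImmersion.lift_fac _ _ _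

include hy in
lemma range_fiberι_subset : Set.range (f.fiberι y) ⊆ Set.range (f ⁻¹ᵁ V).ι := by
  rw [Scheme.Hom.range_fiberι, Scheme.Opens.range_ι]
  intro x hx
  have : f x = y := hx
  change f x ∈ V
  rw [this]
  exact hy

/-- `X_y ⟶ f⁻¹V`. -/
noncomputable def gV : f.fiber y ⟶ (f ⁻¹ᵁ V).toScheme :=
  IsOpenImmersion.lift (f ⁻¹ᵁ V).ι (f.fiberι y) (range_fiberι_subset f V y hy)

@[reassoc]
lemma gV_ι : gV f V y hy ≫ (f ⁻¹ᵁ V).ι = f.fiberι y :=
  IsOpenImmersion.lift_fac _ _ _

lemma gV_comm : gV f V y hy ≫ (f ∣_ V) = f.fiberToSpecResidueField y ≫ tV V y hy := by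
  rw [← cancel_mono V.ι, Category.assoc, Category.assoc, tV_ι, morphismRestrict_ι,
    gV_ι_assoc]
  exact pullback.condition

/-- the fibre is the pullback of `f⁻¹V ⟶ V` along `Spec κ(y) ⟶ V`. -/
theorem isPullback_gV :
    IsPullback (gV f V y hy) (f.fiberToSpecResidueField y) (f ∣_ V) (tV V y hy) := by
  have s : IsPullback (gV f V y hy ≫ (f ⁻¹ᵁ V).ι) (f.fiberToSpecResidueField y) f
      (tV V y hy ≫ V.ι) := by
    rw [gV_ι, tV_ι]
    exact IsPullback.of_hasPullback f (Y.fromSpecResidueField y)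
  exact IsPullback.of_right s (gV_comm f V y hy) (isPullback_morphismRestrict f V).flip

end Groth.Agent.H2.RpB
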