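import Groth.Agent.Lib.Helper2.RpB2

/-!
# Fibres of a morphism over an affine open of the base, II (helper2)

The pullback square over `Spec Γ(V, O)` and the point of `Spec Γ(V, O)` attached to `y ∈ V`.
-/

set_option autoImplicit false
universe u

open CategoryTheory CategoryTheory.Limits AlgebraicGeometry Opposite TopologicalSpace

namespace Groth.Agent.H2.RpB

variable {X Y : Scheme.{u}} (f : X ⟶ Y) (V : Y.Opens) (y : Y) (hy : y ∈ V)

/-- the ring map `Γ(V, O) ⟶ κ(y)`. -/
noncomputable def φV : Γ(V.toScheme, ⊤) ⟶ Y.residueField y :=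
  Spec.preimage (tV V y hy ≫ V.toScheme.toSpecΓ)

lemma Spec_map_φV : Spec.map (φV V y hy) = tV V y hy ≫ V.toScheme.toSpecΓ :=
  Spec.map_preimage _

/-- the fibre is the pullback of `f⁻¹V ⟶ Spec Γ(V, O)` along `Spec κ(y) ⟶ Spec Γ(V, O)`. -/
theorem isPullback_fiber_affine [IsAffine V.toScheme] :
    IsPullback (gV f V y hy) (f.fiberToSpecResidueField y) ((f ∣_ V) ≫ V.toScheme.toSpecΓ)
      (Spec.map (φV V y hy)) := by
  rw [Spec_map_φV]
  have h2 : IsPullback (tV V y hy) (𝟙 _) V.toScheme.toSpecΓ (tV V y hy ≫ V.toScheme.toSpecΓ) :=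
    IsPullback.of_vert_isIso ⟨by rw [Category.id_comp]⟩
  have := (isPullback_gV f V y hy).paste_vert h2
  rwa [Category.comp_id] at this

lemma tV_apply (s : Spec (Y.residueField y)) : (tV V y hy) s = ⟨y, hy⟩ := by
  apply Subtype.ext
  change V.ι ((tV V y hy) s) = y
  rw [← Scheme.Hom.comp_apply, tV_ι]
  exact Scheme.fromSpecResidueField_apply y s

/-- the point of `Spec Γ(V, O)` attached to `y`. -/
theorem ptOf_φV : ptOf (φV V y hy).hom = V.toScheme.toSpecΓ ⟨y, hy⟩ := by
  have h1 : (Spec.map (φV V y hy)) (IsLocalRing.closedPoint (Y.residueField y)) =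
      V.toScheme.toSpecΓ ⟨y, hy⟩ := by
    rw [Spec_map_φV, Scheme.Hom.comp_apply, tV_apply]
  rw [← h1]
  apply PrimeSpectrum.ext
  change RingHom.ker (φV V y hy).hom =
    Ideal.comap (φV V y hy).hom (IsLocalRing.closedPoint (Y.residueField y)).asIdeal
  change _ = Ideal.comap (φV V y hy).hom (IsLocalRing.maximalIdeal (Y.residueField y))
  rw [IsLocalRing.maximalIdeal_eq_bot]
  rfl

end Groth.Agent.H2.RpB
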