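import Groth.Agent.Lib.Helper2.RpB3
import Groth.Agent.Lib.Helper2.RpA6
import Groth.Agent.Lib.Helper2.MumS

/-!
# The fibre rank over an affine open of the base via the Mumford complex (helper2)
-/

set_option autoImplicit false
set_option linter.style.haveILetI false
universe u

open CategoryTheory CategoryTheory.Limits AlgebraicGeometry Opposite TopologicalSpace

namespace Groth.Agent.H2.RpB

open Groth.Agent.H2.Mum Groth.Agent.H2.RpA Groth.Agent.LD Groth.Agent.LD.CL

section iso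

variable {X : Scheme.{u}} (K : Type u) [CommRing K] [X.Over (Spec (CommRingCat.of K))]

/-- an isomorphism of modules induces a linear equivalence on cohomology. -/
noncomputable def HHEquivOfIso {M N : X.Modules} (e : M ≅ N) (p : ℕ) :
    Coh.HH X M p ≃ₗ[K] Coh.HH X N p :=
  LinearEquiv.ofLinear (HHmap K e.hom p) (HHmap K e.inv p)
    (by rw [← HHmap_comp, e.inv_hom_id, HHmap_id])
    (by rw [← HHmap_comp, e.hom_inv_id, HHmap_id])

end iso

section fiber

variable {X Y : Scheme.{u}} (f : X ⟶ Y) (V : Y.Opens) (y : Y) (hy : y ∈ V) (F : X.Modules)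

/-- the restriction of `F` to the fibre, through `f⁻¹V`. -/
noncomputable def fiberModIso :
    pbF (gV f V y hy) (F.restrict (f ⁻¹ᵁ V).ι) ≅ CohIII.fiberMod f F y :=
  (Scheme.Modules.pullback (gV f V y hy)).mapIso
      ((Scheme.Modules.restrictFunctorIsoPullback (f ⁻¹ᵁ V).ι).app F) ≪≫
    (Scheme.Modules.pullbackComp (gV f V y hy) (f ⁻¹ᵁ V).ι).app F ≪≫
    (Scheme.Modules.pullbackCongr (gV_ι f V y hy)).app F

end fiber

end Groth.Agent.H2.RpB

namespace Groth.Agent.H2.RpB

open Groth.Agent.H2.Mum Groth.Agent.H2.RpA Groth.Agent.LD Groth.Agent.LD.CL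

section rank

variable {X Y : Scheme.{u}} (f : X ⟶ Y) (V : Y.Opens)

/-- `f⁻¹V` as a scheme over `Spec Γ(V, O)`. -/
@[reducible] noncomputable def overV :
    (f ⁻¹ᵁ V).toScheme.Over (Spec (CommRingCat.of Γ(V.toScheme, ⊤))) := overΓ (f ∣_ V)

attribute [local instance] overV

variable [IsAffine V.toScheme] (F : X.Modules) [F.IsQuasicoherent]
  {ι : Type u} [Finite ι] (U : ι → (f ⁻¹ᵁ V).toScheme.Opens)
  (haff : ∀ (n : ℕ) (a : Fin (n + 1) → ι), IsAffineOpen (⨅ k, U (a k))) (hU : iSup U = ⊤)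
  (L : CochainComplex (ModuleCat.{u} Γ(V.toScheme, ⊤)) ℤ)
  (v : L ⟶ CZ Γ(V.toScheme, ⊤) U (F.restrict (f ⁻¹ᵁ V).ι))
  (hq : ∀ M : ModuleCat.{u} Γ(V.toScheme, ⊤), QuasiIso
    (((MonoidalCategory.tensorRight M).mapHomologicalComplex (ComplexShape.up ℤ)).map v))

include haff hU hq in
/-- **the fibre rank over an affine open is the rank function of the Mumford complex**. -/
theorem fiberRank_eq_dRank_of_mem (p : ℕ) (y : Y) (hy : y ∈ V) :
    CohIII.fiberRank f F p y =
      CohIII.dRank (flip L) (-(p : ℤ)) (V.toScheme.toSpecΓ ⟨y, hy⟩) := by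
  letI algK : Algebra Γ(V.toScheme, ⊤) (Y.residueField y) := (φV V y hy).hom.toAlgebra
  letI : (f.fiber y).Over (Spec (CommRingCat.of (Y.residueField y))) :=
    ⟨f.fiberToSpecResidueField y⟩
  have sq : IsPullback (gV f V y hy)
      ((f.fiber y) ↘ Spec (CommRingCat.of (Y.residueField y)))
      ((f ⁻¹ᵁ V).toScheme ↘ Spec (CommRingCat.of Γ(V.toScheme, ⊤)))
      (Spec.map (CommRingCat.ofHom (algebraMap Γ(V.toScheme, ⊤) (Y.residueField y)))) :=
    isPullback_fiber_affine f V y hy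
  have e := bcH Γ(V.toScheme, ⊤) (Y.residueField y) (gV f V y hy)
    (F.restrict (f ⁻¹ᵁ V).ι) U sq haff hU L v hq p
  have e2 := HHEquivOfIso (Y.residueField y) (fiberModIso f V y hy F) p
  have h1 : CohIII.fiberRank f F p y =
      Module.finrank (Y.residueField y)
        ((CohIII.bcCx (algebraMap Γ(V.toScheme, ⊤) (Y.residueField y)) L).homology (p : ℤ)) :=
    (e.trans e2).finrank_eq.symm
  rw [h1, ← (bcFlipHomologyIso (algebraMap Γ(V.toScheme, ⊤) (Y.residueField y)) L
    (p : ℤ)).toLinearEquiv.finrank_eq, ← ptOf_φV V y hy]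
  exact finrank_homology_bc_of_field (φV V y hy).hom (flip L) (-(p : ℤ))

end rank

end Groth.Agent.H2.RpB
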