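import Groth.Agent.Lib.Helper2.RpB4
import Groth.Agent.Lib.Helper2.MumR
import Groth.Agent.Lib.Lead.QC.FlatBC
import Groth.Agent.H4.RelTor9

/-!
# Restriction of the data to an affine open of the base (helper2)
-/

set_option autoImplicit false
set_option linter.style.haveILetI false
universe u

open CategoryTheory CategoryTheory.Limits AlgebraicGeometry Opposite TopologicalSpace

namespace Groth.Agent.H2.RpB

open Groth.Agent.H2.Mum Groth.Agent.H2.RpA Groth.Agent.LD Groth.Agent.LD.CL Groth.Agent.LD.QC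

section flat

variable {X Y : Scheme.{u}} (f : X ⟶ Y) (V : Y.Opens)

/-- flatness over the base restricts to an affine open of the base. -/
theorem isFlatOver_restrict_affine [IsAffine V.toScheme] (F : X.Modules) [F.IsQuasicoherent]
    (hfl : FlatMod.IsFlatOver f F) :
    FlatMod.IsFlatOver ((f ∣_ V) ≫ V.toScheme.toSpecΓ) (F.restrict (f ⁻¹ᵁ V).ι) := by
  have hc : IsPullback (f ⁻¹ᵁ V).ι (f ∣_ V) f V.ι := (isPullback_morphismRestrict f V).flip
  have h1 : FlatMod.IsFlatOver (f ∣_ V) ((Scheme.Modules.pullback (f ⁻¹ᵁ V).ι).obj F) :=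
    fun x' => isFlatOverAt_pullback_of_isPullback hc F x' (hfl _)
  have h2 : FlatMod.IsFlatOver (f ∣_ V) (F.restrict (f ⁻¹ᵁ V).ι) :=
    Groth.Agent.H4.RelTor9.isFlatOver_of_iso (f ∣_ V)
      ((Scheme.Modules.restrictFunctorIsoPullback (f ⁻¹ᵁ V).ι).app F).symm h1
  intro x
  refine isFlatOverAt_comp (f ∣_ V) V.toScheme.toSpecΓ _ x ?_ (h2 x)
  exact RingHom.Flat.of_bijective
    (ConcreteCategory.bijective_of_isIso (V.toScheme.toSpecΓ.stalkMap ((f ∣_ V) x)))

end flat

end Groth.Agent.H2.RpB
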