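import Groth.Agent.Lib.Helper2.RpB6

/-!
# Local data for a proper morphism and a flat coherent module over an affine open of the base
(helper2)
-/

set_option autoImplicit false
set_option linter.style.haveILetI false
universe u

open CategoryTheory CategoryTheory.Limits AlgebraicGeometry Opposite TopologicalSpace

namespace Groth.Agent.H2.RpB

open Groth.Agent.H2.Mum Groth.Agent.H2.RpA Groth.Agent.LD Groth.Agent.LD.CL Groth.Agent.LD.QC

attribute [local instance] overV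

/-- **Local data**: over an affine open `V` of the base, a bounded below chain complex `P` of
finite free `Γ(V, O)`-modules computing the fibre ranks and the sections of the higher direct
images. -/
theorem exists_localData {X Y : Scheme.{u}} (f : X ⟶ Y) [IsProper f] [IsLocallyNoetherian Y]
    [HasInjectiveResolutions X.Modules] (F : X.Modules) (hF : Coh.IsCoh F)
    (hfl : FlatMod.IsFlatOver f F) (V : Y.Opens) (hV : IsAffineOpen V) :
    ∃ P : ChainComplex (ModuleCat.{u} Γ(V.toScheme, ⊤)) ℤ,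
      (∀ i, Module.Finite Γ(V.toScheme, ⊤) (P.X i) ∧ Module.Free Γ(V.toScheme, ⊤) (P.X i)) ∧
      (∃ b : ℤ, ∀ i, i < b → IsZero (P.X i)) ∧
      (∀ i : ℤ, 0 < i → ∀ M : ModuleCat.{u} Γ(V.toScheme, ⊤),
        IsZero ((CohIII.TFun P i).obj M)) ∧
      (∀ (p : ℕ) (y : Y) (hy : y ∈ V),
        CohIII.fiberRank f F p y = CohIII.dRank P (-(p : ℤ)) (V.toScheme.toSpecΓ ⟨y, hy⟩)) ∧
      (∀ p : ℕ, Nonempty (Γ(((Coh.Rpush f p).obj F).restrict V.ι, ⊤) ≃ₗ[Γ(V.toScheme, ⊤)]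
        P.homology (-(p : ℤ)))) := by
  haveI : IsAffine V.toScheme := hV
  haveI : F.IsQuasicoherent := hF.1
  haveI : IsNoetherianRing Γ(V.toScheme, ⊤) :=
    IsLocallyNoetherian.component_noetherian ⟨⊤, isAffineOpen_top V.toScheme⟩
  haveI : IsProper ((f ⁻¹ᵁ V).toScheme ↘ Spec (CommRingCat.of Γ(V.toScheme, ⊤))) :=
    inferInstanceAs (IsProper ((f ∣_ V) ≫ V.toScheme.toSpecΓ))
  haveI : (F.restrict (f ⁻¹ᵁ V).ι).IsQuasicoherent := qc_restrict _ F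
  have hF' : Coh.IsCoh (F.restrict (f ⁻¹ᵁ V).ι) :=
    ⟨inferInstance, isFiniteType_restrict _ F hF.2⟩
  have hfl' : FlatMod.IsFlatOver ((f ⁻¹ᵁ V).toScheme ↘ Spec (CommRingCat.of Γ(V.toScheme, ⊤)))
      (F.restrict (f ⁻¹ᵁ V).ι) := isFlatOver_restrict_affine f V F hfl
  obtain ⟨ι, hfin, U, haff, hU, L, v, hL, ⟨b, hb⟩, hv, hq⟩ :=
    exists_resolution' Γ(V.toScheme, ⊤) (f ⁻¹ᵁ V).toScheme (F.restrict (f ⁻¹ᵁ V).ι) hF' hfl'
  haveI := hfin
  haveI := hv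
  refine ⟨flip L, flip_finite_free L hL, ⟨-b, fun i hi => ?_⟩,
    fun i hi M => isZero_TFun_flip_pos Γ(V.toScheme, ⊤) (F.restrict (f ⁻¹ᵁ V).ι) U L v hq M i hi,
    fun p y hy => fiberRank_eq_dRank_of_mem f V F U haff hU L v hq p y hy, fun p => ?_⟩
  · exact IsZero.of_iso (hb (-i) (by omega)) (flipXIso L i)
  · haveI := QCQS.hasInjRes (f ⁻¹ᵁ V).toScheme
    obtain ⟨e⟩ := QCQS.nonempty_restrict_Rpush_iso f V F p
    obtain ⟨ℓ⟩ := nonempty_sections_Rpush_equiv_of_isSeparated (f ∣_ V) p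
      (F.restrict (f ⁻¹ᵁ V).ι)
    exact ⟨secEquiv e ⊤ ≪≫ₗ ℓ ≪≫ₗ HSEquiv (f ∣_ V) (F.restrict (f ⁻¹ᵁ V).ι) p ≪≫ₗ
      (flipHomologyEquiv Γ(V.toScheme, ⊤) (F.restrict (f ⁻¹ᵁ V).ι) U L v haff hU p).symm⟩

end Groth.Agent.H2.RpB
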