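import Groth.Agent.Lib.Lead.QC.LocFree2
import Mathlib.RingTheory.Flat.LocallyFree

/-!
# Localizations away from an element of finite flat modules (helper2)
-/

set_option autoImplicit false
set_option linter.style.haveILetI false
universe u

open CategoryTheory TensorProduct

namespace Groth.Agent.H2.RpC

open Groth.Agent.LD.QC

/-- a localization away from `r` of a module killed by `r` vanishes. -/
lemma subsingleton_of_isLocalizedModule_away {R M M' : Type*} [CommRing R] [AddCommGroup M]
    [Module R M] [AddCommGroup M'] [Module R M'] (r : R) (f : M →ₗ[R] M')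
    [IsLocalizedModule.Away r f] (h : ∀ m : M, r • m = 0) : Subsingleton M' := by
  refine ⟨fun a b => ?_⟩
  suffices H : ∀ z : M', z = 0 by rw [H a, H b]
  intro z
  obtain ⟨⟨m, s⟩, hms⟩ := IsLocalizedModule.surj (Submonoid.powers r) f z
  have hu1 := (Module.End.isUnit_iff _).mp (IsLocalizedModule.map_units f s)
  have hu2 := (Module.End.isUnit_iff _).mp
    (IsLocalizedModule.map_units f ⟨r, Submonoid.mem_powers r⟩)
  apply hu1.1
  apply hu2.1
  change r • ((s : R) • z) = r • ((s : R) • (0 : M'))
  rw [smul_zero, smul_zero]
  change (s : R) • z = f m at hms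
  rw [hms, ← map_smul, h, map_zero]

/-- a finitely presented flat module is free of rank `rankAtStalk M x` on a basic open
neighbourhood of `x`, for every model of the localization. -/
theorem exists_equiv_fin_fun_away {A : Type u} [CommRing A] (M : Type u) [AddCommGroup M]
    [Module A M] [Module.FinitePresentation A M] [Module.Flat A M] (x : PrimeSpectrum A) :
    ∃ r : A, r ∉ x.asIdeal ∧ ∀ (A' M' : Type u) [CommRing A'] [Algebra A A']
      [IsLocalization.Away r A'] [AddCommGroup M'] [Module A M'] [Module A' M']
      [IsScalarTower A A' M'] (f : M →ₗ[A] M') [IsLocalizedModule.Away r f],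
      Nonempty (M' ≃ₗ[A'] (Fin (Module.rankAtStalk M x) → A')) := by
  haveI : Module.Free (Localization.AtPrime x.asIdeal)
      (LocalizedModule x.asIdeal.primeCompl M) := Module.free_of_flat_of_isLocalRing
  obtain ⟨r, hr, hfr, -⟩ := Module.FinitePresentation.exists_free_localizedModule_powers
    x.asIdeal.primeCompl (LocalizedModule.mkLinearMap x.asIdeal.primeCompl M)
    (Localization.AtPrime x.asIdeal)
  refine ⟨r, hr, ?_⟩
  intro A' M' _ _ _ _ _ _ _ f _
  haveI := hfr
  haveI : Module.Free A' M' := free_of_isLocalizedModule_away r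
    (A := Localization (Submonoid.powers r))
    (LocalizedModule.mkLinearMap (Submonoid.powers r) M) f
  haveI : Module.Finite A' M' := Module.Finite.of_isLocalizedModule (Submonoid.powers r) f
  obtain ⟨n, ⟨e⟩⟩ := exists_equiv_fin_fun_of_free_of_finite A' M'
  -- a prime of `A'` over `x`
  have hx : x ∈ Set.range (PrimeSpectrum.comap (algebraMap A A')) := by
    rw [PrimeSpectrum.localization_away_comap_range A' r]
    exact hr
  obtain ⟨p, hp⟩ := hx
  haveI : Nontrivial A' := ⟨⟨0, 1, fun h01 => p.isPrime.ne_top
    ((Ideal.eq_top_iff_one _).2 (h01 ▸ Ideal.zero_mem _))⟩⟩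
  have hbc : IsBaseChange A' f := IsLocalizedModule.isBaseChange (Submonoid.powers r) A' f
  have h1 : Module.rankAtStalk M' p = Module.rankAtStalk M x := by
    rw [Module.rankAtStalk_isBaseChange hbc p, hp]
  have h2 : Module.rankAtStalk M' p = n := by
    rw [Module.rankAtStalk_eq_finrank_of_free]
    change Module.finrank A' M' = n
    rw [e.finrank_eq, Module.finrank_fin_fun]
  have hn : n = Module.rankAtStalk M x := h2.symm.trans h1
  subst hn
  exact ⟨e⟩

end Groth.Agent.H2.RpC
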