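import Groth.Agent.Lib.Helper2.RpC2
import Groth.Agent.Lib.Lead.QC.LocFree3
import Groth.Agent.Lib.Lead.QC.SubExtRestrict

/-!
# Transport of local freeness from sections over an affine open of the base (helper2)
-/

set_option autoImplicit false
set_option linter.style.haveILetI false
universe u

open CategoryTheory CategoryTheory.Limits AlgebraicGeometry TopologicalSpace Opposite

namespace Groth.Agent.H2.RpC

open Groth.Agent.LD.QC

variable {Y : Scheme.{u}}

/-- freeness of the sections of `N|_V` over an affine open `D` of `V` gives freeness of the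
restriction of `N` to the image of `D` in `Y`. -/
theorem restrict_iso_freeMod_of_sections (N : Y.Modules) [N.IsQuasicoherent] (V : Y.Opens)
    (D : V.toScheme.Opens) (hD : IsAffineOpen D) (n : ℕ)
    (h : Nonempty (Γ(N.restrict V.ι, D) ≃ₗ[Γ(V.toScheme, D)] (Fin n → Γ(V.toScheme, D)))) :
    Nonempty (N.restrict (V.ι ''ᵁ D).ι ≅ FlatMod.freeMod (V.ι ''ᵁ D) n) := by
  haveI : (N.restrict V.ι).IsQuasicoherent := qc_restrict _ N
  obtain ⟨e⟩ := (restrict_fromSpec_iso_freeMod_iff (N.restrict V.ι) hD n).mpr h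
  have e' : N.restrict (hD.fromSpec ≫ V.ι) ≅ freeMod (Spec Γ(V.toScheme, D)) n :=
    (Scheme.Modules.restrictFunctorComp hD.fromSpec V.ι).app N ≪≫ e
  refine freeMod_of_range_subset N (hD.fromSpec ≫ V.ι) (V.ι ''ᵁ D).ι ?_ n e'
  rw [Scheme.Opens.range_ι, Scheme.Hom.comp_base, TopCat.coe_comp, Set.range_comp,
    hD.range_fromSpec]
  rfl


/-- the free module of rank zero vanishes. -/
lemma isZero_freeMod_zero (X : Scheme.{u}) : IsZero (FlatMod.freeMod X 0) := by
  rw [IsZero.iff_id_eq_zero]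
  exact Sigma.hom_ext _ _ (fun i => i.elim0)

section affineBase

variable (N : Y.Modules) [N.IsQuasicoherent] (V : Y.Opens) [IsAffine V.toScheme]

/-- basic opens: sections of `N|_V` over `D(r)` are free of rank `rankAtStalk` near a point. -/
theorem exists_restrict_iso_freeMod_of_flat (H : Type u) [AddCommGroup H]
    [Module Γ(V.toScheme, ⊤) H] [Module.FinitePresentation Γ(V.toScheme, ⊤) H]
    [Module.Flat Γ(V.toScheme, ⊤) H]
    (ℓ : Γ(N.restrict V.ι, ⊤) ≃ₗ[Γ(V.toScheme, ⊤)] H) (y : Y) (hy : y ∈ V) :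
    ∃ U : Y.Opens, y ∈ U ∧ U ≤ V ∧ Nonempty (N.restrict U.ι ≅
      FlatMod.freeMod U (Module.rankAtStalk H (V.toScheme.toSpecΓ ⟨y, hy⟩))) := by
  haveI : (N.restrict V.ι).IsQuasicoherent := qc_restrict _ N
  haveI : Module.FinitePresentation Γ(V.toScheme, ⊤) Γ(N.restrict V.ι, ⊤) :=
    Module.FinitePresentation.of_equiv ℓ.symm
  haveI : Module.Flat Γ(V.toScheme, ⊤) Γ(N.restrict V.ι, ⊤) := Module.Flat.of_linearEquiv ℓ
  obtain ⟨r, hr, hfree⟩ := exists_equiv_fin_fun_away Γ(N.restrict V.ι, ⊤)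
    (V.toScheme.toSpecΓ ⟨y, hy⟩)
  have hTop : IsAffineOpen (⊤ : V.toScheme.Opens) := isAffineOpen_top _
  letI : Algebra Γ(V.toScheme, ⊤) Γ(V.toScheme, V.toScheme.basicOpen r) :=
    resAlgebra (V.toScheme.basicOpen_le r)
  letI : Module Γ(V.toScheme, ⊤) Γ(N.restrict V.ι, V.toScheme.basicOpen r) :=
    resModule (N.restrict V.ι) (V.toScheme.basicOpen_le r)
  haveI : IsScalarTower Γ(V.toScheme, ⊤) Γ(V.toScheme, V.toScheme.basicOpen r)
      Γ(N.restrict V.ι, V.toScheme.basicOpen r) :=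
    resModule_isScalarTower (N.restrict V.ι) (V.toScheme.basicOpen_le r)
  haveI : IsLocalization.Away r Γ(V.toScheme, V.toScheme.basicOpen r) :=
    hTop.isLocalization_basicOpen r
  haveI : IsLocalizedModule.Away r (resLinear (N.restrict V.ι) (V.toScheme.basicOpen_le r)) :=
    isLocalizedModule_basicOpen (N.restrict V.ι) hTop r
  have h1 := hfree Γ(V.toScheme, V.toScheme.basicOpen r)
    Γ(N.restrict V.ι, V.toScheme.basicOpen r)
    (resLinear (N.restrict V.ι) (V.toScheme.basicOpen_le r))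
  rw [Module.rankAtStalk_eq_of_equiv ℓ] at h1
  refine ⟨V.ι ''ᵁ V.toScheme.basicOpen r, ?_, ?_, restrict_iso_freeMod_of_sections N V
    (V.toScheme.basicOpen r) (hTop.basicOpen r) _ h1⟩
  · refine ⟨⟨y, hy⟩, ?_, rfl⟩
    rw [SetLike.mem_coe, ← V.toScheme.toSpecΓ_preimage_basicOpen r]
    exact hr
  · exact Scheme.Hom.image_le_opensRange _ _ |>.trans (le_of_eq V.opensRange_ι)

/-- if `r ∉ x` kills the sections of `N|_V` then `N` vanishes near `y`. -/
theorem exists_restrict_isZero_of_annihilator (r : Γ(V.toScheme, ⊤)) (y : Y) (hy : y ∈ V)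
    (hr : r ∉ (V.toScheme.toSpecΓ ⟨y, hy⟩).asIdeal)
    (h : ∀ m : Γ(N.restrict V.ι, ⊤), r • m = 0) :
    ∃ U : Y.Opens, y ∈ U ∧ U ≤ V ∧ IsZero (N.restrict U.ι) := by
  haveI : (N.restrict V.ι).IsQuasicoherent := qc_restrict _ N
  have hTop : IsAffineOpen (⊤ : V.toScheme.Opens) := isAffineOpen_top _
  letI : Algebra Γ(V.toScheme, ⊤) Γ(V.toScheme, V.toScheme.basicOpen r) :=
    resAlgebra (V.toScheme.basicOpen_le r)
  letI : Module Γ(V.toScheme, ⊤) Γ(N.restrict V.ι, V.toScheme.basicOpen r) :=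
    resModule (N.restrict V.ι) (V.toScheme.basicOpen_le r)
  haveI : IsLocalizedModule.Away r (resLinear (N.restrict V.ι) (V.toScheme.basicOpen_le r)) :=
    isLocalizedModule_basicOpen (N.restrict V.ι) hTop r
  haveI : Subsingleton Γ(N.restrict V.ι, V.toScheme.basicOpen r) :=
    subsingleton_of_isLocalizedModule_away r
      (resLinear (N.restrict V.ι) (V.toScheme.basicOpen_le r)) h
  have h1 : Nonempty (Γ(N.restrict V.ι, V.toScheme.basicOpen r) ≃ₗ[Γ(V.toScheme,
      V.toScheme.basicOpen r)] (Fin 0 → Γ(V.toScheme, V.toScheme.basicOpen r))) :=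
    ⟨LinearEquiv.ofSubsingleton _ _⟩
  obtain ⟨e⟩ := restrict_iso_freeMod_of_sections N V
    (V.toScheme.basicOpen r) (hTop.basicOpen r) 0 h1
  refine ⟨V.ι ''ᵁ V.toScheme.basicOpen r, ?_, ?_, IsZero.of_iso (isZero_freeMod_zero _) e⟩
  · refine ⟨⟨y, hy⟩, ?_, rfl⟩
    rw [SetLike.mem_coe, ← V.toScheme.toSpecΓ_preimage_basicOpen r]
    exact hr
  · exact Scheme.Hom.image_le_opensRange _ _ |>.trans (le_of_eq V.opensRange_ι)

end affineBase

end Groth.Agent.H2.RpC
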