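import Groth.Agent.Lib.Helper2.RpB7
import Groth.Agent.Lib.Helper2.RpC1
import Groth.Agent.Lib.Helper2.RpC3

/-!
# Local data with finiteness of the fibre cohomology (helper2)
-/

set_option autoImplicit false
set_option linter.style.haveILetI false
universe u

open CategoryTheory CategoryTheory.Limits AlgebraicGeometry Opposite TopologicalSpace

namespace Groth.Agent.H2.RpC

open Groth.Agent.H2.Mum Groth.Agent.H2.RpA Groth.Agent.H2.RpB Groth.Agent.LD Groth.Agent.LD.CL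
  Groth.Agent.LD.QC Groth.Agent.H8.ExtBridge

attribute [local instance] overV

section rank

variable {X Y : Scheme.{u}} (f : X ⟶ Y) (V : Y.Opens)

variable [IsAffine V.toScheme] (F : X.Modules) [F.IsQuasicoherent]
  {ι : Type u} [Finite ι] (U : ι → (f ⁻¹ᵁ V).toScheme.Opens)
  (haff : ∀ (n : ℕ) (a : Fin (n + 1) → ι), IsAffineOpen (⨅ k, U (a k))) (hU : iSup U = ⊤)
  (L : CochainComplex (ModuleCat.{u} Γ(V.toScheme, ⊤)) ℤ)
  (v : L ⟶ CZ Γ(V.toScheme, ⊤) U (F.restrict (f ⁻¹ᵁ V).ι))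
  (hq : ∀ M : ModuleCat.{u} Γ(V.toScheme, ⊤), QuasiIso
    (((MonoidalCategory.tensorRight M).mapHomologicalComplex (ComplexShape.up ℤ)).map v))

include haff hU hq in
/-- the cohomology of the fibres is finite dimensional. -/
theorem finite_fiberH_of_mem (hL : ∀ i, Module.Finite Γ(V.toScheme, ⊤) (L.X i)) (p : ℕ) (y : Y)
    (hy : y ∈ V) : Module.Finite (Y.residueField y) (CohIII.fiberH f F y p) := by
  letI algK : Algebra Γ(V.toScheme, ⊤) (Y.residueField y) := (φV V y hy).hom.toAlgebra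
  letI : (f.fiber y).Over (Spec (CommRingCat.of (Y.residueField y))) :=
    ⟨f.fiberToSpecResidueField y⟩
  have sq : IsPullback (gV f V y hy)
      ((f.fiber y) ↘ Spec (CommRingCat.of (Y.residueField y)))
      ((f ⁻¹ᵁ V).toScheme ↘ Spec (CommRingCat.of Γ(V.toScheme, ⊤)))
      (Spec.map (CommRingCat.ofHom (algebraMap Γ(V.toScheme, ⊤) (Y.residueField y)))) :=
    isPullback_fiber_affine f V y hy
  have e := bcH Γ(V.toScheme, ⊤) (Y.residueField y) (gV f V y hy)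
    (F.restrict (f ⁻¹ᵁ V).ι) U sq haff hU L v hq p
  have e2 := HHEquivOfIso (Y.residueField y) (fiberModIso f V y hy F) p
  haveI := hL (p : ℤ)
  haveI : Module.Finite (Y.residueField y)
      ((CohIII.bcCx (algebraMap Γ(V.toScheme, ⊤) (Y.residueField y)) L).X (p : ℤ)) :=
    Module.Finite.equiv (extEquiv (B := Y.residueField y) (L.X (p : ℤ))).symm
  haveI : Module.Finite (Y.residueField y)
      ((CohIII.bcCx (algebraMap Γ(V.toScheme, ⊤) (Y.residueField y)) L).homology (p : ℤ)) :=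
    finite_homology_of_finite_X _ _
  exact Module.Finite.equiv (e.trans e2)

end rank


/-- **Local data**, with finiteness of the cohomology of the fibres. -/
theorem exists_localData' {X Y : Scheme.{u}} (f : X ⟶ Y) [IsProper f] [IsLocallyNoetherian Y]
    [HasInjectiveResolutions X.Modules] (F : X.Modules) (hF : Coh.IsCoh F)
    (hfl : FlatMod.IsFlatOver f F) (V : Y.Opens) (hV : IsAffineOpen V) :
    ∃ P : ChainComplex (ModuleCat.{u} Γ(V.toScheme, ⊤)) ℤ,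
      (∀ i, Module.Finite Γ(V.toScheme, ⊤) (P.X i) ∧ Module.Free Γ(V.toScheme, ⊤) (P.X i)) ∧
      (∃ b : ℤ, ∀ i, i < b → IsZero (P.X i)) ∧
      (∀ i : ℤ, 0 < i → ∀ M : ModuleCat.{u} Γ(V.toScheme, ⊤),
        IsZero ((CohIII.TFun P i).obj M)) ∧
      (∀ (p : ℕ) (y : Y) (hy : y ∈ V),
        CohIII.fiberRank f F p y = CohIII.dRank P (-(p : ℤ)) (V.toScheme.toSpecΓ ⟨y, hy⟩)) ∧
      (∀ p : ℕ, Nonempty (Γ(((Coh.Rpush f p).obj F).restrict V.ι, ⊤) ≃ₗ[Γ(V.toScheme, ⊤)]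
        P.homology (-(p : ℤ)))) ∧
      (∀ (p : ℕ) (y : Y), y ∈ V → Module.Finite (Y.residueField y) (CohIII.fiberH f F y p)) := by
  haveI : IsAffine V.toScheme := hV
  haveI : F.IsQuasicoherent := hF.1
  haveI : IsNoetherianRing Γ(V.toScheme, ⊤) :=
    IsLocallyNoetherian.component_noetherian ⟨⊤, isAffineOpen_top V.toScheme⟩
  haveI : IsProper ((f ⁻¹ᵁ V).toScheme ↘ Spec (CommRingCat.of Γ(V.toScheme, ⊤))) :=
    inferInstanceAs (IsProper ((f ∣_ V) ≫ V.toScheme.toSpecΓ))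
  haveI : (F.restrict (f ⁻¹ᵁ V).ι).IsQuasicoherent := qc_restrict _ F
  have hF' : Coh.IsCoh (F.restrict (f ⁻¹ᵁ V).ι) :=
    ⟨inferInstance, isFiniteType_restrict _ F hF.2⟩
  have hfl' : FlatMod.IsFlatOver ((f ⁻¹ᵁ V).toScheme ↘ Spec (CommRingCat.of Γ(V.toScheme, ⊤)))
      (F.restrict (f ⁻¹ᵁ V).ι) := isFlatOver_restrict_affine f V F hfl
  obtain ⟨ι, hfin, U, haff, hU, L, v, hL, ⟨b, hb⟩, hv, hq⟩ :=
    exists_resolution' Γ(V.toScheme, ⊤) (f ⁻¹ᵁ V).toScheme (F.restrict (f ⁻¹ᵁ V).ι) hF' hfl'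
  haveI := hfin
  haveI := hv
  refine ⟨flip L, flip_finite_free L hL, ⟨-b, fun i hi => ?_⟩,
    fun i hi M => isZero_TFun_flip_pos Γ(V.toScheme, ⊤) (F.restrict (f ⁻¹ᵁ V).ι) U L v hq M i hi,
    fun p y hy => fiberRank_eq_dRank_of_mem f V F U haff hU L v hq p y hy, fun p => ?_,
    fun p y hy => finite_fiberH_of_mem f V F U haff hU L v hq (fun i => (hL i).1) p y hy⟩
  · exact IsZero.of_iso (hb (-i) (by omega)) (flipXIso L i)
  · haveI := QCQS.hasInjRes (f ⁻¹ᵁ V).toScheme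
    obtain ⟨e⟩ := QCQS.nonempty_restrict_Rpush_iso f V F p
    obtain ⟨ℓ⟩ := nonempty_sections_Rpush_equiv_of_isSeparated (f ∣_ V) p
      (F.restrict (f ⁻¹ᵁ V).ι)
    exact ⟨secEquiv e ⊤ ≪≫ₗ ℓ ≪≫ₗ HSEquiv (f ∣_ V) (F.restrict (f ⁻¹ᵁ V).ι) p ≪≫ₗ
      (flipHomologyEquiv Γ(V.toScheme, ⊤) (F.restrict (f ⁻¹ᵁ V).ι) U L v haff hU p).symm⟩

end Groth.Agent.H2.RpC
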