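import Mathlib

/-!
# Polynomial paths in `SL_n` over a field (S15083)
-/

open Matrix Polynomial

namespace Groth.Agent.H2.SLPath

section alg

variable {K R : Type*} [Field K] [Ring R] [Algebra K R] (e f p q : R)

/-- general element of the span of `1, e, f, p, q` -/
def el (a0 a1 a2 a3 a4 : K) : R := a0 • (1 : R) + a1 • e + a2 • f + a3 • p + a4 • q

variable {e f p q}

lemma el_mul (hee : e * e = 0) (hef : e * f = p) (hep : e * p = 0) (heq : e * q = e)
    (hfe : f * e = q) (hff : f * f = 0) (hfp : f * p = f) (hfq : f * q = 0)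
    (hpe : p * e = e) (hpf : p * f = 0) (hpp : p * p = p) (hpq : p * q = 0)
    (hqe : q * e = 0) (hqf : q * f = f) (hqp : q * p = 0) (hqq : q * q = q)
    (a0 a1 a2 a3 a4 b0 b1 b2 b3 b4 : K) :
    el e f p q a0 a1 a2 a3 a4 * el e f p q b0 b1 b2 b3 b4 =
      el e f p q (a0 * b0) (a0 * b1 + a1 * b0 + a1 * b4 + a3 * b1)
        (a0 * b2 + a2 * b0 + a2 * b3 + a4 * b2) (a0 * b3 + a3 * b0 + a1 * b2 + a3 * b3)
        (a0 * b4 + a4 * b0 + a2 * b1 + a4 * b4) := by
  simp only [el, mul_add, add_mul, smul_mul_smul_comm, mul_one, one_mul, hee, hef, hep, heq, hfe,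
    hff, hfp, hfq, hpe, hpf, hpp, hpq, hqe, hqf, hqp, hqq, smul_zero]
  module

lemma whitehead (hee : e * e = 0) (hef : e * f = p) (hep : e * p = 0) (heq : e * q = e)
    (hfe : f * e = q) (hff : f * f = 0) (hfp : f * p = f) (hfq : f * q = 0)
    (hpe : p * e = e) (hpf : p * f = 0) (hpp : p * p = p) (hpq : p * q = 0)
    (hqe : q * e = 0) (hqf : q * f = f) (hqp : q * p = 0) (hqq : q * q = q)
    (c : K) (hc : c ≠ 0) :
    el e f p q 1 c 0 0 0 * el e f p q 1 0 (-c⁻¹) 0 0 * el e f p q 1 c 0 0 0 *
      el (K := K) e f p q 1 (-1) 0 0 0 * el (K := K) e f p q 1 0 1 0 0 *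
        el (K := K) e f p q 1 (-1) 0 0 0 =
      el e f p q 1 0 0 (c - 1) (c⁻¹ - 1) := by
  simp only [el_mul hee hef hep heq hfe hff hfp hfq hpe hpf hpp hpq hqe hqf hqp hqq]
  congr 1 <;> field_simp <;> ring

end alg

section mat

variable {ι K : Type*} [Fintype ι] [DecidableEq ι] [Field K]

open Matrix.SpecialLinearGroup

lemma transvection_eq_el {i j : ι} (hij : i ≠ j) (c : K) :
    (transvection hij c : Matrix ι ι K) =
      el (K := K) (single i j (1 : K)) (single j i 1) (single i i 1) (single j j 1) 1 c 0 0 0 := by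
  rw [transvection_coe, el]
  simp [smul_single]

lemma transvection_eq_el' {i j : ι} (hij : i ≠ j) (c : K) :
    (transvection hij.symm c : Matrix ι ι K) =
      el (K := K) (single i j (1 : K)) (single j i 1) (single i i 1) (single j j 1) 1 0 c 0 0 := by
  rw [transvection_coe, el]
  simp [smul_single]

lemma diag2n_eq_el {i j : ι} (hij : i ≠ j) (c : K) (hc : c ≠ 0) :
    (diag2n hij c hc : Matrix ι ι K) =
      el (K := K) (single i j (1 : K)) (single j i 1) (single i i 1) (single j j 1) 1 0 0 (c - 1)
        (c⁻¹ - 1) := by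
  rw [diag2n_coe, el]
  ext a b
  simp only [Matrix.diagonal_apply, Matrix.add_apply, Matrix.smul_apply, Matrix.one_apply,
    Matrix.single_apply, smul_eq_mul, mul_one, zero_mul, add_zero, mul_ite, mul_zero]
  by_cases hab : a = b
  · subst hab
    by_cases hai : a = i
    · subst hai
      simp [hij, hij.symm]
    · by_cases haj : a = j
      · subst haj
        simp [hai, Ne.symm hai]
      · simp [hai, haj, Ne.symm hai, Ne.symm haj]
  · have h1 : ¬ (i = a ∧ i = b) := fun h => hab (h.1.symm.trans h.2)
    have h2 : ¬ (j = a ∧ j = b) := fun h => hab (h.1.symm.trans h.2)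
    simp [hab, h1, h2]

lemma diag2n_eq_prod {i j : ι} (hij : i ≠ j) (c : K) (hc : c ≠ 0) :
    diag2n hij c hc = transvection hij c * transvection hij.symm (-c⁻¹) * transvection hij c *
      transvection hij (-1) * transvection hij.symm 1 * transvection hij (-1) := by
  apply Subtype.ext
  simp only [Matrix.SpecialLinearGroup.coe_mul]
  rw [diag2n_eq_el, transvection_eq_el hij, transvection_eq_el hij, transvection_eq_el' hij,
    transvection_eq_el' hij]
  symm
  apply whitehead (K := K) <;> first | exact hc | simp [hij, hij.symm]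

lemma map_transvection {S : Type*} [CommRing S] (φ : S →+* K) {i j : ι} (hij : i ≠ j) (b : S) :
    Matrix.SpecialLinearGroup.map φ (transvection hij b) = transvection hij (φ b) := by
  apply Subtype.ext
  ext a c
  simp [transvection_coe, Matrix.SpecialLinearGroup.map_apply_coe, single_apply, one_apply]
  split_ifs <;> simp

theorem exists_path [Nontrivial ι] (A : Matrix.SpecialLinearGroup ι K) :
    ∃ M : Matrix.SpecialLinearGroup ι (Polynomial K),
      Matrix.SpecialLinearGroup.map (Polynomial.evalRingHom (0 : K)) M = 1 ∧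
      Matrix.SpecialLinearGroup.map (Polynomial.evalRingHom (1 : K)) M = A := by
  have htr : ∀ (i j : ι) (hij : i ≠ j) (a : K), ∃ M : Matrix.SpecialLinearGroup ι (Polynomial K),
      Matrix.SpecialLinearGroup.map (Polynomial.evalRingHom (0 : K)) M = 1 ∧
      Matrix.SpecialLinearGroup.map (Polynomial.evalRingHom (1 : K)) M = transvection hij a := by
    intro i j hij a
    refine ⟨transvection hij (C a * X), ?_, ?_⟩
    · rw [map_transvection]
      simp
    · rw [map_transvection]
      simp
  have hmul : ∀ A B : Matrix.SpecialLinearGroup ι K,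
      (∃ M : Matrix.SpecialLinearGroup ι (Polynomial K),
        Matrix.SpecialLinearGroup.map (Polynomial.evalRingHom (0 : K)) M = 1 ∧
        Matrix.SpecialLinearGroup.map (Polynomial.evalRingHom (1 : K)) M = A) →
      (∃ M : Matrix.SpecialLinearGroup ι (Polynomial K),
        Matrix.SpecialLinearGroup.map (Polynomial.evalRingHom (0 : K)) M = 1 ∧
        Matrix.SpecialLinearGroup.map (Polynomial.evalRingHom (1 : K)) M = B) →
      ∃ M : Matrix.SpecialLinearGroup ι (Polynomial K),
        Matrix.SpecialLinearGroup.map (Polynomial.evalRingHom (0 : K)) M = 1 ∧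
        Matrix.SpecialLinearGroup.map (Polynomial.evalRingHom (1 : K)) M = A * B := by
    rintro A B ⟨M, hM0, hM1⟩ ⟨N, hN0, hN1⟩
    exact ⟨M * N, by rw [map_mul, hM0, hN0, one_mul], by rw [map_mul, hM1, hN1]⟩
  refine diagonal_transvection_induction' _ A ?_ htr hmul
  intro i j hij c hc
  rw [diag2n_eq_prod hij c hc]
  exact hmul _ _ (hmul _ _ (hmul _ _ (hmul _ _ (hmul _ _ (htr i j hij c) (htr j i hij.symm _))
    (htr i j hij c)) (htr i j hij _)) (htr j i hij.symm _)) (htr i j hij _)

end mat

end Groth.Agent.H2.SLPath
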