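import Mathlib

/-!
# Helper lemmas for S17445: p-adic valuations of ∏ (ℓ^{2a} - 1)
-/

namespace Groth.Agent.H2.SSRedN

open Finset

lemma sum_padicValNat_Icc (p : ℕ) [Fact p.Prime] (g : ℕ) :
    ∑ a ∈ Icc 1 g, padicValNat p a = padicValNat p g.factorial := by
  induction g with
  | zero => simp
  | succ g ih =>
    rw [Finset.sum_Icc_succ_top (by omega), ih, Nat.factorial_succ,
      padicValNat.mul (by omega) (Nat.factorial_ne_zero g), add_comm]

lemma padicValNat_prod' {ι : Type*} (p : ℕ) [Fact p.Prime] (s : Finset ι) (f : ι → ℕ)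
    (hf : ∀ i ∈ s, f i ≠ 0) :
    padicValNat p (∏ i ∈ s, f i) = ∑ i ∈ s, padicValNat p (f i) := by
  classical
  induction s using Finset.induction_on with
  | empty => simp
  | insert a s ha ih =>
    rw [Finset.prod_insert ha, Finset.sum_insert ha,
      padicValNat.mul (hf a (Finset.mem_insert_self a s))
        (Finset.prod_ne_zero_iff.mpr fun i hi => hf i (Finset.mem_insert_of_mem hi)),
      ih fun i hi => hf i (Finset.mem_insert_of_mem hi)]

/-- The product `∏_{a=1}^g (ℓ^{2a} - 1)`. -/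
def PP (ℓ g : ℕ) : ℕ := ∏ a ∈ Icc 1 g, (ℓ ^ (2 * a) - 1)

lemma factor_ne_zero {ℓ a : ℕ} (hℓ : 2 ≤ ℓ) (ha : 1 ≤ a) : ℓ ^ (2 * a) - 1 ≠ 0 := by
  have : 2 ^ (2 * a) ≤ ℓ ^ (2 * a) := Nat.pow_le_pow_left hℓ _
  have h2 : 2 ^ 1 ≤ 2 ^ (2 * a) := Nat.pow_le_pow_right (by norm_num) (by omega)
  omega

lemma PP_ne_zero {ℓ : ℕ} (hℓ : 2 ≤ ℓ) (g : ℕ) : PP ℓ g ≠ 0 := by
  unfold PP
  rw [Finset.prod_ne_zero_iff]
  intro a ha
  exact factor_ne_zero hℓ (Finset.mem_Icc.mp ha).1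

lemma padicValNat_PP (p : ℕ) [Fact p.Prime] {ℓ : ℕ} (hℓ : 2 ≤ ℓ) (g : ℕ) :
    padicValNat p (PP ℓ g) = ∑ a ∈ Icc 1 g, padicValNat p (ℓ ^ (2 * a) - 1) := by
  unfold PP
  exact padicValNat_prod' p _ _ fun a ha => factor_ne_zero hℓ (Finset.mem_Icc.mp ha).1

/-- The number `N(g)`. -/
def NN (g : ℕ) : ℕ :=
  2 ^ (3 * g + padicValNat 2 g.factorial) *
    ∏ p ∈ (Icc 3 (2 * g + 1)).filter Nat.Prime,
      p ^ ((2 * g) / (p - 1) + ∑ i ∈ Icc 1 ((2 * g) / (p - 1)), padicValNat p i)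

lemma NN_ne_zero (g : ℕ) : NN g ≠ 0 := by
  unfold NN
  refine mul_ne_zero (by positivity) ?_
  rw [Finset.prod_ne_zero_iff]
  intro p hp
  have : 3 ≤ p := (Finset.mem_Icc.mp (Finset.mem_filter.mp hp).1).1
  exact pow_ne_zero _ (by omega)

lemma padicValNat_prod_primes (q : ℕ) [Fact q.Prime] (S : Finset ℕ) (hS : ∀ p ∈ S, p.Prime)
    (e : ℕ → ℕ) :
    padicValNat q (∏ p ∈ S, p ^ e p) = if q ∈ S then e q else 0 := by
  rw [padicValNat_prod' q S _ fun p hp => pow_ne_zero _ (hS p hp).ne_zero]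
  have h : ∀ p ∈ S, padicValNat q (p ^ e p) = if p = q then e q else 0 := by
    intro p hp
    haveI : Fact p.Prime := ⟨hS p hp⟩
    split_ifs with h
    · subst h
      rw [padicValNat.prime_pow]
    · rw [padicValNat.pow, padicValNat_primes (Ne.symm h), mul_zero]
  rw [Finset.sum_congr rfl h, Finset.sum_ite_eq' S q]

lemma padicValNat_NN_two (g : ℕ) :
    padicValNat 2 (NN g) = 3 * g + padicValNat 2 g.factorial := by
  have : Fact (Nat.Prime 2) := ⟨Nat.prime_two⟩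
  unfold NN
  rw [padicValNat.mul (by positivity), padicValNat.prime_pow,
    padicValNat_prod_primes 2 _ (fun p hp => (Finset.mem_filter.mp hp).2)
      (fun p => (2 * g) / (p - 1) + ∑ i ∈ Icc 1 ((2 * g) / (p - 1)), padicValNat p i)]
  · rw [if_neg, add_zero]
    intro h
    have := (Finset.mem_Icc.mp (Finset.mem_filter.mp h).1).1
    omega
  · rw [Finset.prod_ne_zero_iff]
    intro p hp
    have : 3 ≤ p := (Finset.mem_Icc.mp (Finset.mem_filter.mp hp).1).1
    exact pow_ne_zero _ (by omega)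

lemma padicValNat_NN_odd (g : ℕ) (q : ℕ) [Fact q.Prime] (hq : q ≠ 2) :
    padicValNat q (NN g) =
      if q ≤ 2 * g + 1 then (2 * g) / (q - 1) + ∑ i ∈ Icc 1 ((2 * g) / (q - 1)), padicValNat q i
      else 0 := by
  have : Fact (Nat.Prime 2) := ⟨Nat.prime_two⟩
  have hq2 : 2 ≤ q := (Fact.out : q.Prime).two_le
  unfold NN
  rw [padicValNat.mul (by positivity), padicValNat.pow,
    padicValNat_primes hq, mul_zero, zero_add,
    padicValNat_prod_primes q _ (fun p hp => (Finset.mem_filter.mp hp).2)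
      (fun p => (2 * g) / (p - 1) + ∑ i ∈ Icc 1 ((2 * g) / (p - 1)), padicValNat p i)]
  · by_cases h : q ≤ 2 * g + 1
    · rw [if_pos h, if_pos]
      rw [Finset.mem_filter, Finset.mem_Icc]
      exact ⟨⟨by omega, h⟩, Fact.out⟩
    · rw [if_neg h, if_neg]
      intro h'
      exact h (Finset.mem_Icc.mp (Finset.mem_filter.mp h').1).2
  · rw [Finset.prod_ne_zero_iff]
    intro p hp
    have : 3 ≤ p := (Finset.mem_Icc.mp (Finset.mem_filter.mp hp).1).1
    exact pow_ne_zero _ (by omega)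

end Groth.Agent.H2.SSRedN
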