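import Mathlib
import Groth.Agent.Lib.Helper2.SSRedN1

/-!
# Helper lemmas for S17445, part 2: valuations of `ℓ^{2a} - 1`
-/

namespace Groth.Agent.H2.SSRedN

open Finset

lemma sum_multiples_le (h g : ℕ) (hh : 1 ≤ h) (F : ℕ → ℕ) :
    ∑ i ∈ Icc 1 (g / h), F (h * i) ≤ ∑ a ∈ Icc 1 g, F a := by
  have hinj : Set.InjOn (fun i => h * i) (Icc 1 (g / h) : Finset ℕ) := by
    intro i _ j _ hij
    exact Nat.eq_of_mul_eq_mul_left (by omega) hij
  rw [← Finset.sum_image (f := F) hinj]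
  apply Finset.sum_le_sum_of_subset
  intro a ha
  obtain ⟨i, hi, rfl⟩ := Finset.mem_image.mp ha
  rw [Finset.mem_Icc] at hi ⊢
  refine ⟨Nat.one_le_iff_ne_zero.mpr (Nat.mul_ne_zero (by omega) (by omega)), ?_⟩
  calc h * i ≤ h * (g / h) := Nat.mul_le_mul_left _ hi.2
    _ ≤ g := Nat.mul_div_le g h

lemma sum_multiples (h g : ℕ) (hh : 1 ≤ h) (F : ℕ → ℕ)
    (hF : ∀ a, 1 ≤ a → ¬ h ∣ a → F a = 0) :
    ∑ a ∈ Icc 1 g, F a = ∑ i ∈ Icc 1 (g / h), F (h * i) := by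
  have hinj : Set.InjOn (fun i => h * i) (Icc 1 (g / h) : Finset ℕ) := by
    intro i _ j _ hij
    exact Nat.eq_of_mul_eq_mul_left (by omega) hij
  rw [← Finset.sum_image (f := F) hinj]
  symm
  apply Finset.sum_subset
  · intro a ha
    obtain ⟨i, hi, rfl⟩ := Finset.mem_image.mp ha
    rw [Finset.mem_Icc] at hi ⊢
    refine ⟨Nat.one_le_iff_ne_zero.mpr (Nat.mul_ne_zero (by omega) (by omega)), ?_⟩
    calc h * i ≤ h * (g / h) := Nat.mul_le_mul_left _ hi.2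
      _ ≤ g := Nat.mul_div_le g h
  · intro a ha hna
    rw [Finset.mem_Icc] at ha
    apply hF a ha.1
    rintro ⟨i, rfl⟩
    apply hna
    rw [Finset.mem_image]
    refine ⟨i, ?_, rfl⟩
    rw [Finset.mem_Icc]
    refine ⟨?_, ?_⟩
    · rcases Nat.eq_zero_or_pos i with h0 | h0
      · subst h0; simp at ha
      · exact h0
    · rw [Nat.le_div_iff_mul_le (by omega), mul_comm]
      exact ha.2

/-! ### The prime 2 -/

lemma two_lower {ℓ a : ℕ} (h1 : 1 < ℓ) (hodd : ¬ 2 ∣ ℓ) (ha : 1 ≤ a) :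
    3 + padicValNat 2 a ≤ padicValNat 2 (ℓ ^ (2 * a) - 1) := by
  have : Fact (Nat.Prime 2) := ⟨Nat.prime_two⟩
  have h := padicValNat.pow_two_sub_one_ge h1 hodd (n := 2 * a) (by omega) (even_two_mul a)
  rw [padicValNat.mul (by norm_num) (by omega), padicValNat_self] at h
  omega

lemma two_exact {ℓ a : ℕ} (h8 : ℓ % 8 = 3) (ha : 1 ≤ a) :
    padicValNat 2 (ℓ ^ (2 * a) - 1) = 3 + padicValNat 2 a := by
  have : Fact (Nat.Prime 2) := ⟨Nat.prime_two⟩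
  have h1 : 1 < ℓ := by omega
  have hodd : ¬ 2 ∣ ℓ := by omega
  have h := padicValNat.pow_two_sub_one h1 hodd (n := 2 * a) (by omega) (even_two_mul a)
  rw [padicValNat.mul (by norm_num) (by omega), padicValNat_self] at h
  have e1 : padicValNat 2 (ℓ + 1) = 2 := by
    obtain ⟨k, hk⟩ : ∃ k, ℓ = 8 * k + 3 := ⟨ℓ / 8, by omega⟩
    have : ℓ + 1 = 2 ^ 2 * (2 * k + 1) := by omega
    rw [this, padicValNat.mul (by norm_num) (by omega), padicValNat.prime_pow,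
      padicValNat.eq_zero_of_not_dvd (by omega)]
  have e2 : padicValNat 2 (ℓ - 1) = 1 := by
    obtain ⟨k, hk⟩ : ∃ k, ℓ = 8 * k + 3 := ⟨ℓ / 8, by omega⟩
    have : ℓ - 1 = 2 ^ 1 * (4 * k + 1) := by omega
    rw [this, padicValNat.mul (by norm_num) (by omega), padicValNat.prime_pow,
      padicValNat.eq_zero_of_not_dvd (by omega)]
  rw [e1, e2] at h
  omega

/-! ### Odd primes: lower bound -/

lemma fermat_dvd {p ℓ : ℕ} [hp : Fact p.Prime] (hℓ : ¬ p ∣ ℓ) : p ∣ ℓ ^ (p - 1) - 1 := by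
  have h1 : 1 ≤ ℓ ^ (p - 1) := Nat.one_le_pow _ _ (Nat.pos_of_ne_zero (by rintro rfl; simp at hℓ))
  rw [← ZMod.natCast_eq_zero_iff, Nat.cast_sub h1, Nat.cast_pow, Nat.cast_one, sub_eq_zero]
  apply ZMod.pow_card_sub_one_eq_one
  rwa [Ne, ZMod.natCast_eq_zero_iff]

lemma odd_lower {p ℓ i : ℕ} [hp : Fact p.Prime] (hp2 : p ≠ 2) (h1 : 1 < ℓ) (hℓ : ¬ p ∣ ℓ)
    (hi : 1 ≤ i) :
    1 + padicValNat p i ≤ padicValNat p (ℓ ^ ((p - 1) * i) - 1) := by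
  have hodd : Odd p := hp.out.odd_of_ne_two hp2
  have hp3 : 3 ≤ p := by
    have := hp.out.two_le
    omega
  have hx1 : 1 < ℓ ^ (p - 1) := Nat.one_lt_pow (by omega) h1
  have hdvd : p ∣ ℓ ^ (p - 1) - 1 := fermat_dvd hℓ
  have hx : ¬ p ∣ ℓ ^ (p - 1) := fun h => hℓ (hp.out.dvd_of_dvd_pow h)
  have h := padicValNat.pow_sub_pow hodd hx1 hdvd hx (n := i) (by omega)
  rw [one_pow, ← pow_mul] at h
  rw [h]
  have : 1 ≤ padicValNat p (ℓ ^ (p - 1) - 1) :=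
    one_le_padicValNat_of_dvd (Nat.sub_ne_zero_of_lt hx1) hdvd
  omega

end Groth.Agent.H2.SSRedN
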