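import Mathlib
import Groth.Agent.Lib.Helper2.SSRedN2

/-!
# Helper lemmas for S17445, part 3: primitive roots modulo `p^2`
-/

namespace Groth.Agent.H2.SSRedN

open Finset

/-- There is a residue class mod `p^2` (a unit) of multiplicative order `p (p - 1)`. -/
lemma exists_primitive {p : ℕ} (hp : p.Prime) (hp2 : p ≠ 2) :
    ∃ r : ZMod (p ^ 2), IsUnit r ∧ orderOf r = p * (p - 1) := by
  haveI : Fact p.Prime := ⟨hp⟩
  haveI : NeZero (p ^ 2) := ⟨pow_ne_zero _ hp.ne_zero⟩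
  haveI := ZMod.isCyclic_units_of_prime_pow p hp hp2 2
  obtain ⟨u, hu⟩ := IsCyclic.exists_generator (α := (ZMod (p ^ 2))ˣ)
  refine ⟨(u : ZMod (p ^ 2)), u.isUnit, ?_⟩
  rw [orderOf_units, orderOf_eq_card_of_forall_mem_zpowers hu, Nat.card_eq_fintype_card,
    ZMod.card_units_eq_totient, Nat.totient_prime_pow hp (by norm_num)]
  simp

section
variable {p ℓ : ℕ} [hp : Fact p.Prime]

lemma cast_pow_sub_one (n : ℕ) (hℓ : 1 ≤ ℓ) (m : ℕ) :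
    ((ℓ ^ n - 1 : ℕ) : ZMod m) = (ℓ : ZMod m) ^ n - 1 := by
  rw [Nat.cast_sub (Nat.one_le_pow _ _ hℓ), Nat.cast_pow, Nat.cast_one]

lemma sq_dvd_iff (hord : orderOf (ℓ : ZMod (p ^ 2)) = p * (p - 1)) (hℓ : 1 ≤ ℓ) (n : ℕ) :
    p ^ 2 ∣ ℓ ^ n - 1 ↔ p * (p - 1) ∣ n := by
  rw [← ZMod.natCast_eq_zero_iff, cast_pow_sub_one n hℓ, sub_eq_zero, ← hord,
    orderOf_dvd_iff_pow_eq_one]

lemma not_dvd_of_ord (hord : orderOf (ℓ : ZMod (p ^ 2)) = p * (p - 1)) : ¬ p ∣ ℓ := by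
  intro h
  have hp1 := hp.out.two_le
  have hpos : 0 < orderOf (ℓ : ZMod (p ^ 2)) := by
    rw [hord]
    exact Nat.mul_pos (by omega) (by omega)
  have hu : IsUnit (ℓ : ZMod (p ^ 2)) := (orderOf_pos_iff.mp hpos).isUnit
  rw [ZMod.isUnit_iff_coprime] at hu
  have : p ∣ Nat.gcd ℓ (p ^ 2) := Nat.dvd_gcd h (dvd_pow_self p (by norm_num))
  rw [hu] at this
  exact hp.out.one_lt.ne' (Nat.dvd_one.mp this)

lemma dvd_of_dvd_pow_sub_one (hp2 : p ≠ 2) (hord : orderOf (ℓ : ZMod (p ^ 2)) = p * (p - 1))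
    (h1 : 1 < ℓ) {n : ℕ} (hn : 1 ≤ n) (h : p ∣ ℓ ^ n - 1) : (p - 1) ∣ n := by
  have hodd : Odd p := hp.out.odd_of_ne_two hp2
  have hℓ : ¬ p ∣ ℓ := not_dvd_of_ord hord
  have hx1 : 1 < ℓ ^ n := Nat.one_lt_pow (by omega) h1
  have hx : ¬ p ∣ ℓ ^ n := fun h => hℓ (hp.out.dvd_of_dvd_pow h)
  have hL := padicValNat.pow_sub_pow hodd hx1 h hx (n := p) hp.out.ne_zero
  rw [one_pow, ← pow_mul, padicValNat_self] at hL
  have h1' : 1 ≤ padicValNat p (ℓ ^ n - 1) :=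
    one_le_padicValNat_of_dvd (Nat.sub_ne_zero_of_lt hx1) h
  have hne : ℓ ^ (n * p) - 1 ≠ 0 :=
    Nat.sub_ne_zero_of_lt (Nat.one_lt_pow (Nat.mul_ne_zero (by omega) hp.out.ne_zero) h1)
  have h2 : p ^ 2 ∣ ℓ ^ (n * p) - 1 := by
    rw [padicValNat_dvd_iff_le hne]
    omega
  rw [sq_dvd_iff hord (by omega)] at h2
  rw [mul_comm n p] at h2
  exact (Nat.mul_dvd_mul_iff_left hp.out.pos).mp h2

lemma val_base (hp2 : p ≠ 2) (hord : orderOf (ℓ : ZMod (p ^ 2)) = p * (p - 1)) (h1 : 1 < ℓ) :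
    padicValNat p (ℓ ^ (p - 1) - 1) = 1 := by
  have hp3 : 3 ≤ p := by
    have := hp.out.two_le
    omega
  have hℓ : ¬ p ∣ ℓ := not_dvd_of_ord hord
  have hx1 : 1 < ℓ ^ (p - 1) := Nat.one_lt_pow (by omega) h1
  have hne : ℓ ^ (p - 1) - 1 ≠ 0 := Nat.sub_ne_zero_of_lt hx1
  have h1' : 1 ≤ padicValNat p (ℓ ^ (p - 1) - 1) := one_le_padicValNat_of_dvd hne (fermat_dvd hℓ)
  by_contra hne1
  have h2 : 2 ≤ padicValNat p (ℓ ^ (p - 1) - 1) := by omega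
  rw [← padicValNat_dvd_iff_le hne, sq_dvd_iff hord (by omega)] at h2
  have := Nat.le_of_dvd (by omega) h2
  have h3 : 3 * (p - 1) ≤ p * (p - 1) := Nat.mul_le_mul_right _ hp3
  omega

lemma val_exact (hp2 : p ≠ 2) (hord : orderOf (ℓ : ZMod (p ^ 2)) = p * (p - 1)) (h1 : 1 < ℓ)
    {i : ℕ} (hi : 1 ≤ i) :
    padicValNat p (ℓ ^ ((p - 1) * i) - 1) = 1 + padicValNat p i := by
  have hodd : Odd p := hp.out.odd_of_ne_two hp2
  have hp3 : 3 ≤ p := by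
    have := hp.out.two_le
    omega
  have hℓ : ¬ p ∣ ℓ := not_dvd_of_ord hord
  have hx1 : 1 < ℓ ^ (p - 1) := Nat.one_lt_pow (by omega) h1
  have hdvd : p ∣ ℓ ^ (p - 1) - 1 := fermat_dvd hℓ
  have hx : ¬ p ∣ ℓ ^ (p - 1) := fun h => hℓ (hp.out.dvd_of_dvd_pow h)
  have h := padicValNat.pow_sub_pow hodd hx1 hdvd hx (n := i) (by omega)
  rw [one_pow, ← pow_mul] at h
  rw [h, val_base hp2 hord h1]

lemma val_zero (hp2 : p ≠ 2) (hord : orderOf (ℓ : ZMod (p ^ 2)) = p * (p - 1)) (h1 : 1 < ℓ)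
    {n : ℕ} (hn : 1 ≤ n) (h : ¬ (p - 1) ∣ n) :
    padicValNat p (ℓ ^ n - 1) = 0 :=
  padicValNat.eq_zero_of_not_dvd fun hd => h (dvd_of_dvd_pow_sub_one hp2 hord h1 hn hd)

/-- The exact valuation of `PP ℓ g` at an odd prime `p` when `ℓ` is a primitive root mod `p^2`. -/
lemma val_PP_odd (hp2 : p ≠ 2) (hord : orderOf (ℓ : ZMod (p ^ 2)) = p * (p - 1)) (h1 : 1 < ℓ)
    (g : ℕ) :
    padicValNat p (PP ℓ g) =
      (2 * g) / (p - 1) + ∑ i ∈ Icc 1 ((2 * g) / (p - 1)), padicValNat p i := by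
  have hodd : Odd p := hp.out.odd_of_ne_two hp2
  have hp3 : 3 ≤ p := by
    have := hp.out.two_le
    omega
  obtain ⟨h, hh⟩ : ∃ h, p - 1 = 2 * h := by
    obtain ⟨k, hk⟩ := hodd
    exact ⟨k, by omega⟩
  have hh1 : 1 ≤ h := by omega
  rw [padicValNat_PP p (by omega) g, hh, Nat.mul_div_mul_left g h (by norm_num)]
  rw [sum_multiples h g hh1 (fun a => padicValNat p (ℓ ^ (2 * a) - 1))]
  · have : ∀ i ∈ Icc 1 (g / h), padicValNat p (ℓ ^ (2 * (h * i)) - 1) = 1 + padicValNat p i := by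
      intro i hi
      rw [← mul_assoc, ← hh]
      exact val_exact hp2 hord h1 (Finset.mem_Icc.mp hi).1
    rw [Finset.sum_congr rfl this, Finset.sum_add_distrib]
    simp
  · intro a ha hna
    apply val_zero hp2 hord h1 (by omega)
    rw [hh]
    intro hd
    exact hna ((Nat.mul_dvd_mul_iff_left (by norm_num)).mp hd)

/-- The lower bound for the valuation of `PP ℓ g` at an odd prime not dividing `ℓ`. -/
lemma val_PP_odd_ge (hp2 : p ≠ 2) (hℓ : ¬ p ∣ ℓ) (h1 : 1 < ℓ) (g : ℕ) :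
    (2 * g) / (p - 1) + ∑ i ∈ Icc 1 ((2 * g) / (p - 1)), padicValNat p i ≤
      padicValNat p (PP ℓ g) := by
  have hodd : Odd p := hp.out.odd_of_ne_two hp2
  have hp3 : 3 ≤ p := by
    have := hp.out.two_le
    omega
  obtain ⟨h, hh⟩ : ∃ h, p - 1 = 2 * h := by
    obtain ⟨k, hk⟩ := hodd
    exact ⟨k, by omega⟩
  have hh1 : 1 ≤ h := by omega
  rw [padicValNat_PP p (by omega) g, hh, Nat.mul_div_mul_left g h (by norm_num)]
  refine le_trans ?_ (sum_multiples_le h g hh1 (fun a => padicValNat p (ℓ ^ (2 * a) - 1)))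
  have : ∀ i ∈ Icc 1 (g / h), 1 + padicValNat p i ≤ padicValNat p (ℓ ^ (2 * (h * i)) - 1) := by
    intro i hi
    rw [← mul_assoc, ← hh]
    exact odd_lower hp2 h1 hℓ (Finset.mem_Icc.mp hi).1
  refine le_trans ?_ (Finset.sum_le_sum this)
  rw [Finset.sum_add_distrib]
  simp

end

/-- The valuation at 2. -/
lemma val_PP_two_ge {ℓ : ℕ} (h1 : 1 < ℓ) (hodd : ¬ 2 ∣ ℓ) (g : ℕ) :
    3 * g + padicValNat 2 g.factorial ≤ padicValNat 2 (PP ℓ g) := by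
  have : Fact (Nat.Prime 2) := ⟨Nat.prime_two⟩
  rw [padicValNat_PP 2 (by omega) g, ← sum_padicValNat_Icc 2 g]
  have : ∀ a ∈ Icc 1 g, 3 + padicValNat 2 a ≤ padicValNat 2 (ℓ ^ (2 * a) - 1) := fun a ha =>
    two_lower h1 hodd (Finset.mem_Icc.mp ha).1
  refine le_trans ?_ (Finset.sum_le_sum this)
  rw [Finset.sum_add_distrib]
  simp [mul_comm]

lemma val_PP_two {ℓ : ℕ} (h8 : ℓ % 8 = 3) (g : ℕ) :
    padicValNat 2 (PP ℓ g) = 3 * g + padicValNat 2 g.factorial := by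
  have : Fact (Nat.Prime 2) := ⟨Nat.prime_two⟩
  rw [padicValNat_PP 2 (by omega) g, ← sum_padicValNat_Icc 2 g]
  have : ∀ a ∈ Icc 1 g, padicValNat 2 (ℓ ^ (2 * a) - 1) = 3 + padicValNat 2 a := fun a ha =>
    two_exact h8 (Finset.mem_Icc.mp ha).1
  rw [Finset.sum_congr rfl this, Finset.sum_add_distrib]
  simp [mul_comm]

end Groth.Agent.H2.SSRedN
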