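import Mathlib

set_option autoImplicit false
set_option linter.style.haveILetI false
set_option linter.unusedSectionVars false
universe u

open CategoryTheory Opposite Limits

namespace Groth.Agent.H2.SecConst

variable {C : Type u} [SmallCategory C] (J : GrothendieckTopology C)
  (Λ : Type u) [CommRing Λ]

noncomputable instance : PreservesFiniteLimits (constantSheaf J (ModuleCat.{u} Λ)) := by
  unfold constantSheaf
  infer_instance

noncomputable instance (U : C) :
    PreservesFiniteLimits ((sheafSections J (ModuleCat.{u} Λ)).obj (op U)) := by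
  have : (sheafSections J (ModuleCat.{u} Λ)).obj (op U) =
    sheafToPresheaf J (ModuleCat.{u} Λ) ⋙ (evaluation Cᵒᵖ (ModuleCat.{u} Λ)).obj (op U) := rfl
  rw [this]
  infer_instance

/-- Sections over `U` of the constant sheaf, as a functor of the module. -/
noncomputable abbrev G (U : C) : ModuleCat.{u} Λ ⥤ ModuleCat.{u} Λ :=
  constantSheaf J (ModuleCat.{u} Λ) ⋙ (sheafSections J (ModuleCat.{u} Λ)).obj (op U)

noncomputable instance (U : C) : PreservesFiniteLimits (G J Λ U) := by
  unfold G
  infer_instance

lemma surjective_sections (B C' : ModuleCat.{u} Λ) (g : B ⟶ C')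
    (hg : Function.Surjective g) (U : C) :
    Function.Surjective ((G J Λ U).map g) := by
  let V := forget (ModuleCat.{u} Λ)
  let e := constantCommuteCompose J V
  let Γ := (sheafSections J (Type u)).obj (op U)
  obtain ⟨σ, hσ⟩ := hg.hasRightInverse
  let σ' : V.obj C' ⟶ V.obj B := TypeCat.ofHom σ
  have h1 : σ' ≫ V.map g = 𝟙 _ := by
    ext x
    exact hσ x
  have h2 : (constantSheaf J (Type u)).map σ' ≫ (constantSheaf J (Type u)).map (V.map g) = 𝟙 _ := by
    rw [← CategoryTheory.Functor.map_comp, h1, CategoryTheory.Functor.map_id]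
  have nat := e.hom.naturality g
  have natU := congrArg (fun φ => Γ.map φ) nat
  have h2U := congrArg (fun φ => Γ.map φ) h2
  simp only [CategoryTheory.Functor.map_comp, CategoryTheory.Functor.map_id] at natU h2U
  intro y
  let y' := (Γ.map (e.hom.app C')) y
  let x' := (Γ.map ((constantSheaf J (Type u)).map σ')) y'
  let x := (Γ.map (e.inv.app B)) x'
  refine ⟨x, ?_⟩
  have hinj : Function.Injective (Γ.map (e.hom.app C')) := by
    have : IsIso (Γ.map (e.hom.app C')) := inferInstance
    exact ((isIso_iff_bijective _).mp this).1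
  apply hinj
  have e1 := ConcreteCategory.congr_hom natU x
  have e2 := ConcreteCategory.congr_hom h2U y'
  have e3 : (Γ.map (e.hom.app B)) x = x' := by
    change (Γ.map (e.inv.app B) ≫ Γ.map (e.hom.app B)) x' = x'
    rw [← CategoryTheory.Functor.map_comp, ← NatTrans.comp_app, e.inv_hom_id]
    simp
  simp only [types_comp_apply, types_id_apply] at e1 e2
  rw [e3] at e1
  exact e1.trans e2

end Groth.Agent.H2.SecConst

namespace Groth.Agent.H2.SecConst

variable {C : Type u} [SmallCategory C] (J : GrothendieckTopology C)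
  (Λ : Type u) [CommRing Λ]

instance (U : C) : (G J Λ U).Additive := by
  haveI := preservesBinaryBiproducts_of_preservesBinaryProducts (G J Λ U)
  exact Functor.additive_of_preservesBinaryBiproducts _

/-- The sections functor is `Λ`-linear on endomorphisms by scalars. -/
lemma map_smul_id (U : C) (M : ModuleCat.{u} Λ) (c : Λ) :
    (G J Λ U).map (c • 𝟙 M) = c • 𝟙 ((G J Λ U).obj M) := by
  let K : Cᵒᵖ ⥤ ModuleCat.{u} Λ := (Functor.const Cᵒᵖ).obj M
  let α : sheafify J K ⟶ sheafify J K := sheafifyMap J ((Functor.const Cᵒᵖ).map (c • 𝟙 M))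
  let β : sheafify J K ⟶ sheafify J K := c • 𝟙 _
  have hαβ : α = β := by
    apply sheafify_hom_ext _ α β ((presheafToSheaf J (ModuleCat.{u} Λ)).obj K).property
    have h1 : toSheafify J K ≫ α = (Functor.const Cᵒᵖ).map (c • 𝟙 M) ≫ toSheafify J K :=
      (toSheafify_naturality J ((Functor.const Cᵒᵖ).map (c • 𝟙 M))).symm
    have h2 : (Functor.const Cᵒᵖ).map (c • 𝟙 M) = c • 𝟙 K := by
      ext X : 2
      simp [K]
    refine h1.trans ?_
    rw [h2]
    change (c • 𝟙 K) ≫ toSheafify J K = toSheafify J K ≫ (c • 𝟙 _)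
    rw [Linear.smul_comp, Linear.comp_smul, Category.id_comp, Category.comp_id]
  have := congrArg (fun γ => γ.app (op U)) hαβ
  exact this

lemma map_smul (U : C) {M N : ModuleCat.{u} Λ} (c : Λ) (f : M ⟶ N) :
    (G J Λ U).map (c • f) = c • (G J Λ U).map f := by
  have h : c • f = (c • 𝟙 M) ≫ f := by simp
  rw [h, Functor.map_comp, map_smul_id]
  simp

end Groth.Agent.H2.SecConst
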