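import Mathlib

set_option autoImplicit false
set_option linter.style.haveILetI false
set_option linter.unusedSectionVars false
universe u

open CategoryTheory Opposite Limits TensorProduct

namespace Groth.Agent.H2.SecConst

variable {Λ : Type u} [CommRing Λ] (G : ModuleCat.{u} Λ ⥤ ModuleCat.{u} Λ)

section Gm

variable {M N P : Type u} [AddCommGroup M] [Module Λ M] [AddCommGroup N] [Module Λ N]
  [AddCommGroup P] [Module Λ P]

/-- The action of the functor on linear maps. -/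
noncomputable def Gm (f : M →ₗ[Λ] N) :
    G.obj (ModuleCat.of Λ M) →ₗ[Λ] G.obj (ModuleCat.of Λ N) :=
  (G.map (ModuleCat.ofHom f)).hom

lemma Gm_id : Gm G (LinearMap.id : M →ₗ[Λ] M) = LinearMap.id := by
  unfold Gm
  rw [ModuleCat.ofHom_id, G.map_id]
  rfl

lemma Gm_comp (g : N →ₗ[Λ] P) (f : M →ₗ[Λ] N) : Gm G (g ∘ₗ f) = Gm G g ∘ₗ Gm G f := by
  unfold Gm
  rw [ModuleCat.ofHom_comp, G.map_comp]
  rfl

lemma Gm_comp_apply (g : N →ₗ[Λ] P) (f : M →ₗ[Λ] N) (s : G.obj (ModuleCat.of Λ M)) :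
    Gm G (g ∘ₗ f) s = Gm G g (Gm G f s) := by
  rw [Gm_comp]
  rfl

variable [G.Additive]

lemma Gm_add (f g : M →ₗ[Λ] N) : Gm G (f + g) = Gm G f + Gm G g := by
  unfold Gm
  rw [ModuleCat.ofHom_add, G.map_add]
  rfl

lemma Gm_zero : Gm G (0 : M →ₗ[Λ] N) = 0 := by
  unfold Gm
  rw [ModuleCat.ofHom_zero, G.map_zero]
  rfl

lemma Gm_sum {ι : Type*} (s : Finset ι) (f : ι → (M →ₗ[Λ] N)) :
    Gm G (∑ i ∈ s, f i) = ∑ i ∈ s, Gm G (f i) := by
  classical
  induction s using Finset.induction_on with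
  | empty => simp [Gm_zero]
  | insert a s ha ih => rw [Finset.sum_insert ha, Finset.sum_insert ha, Gm_add, ih]

end Gm

end Groth.Agent.H2.SecConst

namespace Groth.Agent.H2.SecConst

variable {Λ : Type u} [CommRing Λ] (G : ModuleCat.{u} Λ ⥤ ModuleCat.{u} Λ)

/-- Hypotheses: `G` is a `Λ`-linear exact functor. -/
structure IsExactLin [G.Additive] : Prop where
  lin : ∀ {M N : ModuleCat.{u} Λ} (c : Λ) (f : M ⟶ N), G.map (c • f) = c • G.map f
  surj : ∀ {M N : ModuleCat.{u} Λ} (f : M ⟶ N), Function.Surjective f →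
    Function.Surjective (G.map f)
  lex : PreservesFiniteLimits G

variable [G.Additive] {G} (hG : IsExactLin G)

section

variable {M N P : Type u} [AddCommGroup M] [Module Λ M] [AddCommGroup N] [Module Λ N]
  [AddCommGroup P] [Module Λ P]

include hG

lemma Gm_smul (c : Λ) (f : M →ₗ[Λ] N) : Gm G (c • f) = c • Gm G f := by
  unfold Gm
  have h : ModuleCat.ofHom (c • f) = c • ModuleCat.ofHom f := rfl
  rw [h, hG.lin]
  rfl

lemma Gm_surjective (f : M →ₗ[Λ] N) (hf : Function.Surjective f) :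
    Function.Surjective (Gm G f) :=
  hG.surj (ModuleCat.ofHom f) hf

lemma Gm_injective (f : M →ₗ[Λ] N) (hf : Function.Injective f) :
    Function.Injective (Gm G f) := by
  haveI := hG.lex
  haveI : Mono (ModuleCat.ofHom f) := (ModuleCat.mono_iff_injective _).2 hf
  haveI : Mono (G.map (ModuleCat.ofHom f)) := inferInstance
  exact (ModuleCat.mono_iff_injective (G.map (ModuleCat.ofHom f))).1 inferInstance

lemma Gm_exact (f : M →ₗ[Λ] N) (g : N →ₗ[Λ] P) (hfg : Function.Exact f g)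
    (t : G.obj (ModuleCat.of Λ N)) (ht : Gm G g t = 0) :
    ∃ t' : G.obj (ModuleCat.of Λ M), Gm G f t' = t := by
  haveI := hG.lex
  -- the kernel short complex
  let ι : LinearMap.ker g →ₗ[Λ] N := (LinearMap.ker g).subtype
  have hzero : ModuleCat.ofHom ι ≫ ModuleCat.ofHom g = 0 := by
    ext x
    exact x.2
  let S : ShortComplex (ModuleCat.{u} Λ) := ShortComplex.mk _ _ hzero
  have hS : S.Exact := by
    rw [ShortComplex.moduleCat_exact_iff]
    intro x hx
    exact ⟨⟨x, hx⟩, rfl⟩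
  haveI : Mono S.f := (ModuleCat.mono_iff_injective _).2 (LinearMap.ker g).injective_subtype
  have hS' : (S.map G).Exact := hS.map_of_mono_of_preservesKernel G inferInstance inferInstance
  rw [ShortComplex.moduleCat_exact_iff] at hS'
  obtain ⟨t₁, ht₁⟩ := hS' t ht
  -- lift through `M → ker g`
  let k : M →ₗ[Λ] LinearMap.ker g := f.codRestrict _ (fun x => hfg.apply_apply_eq_zero x)
  have hk : Function.Surjective k := by
    rintro ⟨y, hy⟩
    obtain ⟨x, rfl⟩ := (hfg y).1 hy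
    exact ⟨x, rfl⟩
  obtain ⟨t', ht'⟩ := Gm_surjective hG k hk t₁
  refine ⟨t', ?_⟩
  have hf : f = ι ∘ₗ k := rfl
  rw [hf, Gm_comp_apply, ht']
  exact ht₁

end

end Groth.Agent.H2.SecConst

namespace Groth.Agent.H2.SecConst

variable {Λ : Type u} [CommRing Λ]

section Free

variable (Λ) (M : Type u) [AddCommGroup M] [Module Λ M] (n : ℕ)

/-- `m ↦ m ⊗ e_k`. -/
noncomputable def inn (k : Fin n) : M →ₗ[Λ] M ⊗[Λ] (Fin n → Λ) :=
  (TensorProduct.mk Λ M (Fin n → Λ)).flip (Pi.single k 1)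

/-- `m ⊗ v ↦ v k • m`. -/
noncomputable def prr (k : Fin n) : M ⊗[Λ] (Fin n → Λ) →ₗ[Λ] M :=
  TensorProduct.lift (LinearMap.flip ((LinearMap.lsmul Λ M) ∘ₗ (LinearMap.proj k)))

@[simp] lemma inn_apply (k : Fin n) (m : M) : inn Λ M n k m = m ⊗ₜ[Λ] (Pi.single k 1) := rfl

@[simp] lemma prr_tmul (k : Fin n) (m : M) (v : Fin n → Λ) : prr Λ M n k (m ⊗ₜ v) = v k • m := by
  simp [prr]

lemma sum_inn_prr : ∑ k, inn Λ M n k ∘ₗ prr Λ M n k = LinearMap.id := by
  apply TensorProduct.ext'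
  intro m v
  simp only [LinearMap.coe_sum, Finset.sum_apply, LinearMap.comp_apply, prr_tmul, inn_apply,
    LinearMap.id_apply]
  simp_rw [TensorProduct.smul_tmul]
  rw [← TensorProduct.tmul_sum]
  congr 1
  ext j
  simp [Finset.sum_apply, Pi.single_apply]

lemma sum_inn_prr_apply (z : M ⊗[Λ] (Fin n → Λ)) : ∑ k, (prr Λ M n k z) ⊗ₜ[Λ] (Pi.single k (1 : Λ)) = z := by
  have := LinearMap.congr_fun (sum_inn_prr Λ M n) z
  simpa using this

lemma prr_comp_inn (k k' : Fin n) :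
    prr Λ M n k ∘ₗ inn Λ M n k' = ((Pi.single k' (1 : Λ) : Fin n → Λ) k) • LinearMap.id := by
  ext m
  simp

lemma lTensor_comp_inn {Q : Type u} [AddCommGroup Q] [Module Λ Q]
    (b : (Fin n → Λ) →ₗ[Λ] Q) (k : Fin n) :
    LinearMap.lTensor M b ∘ₗ inn Λ M n k = (TensorProduct.mk Λ M Q).flip (b (Pi.single k 1)) := by
  ext m
  simp

lemma prr_lTensor_inn {m : ℕ} (a : (Fin m → Λ) →ₗ[Λ] (Fin n → Λ)) (k : Fin n) (j : Fin m) :
    prr Λ M n k ∘ₗ (LinearMap.lTensor M a ∘ₗ inn Λ M m j) =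
      (a (Pi.single j 1) k) • LinearMap.id := by
  ext x
  simp

lemma sum_smul_single {Q : Type u} [AddCommGroup Q] [Module Λ Q]
    (b : (Fin n → Λ) →ₗ[Λ] Q) (v : Fin n → Λ) :
    ∑ k, v k • b (Pi.single k 1) = b v := by
  simp_rw [← map_smul]
  rw [← map_sum]
  congr 1
  ext j
  simp [Finset.sum_apply, Pi.single_apply]

end Free

end Groth.Agent.H2.SecConst

namespace Groth.Agent.H2.SecConst

variable {Λ : Type u} [CommRing Λ] {G : ModuleCat.{u} Λ ⥤ ModuleCat.{u} Λ} [G.Additive]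
  (hG : IsExactLin G)

section Theta

variable (M Q Q' : Type u) [AddCommGroup M] [Module Λ M] [AddCommGroup Q] [Module Λ Q]
  [AddCommGroup Q'] [Module Λ Q']

/-- `Gm` as a linear map. -/
noncomputable def GmL (N : Type u) [AddCommGroup N] [Module Λ N] :
    (M →ₗ[Λ] N) →ₗ[Λ] (G.obj (ModuleCat.of Λ M) →ₗ[Λ] G.obj (ModuleCat.of Λ N)) where
  toFun := Gm G
  map_add' := Gm_add G
  map_smul' := Gm_smul hG

/-- The comparison map `G(M) ⊗ Q → G(M ⊗ Q)`. -/
noncomputable def θ : (G.obj (ModuleCat.of Λ M)) ⊗[Λ] Q →ₗ[Λ] G.obj (ModuleCat.of Λ (M ⊗[Λ] Q)) :=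
  TensorProduct.lift ((GmL hG M (M ⊗[Λ] Q) ∘ₗ (TensorProduct.mk Λ M Q).flip).flip)

lemma θ_tmul (s : G.obj (ModuleCat.of Λ M)) (q : Q) :
    θ hG M Q (s ⊗ₜ q) = Gm G ((TensorProduct.mk Λ M Q).flip q) s := by
  simp [θ, GmL]

variable {Q Q'} in
lemma θ_natural (h : Q →ₗ[Λ] Q') (z : (G.obj (ModuleCat.of Λ M)) ⊗[Λ] Q) :
    Gm G (LinearMap.lTensor M h) (θ hG M Q z) = θ hG M Q' (LinearMap.lTensor _ h z) := by
  induction z using TensorProduct.induction_on with
  | zero => simp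
  | add x y hx hy => simp only [map_add, hx, hy]
  | tmul s q =>
    rw [θ_tmul, LinearMap.lTensor_tmul, θ_tmul, ← Gm_comp_apply]
    rfl

end Theta

end Groth.Agent.H2.SecConst

namespace Groth.Agent.H2.SecConst

variable {Λ : Type u} [CommRing Λ] {G : ModuleCat.{u} Λ ⥤ ModuleCat.{u} Λ} [G.Additive]
  (hG : IsExactLin G)

section Main

variable (M Q : Type u) [AddCommGroup M] [Module Λ M] [AddCommGroup Q] [Module Λ Q]

include hG

/-- every element of `G(M ⊗ Λ^n)` is `Σ G(in_k)(s_k)` with `s_k = G(pr_k) t`. -/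
lemma sum_Gm_inn_prr (n : ℕ) (t : G.obj (ModuleCat.of Λ (M ⊗[Λ] (Fin n → Λ)))) :
    ∑ k, Gm G (inn Λ M n k) (Gm G (prr Λ M n k) t) = t := by
  have h := congrArg (Gm G) (sum_inn_prr Λ M n)
  rw [Gm_sum, Gm_id] at h
  have h2 := LinearMap.congr_fun h t
  simp only [LinearMap.coe_sum, Finset.sum_apply, LinearMap.id_apply] at h2
  calc ∑ k, Gm G (inn Λ M n k) (Gm G (prr Λ M n k) t)
      = ∑ k, Gm G (inn Λ M n k ∘ₗ prr Λ M n k) t :=
        Finset.sum_congr rfl (fun k _ => (Gm_comp_apply G _ _ t).symm)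
    _ = t := h2

lemma Gm_prr_inn (n : ℕ) (k k' : Fin n) (s : G.obj (ModuleCat.of Λ M)) :
    Gm G (prr Λ M n k) (Gm G (inn Λ M n k') s) = ((Pi.single k' (1 : Λ) : Fin n → Λ) k) • s := by
  rw [← Gm_comp_apply, prr_comp_inn, Gm_smul hG, Gm_id]
  rfl

theorem θ_surjective [Module.FinitePresentation Λ Q] : Function.Surjective (θ hG M Q) := by
  obtain ⟨n, m, b, a, hb, hab⟩ := Module.FinitePresentation.exists_fin' Λ Q
  intro t
  obtain ⟨t', ht'⟩ := Gm_surjective hG (LinearMap.lTensor M b) (LinearMap.lTensor_surjective M hb) t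
  refine ⟨∑ k, (Gm G (prr Λ M n k) t') ⊗ₜ[Λ] b (Pi.single k 1), ?_⟩
  rw [map_sum]
  simp_rw [θ_tmul]
  have h1 : ∀ k, Gm G ((TensorProduct.mk Λ M Q).flip (b (Pi.single k 1)))
      (Gm G (prr Λ M n k) t') =
      Gm G (LinearMap.lTensor M b) (Gm G (inn Λ M n k) (Gm G (prr Λ M n k) t')) := fun k => by
    rw [← lTensor_comp_inn Λ M n b k, Gm_comp_apply]
  simp_rw [h1]
  rw [← map_sum, sum_Gm_inn_prr hG M n t', ht']

end Main

end Groth.Agent.H2.SecConst

namespace Groth.Agent.H2.SecConst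

variable {Λ : Type u} [CommRing Λ] {G : ModuleCat.{u} Λ ⥤ ModuleCat.{u} Λ} [G.Additive]
  (hG : IsExactLin G)

section Main2

variable (M Q : Type u) [AddCommGroup M] [Module Λ M] [AddCommGroup Q] [Module Λ Q]

include hG

theorem θ_injective [Module.FinitePresentation Λ Q] : Function.Injective (θ hG M Q) := by
  obtain ⟨n, m, b, a, hb, hab⟩ := Module.FinitePresentation.exists_fin' Λ Q
  rw [injective_iff_map_eq_zero]
  intro z hz
  -- Step 1
  obtain ⟨z', hz'⟩ := LinearMap.lTensor_surjective (G.obj (ModuleCat.of Λ M)) hb z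
  let s : Fin n → G.obj (ModuleCat.of Λ M) := fun k => prr Λ (G.obj (ModuleCat.of Λ M)) n k z'
  have e1 : z' = ∑ k, (s k) ⊗ₜ[Λ] (Pi.single k (1 : Λ)) :=
    (sum_inn_prr_apply Λ (G.obj (ModuleCat.of Λ M)) n z').symm
  have hz1 : z = ∑ k, s k ⊗ₜ[Λ] b (Pi.single k 1) := by
    rw [← hz']
    conv_lhs => rw [e1]
    rw [map_sum]
    simp only [LinearMap.lTensor_tmul]
  -- Step 2
  let t' : G.obj (ModuleCat.of Λ (M ⊗[Λ] (Fin n → Λ))) := ∑ k, Gm G (inn Λ M n k) (s k)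
  have ht'0 : Gm G (LinearMap.lTensor M b) t' = 0 := by
    have h1 : ∀ k, Gm G (LinearMap.lTensor M b) (Gm G (inn Λ M n k) (s k)) =
        θ hG M Q (s k ⊗ₜ[Λ] b (Pi.single k 1)) := fun k => by
      rw [θ_tmul, ← Gm_comp_apply, lTensor_comp_inn Λ M n b k]
    simp only [t', map_sum, h1]
    rw [← map_sum, ← hz1, hz]
  -- Step 3
  obtain ⟨t'', ht''⟩ := Gm_exact hG (LinearMap.lTensor M a) (LinearMap.lTensor M b)
    (lTensor_exact M hab hb) t' ht'0
  -- Step 4
  let r : Fin m → G.obj (ModuleCat.of Λ M) := fun j => Gm G (prr Λ M m j) t''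
  have ht''1 : t'' = ∑ j, Gm G (inn Λ M m j) (r j) := (sum_Gm_inn_prr hG M m t'').symm
  -- Step 5
  have hs : ∀ k, s k = ∑ j, (a (Pi.single j 1) k) • r j := by
    intro k
    have h1 : Gm G (prr Λ M n k) t' = s k := by
      simp only [t', map_sum, Gm_prr_inn hG]
      simp [Pi.single_apply]
    rw [← h1, ← ht'']
    conv_lhs => rw [ht''1]
    rw [map_sum, map_sum]
    refine Finset.sum_congr rfl (fun j _ => ?_)
    rw [← Gm_comp_apply, ← Gm_comp_apply, LinearMap.comp_assoc, prr_lTensor_inn, Gm_smul hG,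
      Gm_id]
    rfl
  -- Step 6
  rw [hz1]
  simp_rw [hs, TensorProduct.sum_tmul, TensorProduct.smul_tmul]
  rw [Finset.sum_comm]
  simp_rw [← TensorProduct.tmul_sum, sum_smul_single Λ n b, hab.apply_apply_eq_zero]
  simp

theorem θ_bijective [Module.FinitePresentation Λ Q] : Function.Bijective (θ hG M Q) :=
  ⟨θ_injective hG M Q, θ_surjective hG M Q⟩

end Main2

end Groth.Agent.H2.SecConst
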