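import Mathlib
import Groth.Agent.Lib.Helper2.SecConstA
import Groth.Agent.Lib.Helper2.SecConstB

set_option autoImplicit false
set_option linter.style.haveILetI false
set_option linter.unusedSectionVars false
universe u

open CategoryTheory Opposite Limits TensorProduct

namespace Groth.Agent.H2.SecConst

variable {C : Type u} [SmallCategory C] (J : GrothendieckTopology C)
  (Λ : Type u) [CommRing Λ]

lemma isExactLin_G (U : C) : IsExactLin (G J Λ U) where
  lin c f := map_smul J Λ U c f
  surj f hf := surjective_sections J Λ _ _ f hf U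
  lex := inferInstance

theorem S9118_main (M Q : Type u) [AddCommGroup M] [Module Λ M] [AddCommGroup Q] [Module Λ Q]
    [Module.FinitePresentation Λ Q] (U : C) :
    ∃ e : ModuleCat.of Λ (TensorProduct Λ (((constantSheaf J (ModuleCat.{u} Λ)).obj
        (ModuleCat.of Λ M)).obj.obj (op U)) Q) ≅
        ((constantSheaf J (ModuleCat.{u} Λ)).obj
          (ModuleCat.of Λ (TensorProduct Λ M Q))).obj.obj (op U),
      ∀ (s : ((constantSheaf J (ModuleCat.{u} Λ)).obj (ModuleCat.of Λ M)).obj.obj (op U)) (q : Q),
        e.hom.hom (TensorProduct.tmul Λ s q) =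
          (((constantSheaf J (ModuleCat.{u} Λ)).map (ModuleCat.ofHom
            ((TensorProduct.mk Λ M Q).flip q))).hom.app (op U)).hom s := by
  have hG := isExactLin_G J Λ U
  refine ⟨(LinearEquiv.ofBijective (θ hG M Q) (θ_bijective hG M Q)).toModuleIso, ?_⟩
  intro s q
  exact θ_tmul hG M Q s q

theorem S9119_main (hΛ : ∀ I : Ideal Λ, I.FG → Module.FinitePresentation Λ I)
    (M : Type u) [AddCommGroup M] [Module Λ M] [Module.Flat Λ M] (U : C) :
    Module.Flat Λ (((constantSheaf J (ModuleCat.{u} Λ)).obj (ModuleCat.of Λ M)).obj.obj (op U)) := by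
  have hG := isExactLin_G J Λ U
  rw [Module.Flat.iff_lTensor_injective]
  intro I hI
  haveI := hΛ I hI
  -- naturality square
  have hnat := θ_natural hG M I.subtype
  have h1 : Function.Injective (Gm (G J Λ U) (LinearMap.lTensor M I.subtype)) :=
    Gm_injective hG _ (Module.Flat.lTensor_preserves_injective_linearMap _ I.injective_subtype)
  have h2 : Function.Injective (θ hG M I) := θ_injective hG M I
  have h3 : Function.Injective
      (fun z => θ hG M Λ (LinearMap.lTensor ((G J Λ U).obj (ModuleCat.of Λ M)) I.subtype z)) := by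
    have : (fun z => θ hG M Λ (LinearMap.lTensor ((G J Λ U).obj (ModuleCat.of Λ M)) I.subtype z)) =
        (Gm (G J Λ U) (LinearMap.lTensor M I.subtype)) ∘ (θ hG M I) := by
      funext z
      exact (hnat z).symm
    rw [this]
    exact h1.comp h2
  exact Function.Injective.of_comp h3

end Groth.Agent.H2.SecConst
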