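import Groth.Agent.Lib.Helper2.FracTransG
import Groth.Agent.Lib.Helper2.CohPushUC

/-!
# The ring of sections over `Spec B ∖ V(J)` inside the fraction field is finite (helper2)
-/

set_option autoImplicit false
set_option linter.style.haveILetI false
set_option linter.unusedSectionVars false
universe u

namespace Groth.Agent.H2.SecFin

open Groth.Agent.H6 LocCoh Groth.Agent.H2.FracTrans

variable (B : Type u) [CommRing B] [IsDomain B]

/-- elements of the fraction field lying in `B_p` for all primes `p ⊉ J` -/
def secSubalgebra (J : Ideal B) : Subalgebra B (FractionRing B) where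
  carrier := {x | ∀ (p : Ideal B) [p.IsPrime], ¬ J ≤ p →
    ∃ s : B, s ∉ p ∧ ∃ a : B,
      algebraMap B (FractionRing B) a = algebraMap B (FractionRing B) s * x}
  mul_mem' := by
    intro x y hx hy p _ hp
    obtain ⟨s, hs, a, ha⟩ := hx p hp
    obtain ⟨s', hs', a', ha'⟩ := hy p hp
    refine ⟨s * s', ?_, a * a', ?_⟩
    · exact fun h => (Ideal.IsPrime.mem_or_mem inferInstance h).elim hs hs'
    · rw [map_mul, map_mul, ha, ha']
      ring
  add_mem' := by
    intro x y hx hy p _ hp
    obtain ⟨s, hs, a, ha⟩ := hx p hp
    obtain ⟨s', hs', a', ha'⟩ := hy p hp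
    refine ⟨s * s', ?_, s' * a + s * a', ?_⟩
    · exact fun h => (Ideal.IsPrime.mem_or_mem inferInstance h).elim hs hs'
    · rw [map_add, map_mul, map_mul, map_mul, ha, ha']
      ring
  algebraMap_mem' := by
    intro r p _ _
    exact ⟨1, fun h => (Ideal.IsPrime.ne_top inferInstance) ((Ideal.eq_top_iff_one _).mpr h), r,
      by rw [map_one, one_mul]⟩

variable {B}
variable [IsNoetherianRing B]

/-- sections are killed into `B` by a power of `J` -/
theorem exists_mem_colon {J : Ideal B} {x : FractionRing B} (hx : x ∈ secSubalgebra B J) :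
    ∃ n : ℕ, x ∈ colon (one B (FractionRing B)) (J ^ n) := by
  -- the ideal of denominators
  let 𝔡 : Ideal B :=
    { carrier := {b | b • x ∈ one B (FractionRing B)}
      add_mem' := fun {a b} ha hb => by
        change (a + b) • x ∈ one B (FractionRing B)
        rw [add_smul]; exact add_mem ha hb
      zero_mem' := by
        change (0 : B) • x ∈ one B (FractionRing B)
        rw [zero_smul]; exact zero_mem _
      smul_mem' := fun r {b} hb => by
        change (r • b) • x ∈ one B (FractionRing B)
        rw [smul_eq_mul, mul_smul]; exact Submodule.smul_mem _ r hb }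
  have hrad : J ≤ 𝔡.radical := by
    rw [Ideal.radical_eq_sInf]
    refine le_sInf ?_
    rintro p ⟨hdp, hpp⟩
    by_contra hJp
    haveI := hpp
    obtain ⟨s, hs, a, ha⟩ := hx p hJp
    apply hs
    apply hdp
    change s • x ∈ one B (FractionRing B)
    exact ⟨a, by rw [Algebra.smul_def]; exact ha⟩
  obtain ⟨n, hn⟩ := Ideal.exists_pow_le_of_le_radical_of_fg hrad (IsNoetherian.noetherian J)
  exact ⟨n, fun c hc => hn hc⟩

/-- finiteness of the ring of sections from finiteness of the ideal transform -/
theorem finite_secSubalgebra {J : Ideal B} (hJ : J ≠ ⊥) (hfin : Module.Finite B (DT J B)) :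
    Module.Finite B (secSubalgebra B J) := by
  have hinj : Function.Injective (Algebra.linearMap B (FractionRing B)) :=
    IsFractionRing.injective B (FractionRing B)
  let eB : B ≃ₗ[B] one B (FractionRing B) :=
    LinearEquiv.ofInjective (Algebra.linearMap B (FractionRing B)) hinj
  let eD : DT J B ≃ₗ[B] DT J (one B (FractionRing B)) :=
    ((idealTransform J).mapIso eB.toModuleIso).toLinearEquiv
  haveI : Module.Finite B (DT J (one B (FractionRing B))) := Module.Finite.equiv eD
  obtain ⟨j0, hj0⟩ := exists_bound_of_finite_DT hJ (one B (FractionRing B))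
  have hfg : (colon (one B (FractionRing B)) (J ^ j0)).FG :=
    colon_fg (one_fg (FractionRing B)) (pow_ne_zero j0 hJ)
  haveI : IsNoetherian B (colon (one B (FractionRing B)) (J ^ j0)) :=
    isNoetherian_of_fg_of_noetherian _ hfg
  have hle : ∀ x : secSubalgebra B J, (x : FractionRing B) ∈
      colon (one B (FractionRing B)) (J ^ j0) := by
    intro x
    obtain ⟨n, hn⟩ := exists_mem_colon x.2
    exact hj0 n _ hn
  let φ : secSubalgebra B J →ₗ[B] colon (one B (FractionRing B)) (J ^ j0) :=
    { toFun := fun x => ⟨x.1, hle x⟩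
      map_add' := fun _ _ => rfl
      map_smul' := fun _ _ => rfl }
  have hφ : Function.Injective φ := by
    intro x y hxy
    exact Subtype.ext (congrArg (fun z : colon (one B (FractionRing B)) (J ^ j0) =>
      (z : FractionRing B)) hxy)
  exact Module.Finite.of_injective φ hφ

theorem ne_bot_of_two_le_height {J : Ideal B} (hJ2 : (2 : ℕ∞) ≤ J.height) : J ≠ ⊥ := by
  rintro rfl
  rw [Ideal.height_bot] at hJ2
  norm_num at hJ2

/-- for a quotient of a regular ring, `D_J(B)` is finite when `ht J ≥ 2` -/
theorem finite_DT_of_regular_quotient (R : Type u) [CommRing R] [IsRegularRing R]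
    (π : R →+* B) (hπ : Function.Surjective π) (J : Ideal B) (hJ2 : (2 : ℕ∞) ≤ J.height) :
    Module.Finite B (DT J B) := by
  rw [Groth.Agent.H2.CohPushH1.DT_iff_H1 B J B]
  refine (Groth.Agent.S2930.result R B π hπ J B 1).mpr ?_ 1 le_rfl
  intro p Q hp hQ hcov
  rw [Nat.cast_one, ZCl.one_le_depth_iff]
  intro hass
  -- `p = ⊥`
  have hbot : p.asIdeal = ⊥ := by
    rw [AssociatedPrimes.mem_iff, isAssociatedPrime_iff] at hass
    obtain ⟨hPp, x, hx⟩ := hass
    have hx0 : x ≠ 0 := by
      rintro rfl
      apply hPp.ne_top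
      rw [hx, eq_top_iff]
      intro r _
      rw [Submodule.mem_colon_singleton, smul_zero]
      exact zero_mem _
    rw [eq_bot_iff]
    intro r hr
    rw [hx, Submodule.mem_colon_singleton, Submodule.mem_bot, smul_eq_mul, mul_eq_zero] at hr
    rcases hr with h | h
    · rw [Ideal.mem_bot]; exact h
    · exact absurd h hx0
  have hmin : IsMin p := by
    intro y _
    change p.asIdeal ≤ y.asIdeal
    rw [hbot]
    exact bot_le
  have h1 : Order.height Q ≤ ((1 : ℕ) : ℕ∞) := by
    rw [Order.height_le_coe_iff]
    intro y hy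
    have hpy : p ≤ y := by
      change p.asIdeal ≤ y.asIdeal
      rw [hbot]
      exact bot_le
    rcases hcov.eq_or_eq hpy hy.le with h | h
    · rw [h, Order.height_eq_zero.mpr hmin]
      norm_num
    · exact absurd h hy.ne
  have h2 : (2 : ℕ∞) ≤ Order.height Q := by
    rw [← PrimeSpectrum.height_eq_orderHeight]
    exact hJ2.trans (Ideal.height_mono hQ)
  have := h2.trans h1
  norm_num at this

end Groth.Agent.H2.SecFin
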