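import Groth.Agent.Lib.Helper2.UbcD

/-!
# Flatness of the cokernel of the first Čech differential from right exactness of `T^0` (helper2)
-/

set_option autoImplicit false
set_option linter.style.haveILetI false
universe u

open CategoryTheory CategoryTheory.Limits AlgebraicGeometry Opposite TopologicalSpace TensorProduct

namespace Groth.Agent.H2.See

open Groth.Agent.H2.Mum Groth.Agent.LD Groth.Agent.LD.QC

section general

variable {A : Type u} [CommRing A] {ι : Type} {c : ComplexShape ι}
  {K K' : HomologicalComplex (ModuleCat.{u} A) c} (v : K ⟶ K')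
  (hq : ∀ M : ModuleCat.{u} A, QuasiIso
    (((MonoidalCategory.tensorRight M).mapHomologicalComplex c).map v))

include hq in
lemma isIso_homologyMap_of_univ (M : ModuleCat.{u} A) (p : ι) :
    IsIso (HomologicalComplex.homologyMap
      (((MonoidalCategory.tensorRight M).mapHomologicalComplex c).map v) p) := by
  haveI := hq M
  exact (quasiIsoAt_iff_isIso_homologyMap _ p).1 (QuasiIso.quasiIsoAt p)

/-- a universally quasi-isomorphic map induces a natural isomorphism of `T`-functors. -/
noncomputable def TFunQIso (p : ι) : CohIII.TFun K p ≅ CohIII.TFun K' p :=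
  NatIso.ofComponents (fun M =>
    @asIso _ _ _ _ (HomologicalComplex.homologyMap
      (((MonoidalCategory.tensorRight M).mapHomologicalComplex c).map v) p)
      (isIso_homologyMap_of_univ v hq M p)) (by
    intro M M' h
    have h1 : CohIII.tensorMap K h ≫
        ((MonoidalCategory.tensorRight M').mapHomologicalComplex c).map v =
        ((MonoidalCategory.tensorRight M).mapHomologicalComplex c).map v ≫
          CohIII.tensorMap K' h :=
      ((NatTrans.mapHomologicalComplex
        ((MonoidalCategory.tensoringRight (ModuleCat.{u} A)).map h) c).naturality v).symm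
    change HomologicalComplex.homologyMap (CohIII.tensorMap K h) p ≫
      HomologicalComplex.homologyMap
        (((MonoidalCategory.tensorRight M').mapHomologicalComplex c).map v) p =
      HomologicalComplex.homologyMap
        (((MonoidalCategory.tensorRight M).mapHomologicalComplex c).map v) p ≫
        HomologicalComplex.homologyMap (CohIII.tensorMap K' h) p
    rw [← HomologicalComplex.homologyMap_comp, h1, HomologicalComplex.homologyMap_comp])

end general

section transport

variable {A : Type u} [CommRing A]

/-- flatness of a cokernel is invariant under isomorphisms of the map. -/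
lemma flat_quot_range_of_iso {X₂ X₃ Y₂ Y₃ : ModuleCat.{u} A} (g : X₂ ⟶ X₃) (g' : Y₂ ⟶ Y₃)
    (e₂ : X₂ ≅ Y₂) (e₃ : X₃ ≅ Y₃) (h : g = e₂.hom ≫ g' ≫ e₃.inv)
    (hfl : Module.Flat A (X₃ ⧸ LinearMap.range g.hom)) :
    Module.Flat A (Y₃ ⧸ LinearMap.range g'.hom) := by
  have hmap : (LinearMap.range g.hom).map (e₃.toLinearEquiv : X₃ →ₗ[A] Y₃) =
      LinearMap.range g'.hom := by
    apply le_antisymm
    · rintro _ ⟨_, ⟨x, rfl⟩, rfl⟩
      refine ⟨e₂.hom x, ?_⟩
      rw [h]
      change g'.hom (e₂.hom.hom x) = e₃.hom.hom (e₃.inv.hom (g'.hom (e₂.hom.hom x)))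
      exact (congr($(e₃.inv_hom_id) (g'.hom (e₂.hom.hom x)))).symm
    · rintro _ ⟨y, rfl⟩
      refine ⟨g.hom (e₂.inv y), ⟨_, rfl⟩, ?_⟩
      rw [h]
      change e₃.hom.hom (e₃.inv.hom (g'.hom (e₂.hom.hom (e₂.inv.hom y)))) = g'.hom y
      rw [show e₂.hom.hom (e₂.inv.hom y) = y from congr($(e₂.inv_hom_id) y)]
      exact congr($(e₃.inv_hom_id) (g'.hom y))
  exact Module.Flat.of_linearEquiv
    (Submodule.Quotient.equiv _ _ e₃.toLinearEquiv hmap).symm

end transport

end Groth.Agent.H2.See
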