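import Groth.Agent.Lib.Helper2.SeeA

/-!
# Flatness of the cokernel of the first Čech differential (helper2)
-/

set_option autoImplicit false
set_option linter.style.haveILetI false
universe u

open CategoryTheory CategoryTheory.Limits AlgebraicGeometry Opposite TopologicalSpace TensorProduct

namespace Groth.Agent.H2.See

open Groth.Agent.H2.Mum Groth.Agent.LD Groth.Agent.LD.QC

variable (A : Type u) [CommRing A] {X : Scheme.{u}} [X.Over (Spec (CommRingCat.of A))]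
  {ι : Type u} [Finite ι] (U : ι → X.Opens) (F : X.Modules) [F.IsQuasicoherent]
  (haff : ∀ (n : ℕ) (a : Fin (n + 1) → ι), IsAffineOpen (⨅ k, U (a k)))
  (L : CochainComplex (ModuleCat.{u} A) ℤ) (v : L ⟶ CZ A U F)
  (hq : ∀ M : ModuleCat.{u} A, QuasiIso
    (((MonoidalCategory.tensorRight M).mapHomologicalComplex (ComplexShape.up ℤ)).map v))

include haff hq in
/-- if `T^0` of the resolution preserves epimorphisms, the cokernel of the first Čech differential
is flat. -/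
theorem flat_coker_dA_of_preservesEpi
    (hfl : FlatMod.IsFlatOver (X ↘ Spec (CommRingCat.of A)) F)
    (hepi : (CohIII.TFun (flip L) (-((0 : ℕ) : ℤ))).PreservesEpimorphisms) :
    Module.Flat A (CochA A U F 1 ⧸ LinearMap.range (dA A U F 0)) := by
  have hepiCZ : (CohIII.TFun (flip (CZ A U F)) (-((0 : ℕ) : ℤ))).PreservesEpimorphisms :=
    Functor.preservesEpimorphisms.of_iso
      (flipTFunIso L ((0 : ℕ) : ℤ) ≪≫ TFunQIso v hq ((0 : ℕ) : ℤ) ≪≫
        (flipTFunIso (CZ A U F) ((0 : ℕ) : ℤ)).symm)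
  have hflCZ : ∀ i, Module.Flat A ((flip (CZ A U F)).X i) := fun i => by
    haveI := flat_CZ A U F hfl (hW_of_haff U haff) (-i)
    exact Module.Flat.of_linearEquiv (flipXIso (CZ A U F) i).toLinearEquiv
  have hW := (Groth.Agent.H8.TFun.preservesEpi_iff_flat (flip (CZ A U F)) hflCZ
    (-((0 : ℕ) : ℤ)) (-((0 : ℕ) : ℤ) - 1) (by ring)).1 hepiCZ
  have h0 : eNeg.f 0 = -((0 : ℕ) : ℤ) := by simp [eNeg]
  have h1 : eNeg.f 1 = -((0 : ℕ) : ℤ) - 1 := by simp [eNeg]
  have h0' : (eN).f 0 = (0 : ℤ) := rfl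
  have h1' : (eN).f 1 = (1 : ℤ) := rfl
  let e₂ : (flip (CZ A U F)).X (-((0 : ℕ) : ℤ)) ≅ (CA A U F).X 0 :=
    (CZ A U F).extendXIso eNeg h0 ≪≫ (CA A U F).extendXIso eN h0'
  let e₃ : (flip (CZ A U F)).X (-((0 : ℕ) : ℤ) - 1) ≅ (CA A U F).X 1 :=
    (CZ A U F).extendXIso eNeg h1 ≪≫ (CA A U F).extendXIso eN h1'
  have hd : (flip (CZ A U F)).d (-((0 : ℕ) : ℤ)) (-((0 : ℕ) : ℤ) - 1) =
      e₂.hom ≫ (CA A U F).d 0 1 ≫ e₃.inv := by
    have d1 := (CZ A U F).extend_d_eq eNeg h0 h1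
    have d2 := (CA A U F).extend_d_eq eN h0' h1'
    rw [d1, d2]
    simp only [e₂, e₃, Iso.trans_hom, Iso.trans_inv, Category.assoc]
  have := flat_quot_range_of_iso _ _ e₂ e₃ hd hW
  rw [CA_d] at this
  exact this

end Groth.Agent.H2.See
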