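import Groth.Agent.Lib.Helper2.SeeB

/-!
# Surjectivity of the base change map on global sections (helper2)

If the cokernel of the first Čech differential of `F` is flat over `A`, then for every `A`-algebra
`B` the map `B ⊗_A Γ(X, F) → Γ(X_B, g^* F)` is surjective.
-/

set_option autoImplicit false
set_option linter.style.haveILetI false
universe u

open CategoryTheory CategoryTheory.Limits AlgebraicGeometry Opposite TopologicalSpace TensorProduct

namespace Groth.Agent.H2.See

open Groth.Agent.H2.Mum Groth.Agent.LD Groth.Agent.LD.QC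

variable (A B : Type u) [CommRing A] [CommRing B] [Algebra A B]
  {X X' : Scheme.{u}} [X.Over (Spec (CommRingCat.of A))] [X'.Over (Spec (CommRingCat.of B))]
  (g : X' ⟶ X) (F : X.Modules) {ι : Type u} (U : ι → X.Opens) [Finite ι] [F.IsQuasicoherent]
  (sq : IsPullback g (X' ↘ Spec (CommRingCat.of B)) (X ↘ Spec (CommRingCat.of A))
    (Spec.map (CommRingCat.ofHom (algebraMap A B))))
  (haff : ∀ (n : ℕ) (a : Fin (n + 1) → ι), IsAffineOpen (⨅ k, U (a k))) (hU : iSup U = ⊤)

lemma Tp_le_pre : Tp (X := X') B ≤ g ⁻¹ᵁ Tp (X := X) A := fun _ _ => trivial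

/-- restriction of a global section to the cochains of degree `0`. -/
noncomputable def εA : SecA A F (Tp A) →ₗ[A] CochA A U F 0 :=
  LinearMap.pi fun a : Fin 1 → ι => resA A F (le_pre A (Wc U a))

lemma εA_apply (s : SecA A F (Tp A)) (a : Fin 1 → ι) :
    εA A F U s a = resA A F (le_pre A (Wc U a)) s := rfl

lemma εlin_eq (s : (CohIII.globalSectionsA A).obj F) :
    εlin A U F s = εA A F U (gsLin A F s) := rfl

include sq haff in
/-- compatibility of the base change maps on global sections and on cochains. -/
lemma θ_εA (u : B ⊗[A] SecA A F (Tp A)) (a : Fin 1 → ι) :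
    θequiv A B g F U sq haff 0 ((εA A F U).baseChange B u) a =
      resAB A B (pbF g F) (le_pre B (Wc (Upre g U) a))
        (β A B g sq.w F (Tp_le_pre A B g) u) := by
  induction u using TensorProduct.induction_on with
  | zero =>
    rw [map_zero, map_zero, map_zero, map_zero]
    rfl
  | tmul b s =>
    rw [LinearMap.baseChange_tmul]
    change θlin A B g sq.w F U 0 (b ⊗ₜ εA A F U s) a = _
    rw [θlin_tmul, β_tmul, β_tmul, εA_apply,
      pbLin_res A B g sq.w F (Tp_le_pre A B g) (Wc_pre_le g U a)
        (le_pre B (Wc (Upre g U) a)) (le_pre A (Wc U a)) s, map_smul]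
  | add x y hx hy =>
    rw [map_add, map_add, map_add, map_add, ← hx, ← hy]
    rfl

include sq haff hU in
/-- **surjectivity of base change on global sections** when the cokernel of the first Čech
differential is flat. -/
theorem β_top_surjective
    (hflat : Module.Flat A (CochA A U F 1 ⧸ LinearMap.range (dA A U F 0))) :
    Function.Surjective (β A B g sq.w F (Tp_le_pre A B g)) := by
  intro t
  haveI := hflat
  let tG : (CohIII.globalSectionsA B).obj (pbF g F) := t
  let t' : CochA B (Upre g U) (pbF g F) 0 := εlin B (Upre g U) (pbF g F) tG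
  have ht' : dA B (Upre g U) (pbF g F) 0 t' = 0 :=
    congr($(dA_εlin B (Upre g U) (pbF g F)) tG)
  let z := (θequiv A B g F U sq haff 0).symm t'
  have hθz : θequiv A B g F U sq haff 0 z = t' := LinearEquiv.apply_symm_apply _ _
  have hz : LinearMap.baseChange B (dA A U F 0) z = 0 := by
    apply (θequiv A B g F U sq haff 1).injective
    rw [← θequiv_dA, map_zero, hθz]
    exact ht'
  have hex := Groth.Agent.H8.HTensor.lTensor_exact_ker (dA A U F 0) B
  have hz' : (dA A U F 0).lTensor B z = 0 := hz
  obtain ⟨w, hw⟩ := (hex z).1 hz'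
  let εr : (CohIII.globalSectionsA A).obj F →ₗ[A] LinearMap.ker (dA A U F 0) :=
    (εlin A U F).codRestrict _ (fun s => congr($(dA_εlin A U F) s))
  have hεr : Function.Bijective εr := by
    refine ⟨fun s s' h => εlin_injective A U hU F (congrArg Subtype.val h), ?_⟩
    rintro ⟨y, hy⟩
    obtain ⟨s, hs⟩ := exists_εlin_eq A U hU F y hy
    exact ⟨s, Subtype.ext hs⟩
  let E := LinearEquiv.ofBijective εr hεr
  let w' : B ⊗[A] SecA A F (Tp A) :=
    ((gsLin A F).toLinearMap ∘ₗ E.symm.toLinearMap).lTensor B w
  refine ⟨w', ?_⟩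
  have hcomp : (εA A F U) ∘ₗ ((gsLin A F).toLinearMap ∘ₗ E.symm.toLinearMap) =
      (LinearMap.ker (dA A U F 0)).subtype := by
    refine LinearMap.ext fun y => ?_
    change εA A F U (gsLin A F (E.symm y)) = y.1
    rw [← εlin_eq]
    exact congrArg Subtype.val (E.apply_symm_apply y)
  have hzw : (εA A F U).baseChange B w' = z := by
    change (εA A F U).lTensor B (((gsLin A F).toLinearMap ∘ₗ E.symm.toLinearMap).lTensor B w) = z
    rw [← LinearMap.lTensor_comp_apply, hcomp]
    exact hw
  have hcoch : εlin B (Upre g U) (pbF g F)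
      (show (CohIII.globalSectionsA B).obj (pbF g F) from
        β A B g sq.w F (Tp_le_pre A B g) w') = t' := by
    funext a
    have h1 := θ_εA A B g F U sq haff w' a
    rw [hzw, hθz] at h1
    exact h1.symm
  exact εlin_injective B (Upre g U) (hU_pre g U hU) (pbF g F) hcoch

end Groth.Agent.H2.See
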