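import Groth.Agent.Lib.Helper2.SeeC
import Groth.Agent.Lib.Lead.NF.Spread

/-!
# A global section whose pullback to a fibre is a basis (helper2)

If the cokernel of the first Čech differential of `F` is flat over `A`, `B` is a field with
`B ≃ Γ(X_B, O)` and `g^* F` is trivial on `X_B`, then some global section of `F` pulls back to a
basis of `g^* F`.
-/

set_option autoImplicit false
set_option linter.style.haveILetI false
universe u

open CategoryTheory CategoryTheory.Limits AlgebraicGeometry Opposite TopologicalSpace TensorProduct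

namespace Groth.Agent.H2.See

open Groth.Agent.H2.Mum Groth.Agent.LD Groth.Agent.LD.QC

variable (A B : Type u) [CommRing A] [CommRing B] [Algebra A B]
  {X X' : Scheme.{u}} [X.Over (Spec (CommRingCat.of A))] [X'.Over (Spec (CommRingCat.of B))]
  (g : X' ⟶ X) (F : X.Modules) {ι : Type u} (U : ι → X.Opens) [Finite ι] [F.IsQuasicoherent]
  (sq : IsPullback g (X' ↘ Spec (CommRingCat.of B)) (X ↘ Spec (CommRingCat.of A))
    (Spec.map (CommRingCat.ofHom (algebraMap A B))))
  (haff : ∀ (n : ℕ) (a : Fin (n + 1) → ι), IsAffineOpen (⨅ k, U (a k))) (hU : iSup U = ⊤)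

include sq haff hU in
/-- **a global section restricting to a basis on a fibre.** -/
theorem exists_isBasisOver_pbSec
    (hflat : Module.Flat A (CochA A U F 1 ⧸ LinearMap.range (dA A U F 0)))
    (hB : IsField B) (hρ : Function.Bijective (ρ B (Tp (X := X') B)))
    (t₀ : Γ(pbF g F, Tp (X := X') B)) (ht₀ : IsBasisOver (pbF g F) (Tp (X := X') B) t₀) :
    ∃ s : Γ(F, Tp (X := X) A),
      IsBasisOver (pbF g F) (Tp (X := X') B) (pbSec g F (Tp_le_pre A B g) s) := by
  by_contra hne
  push_neg at hne
  have hzero : ∀ s : Γ(F, Tp (X := X) A), pbSec g F (Tp_le_pre A B g) s = 0 := by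
    intro s
    obtain ⟨c, hc⟩ := ht₀.exists_coord (pbSec g F (Tp_le_pre A B g) s)
    obtain ⟨k, rfl⟩ := hρ.2 c
    by_cases hk : k = 0
    · rw [hc, hk, map_zero, zero_smul]
    · exfalso
      apply hne s
      rw [hc]
      apply (ht₀.smul_iff _).2
      obtain ⟨k', hk'⟩ := hB.mul_inv_cancel hk
      exact IsUnit.map (ρ B (Tp (X := X') B)) (IsUnit.of_mul_eq_one k' hk')
  have hβ : ∀ w : B ⊗[A] SecA A F (Tp (X := X) A), β A B g sq.w F (Tp_le_pre A B g) w = 0 := by
    intro w
    induction w using TensorProduct.induction_on with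
    | zero => exact map_zero _
    | tmul b s =>
      rw [β_tmul]
      have : pbLin A B g sq.w F (Tp_le_pre A B g) s = 0 := hzero s
      rw [this, smul_zero]
    | add x y hx hy => rw [map_add, hx, hy, add_zero]
  obtain ⟨w, hw⟩ := β_top_surjective A B g F U sq haff hU hflat t₀
  have ht0 : t₀ = 0 := by
    rw [hβ w] at hw
    exact hw.symm
  have h0 : IsBasisOver (pbF g F) (Tp (X := X') B) ((0 : Γ(X', Tp (X := X') B)) • t₀) := by
    rw [zero_smul]
    rw [ht0] at ht₀
    exact ht₀
  have hu : IsUnit (0 : Γ(X', Tp (X := X') B)) := (ht₀.smul_iff _).1 h0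
  have h01 : (0 : Γ(X', Tp (X := X') B)) = 1 := by
    obtain ⟨u, hu'⟩ := hu.exists_right_inv
    rw [zero_mul] at hu'
    exact hu'
  have : (0 : B) = 1 := hρ.1 (by rw [map_zero, map_one]; exact h01)
  exact hB.nontrivial.exists_pair_ne.elim fun a ⟨b, hab⟩ => hab (by
    rw [← mul_one a, ← mul_one b, ← this, mul_zero, mul_zero])

end Groth.Agent.H2.See
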