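import Groth.Agent.Lib.Helper2.SeeD
import Groth.Agent.H4.MeroReg
import Groth.Agent.H4.RPC27

/-!
# Invertible modules on a flat scheme are flat over the base (helper2)
-/

set_option autoImplicit false
set_option linter.style.haveILetI false
universe u

open CategoryTheory CategoryTheory.Limits AlgebraicGeometry Opposite TopologicalSpace TensorProduct

namespace Groth.Agent.H2.See

open Groth.Agent.LD Groth.Agent.LD.QC

attribute [-instance] Groth.Agent.LD.QC.stalkModule

/-- an invertible module on a flat `Y`-scheme is flat over `Y`. -/
theorem isFlatOver_of_isInvertible {X Y : Scheme.{u}} (f : X ⟶ Y) [Flat f] (L : X.Modules)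
    (hL : PicF.IsInvertible L) : FlatMod.IsFlatOver f L := by
  intro x
  obtain ⟨U, e, -, hxU, -, he⟩ := QC.exists_affine_basis L hL x ⊤ trivial
  letI := FlatMod.moduleStalkOver f L x
  letI : Algebra (Y.presheaf.stalk (f.base x)) (X.presheaf.stalk x) := (f.stalkMap x).hom.toAlgebra
  have hfl : Module.Flat (Y.presheaf.stalk (f.base x)) (X.presheaf.stalk x) := by
    have := (Flat.iff_flat_stalkMap f).1 inferInstance x
    exact this
  let φ : X.presheaf.stalk x →ₗ[Y.presheaf.stalk (f.base x)] L.presheaf.stalk x :=
    { toFun := fun c => c • L.presheaf.germ U x hxU e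
      map_add' := fun c d => add_smul c d _
      map_smul' := fun r c => by
        change ((f.stalkMap x).hom r * c) • L.presheaf.germ U x hxU e =
          (f.stalkMap x).hom r • (c • L.presheaf.germ U x hxU e)
        rw [mul_smul] }
  have hφ : Function.Bijective φ := by
    constructor
    · rw [injective_iff_map_eq_zero]
      intro c hc
      exact Groth.Agent.H4.MeroReg.germ_basis_inj L he x hxU c hc
    · intro m
      obtain ⟨c, hc⟩ := Groth.Agent.H4.MeroReg.germ_basis_surj L he x hxU m
      exact ⟨c, hc.symm⟩
  change Module.Flat (Y.presheaf.stalk (f.base x)) (L.presheaf.stalk x)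
  exact Module.Flat.of_linearEquiv (LinearEquiv.ofBijective φ hφ).symm

end Groth.Agent.H2.See
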