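import Groth.Agent.Lib.Helper2.SeeE

/-!
# Spreading out a basis from a fibre (helper2)

A section of an invertible module on `X` whose pullback to a fibre-like base change `X₁` is a
global basis is a basis over the preimage of a neighbourhood of the point (`f` closed).
-/

set_option autoImplicit false
set_option linter.style.haveILetI false
universe u

open CategoryTheory CategoryTheory.Limits AlgebraicGeometry Opposite TopologicalSpace TensorProduct

namespace Groth.Agent.H2.See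

open Groth.Agent.LD Groth.Agent.LD.QC

/-- **spreading out a basis from a fibre.** -/
theorem exists_basis_preimage_of_fibre {X Y X₁ Y₁ : Scheme.{u}} (f : X ⟶ Y) [IsProper f] (y : Y)
    (f₁ : X₁ ⟶ Y₁) (g : X₁ ⟶ X) (t : Y₁ ⟶ Y) (hsq : IsPullback g f₁ f t) (y₁ : Y₁)
    (hy₁ : t y₁ = y) (N : X.Modules) (hN : PicF.IsInvertible N) [N.IsQuasicoherent]
    (O : X.Opens) (σ : Γ(N, O)) (h : (⊤ : X₁.Opens) ≤ g ⁻¹ᵁ O)
    (ht : QC.IsBasisOver ((Scheme.Modules.pullback g).obj N) ⊤ (QC.pbSec g N h σ)) :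
    ∃ (U : Y.Opens) (_ : y ∈ U) (hU : f ⁻¹ᵁ U ≤ O),
      QC.IsBasisOver N (f ⁻¹ᵁ U) (N.presheaf.map (homOfLE hU).op σ) := by
  let 𝒲 : Set X.Opens := {W | ∃ hW : W ≤ O,
    QC.IsBasisOver N W (N.presheaf.map (homOfLE hW).op σ)}
  let G : X.Opens := sSup 𝒲
  have hGle : G ≤ O := sSup_le fun W hW => hW.1
  have hGb : QC.IsBasisOver N G (N.presheaf.map (homOfLE hGle).op σ) := by
    apply QC.isBasisOver_of_local
    intro x hx W₀ hxW₀
    obtain ⟨W, ⟨hW, hWb⟩, hxW⟩ := TopologicalSpace.Opens.mem_sSup.1 hx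
    have hWG : W ≤ G := le_sSup ⟨hW, hWb⟩
    refine ⟨W ⊓ W₀, inf_le_left.trans hWG, ⟨hxW, hxW₀⟩, inf_le_right, ?_⟩
    have := hWb (W ⊓ W₀) inf_le_left
    rw [QC.res_res] at this ⊢
    exact this
  have hfib : ∀ x : X, f x = y → x ∈ G := by
    intro x hx
    obtain ⟨x₁, hx₁, -⟩ := Scheme.exists_preimage_of_isPullback hsq x y₁
      (by rw [hy₁]; exact hx)
    obtain ⟨W, hW, hxW, hWb⟩ := NF.exists_basis_nbhd g N hN O σ h ht x₁
    rw [← hx₁]
    exact TopologicalSpace.Opens.mem_sSup.2 ⟨W, ⟨hW, hWb⟩, hxW⟩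
  have hclosed : IsClosed (f '' ((G : Set X)ᶜ)) := f.isClosedMap _ G.2.isClosed_compl
  let U : Y.Opens := ⟨(f '' ((G : Set X)ᶜ))ᶜ, hclosed.isOpen_compl⟩
  have hyU : y ∈ U := by
    rintro ⟨x, hxG, hxy⟩
    exact hxG (hfib x hxy)
  have hUG : f ⁻¹ᵁ U ≤ G := by
    intro x hx
    by_contra hxG
    exact hx ⟨x, hxG, rfl⟩
  refine ⟨U, hyU, hUG.trans hGle, ?_⟩
  have := hGb.mono hUG
  rw [QC.res_res] at this
  exact this

end Groth.Agent.H2.See
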