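import Groth.Agent.Lib.Helper2.UbcC

/-!
# `O_T(W) → O(f_T⁻¹ W)` is an isomorphism for small affine opens `W` of an arbitrary base change
(helper2)
-/

set_option autoImplicit false
set_option linter.style.haveILetI false
universe u

open CategoryTheory CategoryTheory.Limits AlgebraicGeometry Opposite TopologicalSpace TensorProduct

namespace Groth.Agent.H2.Ubc

open Groth.Agent.H2.Mum Groth.Agent.H2.RpA Groth.Agent.H2.RpB Groth.Agent.H2.RpC Groth.Agent.LD
  Groth.Agent.LD.CL Groth.Agent.LD.QC Groth.Agent.H8.ExtBridge Groth.Agent.H2.EtH0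

attribute [local instance] overV

set_option maxHeartbeats 1600000 in
/-- **universal `O_T = (f_T)_* O` on small affine opens.** -/
theorem isIso_snd_app_of_affine {X Y T : Scheme.{u}} (f : X ⟶ Y) (g : T ⟶ Y) [IsProper f]
    [Flat f] [IsLocallyNoetherian Y]
    (h0 : ∀ y : Y, Function.Bijective (algebraMap (Y.residueField y) Γ(f.fiber y, ⊤)))
    (V : Y.Opens) (hV : IsAffineOpen V) (W : T.Opens) (hW : IsAffineOpen W)
    (hWV : W ≤ g ⁻¹ᵁ V) :
    IsIso ((pullback.snd f g).app W) := by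
  haveI : IsAffine V.toScheme := hV
  haveI : IsAffine W.toScheme := hW
  haveI : IsNoetherianRing Γ(V.toScheme, ⊤) :=
    IsLocallyNoetherian.component_noetherian ⟨⊤, isAffineOpen_top V.toScheme⟩
  haveI : IsProper ((f ⁻¹ᵁ V).toScheme ↘ Spec (CommRingCat.of Γ(V.toScheme, ⊤))) :=
    inferInstanceAs (IsProper ((f ∣_ V) ≫ V.toScheme.toSpecΓ))
  have hF : Coh.IsCoh (OX X) := PF.isCoh_unitMod X
  haveI : (OX X).IsQuasicoherent := hF.1
  have hfl : FlatMod.IsFlatOver f (OX X) :=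
    (Groth.Agent.H4.RPC27.isFlatOver_structureModule_iff f).2 inferInstance
  haveI : ((OX X).restrict (f ⁻¹ᵁ V).ι).IsQuasicoherent := qc_restrict _ (OX X)
  have hF' : Coh.IsCoh ((OX X).restrict (f ⁻¹ᵁ V).ι) :=
    ⟨inferInstance, isFiniteType_restrict _ (OX X) hF.2⟩
  have hfl' : FlatMod.IsFlatOver ((f ⁻¹ᵁ V).toScheme ↘ Spec (CommRingCat.of Γ(V.toScheme, ⊤)))
      ((OX X).restrict (f ⁻¹ᵁ V).ι) := isFlatOver_restrict_affine f V (OX X) hfl
  obtain ⟨ι, hfin, U, haff, hU, L, v, hL, -, hv, hq⟩ :=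
    exists_resolution' Γ(V.toScheme, ⊤) (f ⁻¹ᵁ V).toScheme ((OX X).restrict (f ⁻¹ᵁ V).ι) hF' hfl'
  haveI := hfin
  haveI := hv
  have hP := flip_finite_flat L hL
  -- global preservation of epimorphisms
  have hepi : (CohIII.TFun (flip L) (-((0 : ℕ) : ℤ))).PreservesEpimorphisms := by
    refine preservesEpi_of_forall_localization (flip L) (fun i => (hP i).2) _ (fun m hm => ?_)
    let x : PrimeSpectrum Γ(V.toScheme, ⊤) := ⟨m, inferInstance⟩
    let y' : V.toScheme := V.toScheme.isoSpec.inv x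
    have hy' : V.toScheme.toSpecΓ y' = x := by
      change V.toScheme.toSpecΓ (V.toScheme.isoSpec.inv x) = x
      rw [← Scheme.isoSpec_hom, ← Scheme.Hom.comp_apply, Iso.inv_hom_id]
      rfl
    obtain ⟨y, hy⟩ := y'
    letI algK : Algebra Γ(V.toScheme, ⊤) (Y.residueField y) := (φV V y hy).hom.toAlgebra
    letI ovK : (f.fiber y).Over (Spec (CommRingCat.of (Y.residueField y))) :=
      ⟨f.fiberToSpecResidueField y⟩
    have sq : IsPullback (gV f V y hy)
        ((f.fiber y) ↘ Spec (CommRingCat.of (Y.residueField y)))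
        ((f ⁻¹ᵁ V).toScheme ↘ Spec (CommRingCat.of Γ(V.toScheme, ⊤)))
        (Spec.map (CommRingCat.ofHom (algebraMap Γ(V.toScheme, ⊤) (Y.residueField y)))) :=
      isPullback_fiber_affine f V y hy
    have het : Algebra.Etale (Y.residueField y) Γ(f.fiber y, ⊤) :=
      Algebra.Etale.of_equiv (AlgEquiv.ofBijective (Algebra.ofId _ _) (h0 y))
    have hsep := fibre_separable f y het rfl
    have hker : RingHom.ker (algebraMap Γ(V.toScheme, ⊤) (Y.residueField y)) = m :=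
      (congrArg PrimeSpectrum.asIdeal (ptOf_φV V y hy)).trans
        (congrArg PrimeSpectrum.asIdeal hy')
    have hmono : Mono (Spec.map (CommRingCat.ofHom
        (algebraMap Γ(V.toScheme, ⊤) (Y.residueField y)))) := by
      change Mono (Spec.map (φV V y hy))
      rw [Spec_map_φV]
      haveI : Mono (tV V y hy ≫ V.ι) := by
        rw [tV_ι]
        infer_instance
      haveI : Mono (tV V y hy) := mono_of_mono (tV V y hy) V.ι
      infer_instance
    exact (exact_localization_of_fibre_separable Γ(V.toScheme, ⊤) U haff hU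
      ((OX X).restrict (f ⁻¹ᵁ V).ι) (Scheme.Modules.restrictUnitIso (f ⁻¹ᵁ V).ι) L v hq m
      (Y.residueField y) (gV f V y hy) sq hL hker hmono hsep).2
  -- `H⁰` is free of rank one
  have hVall : IsIso (f.app V) := isIso_app_of_forall_bijective f h0 V
  haveI : IsIso ((f ∣_ V).app ⊤) := by
    rw [isIso_app_image_iff, V.ι_image_top]
    exact hVall
  letI algB0 : Algebra Γ(V.toScheme, ⊤) Γ((f ⁻¹ᵁ V).toScheme, (f ∣_ V) ⁻¹ᵁ ⊤) :=
    ((f ∣_ V).app ⊤).hom.toAlgebra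
  have hb : Function.Bijective
      (algebraMap Γ(V.toScheme, ⊤) Γ((f ⁻¹ᵁ V).toScheme, (f ∣_ V) ⁻¹ᵁ ⊤)) :=
    ConcreteCategory.bijective_of_isIso ((f ∣_ V).app ⊤)
  let e : ((flip L).homology (-((0 : ℕ) : ℤ)) : ModuleCat.{u} Γ(V.toScheme, ⊤)) ≃ₗ[Γ(V.toScheme, ⊤)]
      Γ(V.toScheme, ⊤) :=
    (flipHomologyEquiv Γ(V.toScheme, ⊤) ((OX X).restrict (f ⁻¹ᵁ V).ι) U L v haff hU 0).trans
      ((HHEquivOfIso Γ(V.toScheme, ⊤) (Scheme.Modules.restrictUnitIso (f ⁻¹ᵁ V).ι) 0).trans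
        ((HH0LinApp (f ∣_ V)).trans
          (LinearEquiv.ofBijective (Algebra.linearMap _ _) hb).symm))
  -- the base change square
  letI algAB : Algebra Γ(V.toScheme, ⊤) Γ(W.toScheme, ⊤) := ((g.resLE V W hWV).appTop).hom.toAlgebra
  have hle1 : (pullback.snd f g) ⁻¹ᵁ W ≤ (pullback.fst f g) ⁻¹ᵁ (f ⁻¹ᵁ V) := by
    intro z hz
    change f ((pullback.fst f g) z) ∈ V
    rw [← Scheme.Hom.comp_apply, pullback.condition, Scheme.Hom.comp_apply]
    exact hWV hz
  have hUY : (pullback.snd f g) ⁻¹ᵁ W =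
      (pullback.fst f g) ⁻¹ᵁ (f ⁻¹ᵁ V) ⊓ (pullback.snd f g) ⁻¹ᵁ W :=
    (inf_eq_right.mpr hle1).symm
  have H := Scheme.Hom.isPullback_resLE (IsPullback.of_hasPullback f g) hWV
    (le_refl (f ⁻¹ᵁ V)) hUY
  rw [Scheme.Hom.resLE_eq_morphismRestrict, Scheme.Hom.resLE_eq_morphismRestrict] at H
  have h2 : IsPullback (g.resLE V W hWV) W.toScheme.toSpecΓ V.toScheme.toSpecΓ
      (Spec.map (g.resLE V W hWV).appTop) :=
    IsPullback.of_vert_isIso ⟨Scheme.toSpecΓ_naturality _⟩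
  have sq : IsPullback
      ((pullback.fst f g).resLE (f ⁻¹ᵁ V) ((pullback.snd f g) ⁻¹ᵁ W) (by simp [hUY.symm ▸ inf_le_left]))
      (((pullback.snd f g) ⁻¹ᵁ W).toScheme ↘ Spec (CommRingCat.of Γ(W.toScheme, ⊤)))
      ((f ⁻¹ᵁ V).toScheme ↘ Spec (CommRingCat.of Γ(V.toScheme, ⊤)))
      (Spec.map (CommRingCat.ofHom (algebraMap Γ(V.toScheme, ⊤) Γ(W.toScheme, ⊤)))) :=
    H.paste_vert h2
  have hbij := bijective_toGlobal_of_exact Γ(V.toScheme, ⊤) U haff hU
    ((OX X).restrict (f ⁻¹ᵁ V).ι) (Scheme.Modules.restrictUnitIso (f ⁻¹ᵁ V).ι) L v hq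
    Γ(W.toScheme, ⊤) _ sq hL hepi e
  have hbij' : Function.Bijective ((pullback.snd f g ∣_ W).appTop).hom := by
    have h := toGlobal_overΓ (pullback.snd f g ∣_ W)
    have hfun : (⇑(Coh.toGlobal ((pullback.snd f g ∣_ W) ≫ W.toScheme.toSpecΓ)) :
        Γ(W.toScheme, ⊤) → Γ(((pullback.snd f g) ⁻¹ᵁ W).toScheme, ⊤)) =
        ⇑((pullback.snd f g ∣_ W).appTop).hom := funext (fun r => RingHom.congr_fun h r)
    exact Eq.mp (congrArg Function.Bijective hfun) hbij
  have hiso : IsIso ((pullback.snd f g ∣_ W).app ⊤) :=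
    (ConcreteCategory.isIso_iff_bijective _).mpr hbij'
  have := (isIso_app_image_iff (pullback.snd f g) W ⊤).1 hiso
  rwa [W.ι_image_top] at this

end Groth.Agent.H2.Ubc
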