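import Groth.Agent.Lib.Helper2.SeeF
import Groth.Agent.Lib.Helper2.UbcD
import Groth.Agent.Lib.Helper2.ParaFF
import Groth.Agent.Lib.Lead.QC.RestrictOpen
import Groth.Agent.Lib.Lead.QC.LocFree
import Groth.Agent.Lib.Lead.QC.FiniteFree
import Groth.Agent.Lib.Lead.QC.AmpleIso

/-!
# Fibrewise trivial invertible modules are trivial over the preimage of small opens (helper2)
-/

set_option autoImplicit false
set_option linter.style.haveILetI false
universe u

open CategoryTheory CategoryTheory.Limits AlgebraicGeometry Opposite TopologicalSpace TensorProduct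

namespace Groth.Agent.H2.See

open Groth.Agent.H2.Mum Groth.Agent.H2.RpA Groth.Agent.H2.RpB Groth.Agent.H2.RpC Groth.Agent.LD
  Groth.Agent.LD.CL Groth.Agent.LD.QC Groth.Agent.H8.ExtBridge Groth.Agent.H2.EtH0

attribute [local instance] overV

/-- the `K`-structure map of the fibre is the algebra map. -/
lemma ρ_fiber_eq {X Y : Scheme.{u}} (f : X ⟶ Y) (y : Y) :
    letI ovK : (f.fiber y).Over (Spec (CommRingCat.of (Y.residueField y))) :=
      ⟨f.fiberToSpecResidueField y⟩
    ∀ k : Y.residueField y, ρ (Y.residueField y) (Tp (X := f.fiber y) (Y.residueField y)) k =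
      algebraMap (Y.residueField y) Γ(f.fiber y, ⊤) k := by
  intro k
  letI ovK : (f.fiber y).Over (Spec (CommRingCat.of (Y.residueField y))) :=
    ⟨f.fiberToSpecResidueField y⟩
  exact appLE_self (Y.residueField y) _

/-- the fibre rank in degree `0` of a fibrewise trivial module. -/
lemma fiberRank_zero_eq_one_of_iso {X Y : Scheme.{u}} (f : X ⟶ Y) (y : Y) (L : X.Modules)
    (τ : CohIII.fiberMod f L y ≅ Coh.structureModule (f.fiber y))
    (hy : Function.Bijective (algebraMap (Y.residueField y) Γ(f.fiber y, ⊤))) :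
    CohIII.fiberRank f L 0 y = 1 := by
  letI ovK : (f.fiber y).Over (Spec (CommRingCat.of (Y.residueField y))) :=
    ⟨f.fiberToSpecResidueField y⟩
  have e1 := HHEquivOfIso (Y.residueField y) τ 0
  have e2 := HH0LinΓ (Y.residueField y) (f.fiber y)
  have e3 : Y.residueField y ≃ₗ[Y.residueField y] Γ(f.fiber y, ⊤) :=
    LinearEquiv.ofBijective (Algebra.linearMap _ _) hy
  unfold CohIII.fiberRank
  exact (e1.trans (e2.trans e3.symm)).finrank_eq.trans (Module.finrank_self _)

end Groth.Agent.H2.See
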