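import Groth.Agent.Lib.Helper2.SeeG

/-!
# Fibrewise trivial invertible modules are trivial over the preimage of small opens (helper2)
-/

set_option autoImplicit false
set_option linter.style.haveILetI false
universe u

open CategoryTheory CategoryTheory.Limits AlgebraicGeometry Opposite TopologicalSpace TensorProduct

namespace Groth.Agent.H2.See

open Groth.Agent.H2.Mum Groth.Agent.H2.RpA Groth.Agent.H2.RpB Groth.Agent.H2.RpC Groth.Agent.LD
  Groth.Agent.LD.CL Groth.Agent.LD.QC Groth.Agent.H8.ExtBridge Groth.Agent.H2.EtH0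

attribute [local instance] overV

set_option maxHeartbeats 1600000 in
/-- **seesaw, local form**: a fibrewise trivial invertible module has a basis over the preimage of
a neighbourhood of every point of the base. -/
theorem exists_basis_preimage_of_fibre_trivial {X Y : Scheme.{u}} (f : X ⟶ Y) [IsProper f]
    [Flat f] [IsLocallyNoetherian Y] [IsReduced Y]
    (h0 : ∀ y : Y, Function.Bijective (algebraMap (Y.residueField y) Γ(f.fiber y, ⊤)))
    (L : X.Modules) (hL : PicF.IsInvertible L)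
    (htriv : ∀ y : Y, Nonempty (CohIII.fiberMod f L y ≅ Coh.structureModule (f.fiber y)))
    (y : Y) :
    ∃ (V'' : Y.Opens) (_ : y ∈ V'') (σ : Γ(L, f ⁻¹ᵁ V'')), QC.IsBasisOver L (f ⁻¹ᵁ V'') σ := by
  obtain ⟨V, hV, hyV⟩ : ∃ V : Y.Opens, IsAffineOpen V ∧ y ∈ V := by
    obtain ⟨_, ⟨V, hV, rfl⟩, hy, -⟩ :=
      Y.isBasis_affineOpens.exists_subset_of_mem_open (Set.mem_univ y) isOpen_univ
    exact ⟨V, hV, hy⟩
  haveI : IsAffine V.toScheme := hV
  haveI : IsNoetherianRing Γ(V.toScheme, ⊤) :=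
    IsLocallyNoetherian.component_noetherian ⟨⊤, isAffineOpen_top V.toScheme⟩
  haveI : IsReduced V.toScheme := isReduced_of_isOpenImmersion V.ι
  haveI : _root_.IsReduced Γ(V.toScheme, ⊤) := inferInstance
  haveI : IsProper ((f ⁻¹ᵁ V).toScheme ↘ Spec (CommRingCat.of Γ(V.toScheme, ⊤))) :=
    inferInstanceAs (IsProper ((f ∣_ V) ≫ V.toScheme.toSpecΓ))
  haveI : L.IsQuasicoherent := qc_of_isFinLocFree L (isFinLocFree_of_isInvertible L hL)
  have hF : Coh.IsCoh L := ⟨inferInstance, isFiniteType_of_isInvertible L hL⟩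
  have hfl : FlatMod.IsFlatOver f L := isFlatOver_of_isInvertible f L hL
  haveI : (L.restrict (f ⁻¹ᵁ V).ι).IsQuasicoherent := qc_restrict _ L
  have hF' : Coh.IsCoh (L.restrict (f ⁻¹ᵁ V).ι) :=
    ⟨inferInstance, isFiniteType_restrict _ L hF.2⟩
  have hfl' : FlatMod.IsFlatOver ((f ⁻¹ᵁ V).toScheme ↘ Spec (CommRingCat.of Γ(V.toScheme, ⊤)))
      (L.restrict (f ⁻¹ᵁ V).ι) := isFlatOver_restrict_affine f V L hfl
  obtain ⟨ι, hfin, U, haff, hU, K, v, hK, -, hv, hq⟩ :=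
    exists_resolution' Γ(V.toScheme, ⊤) (f ⁻¹ᵁ V).toScheme (L.restrict (f ⁻¹ᵁ V).ι) hF' hfl'
  haveI := hfin
  haveI := hv
  have hP := flip_finite_free K hK
  -- the rank function is constant
  have hdR : ∀ x : PrimeSpectrum Γ(V.toScheme, ⊤),
      CohIII.dRank (flip K) (-((0 : ℕ) : ℤ)) x = 1 := by
    intro x
    let y' : V.toScheme := V.toScheme.isoSpec.inv x
    have hy' : V.toScheme.toSpecΓ y' = x := by
      change V.toScheme.toSpecΓ (V.toScheme.isoSpec.inv x) = x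
      rw [← Scheme.isoSpec_hom, ← Scheme.Hom.comp_apply, Iso.inv_hom_id]
      rfl
    obtain ⟨y₂, hy₂⟩ := y'
    rw [← hy', ← fiberRank_eq_dRank_of_mem f V L U haff hU K v hq 0 y₂ hy₂]
    exact fiberRank_zero_eq_one_of_iso f y₂ L (htriv y₂).some (h0 y₂)
  have hlc : IsLocallyConstant (CohIII.dRank (flip K) (-((0 : ℕ) : ℤ))) := by
    have : CohIII.dRank (flip K) (-((0 : ℕ) : ℤ)) = fun _ => 1 := funext hdR
    rw [this]
    exact IsLocallyConstant.const 1
  have hepi : (CohIII.TFun (flip K) (-((0 : ℕ) : ℤ))).PreservesEpimorphisms :=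
    (Groth.Agent.H8.TFun.exact_of_dRank_locallyConstant (flip K)
      (fun i => ⟨(hP i).1, by haveI := (hP i).2; infer_instance⟩) _ hlc).2
  have hflat := flat_coker_dA_of_preservesEpi Γ(V.toScheme, ⊤) U (L.restrict (f ⁻¹ᵁ V).ι) haff
    K v hq hfl' hepi
  -- the fibre over `y`
  letI algK : Algebra Γ(V.toScheme, ⊤) (Y.residueField y) := (φV V y hyV).hom.toAlgebra
  letI ovK : (f.fiber y).Over (Spec (CommRingCat.of (Y.residueField y))) :=
    ⟨f.fiberToSpecResidueField y⟩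
  have sq : IsPullback (gV f V y hyV)
      ((f.fiber y) ↘ Spec (CommRingCat.of (Y.residueField y)))
      ((f ⁻¹ᵁ V).toScheme ↘ Spec (CommRingCat.of Γ(V.toScheme, ⊤)))
      (Spec.map (CommRingCat.ofHom (algebraMap Γ(V.toScheme, ⊤) (Y.residueField y)))) :=
    isPullback_fiber_affine f V y hyV
  have hρ : Function.Bijective
      (ρ (Y.residueField y) (Tp (X := f.fiber y) (Y.residueField y))) := by
    have hfun : (⇑(ρ (Y.residueField y) (Tp (X := f.fiber y) (Y.residueField y))) :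
        Y.residueField y → Γ(f.fiber y, ⊤)) =
        ⇑(algebraMap (Y.residueField y) Γ(f.fiber y, ⊤)) := funext (ρ_fiber_eq f y)
    exact Eq.mpr (congrArg Function.Bijective hfun) (h0 y)
  let τ : pbF (gV f V y hyV) (L.restrict (f ⁻¹ᵁ V).ι) ≅ Coh.structureModule (f.fiber y) :=
    fiberModIso f V y hyV L ≪≫ (htriv y).some
  have ht₀ : IsBasisOver (pbF (gV f V y hyV) (L.restrict (f ⁻¹ᵁ V).ι))
      (Tp (X := f.fiber y) (Y.residueField y))
      (τ.symm.hom.app (Tp (X := f.fiber y) (Y.residueField y))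
        (1 : Γ(f.fiber y, Tp (X := f.fiber y) (Y.residueField y)))) :=
    Groth.Agent.H2.ParaFK.IsBasisOver.of_iso τ.symm (isBasisOver_one _)
  obtain ⟨s, hs⟩ := exists_isBasisOver_pbSec Γ(V.toScheme, ⊤) (Y.residueField y)
    (gV f V y hyV) (L.restrict (f ⁻¹ᵁ V).ι) U sq haff hU hflat (Field.toIsField _) hρ _ ht₀
  -- spreading out
  obtain ⟨V₁, hyV₁, hle, hb⟩ := exists_basis_preimage_of_fibre (f ∣_ V) ⟨y, hyV⟩
    (f.fiberToSpecResidueField y) (gV f V y hyV) (tV V y hyV) (isPullback_gV f V y hyV)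
    (IsLocalRing.closedPoint (Y.residueField y)) (tV_apply V y hyV _)
    (L.restrict (f ⁻¹ᵁ V).ι) (isInvertible_restrict _ hL)
    (Tp (X := (f ⁻¹ᵁ V).toScheme) Γ(V.toScheme, ⊤)) s
    (Tp_le_pre Γ(V.toScheme, ⊤) (Y.residueField y) (gV f V y hyV)) hs
  -- transfer to `L`
  have heq : (f ⁻¹ᵁ V).ι ''ᵁ ((f ∣_ V) ⁻¹ᵁ V₁) = f ⁻¹ᵁ (V.ι ''ᵁ V₁) :=
    image_morphismRestrict_preimage f V V₁
  have hb' := (isBasisOver_restrict_iff (f ⁻¹ᵁ V).ι L ((f ∣_ V) ⁻¹ᵁ V₁) _).1 hb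
  refine ⟨V.ι ''ᵁ V₁, ⟨⟨y, hyV⟩, hyV₁, rfl⟩, ?_⟩
  rw [← heq]
  exact ⟨_, hb'⟩

end Groth.Agent.H2.See
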