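import Groth.Agent.Lib.Helper2.SeeH
import Groth.Agent.Lib.Lead.QC.Counit
import Groth.Agent.Lib.Lead.QC.TensorDescAll

/-!
# Seesaw: the direct image of a fibrewise trivial invertible module (helper2)
-/

set_option autoImplicit false
set_option linter.style.haveILetI false
universe u

open CategoryTheory CategoryTheory.Limits AlgebraicGeometry Opposite TopologicalSpace TensorProduct

namespace Groth.Agent.H2.See

open Groth.Agent.LD Groth.Agent.LD.QC

/-- a basis of `L` over `f⁻¹ V` is a basis of `f_* L` over `V` when `O_Y → f_* O_X` is bijective on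
sections. -/
theorem isBasisOver_pushforward_of_bijective {X Y : Scheme.{u}} (f : X ⟶ Y)
    (hf : ∀ V : Y.Opens, Function.Bijective (f.app V)) (L : X.Modules) (V : Y.Opens)
    (e : Γ(L, f ⁻¹ᵁ V)) (he : IsBasisOver L (f ⁻¹ᵁ V) e) :
    IsBasisOver ((Scheme.Modules.pushforward f).obj L) V
      (show Γ((Scheme.Modules.pushforward f).obj L, V) from e) := by
  have hpre : ∀ {N' : Y.Opens}, N' ≤ V → f ⁻¹ᵁ N' ≤ f ⁻¹ᵁ V := fun h x hx => h hx
  have key : ∀ (N' : Y.Opens) (h : N' ≤ V),
      (fun a : Γ(Y, N') => a • ((Scheme.Modules.pushforward f).obj L).presheaf.map (homOfLE h).op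
        (show Γ((Scheme.Modules.pushforward f).obj L, V) from e)) =
      (fun b : Γ(X, f ⁻¹ᵁ N') => b • L.presheaf.map (homOfLE (hpre h)).op e) ∘
        ⇑(ConcreteCategory.hom (f.app N')) := by
    intro N' h
    funext a
    rfl
  intro N' hN'
  rw [key N' hN']
  exact (he (f ⁻¹ᵁ N') (hpre hN')).comp (hf N')

/-- **seesaw**: the direct image of a fibrewise trivial invertible module is invertible and the
counit `f^* f_* L → L` is an isomorphism. -/
theorem isInvertible_pushforward_and_isIso_counit {X Y : Scheme.{u}} (f : X ⟶ Y) [IsProper f]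
    [Flat f] [IsLocallyNoetherian Y] [IsReduced Y]
    (h0 : ∀ y : Y, Function.Bijective (algebraMap (Y.residueField y) Γ(f.fiber y, ⊤)))
    (L : X.Modules) (hL : PicF.IsInvertible L)
    (htriv : ∀ y : Y, Nonempty (CohIII.fiberMod f L y ≅ Coh.structureModule (f.fiber y))) :
    PicF.IsInvertible ((Scheme.Modules.pushforward f).obj L) ∧
      IsIso ((Scheme.Modules.pullbackPushforwardAdjunction f).counit.app L) := by
  have hf : ∀ V : Y.Opens, Function.Bijective (f.app V) := fun V => by
    haveI := Groth.Agent.H2.Ubc.isIso_app_of_forall_bijective f h0 V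
    exact ConcreteCategory.bijective_of_isIso (f.app V)
  have key := exists_basis_preimage_of_fibre_trivial f h0 L hL htriv
  have hM : PicF.IsInvertible ((Scheme.Modules.pushforward f).obj L) := by
    rw [isInvertible_iff_exists_isBasisOver]
    intro y
    obtain ⟨V, hyV, σ, hσ⟩ := key y
    exact ⟨V, _, hyV, isBasisOver_pushforward_of_bijective f hf L V σ hσ⟩
  refine ⟨hM, ?_⟩
  haveI : ((Scheme.Modules.pushforward f).obj L).IsQuasicoherent :=
    qc_of_isFinLocFree _ (isFinLocFree_of_isInvertible _ hM)
  apply isIso_of_forall_isBasisOver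
  intro x
  obtain ⟨V, hyV, σ, hσ⟩ := key (f x)
  refine ⟨f ⁻¹ᵁ V, pbSec f ((Scheme.Modules.pushforward f).obj L) (le_refl _)
    (show Γ((Scheme.Modules.pushforward f).obj L, V) from σ), hyV,
    IsBasisOver.pullback f (isBasisOver_pushforward_of_bijective f hf L V σ hσ) (le_refl _), ?_⟩
  rw [counit_pbSec, res_self]
  exact hσ

end Groth.Agent.H2.See
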