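import Groth.Agent.Lib.Helper2.SeeI
import Groth.Agent.Lib.Lead.FBC.BC0
import Groth.Agent.Lib.Lead.QC.Epi
import Groth.Agent.Lib.Lead.QC.Push

/-!
# A local section restricting to a basis on a fibre, from surjectivity of base change (helper2)
-/

set_option autoImplicit false
set_option linter.style.haveILetI false
universe u

open CategoryTheory CategoryTheory.Limits AlgebraicGeometry Opposite TopologicalSpace TensorProduct

namespace Groth.Agent.H2.See

open Groth.Agent.LD Groth.Agent.LD.QC

lemma top_le_fromSpecResidueField_preimage {S : Scheme.{u}} (s : S) (V : S.Opens) (hs : s ∈ V) :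
    (⊤ : (Spec (S.residueField s)).Opens) ≤ (S.fromSpecResidueField s) ⁻¹ᵁ V := by
  intro x _
  change (S.fromSpecResidueField s) x ∈ V
  rw [Scheme.fromSpecResidueField_apply]
  exact hs

set_option maxHeartbeats 800000 in
/-- if the degree zero base change map to the fibre over `s` is an epimorphism and the restriction
of `L` to the fibre has a global basis, some section of `L` over the preimage of a given affine
neighbourhood of `s` restricts to a basis on the fibre. -/
theorem exists_basis_pbSec_of_epi_bc0 {X S : Scheme.{u}} (f : X ⟶ S) [QuasiCompact f]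
    [QuasiSeparated f] (L : X.Modules) [L.IsQuasicoherent] (s : S)
    (h0 : Function.Bijective (algebraMap (S.residueField s) Γ(f.fiber s, ⊤)))
    (hepi : Epi (CohBC.bc0 f (S.fromSpecResidueField s) (f.fiberToSpecResidueField s)
      (f.fiberι s) (f.fiber_fac s) L))
    (t₀ : Γ(CohIII.fiberMod f L s, ⊤)) (ht₀ : IsBasisOver (CohIII.fiberMod f L s) ⊤ t₀)
    (V : S.Opens) (hV : IsAffineOpen V) (hs : s ∈ V) :
    ∃ (n : Γ(L, f ⁻¹ᵁ V)),
      IsBasisOver (CohIII.fiberMod f L s) ⊤
        (pbSec (f.fiberι s) L (FBC.preimage_le_of_le f (S.fromSpecResidueField s)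
          (f.fiberToSpecResidueField s) (f.fiberι s) (f.fiber_fac s)
          (top_le_fromSpecResidueField_preimage s V hs)) n) := by
  haveI : ((Scheme.Modules.pushforward f).obj L).IsQuasicoherent := qc_pushforward f L
  have e := top_le_fromSpecResidueField_preimage s V hs
  have he' := FBC.preimage_le_of_le f (S.fromSpecResidueField s)
    (f.fiberToSpecResidueField s) (f.fiberι s) (f.fiber_fac s) e
  by_contra hne
  push_neg at hne
  have hzero : ∀ n : Γ(L, f ⁻¹ᵁ V), pbSec (f.fiberι s) L he' n = 0 := by
    intro n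
    obtain ⟨c, hc⟩ := ht₀.exists_coord (pbSec (f.fiberι s) L he' n)
    obtain ⟨k, rfl⟩ := h0.2 c
    by_cases hk : k = 0
    · exact hc.trans (by rw [hk, map_zero, zero_smul]; rfl)
    · exfalso
      apply hne n
      have hb : IsBasisOver (CohIII.fiberMod f L s) ⊤
          (algebraMap (S.residueField s) Γ(f.fiber s, ⊤) k • t₀) :=
        (ht₀.smul_iff _).2
          (IsUnit.map (algebraMap (S.residueField s) Γ(f.fiber s, ⊤)) (IsUnit.mk0 k hk))
      exact (congrArg (fun x => IsBasisOver (CohIII.fiberMod f L s) ⊤ x) hc).mpr hb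
  obtain ⟨W, hW, hxW, g₀, hg₀⟩ := exists_local_lift _ hepi ⊤ t₀
    (IsLocalRing.closedPoint (S.residueField s)) trivial
  have hWtop : W = ⊤ := by
    ext x
    have hx : x = IsLocalRing.closedPoint (S.residueField s) := Subsingleton.elim _ _
    simp only [SetLike.mem_coe, TopologicalSpace.Opens.coe_top, Set.mem_univ, iff_true]
    rw [hx]
    exact hxW
  subst hWtop
  have hspan := span_range_pbSec (S.fromSpecResidueField s)
    (isAffineOpen_top (Spec (S.residueField s))) hV e ((Scheme.Modules.pushforward f).obj L)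
  have hall : ∀ x ∈ Submodule.span Γ(Spec (S.residueField s), ⊤)
      (Set.range (pbSec (S.fromSpecResidueField s) ((Scheme.Modules.pushforward f).obj L) e)),
      (CohBC.bc0 f (S.fromSpecResidueField s) (f.fiberToSpecResidueField s)
        (f.fiberι s) (f.fiber_fac s) L).app ⊤ x = 0 := by
    intro x hx
    induction hx using Submodule.span_induction with
    | mem x hx =>
      obtain ⟨n, rfl⟩ := hx
      have := FBC.bc0_pbSec f (S.fromSpecResidueField s) (f.fiberToSpecResidueField s)
        (f.fiberι s) (f.fiber_fac s) L e n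
      rw [this]
      exact hzero n
    | zero => exact map_zero _
    | add x y _ _ hx hy => rw [map_add, hx, hy, add_zero]
    | smul a x _ hx => rw [Scheme.Modules.Hom.app_smul, hx, smul_zero]
  have hg0 := hall g₀ (by rw [hspan]; trivial)
  rw [hg0] at hg₀
  have ht0 : t₀ = 0 := by
    have h1 : ((Scheme.Modules.pushforward (f.fiberToSpecResidueField s)).obj
        (CohIII.fiberMod f L s)).presheaf.map (homOfLE hW).op t₀ = t₀ :=
      res_self (CohIII.fiberMod f L s) _ t₀
    rw [← h1]
    exact hg₀.symm
  have h0' : IsBasisOver (CohIII.fiberMod f L s) ⊤ ((0 : Γ(f.fiber s, ⊤)) • t₀) := by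
    rw [zero_smul]
    rw [ht0] at ht₀
    exact ht₀
  have hu : IsUnit (0 : Γ(f.fiber s, ⊤)) := (ht₀.smul_iff _).1 h0'
  have h01 : (0 : Γ(f.fiber s, ⊤)) = 1 := by
    obtain ⟨u, hu'⟩ := hu.exists_right_inv
    rw [zero_mul] at hu'
    exact hu'
  have : (0 : S.residueField s) = 1 := h0.1 (by rw [map_zero, map_one]; exact h01)
  exact zero_ne_one this

end Groth.Agent.H2.See
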