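import Groth.Agent.Lib.Helper2.SeeJ

/-!
# Seesaw from surjectivity of base change; the unit of an invertible module (helper2)
-/

set_option autoImplicit false
set_option linter.style.haveILetI false
universe u

open CategoryTheory CategoryTheory.Limits AlgebraicGeometry Opposite TopologicalSpace TensorProduct

namespace Groth.Agent.H2.See

open Groth.Agent.LD Groth.Agent.LD.QC

/-- a fibrewise trivialisation together with surjectivity of base change in degree zero gives a
basis over the preimage of a neighbourhood. -/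
theorem exists_basis_preimage_of_epi_bc0 {X S : Scheme.{u}} (f : X ⟶ S) [IsProper f]
    (L : X.Modules) (hL : PicF.IsInvertible L) (s : S)
    (h0 : Function.Bijective (algebraMap (S.residueField s) Γ(f.fiber s, ⊤)))
    (hepi : Epi (CohBC.bc0 f (S.fromSpecResidueField s) (f.fiberToSpecResidueField s)
      (f.fiberι s) (f.fiber_fac s) L))
    (τ : CohIII.fiberMod f L s ≅ Coh.structureModule (f.fiber s)) :
    ∃ (V'' : S.Opens) (_ : s ∈ V'') (σ : Γ(L, f ⁻¹ᵁ V'')), IsBasisOver L (f ⁻¹ᵁ V'') σ := by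
  haveI : L.IsQuasicoherent := qc_of_isFinLocFree L (isFinLocFree_of_isInvertible L hL)
  obtain ⟨V, hV, hsV⟩ : ∃ V : S.Opens, IsAffineOpen V ∧ s ∈ V := by
    obtain ⟨_, ⟨V, hV, rfl⟩, hy, -⟩ :=
      S.isBasis_affineOpens.exists_subset_of_mem_open (Set.mem_univ s) isOpen_univ
    exact ⟨V, hV, hy⟩
  have ht₀ : IsBasisOver (CohIII.fiberMod f L s) ⊤
      (τ.symm.hom.app ⊤ (1 : Γ(f.fiber s, ⊤))) :=
    Groth.Agent.H2.ParaFK.IsBasisOver.of_iso τ.symm (isBasisOver_one _)
  obtain ⟨n, hn⟩ := exists_basis_pbSec_of_epi_bc0 f L s h0 hepi _ ht₀ V hV hsV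
  obtain ⟨V₁, hsV₁, hle, hb⟩ := exists_basis_preimage_of_fibre f s
    (f.fiberToSpecResidueField s) (f.fiberι s) (S.fromSpecResidueField s)
    (IsPullback.of_hasPullback f (S.fromSpecResidueField s))
    (IsLocalRing.closedPoint (S.residueField s)) (Scheme.fromSpecResidueField_apply s _)
    L hL (f ⁻¹ᵁ V) n _ hn
  exact ⟨V₁, hsV₁, _, hb⟩

/-- local bases over preimages of opens of the base make the direct image invertible and the counit
an isomorphism. -/
theorem isInvertible_pushforward_and_isIso_counit_of_local_basis {X Y : Scheme.{u}} (f : X ⟶ Y)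
    (hf : ∀ V : Y.Opens, Function.Bijective (f.app V)) (L : X.Modules)
    (key : ∀ y : Y, ∃ (V : Y.Opens) (_ : y ∈ V) (σ : Γ(L, f ⁻¹ᵁ V)), IsBasisOver L (f ⁻¹ᵁ V) σ) :
    PicF.IsInvertible ((Scheme.Modules.pushforward f).obj L) ∧
      IsIso ((Scheme.Modules.pullbackPushforwardAdjunction f).counit.app L) := by
  have hM : PicF.IsInvertible ((Scheme.Modules.pushforward f).obj L) := by
    rw [isInvertible_iff_exists_isBasisOver]
    intro y
    obtain ⟨V, hyV, σ, hσ⟩ := key y
    exact ⟨V, _, hyV, isBasisOver_pushforward_of_bijective f hf L V σ hσ⟩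
  refine ⟨hM, ?_⟩
  haveI : ((Scheme.Modules.pushforward f).obj L).IsQuasicoherent :=
    qc_of_isFinLocFree _ (isFinLocFree_of_isInvertible _ hM)
  apply isIso_of_forall_isBasisOver
  intro x
  obtain ⟨V, hyV, σ, hσ⟩ := key (f x)
  refine ⟨f ⁻¹ᵁ V, pbSec f ((Scheme.Modules.pushforward f).obj L) (le_refl _)
    (show Γ((Scheme.Modules.pushforward f).obj L, V) from σ), hyV,
    IsBasisOver.pullback f (isBasisOver_pushforward_of_bijective f hf L V σ hσ) (le_refl _), ?_⟩
  rw [counit_pbSec, res_self]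
  exact hσ

/-- the unit `L₀ → f_* f^* L₀` is an isomorphism for invertible `L₀` when `O_Y → f_* O_X` is
bijective on sections. -/
theorem isIso_unit_of_isInvertible {X Y : Scheme.{u}} (f : X ⟶ Y)
    (hf : ∀ V : Y.Opens, Function.Bijective (f.app V)) (L₀ : Y.Modules)
    (hL₀ : PicF.IsInvertible L₀) :
    IsIso ((Scheme.Modules.pullbackPushforwardAdjunction f).unit.app L₀) := by
  haveI : L₀.IsQuasicoherent := qc_of_isFinLocFree L₀ (isFinLocFree_of_isInvertible L₀ hL₀)
  apply isIso_of_forall_isBasisOver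
  intro y
  obtain ⟨V, e, hyV, he⟩ := (isInvertible_iff_exists_isBasisOver L₀).1 hL₀ y
  refine ⟨V, e, hyV, he, ?_⟩
  have h1 : IsBasisOver ((Scheme.Modules.pullback f).obj L₀) (f ⁻¹ᵁ V)
      (pbSec f L₀ (le_refl _) e) := IsBasisOver.pullback f he (le_refl _)
  have h2 := isBasisOver_pushforward_of_bijective f hf ((Scheme.Modules.pullback f).obj L₀) V _ h1
  have h3 : pbSec f L₀ (le_refl (f ⁻¹ᵁ V)) e = unitSec f L₀ V e :=
    res_self _ _ _
  rw [h3] at h2
  exact h2

end Groth.Agent.H2.See
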