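import Groth.Agent.Lib.Helper2.SeeK
import Groth.Agent.Lib.Lead.QC.InvField2
import Groth.Agent.Lib.Lead.QC.InvIntegral
import Groth.Agent.Lib.Lead.CohLES.H0

/-!
# An invertible module and its inverse both having sections on an integral proper scheme (helper2)
-/

set_option autoImplicit false
set_option linter.style.haveILetI false
universe u

open CategoryTheory CategoryTheory.Limits AlgebraicGeometry Opposite TopologicalSpace TensorProduct

namespace Groth.Agent.H2.See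

open Groth.Agent.LD Groth.Agent.LD.QC

/-- a nonzero class in `H⁰` gives a nonzero morphism from the structure sheaf. -/
lemma exists_hom_ne_zero_of_nontrivial {Z : Scheme.{u}} (A : Z.Modules)
    (h : Nontrivial (Coh.HH Z A 0)) : ∃ σ : unitMod Z ⟶ A, σ ≠ 0 := by
  obtain ⟨x, hx⟩ := exists_ne (0 : Coh.HH Z A 0)
  refine ⟨homOfSection A (CL.HH0Equiv A x), fun h0 => hx ?_⟩
  have h1 := sectionOfHom_homOfSection A (CL.HH0Equiv A x)
  rw [h0] at h1
  have h2 : CL.HH0Equiv A x = 0 := by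
    rw [← h1]
    rfl
  exact (CL.HH0Equiv A).injective (h2.trans (map_zero _).symm)

/-- on an integral scheme whose global functions form a field, an invertible module such that it
and its inverse both have nonzero sections is trivial. -/
theorem nonempty_iso_unit_of_nontrivial_HH0 {Z : Scheme.{u}} [IsIntegral Z]
    (hfield : IsField (Γ(Z, ⊤) : Type u))
    (A B : Z.Modules) (hA : PicF.IsInvertible A) (hB : PicF.IsInvertible B)
    (ε : CohB1.tensorMod A B ≅ unitMod Z)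
    (h1 : Nontrivial (Coh.HH Z A 0)) (h2 : Nontrivial (Coh.HH Z B 0)) :
    Nonempty (A ≅ unitMod Z) := by
  obtain ⟨σ, hσ⟩ := exists_hom_ne_zero_of_nontrivial A h1
  obtain ⟨m, hm⟩ := exists_hom_ne_zero_of_nontrivial B h2
  let t : A ⟶ unitMod Z := (SecTwist.unitorR A).inv ≫ KoszTw.tensorMap (𝟙 A) m ≫ ε.hom
  have ht : t ≠ 0 := by
    intro ht0
    apply hm
    obtain ⟨z⟩ : Nonempty Z := inferInstance
    obtain ⟨U₁, e₁, hz₁, he₁⟩ := (isInvertible_iff_exists_isBasisOver A).1 hA z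
    obtain ⟨U₂, e₂, hz₂, he₂⟩ := (isInvertible_iff_exists_isBasisOver B).1 hB z
    have he₁' := he₁.mono (inf_le_left : U₁ ⊓ U₂ ≤ U₁)
    have he₂' := he₂.mono (inf_le_right : U₁ ⊓ U₂ ≤ U₂)
    obtain ⟨c, hc⟩ := he₂'.exists_coord (m.app (U₁ ⊓ U₂) (1 : Γ(Z, U₁ ⊓ U₂)))
    have hcomp : t.app (U₁ ⊓ U₂) (A.presheaf.map (homOfLE inf_le_left).op e₁) =
        c • ε.hom.app (U₁ ⊓ U₂) (SecTwist.tmul A B (U₁ ⊓ U₂)
          (A.presheaf.map (homOfLE inf_le_left).op e₁)
          (B.presheaf.map (homOfLE inf_le_right).op e₂)) := by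
      change ε.hom.app (U₁ ⊓ U₂) ((KoszTw.tensorMap (𝟙 A) m).app (U₁ ⊓ U₂)
        ((SecTwist.unitorR A).inv.app (U₁ ⊓ U₂) _)) = _
      rw [unitorR_inv_app, KoszTw.tensorMap_tmul, hc, tmul_smul_right]
      exact Scheme.Modules.Hom.app_smul ε.hom c _
    have hb : IsBasisOver (unitMod Z) (U₁ ⊓ U₂) (ε.hom.app (U₁ ⊓ U₂)
        (SecTwist.tmul A B (U₁ ⊓ U₂) (A.presheaf.map (homOfLE inf_le_left).op e₁)
          (B.presheaf.map (homOfLE inf_le_right).op e₂))) :=
      Groth.Agent.H2.ParaFK.IsBasisOver.of_iso ε (he₁'.tmul he₂')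
    have hc0 : c = 0 := by
      apply hb.coeff_eq_zero le_rfl c
      rw [res_self, ← hcomp, ht0]
      rfl
    have hne : ((U₁ ⊓ U₂ : Z.Opens) : Set Z).Nonempty := ⟨z, ⟨hz₁, hz₂⟩⟩
    exact hom_eq_zero_of_app_basis_eq_zero (isInvertible_unit Z) hB m hne
      (isBasisOver_one (U₁ ⊓ U₂)) (by rw [hc, hc0, zero_smul])
  exact nonempty_iso_unit_of_sections hfield A hA σ hσ t ht

end Groth.Agent.H2.See
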