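import Groth.Agent.Lib.Helper2.SeeL
import Groth.Agent.Lib.Lead.FF.H0Const
import Groth.Agent.Lib.Lead.QC.InvInverse
import Groth.Agent.Lib.Lead.QC.TwistBack
import Groth.Agent.Lib.Lead.QC.FreeData
import Groth.Agent.Lib.Helper5.Glue.F

/-!
# Fibres of geometrically integral proper morphisms and pulled back invertible modules (helper2)
-/

set_option autoImplicit false
set_option linter.style.haveILetI false
universe u

open CategoryTheory CategoryTheory.Limits AlgebraicGeometry Opposite TopologicalSpace TensorProduct

namespace Groth.Agent.H2.See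

open Groth.Agent.LD Groth.Agent.LD.QC

/-- geometrically irreducible morphisms are geometrically connected. -/
theorem geometricallyConnected_of_geometricallyIrreducible {X S : Scheme.{u}} (f : X ⟶ S)
    [GeometricallyIrreducible f] : GeometricallyConnected f :=
  ⟨fun K _ y Z fst snd h => by
    haveI : IrreducibleSpace Z :=
      GeometricallyIrreducible.geometrically_irreducibleSpace (f := f) y fst snd h
    infer_instance⟩

/-- the global functions of a fibre of a proper geometrically integral morphism are the
constants. -/
theorem bijective_algebraMap_fiber {X S : Scheme.{u}} (f : X ⟶ S) [IsProper f]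
    [GeometricallyIntegral f] (s : S) :
    Function.Bijective (algebraMap (S.residueField s) Γ(f.fiber s, ⊤)) := by
  haveI : GeometricallyConnected f := geometricallyConnected_of_geometricallyIrreducible f
  letI ovK : (f.fiber s).Over (Spec (CommRingCat.of (S.residueField s))) :=
    ⟨f.fiberToSpecResidueField s⟩
  haveI : IsProper ((f.fiber s) ↘ Spec (CommRingCat.of (S.residueField s))) :=
    inferInstanceAs (IsProper (pullback.snd f (S.fromSpecResidueField s)))
  haveI : GeometricallyReduced ((f.fiber s) ↘ Spec (CommRingCat.of (S.residueField s))) :=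
    inferInstanceAs (GeometricallyReduced (pullback.snd f (S.fromSpecResidueField s)))
  haveI : GeometricallyConnected ((f.fiber s) ↘ Spec (CommRingCat.of (S.residueField s))) :=
    inferInstanceAs (GeometricallyConnected (pullback.snd f (S.fromSpecResidueField s)))
  have h1 := Groth.Agent.LD.FF.finrank_HH0_eq_one (S.residueField s) (f.fiber s)
  rw [Groth.Agent.LD.FF.finrank_HH0_eq] at h1
  have h1' : Module.finrank (S.residueField s) Γ(f.fiber s, ⊤) = 1 := h1
  haveI : Module.Finite (S.residueField s) Γ(f.fiber s, ⊤) :=
    Module.finite_of_finrank_pos (by rw [h1']; exact Nat.one_pos)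
  exact Groth.Agent.H2.EtH0.bijective_algebraMap_of_finrank_eq_one _ _ h1'

/-- an invertible module on the spectrum of a field is trivial. -/
theorem nonempty_unit_iso_of_field {K : Type u} [Field K]
    (N : (Spec (CommRingCat.of K)).Modules)
    (hN : PicF.IsInvertible N) : Nonempty (unitMod (Spec (CommRingCat.of K)) ≅ N) := by
  obtain ⟨U, e, hU, he⟩ := (isInvertible_iff_exists_isBasisOver N).1 hN
    (IsLocalRing.closedPoint K)
  have hUtop : U = ⊤ := by
    ext x
    have hx : x = IsLocalRing.closedPoint K := Subsingleton.elim _ _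
    simp only [SetLike.mem_coe, TopologicalSpace.Opens.coe_top, Set.mem_univ, iff_true]
    rw [hx]
    exact hU
  subst hUtop
  haveI : IsIso (homOfSection N e) :=
    isIso_of_forall_isBasisOver _ (fun x =>
      ⟨⊤, (1 : Γ(Spec (CommRingCat.of K), ⊤)), trivial, isBasisOver_one ⊤, by
        rw [homOfSection_app_one, res_self]; exact he⟩)
  exact ⟨asIso (homOfSection N e)⟩

/-- a module pulled back from an invertible module on the base is trivial on the fibres. -/
theorem nonempty_fiberMod_iso_of_pullback {X S : Scheme.{u}} (f : X ⟶ S) (N₀ : S.Modules)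
    (hN₀ : PicF.IsInvertible N₀) (N : X.Modules)
    (e : N ≅ (Scheme.Modules.pullback f).obj N₀) (s : S) :
    Nonempty (CohIII.fiberMod f N s ≅ Coh.structureModule (f.fiber s)) := by
  obtain ⟨ψ⟩ := nonempty_unit_iso_of_field (K := S.residueField s)
    ((Scheme.Modules.pullback (S.fromSpecResidueField s)).obj N₀)
    (isInvertible_pullback (S.fromSpecResidueField s) hN₀)
  exact ⟨(Scheme.Modules.pullback (f.fiberι s)).mapIso e ≪≫
    (Scheme.Modules.pullbackComp (f.fiberι s) f).app N₀ ≪≫
    (Scheme.Modules.pullbackCongr (pullback.condition :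
      f.fiberι s ≫ f = f.fiberToSpecResidueField s ≫ S.fromSpecResidueField s)).app N₀ ≪≫
    ((Scheme.Modules.pullbackComp (f.fiberToSpecResidueField s)
      (S.fromSpecResidueField s)).app N₀).symm ≪≫
    (Scheme.Modules.pullback (f.fiberToSpecResidueField s)).mapIso ψ.symm ≪≫
    pullbackUnitIso (f.fiberToSpecResidueField s)⟩

/-- the restrictions to a fibre of an invertible module and of an inverse are inverse to each
other. -/
noncomputable def fiberTensorIso {X S : Scheme.{u}} (f : X ⟶ S) (L M : X.Modules)
    (hL : PicF.IsInvertible L) (hM : PicF.IsInvertible M)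
    (ε : CohB1.tensorMod L M ≅ unitMod X) (s : S) :
    CohB1.tensorMod (CohIII.fiberMod f L s) (CohIII.fiberMod f M s) ≅ unitMod (f.fiber s) :=
  (pbTensorIso (f.fiberι s) L M hL hM).symm ≪≫
    (Scheme.Modules.pullback (f.fiberι s)).mapIso ε ≪≫ pbUnitIso (f.fiberι s)

/-- two inverses of an invertible module are isomorphic. -/
theorem nonempty_iso_of_inverses {X : Scheme.{u}} (L M M' : X.Modules) [L.IsQuasicoherent]
    [M.IsQuasicoherent] [M'.IsQuasicoherent] (ε : CohB1.tensorMod L M ≅ unitMod X)
    (ε' : CohB1.tensorMod L M' ≅ unitMod X) : Nonempty (M ≅ M') :=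
  ⟨(unitorL' M).symm ≪≫ tensorIso' ((tensorCommGen M' L ≪≫ ε').symm) (Iso.refl M) ≪≫
    backIso L M ε M'⟩

end Groth.Agent.H2.See
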