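import Groth.Agent.Lib.Helper2.SeeM
import Groth.Agent.Lib.Lead.QC.EpiLocal

/-!
# Seesaw for proper flat morphisms with geometrically integral fibres (helper2)
-/

set_option autoImplicit false
set_option linter.style.haveILetI false
universe u

open CategoryTheory CategoryTheory.Limits AlgebraicGeometry Opposite TopologicalSpace TensorProduct

namespace Groth.Agent.H2.See

open Groth.Agent.LD Groth.Agent.LD.QC

/-- a fibrewise trivial module has nonzero sections on the fibre. -/
theorem nontrivial_fiberH_of_iso {X S : Scheme.{u}} (f : X ⟶ S) (s : S) (N : X.Modules)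
    (τ : CohIII.fiberMod f N s ≅ Coh.structureModule (f.fiber s))
    (h0 : Function.Bijective (algebraMap (S.residueField s) Γ(f.fiber s, ⊤))) :
    Nontrivial (CohIII.fiberH f N s 0) := by
  have h := fiberRank_zero_eq_one_of_iso f s N τ h0
  unfold CohIII.fiberRank at h
  refine Module.nontrivial_of_finrank_pos (R := S.residueField s) ?_
  exact lt_of_lt_of_eq Nat.one_pos h.symm

set_option maxHeartbeats 800000 in
/-- a basis over the preimage of a neighbourhood makes the base change map to the fibre an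
epimorphism. -/
theorem epi_bc0_of_local_basis {X S : Scheme.{u}} (f : X ⟶ S) (N : X.Modules)
    [N.IsQuasicoherent] (s : S)
    (h0 : Function.Bijective (algebraMap (S.residueField s) Γ(f.fiber s, ⊤)))
    (V : S.Opens) (hs : s ∈ V) (σ : Γ(N, f ⁻¹ᵁ V)) (hσ : IsBasisOver N (f ⁻¹ᵁ V) σ) :
    Epi (CohBC.bc0 f (S.fromSpecResidueField s) (f.fiberToSpecResidueField s)
      (f.fiberι s) (f.fiber_fac s) N) := by
  have e := top_le_fromSpecResidueField_preimage s V hs
  have he' := FBC.preimage_le_of_le f (S.fromSpecResidueField s)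
    (f.fiberToSpecResidueField s) (f.fiberι s) (f.fiber_fac s) e
  apply epi_of_local_lift
  intro U t x hxU
  have hUtop : U = ⊤ := by
    ext x'
    have hx : x' = x := Subsingleton.elim _ _
    simp only [SetLike.mem_coe, TopologicalSpace.Opens.coe_top, Set.mem_univ, iff_true]
    rw [hx]
    exact hxU
  subst hUtop
  refine ⟨⊤, le_rfl, trivial, ?_⟩
  have hb : IsBasisOver (CohIII.fiberMod f N s) ((f.fiberToSpecResidueField s) ⁻¹ᵁ ⊤)
      (pbSec (f.fiberι s) N he' σ) := IsBasisOver.pullback (f.fiberι s) hσ he'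
  obtain ⟨c, hc⟩ := hb.exists_coord t
  obtain ⟨k, rfl⟩ := h0.2 c
  refine ⟨((Scheme.ΓSpecIso (S.residueField s)).inv.hom k) •
    pbSec (S.fromSpecResidueField s) ((Scheme.Modules.pushforward f).obj N) e
      (show Γ((Scheme.Modules.pushforward f).obj N, V) from σ), ?_⟩
  rw [Scheme.Modules.Hom.app_smul, FBC.bc0_pbSec, res_self]
  exact hc.symm

/-- the conditions of the seesaw criterion hold for a module pulled back from the base. -/
theorem cond_of_pullback {X S : Scheme.{u}} (f : X ⟶ S) [IsProper f] [GeometricallyIntegral f]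
    (N₀ : S.Modules) (hN₀ : PicF.IsInvertible N₀) (N : X.Modules) (hN : PicF.IsInvertible N)
    (e : N ≅ (Scheme.Modules.pullback f).obj N₀) (s : S) :
    Nontrivial (CohIII.fiberH f N s 0) ∧
      Epi (CohBC.bc0 f (S.fromSpecResidueField s) (f.fiberToSpecResidueField s)
        (f.fiberι s) (f.fiber_fac s) N) := by
  have h0 := bijective_algebraMap_fiber f s
  obtain ⟨τ⟩ := nonempty_fiberMod_iso_of_pullback f N₀ hN₀ N e s
  refine ⟨nontrivial_fiberH_of_iso f s N τ h0, ?_⟩
  haveI : N.IsQuasicoherent := qc_of_isInvertible N hN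
  haveI : N₀.IsQuasicoherent := qc_of_isInvertible N₀ hN₀
  obtain ⟨V, e₀, hsV, he₀⟩ := (isInvertible_iff_exists_isBasisOver N₀).1 hN₀ s
  have h1 : IsBasisOver ((Scheme.Modules.pullback f).obj N₀) (f ⁻¹ᵁ V)
      (pbSec f N₀ (le_refl _) e₀) := IsBasisOver.pullback f he₀ (le_refl _)
  have h2 := Groth.Agent.H2.ParaFK.IsBasisOver.of_iso e.symm h1
  exact epi_bc0_of_local_basis f N s h0 V hsV _ h2

end Groth.Agent.H2.See
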