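import Groth.Agent.Lib.Helper2.SeeN

/-!
# Seesaw criterion for geometrically integral fibres (helper2)
-/

set_option autoImplicit false
set_option linter.style.haveILetI false
universe u

open CategoryTheory CategoryTheory.Limits AlgebraicGeometry Opposite TopologicalSpace TensorProduct

namespace Groth.Agent.H2.See

open Groth.Agent.LD Groth.Agent.LD.QC

/-- the restriction to a fibre of an invertible module which, like its inverse, has sections on the
fibre, is trivial. -/
theorem nonempty_fiberMod_iso_of_nontrivial {X S : Scheme.{u}} (f : X ⟶ S) [IsProper f]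
    [GeometricallyIntegral f] (L M : X.Modules) (hL : PicF.IsInvertible L)
    (hM : PicF.IsInvertible M) (ε : CohB1.tensorMod L M ≅ unitMod X) (s : S)
    (h1 : Nontrivial (CohIII.fiberH f L s 0)) (h2 : Nontrivial (CohIII.fiberH f M s 0)) :
    Nonempty (CohIII.fiberMod f L s ≅ Coh.structureModule (f.fiber s)) := by
  have h0 := bijective_algebraMap_fiber f s
  have hfield : IsField (Γ(f.fiber s, ⊤) : Type u) :=
    MulEquiv.isField (Field.toIsField (S.residueField s))
      (RingEquiv.ofBijective _ h0).symm.toMulEquiv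
  exact nonempty_iso_unit_of_nontrivial_HH0 hfield (CohIII.fiberMod f L s)
    (CohIII.fiberMod f M s) (isInvertible_pullback (f.fiberι s) hL)
    (isInvertible_pullback (f.fiberι s) hM) (fiberTensorIso f L M hL hM ε s) h1 h2

/-- **seesaw criterion, sufficiency**. -/
theorem seesaw_of_cond {X S : Scheme.{u}} (f : X ⟶ S) [IsProper f] [Flat f]
    [IsLocallyNoetherian S] [GeometricallyIntegral f] (L M : X.Modules)
    (hL : PicF.IsInvertible L) (ε : CohB1.tensorMod L M ≅ unitMod X)
    (hLn : ∀ s : S, Nontrivial (CohIII.fiberH f L s 0))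
    (hMn : ∀ s : S, Nontrivial (CohIII.fiberH f M s 0))
    (hLe : ∀ s : S, Epi (CohBC.bc0 f (S.fromSpecResidueField s) (f.fiberToSpecResidueField s)
      (f.fiberι s) (f.fiber_fac s) L)) :
    (∀ s : S, CohIII.fiberRank f L 0 s = 1 ∧ CohIII.fiberRank f M 0 s = 1) ∧
      PicF.IsInvertible ((Scheme.Modules.pushforward f).obj L) ∧
      IsIso ((Scheme.Modules.pullbackPushforwardAdjunction f).counit.app L) ∧
      ∀ L₀ : S.Modules, PicF.IsInvertible L₀ →
        Nonempty (L ≅ (Scheme.Modules.pullback f).obj L₀) →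
        Nonempty (L₀ ≅ (Scheme.Modules.pushforward f).obj L) := by
  have hM : PicF.IsInvertible M := isInvertible_of_tensor_iso hL ε
  have h0 := bijective_algebraMap_fiber f
  have hτ := fun s => nonempty_fiberMod_iso_of_nontrivial f L M hL hM ε s (hLn s) (hMn s)
  have hτ' := fun s => nonempty_fiberMod_iso_of_nontrivial f M L hM hL
    (tensorCommGen M L ≪≫ ε) s (hMn s) (hLn s)
  have hf : ∀ V : S.Opens, Function.Bijective (f.app V) := fun V => by
    haveI := Groth.Agent.H2.Ubc.isIso_app_of_forall_bijective f h0 V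
    exact ConcreteCategory.bijective_of_isIso (f.app V)
  have key : ∀ s : S, ∃ (V : S.Opens) (_ : s ∈ V) (σ : Γ(L, f ⁻¹ᵁ V)),
      IsBasisOver L (f ⁻¹ᵁ V) σ :=
    fun s => exists_basis_preimage_of_epi_bc0 f L hL s (h0 s) (hLe s) (hτ s).some
  obtain ⟨hinv, hcounit⟩ := isInvertible_pushforward_and_isIso_counit_of_local_basis f hf L key
  refine ⟨fun s => ⟨fiberRank_zero_eq_one_of_iso f s L (hτ s).some (h0 s),
    fiberRank_zero_eq_one_of_iso f s M (hτ' s).some (h0 s)⟩, hinv, hcounit, ?_⟩
  rintro L₀ hL₀ ⟨e⟩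
  haveI := isIso_unit_of_isInvertible f hf L₀ hL₀
  exact ⟨asIso ((Scheme.Modules.pullbackPushforwardAdjunction f).unit.app L₀) ≪≫
    (Scheme.Modules.pushforward f).mapIso e.symm⟩

/-- **seesaw criterion, necessity**. -/
theorem cond_of_seesaw {X S : Scheme.{u}} (f : X ⟶ S) [IsProper f]
    [GeometricallyIntegral f] (L M : X.Modules)
    (hL : PicF.IsInvertible L) (ε : CohB1.tensorMod L M ≅ unitMod X)
    (L₀ : S.Modules) (hL₀ : PicF.IsInvertible L₀)
    (e : L ≅ (Scheme.Modules.pullback f).obj L₀) (s : S) :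
    (Nontrivial (CohIII.fiberH f L s 0) ∧
      Epi (CohBC.bc0 f (S.fromSpecResidueField s) (f.fiberToSpecResidueField s)
        (f.fiberι s) (f.fiber_fac s) L)) ∧
    (Nontrivial (CohIII.fiberH f M s 0) ∧
      Epi (CohBC.bc0 f (S.fromSpecResidueField s) (f.fiberToSpecResidueField s)
        (f.fiberι s) (f.fiber_fac s) M)) := by
  have hM : PicF.IsInvertible M := isInvertible_of_tensor_iso hL ε
  refine ⟨cond_of_pullback f L₀ hL₀ L hL e s, ?_⟩
  obtain ⟨L₀', hL₀', ⟨ε₀⟩⟩ := Groth.Agent.H5.Glue.exists_inverse L₀ hL₀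
  haveI : L.IsQuasicoherent := qc_of_isInvertible L hL
  haveI : M.IsQuasicoherent := qc_of_isInvertible M hM
  have hP : PicF.IsInvertible ((Scheme.Modules.pullback f).obj L₀') :=
    isInvertible_pullback f hL₀'
  haveI : ((Scheme.Modules.pullback f).obj L₀').IsQuasicoherent := qc_of_isInvertible _ hP
  let φ : CohB1.tensorMod L ((Scheme.Modules.pullback f).obj L₀') ≅ unitMod X :=
    tensorIso' e (Iso.refl _) ≪≫ (pbTensorIso f L₀ L₀' hL₀ hL₀').symm ≪≫
      (Scheme.Modules.pullback f).mapIso ε₀ ≪≫ pbUnitIso f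
  obtain ⟨e'⟩ := nonempty_iso_of_inverses L M ((Scheme.Modules.pullback f).obj L₀') ε φ
  exact cond_of_pullback f L₀' hL₀' M hM e' s

end Groth.Agent.H2.See
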