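import Groth.Agent.Lib.Helper2.SeeO
import Groth.Agent.Lib.Lead.QC.LocFree2
import Groth.Agent.Lib.Helper2.NullPlaneA
import Groth.Agent.H4.LFP4

/-!
# fpqc descent of invertibility of quasi-coherent modules (helper2)
-/

set_option autoImplicit false
set_option linter.style.haveILetI false
universe u

open CategoryTheory CategoryTheory.Limits AlgebraicGeometry Opposite TopologicalSpace TensorProduct

namespace Groth.Agent.H2.See

open Groth.Agent.LD Groth.Agent.LD.QC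

/-- **fpqc descent of invertibility** for quasi-coherent modules. -/
theorem isInvertible_of_pullback_fpqc {Y Y' : Scheme.{u}} (g : Y' ⟶ Y) [QuasiCompact g] [Flat g]
    [Surjective g] (N : Y.Modules) [N.IsQuasicoherent]
    (h : PicF.IsInvertible ((Scheme.Modules.pullback g).obj N)) : PicF.IsInvertible N := by
  have h1 : FlatMod.IsFinLocFreeOfRank 1 ((Scheme.Modules.pullback g).obj N) :=
    (isInvertible_iff _).1 h
  have hN : FlatMod.IsFinLocFree N :=
    isFinLocFree_of_pullback_fpqc g N (isFinLocFree_of_isInvertible _ h)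
  rw [isInvertible_iff]
  intro y
  obtain ⟨U, n, hyU, ⟨e⟩⟩ := hN y
  suffices hn : n = 1 by
    subst hn
    exact ⟨U, hyU, ⟨e⟩⟩
  obtain ⟨y', hy'⟩ := g.surjective y
  haveI : Nonempty (g ⁻¹ᵁ U).toScheme := ⟨⟨y', by change g y' ∈ U; rw [hy']; exact hyU⟩⟩
  have hs : FlatMod.IsFinLocFreeOfRank 1
      (((Scheme.Modules.pullback g).obj N).restrict (g ⁻¹ᵁ U).ι) :=
    Groth.Agent.H4.LFP4.isFinLocFreeOfRank_restrict 1 (g ⁻¹ᵁ U).ι _ h1
  let ε : ((Scheme.Modules.pullback g).obj N).restrict (g ⁻¹ᵁ U).ι ≅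
      FlatMod.freeMod (g ⁻¹ᵁ U).toScheme n :=
    (pullbackRestrictIso g (g ⁻¹ᵁ U).ι U.ι (g ∣_ U) (morphismRestrict_ι g U).symm).app N ≪≫
      (Scheme.Modules.pullback (g ∣_ U)).mapIso e ≪≫ pullbackFreeModIso (g ∣_ U) n
  have hr : FlatMod.IsFinLocFreeOfRank n
      (((Scheme.Modules.pullback g).obj N).restrict (g ⁻¹ᵁ U).ι) := fun _ =>
    ⟨⊤, trivial, ⟨(Scheme.Modules.restrictFunctor (⊤ : (g ⁻¹ᵁ U).toScheme.Opens).ι).mapIso ε ≪≫
      restrictFreeModIso (⊤ : (g ⁻¹ᵁ U).toScheme.Opens).ι n⟩⟩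
  exact Groth.Agent.H2.NullPlane.rank_unique _ hr hs

end Groth.Agent.H2.See
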