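import Groth.Agent.Lib.Helper2.SeeP
import Groth.Agent.Lib.Helper2.SeeK
import Groth.Agent.Lib.Lead.FBC.BC0Iso
import Groth.Agent.Lib.Lead.QC.UnitIso
import Groth.Agent.Lib.Lead.NF.Spread

/-!
# fpqc descent of "direct image invertible and counit iso" (helper2)
-/

set_option autoImplicit false
set_option linter.style.haveILetI false
universe u

open CategoryTheory CategoryTheory.Limits AlgebraicGeometry Opposite TopologicalSpace TensorProduct

namespace Groth.Agent.H2.See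

open Groth.Agent.LD Groth.Agent.LD.QC

/-- the canonical trivialisation of `j^* O` sends the canonical image of `1` to `1`. -/
lemma pullbackUnitIso_pbSec_one {X' X : Scheme.{u}} (j : X' ⟶ X) {W : X'.Opens} {U : X.Opens}
    (e : W ≤ j ⁻¹ᵁ U) :
    (pullbackUnitIso j).hom.app W (pbSec j (unitMod X) e (1 : Γ(X, U))) = (1 : Γ(X', W)) := by
  unfold pbSec
  rw [app_res]
  have h := unit_unitMod j
  have h1 : (pullbackUnitIso j).hom.app (j ⁻¹ᵁ U) (unitSec j (unitMod X) U (1 : Γ(X, U))) =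
      (1 : Γ(X', j ⁻¹ᵁ U)) := by
    have h2 := congr($(h).app U (1 : Γ(X, U)))
    refine Eq.trans ?_ (h2.trans ?_)
    · rfl
    · rw [toPushUnit_app]
      exact map_one (j.app U).hom
  rw [h1]
  exact map_one (X'.presheaf.map (homOfLE e).op).hom

/-- a section of `N` whose pullback along a surjective `g` is a basis near a point is a basis. -/
lemma exists_basis_nbhd' {X₁ X : Scheme.{u}} (g : X₁ ⟶ X) (N : X.Modules)
    (hN : PicF.IsInvertible N) [N.IsQuasicoherent]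
    (O : X.Opens) (σ : Γ(N, O)) (U' : X₁.Opens) (h : U' ≤ g ⁻¹ᵁ O)
    (ht : IsBasisOver ((Scheme.Modules.pullback g).obj N) U' (pbSec g N h σ)) (x₁ : X₁)
    (hx₁ : x₁ ∈ U') :
    ∃ (W : X.Opens) (hW : W ≤ O), g x₁ ∈ W ∧
      IsBasisOver N W (N.presheaf.map (homOfLE hW).op σ) := by
  have hxO : g x₁ ∈ O := h hx₁
  obtain ⟨U, e, hUa, hxU, hUO, he⟩ := exists_affine_basis N hN (g x₁) O hxO
  obtain ⟨a, ha⟩ := he.exists_coord (N.presheaf.map (homOfLE hUO).op σ)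
  -- pull back to `g⁻¹ U ⊓ U'`
  have hle : g ⁻¹ᵁ U ⊓ U' ≤ g ⁻¹ᵁ U := inf_le_left
  have hpe : IsBasisOver ((Scheme.Modules.pullback g).obj N) (g ⁻¹ᵁ U ⊓ U')
      (pbSec g N hle e) := IsBasisOver.pullback g he hle
  have hpσ : IsBasisOver ((Scheme.Modules.pullback g).obj N) (g ⁻¹ᵁ U ⊓ U')
      ((g.appLE U (g ⁻¹ᵁ U ⊓ U') hle a) • pbSec g N hle e) := by
    rw [← pbSec_smul, ← ha, pbSec_res g N h hle inf_le_right hUO]
    exact ht.mono inf_le_right
  have hunit : IsUnit (g.appLE U (g ⁻¹ᵁ U ⊓ U') hle a) := (hpe.smul_iff _).1 hpσ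
  have hx₁' : x₁ ∈ X₁.basicOpen (g.appLE U (g ⁻¹ᵁ U ⊓ U') hle a) := by
    rw [Scheme.basicOpen_of_isUnit _ hunit]
    exact ⟨hxU, hx₁⟩
  have hxa : g x₁ ∈ X.basicOpen a := by
    rw [Scheme.Hom.appLE, CommRingCat.comp_apply, Scheme.basicOpen_res,
      ← Scheme.preimage_basicOpen] at hx₁'
    exact hx₁'.2
  have hWU : X.basicOpen a ≤ U := X.basicOpen_le a
  refine ⟨X.basicOpen a, hWU.trans hUO, hxa, ?_⟩
  have hres : N.presheaf.map (homOfLE (hWU.trans hUO)).op σ =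
      X.presheaf.map (homOfLE hWU).op a • N.presheaf.map (homOfLE hWU).op e := by
    rw [← smul_res, ← ha, res_res]
  rw [hres]
  exact ((he.mono hWU).smul_iff _).2 (isUnit_res_of_le_basicOpen a hWU (le_refl _))

/-- a section of an invertible `N` whose pullback along a surjective `g` is a basis is a basis. -/
theorem isBasisOver_of_pullback_surjective {X₁ X : Scheme.{u}} (g : X₁ ⟶ X) [Surjective g]
    (N : X.Modules) (hN : PicF.IsInvertible N) [N.IsQuasicoherent]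
    (O : X.Opens) (σ : Γ(N, O)) (U' : X₁.Opens) (h : U' ≤ g ⁻¹ᵁ O) (h' : g ⁻¹ᵁ O ≤ U')
    (ht : IsBasisOver ((Scheme.Modules.pullback g).obj N) U' (pbSec g N h σ)) :
    IsBasisOver N O σ := by
  apply isBasisOver_of_local
  intro x hx W₀ hxW₀
  obtain ⟨x₁, rfl⟩ := g.surjective x
  obtain ⟨W, hW, hxW, hWb⟩ := exists_basis_nbhd' g N hN O σ U' h ht x₁ (h' hx)
  refine ⟨W ⊓ W₀, inf_le_left.trans hW, ⟨hxW, hxW₀⟩, inf_le_right, ?_⟩
  have := hWb (W ⊓ W₀) inf_le_left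
  rw [res_res] at this
  exact this

/-- a basis of `f_* L` over `V` is a basis of `L` over `f⁻¹ V` as soon as `L` has some basis
over `f⁻¹ V`. -/
theorem isBasisOver_of_pushforward {X Y : Scheme.{u}} (f : X ⟶ Y) (L : X.Modules) (V : Y.Opens)
    (t₁ : Γ(L, f ⁻¹ᵁ V)) (ht₁ : IsBasisOver L (f ⁻¹ᵁ V) t₁) (β : Γ(L, f ⁻¹ᵁ V))
    (hβ : IsBasisOver ((Scheme.Modules.pushforward f).obj L) V
      (show Γ((Scheme.Modules.pushforward f).obj L, V) from β)) :
    IsBasisOver L (f ⁻¹ᵁ V) β := by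
  obtain ⟨u, hu⟩ := ht₁.exists_coord β
  obtain ⟨a, ha⟩ := hβ.exists_coord (show Γ((Scheme.Modules.pushforward f).obj L, V) from t₁)
  have ha' : t₁ = (f.app V a) • β := ha
  rw [hu]
  refine (ht₁.smul_iff u).2 ?_
  have h1 : ((f.app V a) * u) • t₁ = (1 : Γ(X, f ⁻¹ᵁ V)) • t₁ := by
    rw [mul_smul, ← hu, ← ha', one_smul]
  have h2 := ht₁.coord_injective h1
  exact IsUnit.of_mul_eq_one _ (by rw [mul_comm]; exact h2)

end Groth.Agent.H2.See
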