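import Groth.Agent.Lib.Helper2.SeeQ

/-!
# fpqc descent of "direct image invertible and counit iso", main theorem (helper2)
-/

set_option autoImplicit false
set_option linter.style.haveILetI false
universe u

open CategoryTheory CategoryTheory.Limits AlgebraicGeometry Opposite TopologicalSpace TensorProduct

namespace Groth.Agent.H2.See

open Groth.Agent.LD Groth.Agent.LD.QC

set_option maxHeartbeats 800000 in
/-- `O → f_* O` bijective on sections is stable under flat base change (`f` qcqs). -/
theorem bijective_app_of_isPullback {X Y Y' X' : Scheme.{u}} (f : X ⟶ Y) [QuasiCompact f]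
    [QuasiSeparated f] (hf : ∀ V : Y.Opens, Function.Bijective (f.app V)) (g : Y' ⟶ Y) [Flat g]
    (f' : X' ⟶ Y') (g' : X' ⟶ X) (H : IsPullback g' f' f g) (W : Y'.Opens) :
    Function.Bijective (f'.app W) := by
  haveI : (unitMod X).IsQuasicoherent := qc_of_isInvertible _ (isInvertible_unit X)
  have h1 : IsBasisOver ((Scheme.Modules.pushforward f).obj (unitMod X)) ⊤
      (show Γ((Scheme.Modules.pushforward f).obj (unitMod X), ⊤) from (1 : Γ(X, f ⁻¹ᵁ ⊤))) :=
    isBasisOver_pushforward_of_bijective f hf (unitMod X) ⊤ (1 : Γ(X, f ⁻¹ᵁ ⊤))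
      (isBasisOver_one _)
  haveI : ((Scheme.Modules.pushforward f).obj (unitMod X)).IsQuasicoherent := qc_pushforward f _
  have e : W ≤ g ⁻¹ᵁ ⊤ := fun _ _ => trivial
  have h2 := IsBasisOver.pullback g h1 e
  haveI := FBC.isIso_bc0_of_flat f g f' g' H (unitMod X)
  have h3 := ParaFK.IsBasisOver.of_iso (asIso (CohBC.bc0 f g f' g' H.w (unitMod X))) h2
  have h4 : IsBasisOver ((Scheme.Modules.pushforward f').obj
      ((Scheme.Modules.pullback g').obj (unitMod X))) W
      (show Γ((Scheme.Modules.pushforward f').obj ((Scheme.Modules.pullback g').obj (unitMod X)), W)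
        from pbSec g' (unitMod X) (FBC.preimage_le_of_le f g f' g' H.w e)
          (1 : Γ(X, f ⁻¹ᵁ ⊤))) := by
    have := FBC.bc0_pbSec f g f' g' H.w (unitMod X) e (1 : Γ(X, f ⁻¹ᵁ ⊤))
    rw [← this]
    exact h3
  have h5 := ParaFK.IsBasisOver.of_iso
    ((Scheme.Modules.pushforward f').mapIso (pullbackUnitIso g')) h4
  have hval : ((Scheme.Modules.pushforward f').mapIso (pullbackUnitIso g')).hom.app W
      (show Γ((Scheme.Modules.pushforward f').obj ((Scheme.Modules.pullback g').obj (unitMod X)), W)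
        from pbSec g' (unitMod X) (FBC.preimage_le_of_le f g f' g' H.w e)
          (1 : Γ(X, f ⁻¹ᵁ ⊤))) =
      (show Γ((Scheme.Modules.pushforward f').obj (unitMod X'), W) from
        (1 : Γ(X', f' ⁻¹ᵁ W))) :=
    pullbackUnitIso_pbSec_one g' _
  have h5' : IsBasisOver ((Scheme.Modules.pushforward f').obj (unitMod X')) W
      (show Γ((Scheme.Modules.pushforward f').obj (unitMod X'), W) from
        (1 : Γ(X', f' ⁻¹ᵁ W))) :=
    (congrArg (fun x => IsBasisOver ((Scheme.Modules.pushforward f').obj (unitMod X')) W x)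
      hval).mp h5
  have h6 := h5' W le_rfl
  have h7 : (fun a : Γ(Y', W) =>
      a • ((Scheme.Modules.pushforward f').obj (unitMod X')).presheaf.map
        (homOfLE (le_refl W)).op
        (show Γ((Scheme.Modules.pushforward f').obj (unitMod X'), W) from
          (1 : Γ(X', f' ⁻¹ᵁ W)))) =
      ⇑(ConcreteCategory.hom (f'.app W)) := by
    funext a
    rw [res_self]
    change (f'.app W a) * (1 : Γ(X', f' ⁻¹ᵁ W)) = _
    rw [mul_one]
  rw [h7] at h6
  exact h6

set_option maxHeartbeats 1600000 in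
/-- **fpqc descent of the seesaw conclusion**: if `O_Y → f_* O_X` is an isomorphism, `g` is
faithfully flat quasi-compact, and the pullback of the invertible `L` to `X ×_Y Y'` is trivial,
then `f_* L` is invertible and `f^* f_* L → L` is an isomorphism. -/
theorem isInvertible_pushforward_and_isIso_counit_of_fpqc {X Y Y' : Scheme.{u}}
    (f : X ⟶ Y) [QuasiCompact f] [QuasiSeparated f]
    (hf : ∀ V : Y.Opens, Function.Bijective (f.app V))
    (g : Y' ⟶ Y) [Flat g] [Surjective g] [QuasiCompact g] (L : X.Modules)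
    (hL : PicF.IsInvertible L)
    (htriv : Nonempty ((Scheme.Modules.pullback (pullback.fst f g)).obj L ≅
      Coh.structureModule (pullback f g))) :
    PicF.IsInvertible ((Scheme.Modules.pushforward f).obj L) ∧
      IsIso ((Scheme.Modules.pullbackPushforwardAdjunction f).counit.app L) := by
  obtain ⟨τ⟩ := htriv
  have H := IsPullback.of_hasPullback f g
  haveI : L.IsQuasicoherent := qc_of_isInvertible L hL
  have hf' : ∀ W, Function.Bijective ((pullback.snd f g).app W) :=
    bijective_app_of_isPullback f hf g (pullback.snd f g) (pullback.fst f g) H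
  haveI : ((Scheme.Modules.pushforward f).obj L).IsQuasicoherent := qc_pushforward f L
  haveI hbc := FBC.isIso_bc0_of_flat f g (pullback.snd f g) (pullback.fst f g) H L
  -- global basis of `g'^* L`
  have ht₁ : IsBasisOver ((Scheme.Modules.pullback (pullback.fst f g)).obj L) ⊤
      (τ.symm.hom.app ⊤ (1 : Γ(pullback f g, ⊤))) :=
    ParaFK.IsBasisOver.of_iso τ.symm (isBasisOver_one ⊤)
  -- step 2: `f_* L` is invertible
  have hN : PicF.IsInvertible ((Scheme.Modules.pushforward f).obj L) := by
    apply isInvertible_of_pullback_fpqc g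
    rw [isInvertible_iff_exists_isBasisOver]
    intro y'
    have hb1 := isBasisOver_pushforward_of_bijective (pullback.snd f g) hf'
      ((Scheme.Modules.pullback (pullback.fst f g)).obj L) ⊤ _
      (ht₁.mono (le_top : (pullback.snd f g) ⁻¹ᵁ ⊤ ≤ ⊤))
    have hb2 := ParaFK.IsBasisOver.of_iso
      (asIso (CohBC.bc0 f g (pullback.snd f g) (pullback.fst f g) H.w L)).symm hb1
    exact ⟨⊤, _, trivial, hb2⟩
  -- step 3: local bases of `f_* L` are local bases of `L`
  have key : ∀ y : Y, ∃ (V : Y.Opens) (_ : y ∈ V) (σ : Γ(L, f ⁻¹ᵁ V)),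
      IsBasisOver L (f ⁻¹ᵁ V) σ := by
    intro y
    obtain ⟨V, τ₀, hyV, hτ₀⟩ :=
      (isInvertible_iff_exists_isBasisOver ((Scheme.Modules.pushforward f).obj L)).1 hN y
    refine ⟨V, hyV, τ₀, ?_⟩
    have e : g ⁻¹ᵁ V ≤ g ⁻¹ᵁ V := le_rfl
    have hp1 := IsBasisOver.pullback g hτ₀ e
    have hp2 := ParaFK.IsBasisOver.of_iso
      (asIso (CohBC.bc0 f g (pullback.snd f g) (pullback.fst f g) H.w L)) hp1
    have he' := FBC.preimage_le_of_le f g (pullback.snd f g) (pullback.fst f g) H.w e
    have hp3 : IsBasisOver ((Scheme.Modules.pushforward (pullback.snd f g)).obj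
        ((Scheme.Modules.pullback (pullback.fst f g)).obj L)) (g ⁻¹ᵁ V)
        (show Γ((Scheme.Modules.pushforward (pullback.snd f g)).obj
          ((Scheme.Modules.pullback (pullback.fst f g)).obj L), g ⁻¹ᵁ V) from
          pbSec (pullback.fst f g) L he' (show Γ(L, f ⁻¹ᵁ V) from τ₀)) := by
      have := FBC.bc0_pbSec f g (pullback.snd f g) (pullback.fst f g) H.w L e
        (show Γ(L, f ⁻¹ᵁ V) from τ₀)
      rw [← this]
      exact hp2
    have hp4 := isBasisOver_of_pushforward (pullback.snd f g)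
      ((Scheme.Modules.pullback (pullback.fst f g)).obj L) (g ⁻¹ᵁ V) _
      (ht₁.mono (le_top : (pullback.snd f g) ⁻¹ᵁ (g ⁻¹ᵁ V) ≤ ⊤)) _ hp3
    have hrev : (pullback.fst f g) ⁻¹ᵁ (f ⁻¹ᵁ V) ≤ (pullback.snd f g) ⁻¹ᵁ (g ⁻¹ᵁ V) := by
      intro x hx
      have h1 : f ((pullback.fst f g) x) ∈ V := hx
      have h2 : (pullback.fst f g ≫ f) x = (pullback.snd f g ≫ g) x := by rw [H.w]
      change g ((pullback.snd f g) x) ∈ V
      exact (show f ((pullback.fst f g) x) = g ((pullback.snd f g) x) from h2) ▸ h1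
    exact isBasisOver_of_pullback_surjective (pullback.fst f g) L hL (f ⁻¹ᵁ V)
      (show Γ(L, f ⁻¹ᵁ V) from τ₀) ((pullback.snd f g) ⁻¹ᵁ (g ⁻¹ᵁ V)) he' hrev hp4
  exact isInvertible_pushforward_and_isIso_counit_of_local_basis f hf L key

end Groth.Agent.H2.See
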