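import Groth.Agent.Lib.Helper2.SeeS
import Groth.Agent.Lib.Helper2.ParaFE
import Groth.Agent.Lib.Helper1.FEtDepth2

/-!
# Injectivity of `Pic U → Pic U^` for punctured spectra (helper2)
-/

set_option autoImplicit false
set_option linter.style.haveILetI false
universe u

open CategoryTheory CategoryTheory.Limits AlgebraicGeometry Opposite TopologicalSpace TensorProduct

namespace Groth.Agent.H2.See

open Groth.Agent.LD Groth.Agent.LD.QC

/-- triviality of the kernel of the pullback on `Pic` only depends on the arrow up to
isomorphism of the source. -/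
theorem picPullbackInjective_of_iso {X' X'' X : Scheme.{u}} (h : X' ⟶ X) (h' : X'' ⟶ X)
    (e : X' ≅ X'') (he : e.hom ≫ h' = h) (H : Formal2.PicPullbackInjective h) :
    Formal2.PicPullbackInjective h' := by
  subst he
  intro L hL hτ
  obtain ⟨τ⟩ := hτ
  apply H L hL
  exact ⟨((Scheme.Modules.pullbackComp e.hom h').app L).symm ≪≫
    (Scheme.Modules.pullback e.hom).mapIso τ ≪≫ pullbackUnitIso e.hom⟩

/-- if functions extend uniquely from `U` (e.g. depth ≥ 2 along the complement), `g` is fpqc and
`Pic Y → Pic Y'` has trivial kernel, then so does `Pic U → Pic (g⁻¹ U)`. -/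
theorem picPullbackInjective_morphismRestrict {Y Y' : Scheme.{u}} (U : Y.Opens)
    [QuasiCompact U.ι] (hres : ParaFK.ResBij U)
    (g : Y' ⟶ Y) [Flat g] [Surjective g] [QuasiCompact g]
    (hg : Formal2.PicPullbackInjective g) :
    Formal2.PicPullbackInjective (g ∣_ U) := by
  have hf := ParaFK.funBij_ι U hres
  have h1 := picPullbackInjective_fst U.ι hf g hg
  refine picPullbackInjective_of_iso (pullback.fst U.ι g) (g ∣_ U)
    ((pullbackSymmetry U.ι g) ≪≫ pullbackRestrictIsoRestrict g U) ?_ h1
  rw [Iso.trans_hom, Category.assoc, pullbackRestrictIsoRestrict_hom_morphismRestrict,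
    pullbackSymmetry_hom_comp_snd]

section Local
variable (A : Type u) [CommRing A] [IsNoetherianRing A] [IsLocalRing A]

/-- **S0813** -/
theorem s0813 (hdepth : (2 : ℕ∞) ≤ LocCoh.depth A A) :
    Formal2.PicPullbackInjective
      (Spec.map (CommRingCat.ofHom
        (algebraMap A (AdicCompletion (IsLocalRing.maximalIdeal A) A))) ∣_
        FEt.puncturedSpec A) := by
  have hres : ParaFK.ResBij (FEt.puncturedSpec A) := by
    apply ParaFK.resBij_of_depth
    intro y hy
    have hy' : y = IsLocalRing.closedPoint A := by
      by_contra hne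
      exact hy hne
    subst hy'
    rw [Groth.Agent.H1.FEtDepth2.depth_stalk_closedPoint]
    exact hdepth
  have hfg : (IsLocalRing.maximalIdeal A).FG := IsNoetherian.noetherian _
  letI := AdicCompletion.isLocalRing_of_fg (R := A) hfg
  haveI := AdicCompletion.algebraMap_isLocalHom_of_fg (R := A) hfg
  haveI : Module.FaithfullyFlat A (AdicCompletion (IsLocalRing.maximalIdeal A) A) :=
    Module.FaithfullyFlat.of_flat_of_isLocalHom
  haveI hfl : Flat (Spec.map (CommRingCat.ofHom
      (algebraMap A (AdicCompletion (IsLocalRing.maximalIdeal A) A)))) := by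
    rw [HasRingHomProperty.Spec_iff (P := @Flat)]
    exact RingHom.flat_algebraMap_iff.mpr inferInstance
  haveI hsj : Surjective (Spec.map (CommRingCat.ofHom
      (algebraMap A (AdicCompletion (IsLocalRing.maximalIdeal A) A)))) :=
    ⟨PrimeSpectrum.comap_surjective_of_faithfullyFlat (A := A)
      (B := AdicCompletion (IsLocalRing.maximalIdeal A) A)⟩
  have hg : Formal2.PicPullbackInjective (Spec.map (CommRingCat.ofHom
      (algebraMap A (AdicCompletion (IsLocalRing.maximalIdeal A) A)))) :=
    fun L hL _ => ParaFK.picTrivial_spec A L hL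
  exact picPullbackInjective_morphismRestrict (FEt.puncturedSpec A) hres _ hg

end Local

end Groth.Agent.H2.See
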