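import Groth.Agent.Lib.Helper2.SeeI
import Groth.Agent.Lib.Helper2.RpC4
import Groth.Agent.S2380
import Groth.Agent.Lib.Helper5.AG.ProjProper

/-!
# Seesaw over an algebraically closed field, integral fibres (helper2)
-/

set_option autoImplicit false
set_option linter.style.haveILetI false
universe u

open CategoryTheory CategoryTheory.Limits AlgebraicGeometry Opposite TopologicalSpace TensorProduct

namespace Groth.Agent.H2.See

open Groth.Agent.H2.Mum Groth.Agent.H2.RpA Groth.Agent.H2.RpB Groth.Agent.H2.RpC Groth.Agent.LD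
  Groth.Agent.LD.CL Groth.Agent.LD.QC Groth.Agent.H8.ExtBridge Groth.Agent.H2.EtH0

/-- residue fields at closed points of a scheme locally of finite type over an algebraically
closed field are algebraically closed. -/
theorem isAlgClosed_residueField (k : Type u) [Field k] [IsAlgClosed k] {S : Scheme.{u}}
    (a : S ⟶ Spec (CommRingCat.of k)) [LocallyOfFiniteType a] (x : S)
    (hx : IsClosed ({x} : Set S)) : IsAlgClosed (S.residueField x) := by
  haveI : JacobsonSpace S := LocallyOfFiniteType.jacobsonSpace a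
  haveI : LocallyOfFiniteType (S.fromSpecResidueField x) :=
    isClosed_singleton_iff_locallyOfFiniteType.mp hx
  let ψ : CommRingCat.of k ⟶ S.residueField x := Spec.preimage (S.fromSpecResidueField x ≫ a)
  have hψ : Spec.map ψ = S.fromSpecResidueField x ≫ a := Spec.map_preimage _
  have h1 : LocallyOfFiniteType (Spec.map ψ) := by rw [hψ]; infer_instance
  have hft : ψ.hom.FiniteType :=
    (HasRingHomProperty.Spec_iff (P := @LocallyOfFiniteType) (φ := ψ)).mp h1
  letI : Algebra k (S.residueField x) := ψ.hom.toAlgebra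
  haveI : Algebra.FiniteType k (S.residueField x) := hft
  haveI : Module.Finite k (S.residueField x) :=
    finite_of_finite_type_of_isJacobsonRing k (S.residueField x)
  haveI : Algebra.IsIntegral k (S.residueField x) := Algebra.IsIntegral.of_finite _ _
  have hb := IsAlgClosed.algebraMap_bijective_of_isIntegral (k := k) (K := S.residueField x)
  exact IsAlgClosed.of_ringEquiv k _ (RingEquiv.ofBijective _ hb)

/-- the fibre rank in degree `0` of the structure sheaf is the dimension of the ring of global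
functions of the fibre. -/
lemma fiberRank_zero_eq_finrank {X Y : Scheme.{u}} (f : X ⟶ Y) (y : Y) :
    CohIII.fiberRank f (OX X) 0 y = Module.finrank (Y.residueField y) Γ(f.fiber y, ⊤) := by
  letI ovK : (f.fiber y).Over (Spec (CommRingCat.of (Y.residueField y))) :=
    ⟨f.fiberToSpecResidueField y⟩
  have e1 := HHEquivOfIso (Y.residueField y) (pullbackUnitIso (f.fiberι y)) 0
  have e2 := HH0LinΓ (Y.residueField y) (f.fiber y)
  unfold CohIII.fiberRank
  exact (e1.trans e2).finrank_eq

/-- the ring of global functions of a fibre of a proper flat morphism is finite over the residue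
field. -/
lemma finite_Γ_fiber {X Y : Scheme.{u}} (f : X ⟶ Y) [IsProper f] [Flat f] [IsLocallyNoetherian Y]
    (y : Y) : Module.Finite (Y.residueField y) Γ(f.fiber y, ⊤) := by
  letI ovK : (f.fiber y).Over (Spec (CommRingCat.of (Y.residueField y))) :=
    ⟨f.fiberToSpecResidueField y⟩
  have hF : Coh.IsCoh (OX X) := PF.isCoh_unitMod X
  have hfl : FlatMod.IsFlatOver f (OX X) :=
    (Groth.Agent.H4.RPC27.isFlatOver_structureModule_iff f).2 inferInstance
  obtain ⟨V, hV, hyV, -⟩ := AlgebraicGeometry.exists_isAffineOpen_mem_and_subset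
    (x := y) (U := ⊤) trivial
  haveI := QCQS.hasInjRes X
  obtain ⟨P, -, -, -, -, -, hfin⟩ := exists_localData' f (OX X) hF hfl V hV
  haveI := hfin 0 y hyV
  have e1 := HHEquivOfIso (Y.residueField y) (pullbackUnitIso (f.fiberι y)) 0
  have e2 := HH0LinΓ (Y.residueField y) (f.fiber y)
  exact Module.Finite.equiv (e1.trans e2)

/-- **semicontinuity** of `h⁰` of the fibres along specializations. -/
theorem fiberRank_zero_le_of_specializes {X Y : Scheme.{u}} (f : X ⟶ Y) [IsProper f] [Flat f]
    [IsLocallyNoetherian Y] {y y₀ : Y} (h : y ⤳ y₀) :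
    CohIII.fiberRank f (OX X) 0 y ≤ CohIII.fiberRank f (OX X) 0 y₀ := by
  have hF : Coh.IsCoh (OX X) := PF.isCoh_unitMod X
  have hfl : FlatMod.IsFlatOver f (OX X) :=
    (Groth.Agent.H4.RPC27.isFlatOver_structureModule_iff f).2 inferInstance
  obtain ⟨V, hV, hy₀V, -⟩ := AlgebraicGeometry.exists_isAffineOpen_mem_and_subset
    (x := y₀) (U := ⊤) trivial
  have hyV : y ∈ V := h.mem_open V.2 hy₀V
  haveI : IsAffine V.toScheme := hV
  haveI : IsNoetherianRing Γ(V.toScheme, ⊤) :=
    IsLocallyNoetherian.component_noetherian ⟨⊤, isAffineOpen_top V.toScheme⟩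
  haveI := QCQS.hasInjRes X
  obtain ⟨P, hP, -, -, hrank, -, -⟩ := exists_localData' f (OX X) hF hfl V hV
  have hP' : ∀ i, Module.Finite Γ(V.toScheme, ⊤) (P.X i) ∧ Module.Flat Γ(V.toScheme, ⊤) (P.X i) :=
    fun i => ⟨(hP i).1, by haveI := (hP i).2; infer_instance⟩
  have hsc := Groth.Agent.S2380.result P hP' (-((0 : ℕ) : ℤ))
  rw [hrank 0 y hyV, hrank 0 y₀ hy₀V]
  have hsp' : (⟨y, hyV⟩ : V) ⤳ ⟨y₀, hy₀V⟩ := (subtype_specializes_iff _ _).2 h
  have hsp : V.toScheme.toSpecΓ ⟨y, hyV⟩ ⤳ V.toScheme.toSpecΓ ⟨y₀, hy₀V⟩ :=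
    hsp'.map V.toScheme.toSpecΓ.continuous
  by_contra hlt
  rw [not_le] at hlt
  have hopen := hsc.isOpen_preimage
    (CohIII.dRank P (-((0 : ℕ) : ℤ)) (V.toScheme.toSpecΓ ⟨y, hyV⟩))
  have hmem : CohIII.dRank P (-((0 : ℕ) : ℤ)) (V.toScheme.toSpecΓ ⟨y, hyV⟩) <
      CohIII.dRank P (-((0 : ℕ) : ℤ)) (V.toScheme.toSpecΓ ⟨y, hyV⟩) := hsp.mem_open hopen hlt
  exact lt_irrefl _ hmem

end Groth.Agent.H2.See
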