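import Groth.Agent.Lib.Helper2.SeeU
import Groth.Agent.Lib.Lead.FF.H0Const

/-!
# Seesaw over an algebraically closed field, integral fibres: main theorem (helper2)
-/

set_option autoImplicit false
set_option linter.style.haveILetI false
universe u

open CategoryTheory CategoryTheory.Limits AlgebraicGeometry Opposite TopologicalSpace TensorProduct

namespace Groth.Agent.H2.See

open Groth.Agent.H2.Mum Groth.Agent.H2.RpA Groth.Agent.H2.RpB Groth.Agent.H2.RpC Groth.Agent.LD
  Groth.Agent.LD.CL Groth.Agent.LD.QC Groth.Agent.H8.ExtBridge Groth.Agent.H2.EtH0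

/-- at a point with algebraically closed residue field and integral fibre, the global functions
of the fibre are the constants. -/
theorem bijective_algebraMap_fiber_of_isAlgClosed {X Y : Scheme.{u}} (f : X ⟶ Y) [IsProper f]
    [Flat f] [IsLocallyNoetherian Y] (y : Y) [IsAlgClosed (Y.residueField y)]
    [IsIntegral (f.fiber y)] :
    Function.Bijective (algebraMap (Y.residueField y) Γ(f.fiber y, ⊤)) := by
  haveI := finite_Γ_fiber f y
  haveI : Nontrivial Γ(f.fiber y, ⊤) := inferInstance
  haveI : _root_.IsReduced Γ(f.fiber y, ⊤) := inferInstance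
  apply FF.algebraMap_bijective_of_reduced_of_idem
  · intro s
    exact Algebra.IsIntegral.isIntegral s
  · intro e he
    exact FF.idem_trivial_of_connectedSpace (f.fiber y) e he

/-- over a base of finite type over an algebraically closed field, a proper flat morphism with
integral fibres has `H⁰(X_y, O) = κ(y)` at every point. -/
theorem bijective_algebraMap_fiber_of_integral (k : Type u) [Field k] [IsAlgClosed k]
    {X Y : Scheme.{u}} (g : Y ⟶ Spec (CommRingCat.of k)) [LocallyOfFiniteType g] [QuasiCompact g]
    (f : X ⟶ Y) [IsProper f] [Flat f] (hint : ∀ y : Y, IsIntegral (f.fiber y)) (y : Y) :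
    Function.Bijective (algebraMap (Y.residueField y) Γ(f.fiber y, ⊤)) := by
  haveI : IsLocallyNoetherian Y := LocallyOfFiniteType.isLocallyNoetherian g
  haveI : CompactSpace Y := QuasiCompact.compactSpace_of_compactSpace g
  obtain ⟨y₀, hy₀mem, hy₀cl⟩ := (isClosed_closure (s := ({y} : Set Y))).exists_closed_singleton
    ⟨y, subset_closure rfl⟩
  have hsp : y ⤳ y₀ := specializes_iff_mem_closure.2 hy₀mem
  haveI := isAlgClosed_residueField k g y₀ hy₀cl
  haveI := hint y₀
  haveI := hint y
  have hb₀ := bijective_algebraMap_fiber_of_isAlgClosed f y₀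
  have h1 : CohIII.fiberRank f (OX X) 0 y₀ = 1 := fiberRank_zero_eq_one f y₀ hb₀
  have h2 := fiberRank_zero_le_of_specializes f hsp
  rw [h1, fiberRank_zero_eq_finrank] at h2
  haveI := finite_Γ_fiber f y
  haveI : Nontrivial Γ(f.fiber y, ⊤) := inferInstance
  have h3 : 0 < Module.finrank (Y.residueField y) Γ(f.fiber y, ⊤) := Module.finrank_pos
  have h4 : Module.finrank (Y.residueField y) Γ(f.fiber y, ⊤) = 1 := le_antisymm h2 h3
  exact bijective_algebraMap_of_finrank_eq_one _ _ h4

/-- **seesaw** for a flat projective family of integral schemes over an integral base of finite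
type over an algebraically closed field. -/
theorem seesaw_algClosed (k : Type u) [Field k] [IsAlgClosed k]
    {X Y : Scheme.{u}} (g : Y ⟶ Spec (CommRingCat.of k)) [LocallyOfFiniteType g] [QuasiCompact g]
    [IsIntegral Y] (n : ℕ) (i : X ⟶ CohB1.ProjSpaceOver n Y) [IsClosedImmersion i]
    (f : X ⟶ Y) (hf : f = i ≫ CohB1.ProjSpaceOver.toBase n Y) [Flat f]
    (hint : ∀ y : Y, IsIntegral (f.fiber y))
    (E : X.Modules) (hE : PicF.IsInvertible E)
    (htriv : ∀ y : Y, Nonempty ((Scheme.Modules.pullback (f.fiberι y)).obj E ≅
      Coh.structureModule (f.fiber y))) :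
    PicF.IsInvertible ((Scheme.Modules.pushforward f).obj E) ∧
      IsIso ((Scheme.Modules.pullbackPushforwardAdjunction f).counit.app E) := by
  haveI : IsProper f := by
    haveI := Groth.Agent.H5.AG.isProper_toBase n Y
    rw [hf]
    infer_instance
  haveI : IsLocallyNoetherian Y := LocallyOfFiniteType.isLocallyNoetherian g
  exact isInvertible_pushforward_and_isIso_counit f
    (bijective_algebraMap_fiber_of_integral k g f hint) E hE htriv

end Groth.Agent.H2.See
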