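import Groth.Agent.Lib.Helper2.SeeV
import Groth.Agent.Lib.Helper2.SeeM

/-!
# Seesaw over an algebraically closed field: fibrewise isomorphic invertible modules (helper2)
-/

set_option autoImplicit false
set_option linter.style.haveILetI false
universe u

open CategoryTheory CategoryTheory.Limits AlgebraicGeometry Opposite TopologicalSpace TensorProduct

namespace Groth.Agent.H2.See

open Groth.Agent.LD Groth.Agent.LD.QC

/-- **S10926** -/
theorem seesaw_algClosed_two (k : Type u) [Field k] [IsAlgClosed k]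
    {X Y : Scheme.{u}} (g : Y ⟶ Spec (CommRingCat.of k)) [LocallyOfFiniteType g] [QuasiCompact g]
    [IsIntegral Y] (n : ℕ) (i : X ⟶ CohB1.ProjSpaceOver n Y) [IsClosedImmersion i]
    (f : X ⟶ Y) (hf : f = i ≫ CohB1.ProjSpaceOver.toBase n Y) [Flat f]
    (hint : ∀ y : Y, IsIntegral (f.fiber y))
    (L M : X.Modules) (hL : PicF.IsInvertible L) (hM : PicF.IsInvertible M)
    (hLM : ∀ y : Y, Nonempty ((Scheme.Modules.pullback (f.fiberι y)).obj L ≅
      (Scheme.Modules.pullback (f.fiberι y)).obj M)) :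
    ∃ E : Y.Modules, PicF.IsInvertible E ∧
      Nonempty (L ≅ CohB1.tensorMod M ((Scheme.Modules.pullback f).obj E)) := by
  obtain ⟨M', hM', ⟨εM⟩⟩ := Groth.Agent.H5.Glue.exists_inverse M hM
  have hE' : PicF.IsInvertible (CohB1.tensorMod L M') := isInvertible_tensorMod hL hM'
  have htriv : ∀ y : Y, Nonempty ((Scheme.Modules.pullback (f.fiberι y)).obj
      (CohB1.tensorMod L M') ≅ Coh.structureModule (f.fiber y)) := by
    intro y
    obtain ⟨φ⟩ := hLM y
    exact ⟨pbTensorIso (f.fiberι y) L M' hL hM' ≪≫ tensorIso' φ (Iso.refl _) ≪≫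
      (pbTensorIso (f.fiberι y) M M' hM hM').symm ≪≫
      (Scheme.Modules.pullback (f.fiberι y)).mapIso εM ≪≫ pbUnitIso (f.fiberι y)⟩
  obtain ⟨hE, hc⟩ := seesaw_algClosed k g n i f hf hint (CohB1.tensorMod L M') hE' htriv
  haveI := hc
  haveI : L.IsQuasicoherent := qc_of_isInvertible L hL
  haveI : M.IsQuasicoherent := qc_of_isInvertible M hM
  haveI : M'.IsQuasicoherent := qc_of_isInvertible M' hM'
  have e1 : CohB1.tensorMod (CohB1.tensorMod L M') M ≅ L :=
    backIso M' M (tensorCommGen M' M ≪≫ εM) L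
  exact ⟨(Scheme.Modules.pushforward f).obj (CohB1.tensorMod L M'), hE,
    ⟨e1.symm ≪≫ tensorIso'
      (asIso ((Scheme.Modules.pullbackPushforwardAdjunction f).counit.app
        (CohB1.tensorMod L M'))).symm (Iso.refl M) ≪≫ tensorCommGen _ _⟩⟩

end Groth.Agent.H2.See
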