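import Mathlib

/-! Finite projective modules of constant rank are free near any finite set of primes. helper2 -/

set_option autoImplicit false
universe u

open scoped TensorProduct

namespace Groth.Agent.H2.SemilocalFree

variable {A : Type u} [CommRing A]

/-- the multiplicative set of elements outside all primes of `Z` -/
def complSet (Z : Set (PrimeSpectrum A)) : Submonoid A := ⨅ p ∈ Z, p.asIdeal.primeCompl

lemma mem_complSet {Z : Set (PrimeSpectrum A)} {a : A} :
    a ∈ complSet Z ↔ ∀ p ∈ Z, a ∉ p.asIdeal := by
  simp [complSet, Submonoid.mem_iInf, Ideal.primeCompl]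

theorem finite_maximalSpectrum (Z : Set (PrimeSpectrum A)) (hZ : Z.Finite) :
    Finite (MaximalSpectrum (Localization (complSet Z))) := by
  set S := complSet Z with hS
  set A' := Localization S
  have hfin : ((fun p : PrimeSpectrum A => Ideal.map (algebraMap A A') p.asIdeal) '' Z).Finite :=
    hZ.image _
  have key : ∀ m : MaximalSpectrum A', m.asIdeal ∈
      (fun p : PrimeSpectrum A => Ideal.map (algebraMap A A') p.asIdeal) '' Z := by
    intro m
    have hmp : m.asIdeal.IsPrime := m.isMaximal.isPrime
    have hqp : (m.asIdeal.comap (algebraMap A A')).IsPrime := Ideal.comap_isPrime _ _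
    have hdisj : Disjoint (S : Set A) (m.asIdeal.comap (algebraMap A A') : Set A) := by
      rw [← IsLocalization.map_algebraMap_ne_top_iff_disjoint S A']
      have : Ideal.map (algebraMap A A') (m.asIdeal.comap (algebraMap A A')) = m.asIdeal :=
        IsLocalization.map_under S A' m.asIdeal
      rw [this]
      exact m.isMaximal.ne_top
    have hsub : ((m.asIdeal.comap (algebraMap A A') : Ideal A) : Set A) ⊆
        ⋃ p ∈ Z, (p.asIdeal : Set A) := by
      intro a ha
      have : a ∉ S := fun h => Set.disjoint_left.mp hdisj h ha
      rw [hS, mem_complSet] at this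
      push Not at this
      obtain ⟨p, hp, hap⟩ := this
      exact Set.mem_biUnion hp hap
    obtain ⟨p, hpZ, hle⟩ := (Ideal.subset_union_prime_finite hZ
      (⟨_, hqp⟩ : PrimeSpectrum A) ⟨_, hqp⟩ (fun i _ _ _ => i.isPrime)).mp hsub
    refine ⟨p, hpZ, ?_⟩
    have hne : Ideal.map (algebraMap A A') p.asIdeal ≠ ⊤ := by
      rw [IsLocalization.map_algebraMap_ne_top_iff_disjoint S A']
      rw [Set.disjoint_left]
      intro a haS hap
      exact (mem_complSet.mp haS) p hpZ hap
    have hle' : m.asIdeal ≤ Ideal.map (algebraMap A A') p.asIdeal := by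
      rw [← IsLocalization.map_under S A' m.asIdeal]
      exact Ideal.map_mono hle
    exact (m.isMaximal.eq_of_le hne hle').symm
  let g : MaximalSpectrum A' →
      ↥((fun p : PrimeSpectrum A => Ideal.map (algebraMap A A') p.asIdeal) '' Z) :=
    fun m => ⟨m.asIdeal, key m⟩
  have hg : Function.Injective g := by
    intro m m' h
    apply MaximalSpectrum.ext
    exact congrArg Subtype.val h
  have := hfin.to_subtype
  exact Finite.of_injective g hg

theorem exists_basis (M : Type u) [AddCommGroup M] [Module A M] [Module.Finite A M]
    [Module.Projective A M] (r : ℕ)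
    (hr : ∀ p : PrimeSpectrum A, Module.rankAtStalk M p = r)
    (Z : Set (PrimeSpectrum A)) (hZ : Z.Finite) :
    ∃ s : A, (∀ p ∈ Z, s ∉ p.asIdeal) ∧
      Nonempty (Module.Basis (Fin r) (Localization.Away s)
        (LocalizedModule (Submonoid.powers s) M)) := by
  set S := complSet Z with hS
  have hfinmax : Finite (MaximalSpectrum (Localization S)) := finite_maximalSpectrum Z hZ
  have hfp : Module.FinitePresentation A M := Module.finitePresentation_of_projective A M
  have rk : ∀ P : MaximalSpectrum (Localization S),
      Module.finrank (Localization S ⧸ P.1) ((Localization S ⧸ P.1) ⊗[Localization S]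
        LocalizedModule S M) = r := by
    intro P
    let : Field (Localization S ⧸ P.1) := Ideal.Quotient.field P.1
    have h1 := Module.rankAtStalk_baseChange (R := Localization S) (M := LocalizedModule S M)
      (S := Localization S ⧸ P.1) (⊥ : PrimeSpectrum (Localization S ⧸ P.1))
    rw [Module.rankAtStalk_eq_finrank_of_free] at h1
    have h1' : Module.finrank (Localization S ⧸ P.1) ((Localization S ⧸ P.1) ⊗[Localization S]
        LocalizedModule S M) = Module.rankAtStalk (LocalizedModule S M)
      (PrimeSpectrum.comap (algebraMap (Localization S) (Localization S ⧸ P.asIdeal)) ⊥) := h1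
    rw [h1']
    rw [Module.rankAtStalk_isBaseChange
      (IsLocalizedModule.isBaseChange S (Localization S) (LocalizedModule.mkLinearMap S M))]
    exact hr _
  obtain ⟨b⟩ := Module.nonempty_basis_of_flat_of_finrank_eq (Localization S)
    (LocalizedModule S M) r rk
  obtain ⟨s, hs, b', -⟩ := Module.FinitePresentation.exists_basis_localizedModule_powers S
    (LocalizedModule.mkLinearMap S M) (Localization S) b
  exact ⟨s, mem_complSet.mp hs, ⟨b'⟩⟩

end Groth.Agent.H2.SemilocalFree
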