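import Mathlib

/-! Separatedness over an affine base from "pairs of points in a fibre lie in a common affine". helper2 -/

set_option autoImplicit false
universe u

open CategoryTheory CategoryTheory.Limits AlgebraicGeometry Topology TopologicalSpace
open Scheme Pullback

namespace Groth.Agent.H2.SepAffinePairs

/-- trivial cover -/
noncomputable def cU (S : Scheme.{u}) : S.OpenCover := Scheme.coverOfIsIso (𝟙 S)

instance cU_isIso (S : Scheme.{u}) (i : (cU S).I₀) : IsIso ((cU S).f i) := by
  change IsIso (𝟙 S); infer_instance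

instance cU_isAffine (S : Scheme.{u}) [IsAffine S] (i : (cU S).I₀) : IsAffine ((cU S).X i) := by
  change IsAffine S; infer_instance

/-- cover by all affine opens -/
noncomputable def cW (X : Scheme.{u}) : X.OpenCover :=
  X.openCoverOfIsOpenCover _ (iSup_affineOpens_eq_top X)

/-- the cover by all affine opens, transported to `X ×[S] S` -/
noncomputable def cV {X S : Scheme.{u}} (f : X ⟶ S) (i : (cU S).I₀) :
    (pullback f ((cU S).f i)).OpenCover :=
  (cW X).pushforwardIso (inv (pullback.fst f ((cU S).f i)))

instance cV_isAffine {X S : Scheme.{u}} (f : X ⟶ S) (i : (cU S).I₀) (j : (cV f i).I₀) :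
    IsAffine ((cV f i).X j) := by
  dsimp [cV, cW] at j ⊢
  exact j.2

set_option backward.defeqAttrib.useBackward true in
set_option backward.isDefEq.respectTransparency false in
lemma cV_f_fst {X S : Scheme.{u}} (f : X ⟶ S) (i : (cU S).I₀) (U : X.affineOpens) :
    (cV f i).f U ≫ pullback.fst f ((cU S).f i) = U.1.ι := by
  simp only [cV, cW, Cover.pushforwardIso_f, openCoverOfIsOpenCover_f]
  rw [Category.assoc, IsIso.inv_hom_id, Category.comp_id]

set_option backward.defeqAttrib.useBackward true in
set_option backward.isDefEq.respectTransparency false in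
theorem isSeparated_of_pairs {X S : Scheme.{u}} [IsAffine S] (f : X ⟶ S)
    (h : ∀ x y : X, f x = f y → ∃ U : X.Opens, IsAffineOpen U ∧ x ∈ U ∧ y ∈ U) :
    IsSeparated f := by
  constructor
  refine IsZariskiLocalAtTarget.of_iSup_eq_top (fun i : PUnit.{0} ↦ ⊤) (by simp) fun _ ↦ ?_
  have key : diagonalCoverDiagonalRange f (cU S) (cV f) = ⊤ := by
    rw [← top_le_iff]
    rintro x -
    simp only [diagonalCoverDiagonalRange, Opens.iSup_mk, Opens.carrier_eq_coe,
      Hom.coe_opensRange, Opens.mem_mk, Set.mem_iUnion, Set.mem_range, Sigma.exists]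
    have H : f (pullback.fst f f x) = f (pullback.snd f f x) := by
      rw [← Scheme.Hom.comp_apply, ← Scheme.Hom.comp_apply, pullback.condition]
    obtain ⟨U, hU, hxU, hyU⟩ := h _ _ H
    refine ⟨PUnit.unit, (⟨U, hU⟩ : X.affineOpens), ?_⟩
    simp_rw [diagonalCover_map]
    change x ∈ Set.range _
    simp only [diagonalCover, openCoverOfBase_I₀,
      Precoverage.ZeroHypercover.pullback₁_toPreZeroHypercover, PreZeroHypercover.pullback₁_X,
      Precoverage.ZeroHypercover.bind_toPreZeroHypercover, openCoverOfBase_X,
      PreZeroHypercover.bind_X, openCoverOfLeftRight_I₀, openCoverOfLeftRight_X]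
    rw [range_map]
    have hr : Set.range ((cV f PUnit.unit).f (⟨U, hU⟩ : X.affineOpens) ≫
        pullback.fst f ((cU S).f PUnit.unit)) = (U : Set X) := by
      rw [cV_f_fst]
      exact Scheme.Opens.range_ι U
    rw [hr]
    exact ⟨hxU, hyU⟩
  rw [← key]
  exact isClosedImmersion_diagonal_restrict_diagonalCoverDiagonalRange f (cU S) (cV f)

end Groth.Agent.H2.SepAffinePairs
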