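import Mathlib
import Groth.Prelude.Def_CurvBase
import Groth.Agent.Lib.Helper2.SepCountA
import Groth.Agent.Lib.Helper9.Misc.GZC1

/-! helper2: S7855 — the geometric number of connected components of a finite `k`-scheme. -/

set_option linter.style.haveILetI false
set_option linter.unusedSectionVars false

universe u

open AlgebraicGeometry CategoryTheory Limits TensorProduct

namespace Groth.Agent.H2.SepCount

/-- the separable degree does not change when the base field is replaced by an isomorphic one. -/
theorem finSepDegree_comp_bijective (K K' L : Type u) [Field K] [Field K'] [Field L]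
    (φ : K →+* K') (hφ : Function.Bijective φ) (a : K' →+* L)
    (halg : letI := a.toAlgebra; Algebra.IsAlgebraic K' L) :
    (letI := (a.comp φ).toAlgebra; Field.finSepDegree K L) =
      (letI := a.toAlgebra; Field.finSepDegree K' L) := by
  letI := φ.toAlgebra
  letI := a.toAlgebra
  letI := (a.comp φ).toAlgebra
  haveI : IsScalarTower K K' L := IsScalarTower.of_algebraMap_eq (fun _ => rfl)
  haveI : Algebra.IsAlgebraic K' L := halg
  have h1 := Field.finSepDegree_mul_finSepDegree_of_isAlgebraic K K' L
  have h2 : Field.finSepDegree K K' = 1 := by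
    let e : K ≃ₐ[K] K' := AlgEquiv.ofBijective (Algebra.ofId K K') hφ
    rw [← Field.finSepDegree_eq_of_equiv K K K' e, Field.finSepDegree_self]
  rw [h2, one_mul] at h1
  exact h1.symm

attribute [local instance] Curv2.resAlgebra

theorem residueSepDegree_eq (k : Type u) [Field k] (S' : Scheme.{u})
    [S'.Over (Spec (CommRingCat.of k))] [LocallyQuasiFinite (S' ↘ (Spec (CommRingCat.of k)))]
    (s' : S') :
    EGA4loc.residueSepDegree (S' ↘ (Spec (CommRingCat.of k))) s' =
      Field.finSepDegree k (S'.residueField s') := by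
  obtain ⟨f, hf⟩ : ∃ f, f = (S' ↘ (Spec (CommRingCat.of k))) := ⟨_, rfl⟩
  obtain ⟨φ, hφ1, hφ2, hφ3⟩ :=
    Groth.Agent.H1.PISplit.exists_hom_frac (CommRingCat.of k) (f s')
  have hφbij : Function.Bijective φ.hom := by
    refine ⟨φ.hom.injective, fun w => ?_⟩
    obtain ⟨a, b, hb, hab⟩ := hφ3 w
    refine ⟨a * b⁻¹, ?_⟩
    rw [map_mul, ← hab, mul_assoc, ← map_mul]
    have hb0 : (b : k) ≠ 0 := fun h => hb (by rw [h]; exact map_zero _)
    rw [mul_inv_cancel₀ hb0, map_one, mul_one]
  have hres : Curv2.resMap k S' s' = (f.residueFieldMap s').hom.comp φ.hom := by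
    have h1 := Groth.Agent.H9.GZC.specMap_resMap k S' s'
    rw [← hf, ← Scheme.Hom.SpecMap_residueFieldMap_fromSpecResidueField, ← hφ1,
      ← Spec.map_comp] at h1
    have h2 := Spec.map_injective h1
    have h3 := congrArg CommRingCat.Hom.hom h2
    exact h3
  have hfin : (f.residueFieldMap s').hom.Finite := by
    have h := Groth.Agent.H1.DVRCount.rho_finite f s' rfl
      (by rw [hf]; exact (S' ↘ (Spec (CommRingCat.of k))).quasiFiniteAt s')
    have h0 : Groth.Agent.H1.DVRCount.rho f s' rfl = (f.residueFieldMap s').hom := by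
      simp [Groth.Agent.H1.DVRCount.rho, Scheme.residueFieldCongr_refl]
    rw [h0] at h
    exact h
  have key := finSepDegree_comp_bijective k ((Spec (CommRingCat.of k)).residueField (f s'))
    (S'.residueField s') φ.hom hφbij (f.residueFieldMap s').hom
    (by
      letI := (f.residueFieldMap s').hom.toAlgebra
      haveI : Module.Finite ((Spec (CommRingCat.of k)).residueField (f s'))
        (S'.residueField s') := hfin
      exact Algebra.IsAlgebraic.of_finite _ _)
  rw [← hf]
  unfold EGA4loc.residueSepDegree
  rw [← key]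
  have : ∀ (r : k →+* S'.residueField s'), r = Curv2.resMap k S' s' →
      (letI := r.toAlgebra; Field.finSepDegree k (S'.residueField s')) =
        Field.finSepDegree k (S'.residueField s') := by
    rintro _ rfl; rfl
  exact this _ hres.symm

theorem s7855 (k : Type u) [Field k] (S' : Scheme.{u}) [S'.Over (Spec (CommRingCat.of k))]
    [IsFinite (S' ↘ (Spec (CommRingCat.of k)))] (pt : ↥(Spec (CommRingCat.of k))) :
    MoreMor.nGeomConnComp (S' ↘ (Spec (CommRingCat.of k))) pt =
      ((∑ᶠ s' : S', Field.finSepDegree k (S'.residueField s') : ℕ) : ℕ∞) := by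
  rw [nGeomConnComp_eq_sum]
  congr 1
  haveI : Subsingleton ↥(Spec (CommRingCat.of k)) :=
    inferInstanceAs (Subsingleton (PrimeSpectrum k))
  have huniv : ((S' ↘ (Spec (CommRingCat.of k))) ⁻¹' {pt} : Set S') = Set.univ := by
    ext t
    simp only [Set.mem_preimage, Set.mem_singleton_iff, Set.mem_univ, iff_true]
    exact Subsingleton.elim _ _
  let E : ↥((S' ↘ (Spec (CommRingCat.of k))) ⁻¹' {pt} : Set S') ≃ S' :=
    (Equiv.setCongr huniv).trans (Equiv.Set.univ _)
  rw [← finsum_comp_equiv E]
  apply finsum_congr
  intro x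
  exact residueSepDegree_eq k S' x.1

end Groth.Agent.H2.SepCount
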