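import Mathlib

/-!
# Enough injectives in the category of inverse systems indexed by `ℕ`
-/

set_option autoImplicit false

universe u v

open CategoryTheory CategoryTheory.Limits Opposite

namespace Groth.Agent.H2.SeqInj

variable {A : Type u} [Category.{v} A] [Abelian A]

/-- partial products -/
noncomputable def Gobj (I : ℕ → A) : ℕ → A
  | 0 => I 0
  | n + 1 => Gobj I n ⊞ I (n + 1)

/-- the inverse system of partial products -/
noncomputable def G (I : ℕ → A) : ℕᵒᵖ ⥤ A :=
  Functor.ofOpSequence (X := Gobj I)
    (fun n => (biprod.fst : Gobj I n ⊞ I (n + 1) ⟶ Gobj I n))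

/-- the last projection -/
noncomputable def proj (I : ℕ → A) : ∀ m, Gobj I m ⟶ I m
  | 0 => 𝟙 _
  | m + 1 => (biprod.snd : Gobj I m ⊞ I (m + 1) ⟶ I (m + 1))

variable {I : ℕ → A} {F : ℕᵒᵖ ⥤ A}

/-- components of the morphism to the system of partial products defined by a family -/
noncomputable def tauApp (φ : ∀ m, F.obj (op m) ⟶ I m) : ∀ n, F.obj (op n) ⟶ Gobj I n
  | 0 => φ 0
  | n + 1 => biprod.lift (F.map (homOfLE (n.le_add_right 1)).op ≫ tauApp φ n) (φ (n + 1))

lemma G_map_succ (n : ℕ) :
    (G I).map (homOfLE (n.le_add_right 1)).op =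
      (biprod.fst : Gobj I n ⊞ I (n + 1) ⟶ Gobj I n) :=
  Functor.ofOpSequence_map_homOfLE_succ _ n

/-- the morphism to the system of partial products defined by a family -/
noncomputable def tau (φ : ∀ m, F.obj (op m) ⟶ I m) : F ⟶ G I :=
  NatTrans.ofOpSequence (G := G I) (tauApp φ) (fun n => by
    rw [G_map_succ]
    change _ = biprod.lift _ _ ≫ biprod.fst
    rw [biprod.lift_fst]
    rfl)

lemma tau_app (φ : ∀ m, F.obj (op m) ⟶ I m) (n : ℕ) : (tau φ).app (op n) = tauApp φ n := rfl

lemma tauApp_proj (φ : ∀ m, F.obj (op m) ⟶ I m) (m : ℕ) : tauApp φ m ≫ proj I m = φ m := by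
  cases m with
  | zero => exact Category.comp_id _
  | succ m => exact biprod.lift_snd _ _

lemma mono_tauApp (φ : ∀ m, F.obj (op m) ⟶ I m) [∀ m, Mono (φ m)] (n : ℕ) :
    Mono (tauApp φ n) :=
  mono_of_mono_fac (tauApp_proj φ n)

theorem tau_eq (ψ : F ⟶ G I) : tau (fun m => ψ.app (op m) ≫ proj I m) = ψ := by
  ext ⟨n⟩
  rw [tau_app]
  induction n with
  | zero => exact Category.comp_id _
  | succ n ih =>
    change biprod.lift _ _ = _
    apply biprod.hom_ext
    · rw [biprod.lift_fst, ih]
      have := ψ.naturality (homOfLE (n.le_add_right 1)).op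
      rw [G_map_succ] at this
      exact this
    · rw [biprod.lift_snd]
      rfl

theorem comp_tau {F' : ℕᵒᵖ ⥤ A} (f : F' ⟶ F) (φ : ∀ m, F.obj (op m) ⟶ I m) :
    f ≫ tau φ = tau (fun m => f.app (op m) ≫ φ m) := by
  rw [← tau_eq (f ≫ tau φ)]
  congr 1
  funext m
  change (f.app (op m) ≫ tauApp φ m) ≫ proj I m = f.app (op m) ≫ φ m
  rw [Category.assoc, tauApp_proj]

instance injective_G [∀ m, Injective (I m)] : Injective (G I) where
  factors {X Y} g f _ := by
    have hf : ∀ m : ℕ, Mono (f.app (op m)) := fun m =>
      (NatTrans.mono_iff_mono_app f).1 inferInstance _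
    refine ⟨tau (fun m => Injective.factorThru (g.app (op m) ≫ proj I m) (f.app (op m))), ?_⟩
    rw [comp_tau]
    conv_rhs => rw [← tau_eq g]
    congr 1
    funext m
    exact Injective.comp_factorThru _ _

theorem enoughInjectives_functor [EnoughInjectives A] : EnoughInjectives (ℕᵒᵖ ⥤ A) where
  presentation F := by
    exact ⟨{ J := G (fun m => Injective.under (F.obj (op m)))
             injective := inferInstance
             f := tau (fun m => Injective.ι (F.obj (op m)))
             mono := by
              haveI : ∀ x : ℕᵒᵖ, Mono ((tau (fun m => Injective.ι (F.obj (op m))) :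
                  F ⟶ G (fun m => Injective.under (F.obj (op m)))).app x) := by
                rintro ⟨n⟩
                exact mono_tauApp (fun m => Injective.ι (F.obj (op m))) n
              exact NatTrans.mono_of_mono_app _ }⟩

instance preservesMono_evaluationLeftAdjoint (c : ℕᵒᵖ) :
    (evaluationLeftAdjoint A c).PreservesMonomorphisms where
  preserves {X Y} f _ := by
    haveI : HasFiniteBiproducts A := Abelian.hasFiniteBiproducts
    haveI : ∀ t : ℕᵒᵖ, Mono (((evaluationLeftAdjoint A c).map f).app t) := by
      intro t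
      change Mono (Sigma.desc fun h : c ⟶ t => f ≫ Sigma.ι (fun _ : c ⟶ t => Y) h)
      have : (Sigma.desc fun h : c ⟶ t => f ≫ Sigma.ι (fun _ : c ⟶ t => Y) h) =
          Limits.Sigma.map (fun _ : c ⟶ t => f) := by
        ext
        simp
      rw [this]
      infer_instance
    exact NatTrans.mono_of_mono_app _

theorem enoughInjectives_of_functor [EnoughInjectives (ℕᵒᵖ ⥤ A)] : EnoughInjectives A where
  presentation X := by
    let F : ℕᵒᵖ ⥤ A := (Functor.const _).obj X
    refine ⟨{ J := (Injective.under F).obj (op 0)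
              injective := ?_
              f := (Injective.ι F).app (op 0)
              mono := (NatTrans.mono_iff_mono_app _).1 inferInstance _ }⟩
    exact Injective.injective_of_adjoint (evaluationAdjunctionRight A (op 0)) (Injective.under F)

theorem main : EnoughInjectives (ℕᵒᵖ ⥤ A) ↔ EnoughInjectives A :=
  ⟨fun _ => enoughInjectives_of_functor, fun _ => enoughInjectives_functor⟩

end Groth.Agent.H2.SeqInj
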