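import Mathlib
import Groth.Agent.Lib.Helper2.LocConstD

set_option autoImplicit false
set_option linter.style.haveILetI false
set_option linter.unusedSectionVars false
universe u
open CategoryTheory CategoryTheory.Limits Opposite TopologicalSpace AlgebraicGeometry

namespace Groth.Agent.H2.Serre

open Groth.Agent.H2.LCModel Groth.Agent.H2.LocConst

variable {X : Scheme.{u}} (Λ : Type (u + 1)) [CommRing Λ]

noncomputable instance overPullback_preservesFiniteColimits (U : X.Etale) :
    PreservesFiniteColimits (X.smallEtaleTopology.overPullback (ModuleCat.{u + 1} Λ) U) := by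
  have adj := (Over.forget U).sheafAdjunctionCocontinuous (ModuleCat.{u + 1} Λ)
    (X.smallEtaleTopology.over U) X.smallEtaleTopology
  haveI := adj.leftAdjoint_preservesColimits
  infer_instance

noncomputable instance const_preservesFiniteLimits (U : X.Etale) : PreservesFiniteLimits
    (constantSheaf (X.smallEtaleTopology.over U) (ModuleCat.{u + 1} Λ)) :=
  inferInstanceAs (PreservesFiniteLimits (Functor.const _ ⋙ presheafToSheaf _ _))

noncomputable instance const_preservesFiniteColimits (U : X.Etale) : PreservesFiniteColimits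
    (constantSheaf (X.smallEtaleTopology.over U) (ModuleCat.{u + 1} Λ)) :=
  inferInstanceAs (PreservesFiniteColimits (Functor.const _ ⋙ presheafToSheaf _ _))

instance overPullback_additive (U : X.Etale) :
    (X.smallEtaleTopology.overPullback (ModuleCat.{u + 1} Λ) U).Additive where

instance const_additive (U : X.Etale) :
    (constantSheaf (X.smallEtaleTopology.over U) (ModuleCat.{u + 1} Λ)).Additive := by
  haveI := preservesBinaryBiproducts_of_preservesBinaryCoproducts
    (constantSheaf (X.smallEtaleTopology.over U) (ModuleCat.{u + 1} Λ))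
  exact Functor.additive_of_preservesBinaryBiproducts _

set_option backward.isDefEq.respectTransparency.types false in
/-- `S6655_point` together with the finiteness of the value modules. -/
theorem point_fin (F G : EtModW.Mod Λ X) (φ : F ⟶ G) (hF : EtModW.IsFTLocConst Λ F)
    (hG : EtModW.IsFTLocConst Λ G) (x : ↥X) :
    ∃ (U : X.Etale) (_ : ∃ y : ↥U.left, U.hom y = x),
      ∃ (M N : Type (u + 1)) (_ : AddCommGroup M) (_ : AddCommGroup N)
      (_ : Module Λ M) (_ : Module Λ N) (_ : Module.Finite Λ M) (_ : Module.Finite Λ N)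
      (h : M →ₗ[Λ] N)
      (α : EtModW.restr Λ F U ≅ (constantSheaf (X.smallEtaleTopology.over U)
        (ModuleCat.{u + 1} Λ)).obj (ModuleCat.of Λ M))
      (β : EtModW.restr Λ G U ≅ (constantSheaf (X.smallEtaleTopology.over U)
        (ModuleCat.{u + 1} Λ)).obj (ModuleCat.of Λ N)),
      (X.smallEtaleTopology.overPullback (ModuleCat.{u + 1} Λ) U).map φ ≫ β.hom =
        α.hom ≫ (constantSheaf (X.smallEtaleTopology.over U) (ModuleCat.{u + 1} Λ)).map
          (ModuleCat.ofHom h) := by
  obtain ⟨ιF, A, hA, hAtriv⟩ := hF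
  obtain ⟨ιG, B, hB, hBtriv⟩ := hG
  obtain ⟨j, a, ha⟩ := hA x
  obtain ⟨k, b, hb⟩ := hB x
  obtain ⟨M, iM1, iM2, iM3, ⟨αF⟩⟩ := hAtriv j
  obtain ⟨N, iN1, iN2, iN3, ⟨βG⟩⟩ := hBtriv k
  let W₀ := prodObj (A j) (B k)
  obtain ⟨w₀, hw1, hw2⟩ := exists_point_prod (A j) (B k) a b (ha.trans hb.symm)
  let eF : Triv (etReal X) Λ F.obj W₀ (ModuleCat.of Λ M) :=
    (Triv.ofIso αF).restrict (prodFst (A j) (B k))
  let eG : Triv (etReal X) Λ G.obj W₀ (ModuleCat.of Λ N) :=
    (Triv.ofIso βG).restrict (prodSnd (A j) (B k))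
  obtain ⟨U, y, f, h, hy, heq⟩ := exists_local_of_triv Λ φ W₀ (ModuleCat.of Λ M)
    (ModuleCat.of Λ N) eF eG w₀
  refine ⟨U, ⟨y, ?_⟩, M, N, iM1, iN1, iM2, iN2, iM3, iN3, h.hom, (eF.restrict f).toIso,
    (eG.restrict f).toIso, ?_⟩
  · have h1 : U.hom = f.left ≫ W₀.hom := (MorphismProperty.Over.w f).symm
    have h2 : W₀.hom = (prodFst (A j) (B k)).left ≫ (A j).hom :=
      (MorphismProperty.Over.w (prodFst (A j) (B k))).symm
    rw [h1, h2, Scheme.Hom.comp_apply, Scheme.Hom.comp_apply, hy, hw1]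
    exact ha
  · exact Triv.toIso_comm φ (eF.restrict f) (eG.restrict f) h heq

theorem kernel_cokernel [IsNoetherianRing Λ] (F G : EtModW.Mod Λ X) (φ : F ⟶ G)
    (hF : EtModW.IsFTLocConst Λ F) (hG : EtModW.IsFTLocConst Λ G) :
    EtModW.IsFTLocConst Λ (kernel φ) ∧ EtModW.IsFTLocConst Λ (cokernel φ) := by
  have hp := point_fin Λ F G φ hF hG
  choose U hU M N iM iN iM2 iN2 iM3 iN3 h α β hcomm using hp
  have hcov : EtCoh.Covers U := by
    intro x
    obtain ⟨y, hy⟩ := hU x
    exact ⟨x, y, hy⟩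
  constructor
  · refine ⟨↥X, U, hcov, fun x => ?_⟩
    let r := X.smallEtaleTopology.overPullback (ModuleCat.{u + 1} Λ) (U x)
    let c := constantSheaf (X.smallEtaleTopology.over (U x)) (ModuleCat.{u + 1} Λ)
    haveI : IsNoetherian Λ (M x) := isNoetherian_of_isNoetherianRing_of_finite Λ (M x)
    refine ⟨↥(LinearMap.ker (h x)), inferInstance, inferInstance,
      Module.Finite.of_fg (IsNoetherian.noetherian _), ⟨?_⟩⟩
    exact PreservesKernel.iso r φ ≪≫
      kernel.mapIso (r.map φ) (c.map (ModuleCat.ofHom (h x))) (α x) (β x) (hcomm x) ≪≫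
      (PreservesKernel.iso c (ModuleCat.ofHom (h x))).symm ≪≫
      c.mapIso (ModuleCat.kernelIsoKer (ModuleCat.ofHom (h x)))
  · refine ⟨↥X, U, hcov, fun x => ?_⟩
    let r := X.smallEtaleTopology.overPullback (ModuleCat.{u + 1} Λ) (U x)
    let c := constantSheaf (X.smallEtaleTopology.over (U x)) (ModuleCat.{u + 1} Λ)
    refine ⟨(N x) ⧸ LinearMap.range (h x), inferInstance, inferInstance, inferInstance, ⟨?_⟩⟩
    exact PreservesCokernel.iso r φ ≪≫
      cokernel.mapIso (r.map φ) (c.map (ModuleCat.ofHom (h x))) (α x) (β x) (hcomm x) ≪≫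
      (PreservesCokernel.iso c (ModuleCat.ofHom (h x))).symm ≪≫
      c.mapIso (ModuleCat.cokernelIsoRangeQuotient (ModuleCat.ofHom (h x)))

end Groth.Agent.H2.Serre
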