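import Mathlib
import Groth.Agent.Lib.Helper2.SerreE
import Groth.Agent.Lib.Helper2.SerreA

set_option autoImplicit false
set_option linter.style.haveILetI false
set_option linter.unusedSectionVars false
universe u
open CategoryTheory CategoryTheory.Limits Opposite TopologicalSpace AlgebraicGeometry

namespace Groth.Agent.H2.Serre

open Groth.Agent.H2.LCModel Groth.Agent.H2.LocConst

variable {X : Scheme.{u}} (Λ : Type (u + 1)) [CommRing Λ]

set_option backward.isDefEq.respectTransparency.types false in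
theorem extension_point [IsNoetherianRing Λ] (S : ShortComplex (EtModW.Mod Λ X))
    (hS : S.ShortExact) (h₁ : EtModW.IsFTLocConst Λ S.X₁) (h₃ : EtModW.IsFTLocConst Λ S.X₃)
    (x : ↥X) :
    ∃ (U : X.Etale) (_ : ∃ y : ↥U.left, U.hom y = x),
      ∃ (E : Type (u + 1)) (_ : AddCommGroup E) (_ : Module Λ E) (_ : Module.Finite Λ E),
        Nonempty (EtModW.restr Λ S.X₂ U ≅ (constantSheaf (X.smallEtaleTopology.over U)
          (ModuleCat.{u + 1} Λ)).obj (ModuleCat.of Λ E)) := by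
  obtain ⟨ιF, A, hA, hAtriv⟩ := h₁
  obtain ⟨ιG, B, hB, hBtriv⟩ := h₃
  obtain ⟨j, a, ha⟩ := hA x
  obtain ⟨k, b, hb⟩ := hB x
  obtain ⟨M', iM1, iM2, iM3, ⟨α'⟩⟩ := hAtriv j
  obtain ⟨M'', iN1, iN2, iN3, ⟨α''⟩⟩ := hBtriv k
  let W₀ := prodObj (A j) (B k)
  obtain ⟨w₀, hw1, hw2⟩ := exists_point_prod (A j) (B k) a b (ha.trans hb.symm)
  let e' : Triv (etReal X) Λ S.X₁.obj W₀ (ModuleCat.of Λ M') :=
    (Triv.ofIso α').restrict (prodFst (A j) (B k))
  let e'' : Triv (etReal X) Λ S.X₃.obj W₀ (ModuleCat.of Λ M'') :=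
    (Triv.ofIso α'').restrict (prodSnd (A j) (B k))
  obtain ⟨U, f, y, hy, E, iE1, iE2, iE3, hE⟩ := exists_triv_extension (etReal X) S hS W₀ w₀
    (ModuleCat.of Λ M') (ModuleCat.of Λ M'') e' e''
  refine ⟨U, ⟨y, ?_⟩, E, iE1, iE2, iE3, hE⟩
  have h1 : U.hom = f.left ≫ W₀.hom := (MorphismProperty.Over.w f).symm
  have h2 : W₀.hom = (prodFst (A j) (B k)).left ≫ (A j).hom :=
    (MorphismProperty.Over.w (prodFst (A j) (B k))).symm
  have hy' : f.left y = w₀ := hy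
  rw [h1, h2, Scheme.Hom.comp_apply, Scheme.Hom.comp_apply, hy', hw1]
  exact ha

theorem S6646_main [IsNoetherianRing Λ] (X : Scheme.{u}) :
    (∀ (F G : EtModW.Mod Λ X) (φ : F ⟶ G), EtModW.IsFTLocConst Λ F → EtModW.IsFTLocConst Λ G →
      EtModW.IsFTLocConst Λ (kernel φ) ∧ EtModW.IsFTLocConst Λ (cokernel φ)) ∧
    ObjectProperty.IsClosedUnderExtensions
      (fun F : EtModW.Mod Λ X => EtModW.IsFTLocConst Λ F) := by
  refine ⟨fun F G φ hF hG => kernel_cokernel Λ F G φ hF hG, ⟨?_⟩⟩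
  intro S hS h₁ h₃
  have hp := extension_point Λ S hS h₁ h₃
  choose U hU E iE1 iE2 iE3 hE using hp
  refine ⟨↥X, U, ?_, fun x => ⟨E x, iE1 x, iE2 x, iE3 x, hE x⟩⟩
  intro x
  obtain ⟨y, hy⟩ := hU x
  exact ⟨x, y, hy⟩

end Groth.Agent.H2.Serre
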