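import Mathlib

/-!
# Helper2: full faithfulness of the functor induced on Serre quotients by an exact full subcategory
-/

namespace Groth.Agent.H2.SerreFF

open CategoryTheory CategoryTheory.Limits ObjectProperty

universe v u v' u' v'' u''

variable {A A' : Type u} [Category.{v} A] [Abelian A] [Category.{v} A'] [Abelian A']
  (i : A' ⥤ A) [i.Full] [i.Faithful] [PreservesFiniteLimits i] [PreservesFiniteColimits i]
  (J : ObjectProperty A) [J.IsSerreClass] [(J.inverseImage i).IsSerreClass]

/-- The key construction: a right fraction `i M ← X → i N` can be replaced by data in `A'`. -/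
lemma exists_data
    (hsub : ∀ (M : A') (N : A) (f : N ⟶ i.obj M), Mono f → J N → i.essImage N)
    (hquot : ∀ (M : A') (N : A) (p : i.obj M ⟶ N), Epi p → J N → i.essImage N)
    {M N : A'} {X : A} (s : X ⟶ i.obj M) (hs : J.isoModSerre s) (f : X ⟶ i.obj N) :
    ∃ (M₁ N₁ : A') (m₁ : M₁ ⟶ M) (_ : (J.inverseImage i).isoModSerre m₁)
      (t : N ⟶ N₁) (_ : (J.inverseImage i).isoModSerre t) (g : M₁ ⟶ N₁)
      (sbar : X ⟶ i.obj M₁), sbar ≫ i.map m₁ = s ∧ sbar ≫ i.map g = f ≫ i.map t := by
  -- the `M` side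
  have hJc : J (cokernel s) := hs.2
  obtain ⟨C', ⟨θ⟩⟩ := hquot M _ (cokernel.π s) inferInstance hJc
  let c : M ⟶ C' := i.preimage (cokernel.π s ≫ θ.inv)
  have hc : i.map c = cokernel.π s ≫ θ.inv := i.map_preimage _
  have hJC' : (J.inverseImage i) C' := J.prop_of_iso θ.symm hJc
  let m₁ : kernel c ⟶ M := kernel.ι c
  have hm₁ : (J.inverseImage i).isoModSerre m₁ := by
    rw [isoModSerre_iff_of_mono]
    exact (J.inverseImage i).prop_of_mono (Abelian.factorThruCoimage c) hJC'
  have hsc : s ≫ i.map c = 0 := by rw [hc, ← Category.assoc, cokernel.condition, zero_comp]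
  let S : ShortComplex A := ShortComplex.mk s (i.map c) hsc
  have hS : S.Exact := by
    let S₀ : ShortComplex A := ShortComplex.mk s (cokernel.π s) (cokernel.condition s)
    have hS₀ : S₀.Exact := ShortComplex.exact_of_g_is_cokernel _ (cokernelIsCokernel s)
    let φ : S₀ ⟶ S :=
      { τ₁ := 𝟙 _
        τ₂ := 𝟙 _
        τ₃ := θ.inv
        comm₁₂ := by simp [S₀, S]
        comm₂₃ := by simp [S₀, S, hc] }
    have : Epi φ.τ₁ := by dsimp [φ]; infer_instance
    have : IsIso φ.τ₂ := by dsimp [φ]; infer_instance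
    have : Mono φ.τ₃ := by dsimp [φ]; infer_instance
    exact (ShortComplex.exact_iff_of_epi_of_isIso_of_mono φ).1 hS₀
  have hepi : Epi (kernel.lift (i.map c) s hsc) := hS.epi_kernelLift
  let sbar : X ⟶ i.obj (kernel c) := kernel.lift (i.map c) s hsc ≫ (PreservesKernel.iso i c).inv
  have hsbar : sbar ≫ i.map m₁ = s := by
    have : (PreservesKernel.iso i c).inv ≫ i.map (kernel.ι c) = kernel.ι (i.map c) := by
      rw [Iso.inv_comp_eq, PreservesKernel.iso_hom, kernelComparison_comp_ι]
    simp only [sbar, m₁, Category.assoc, this, kernel.lift_ι]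
  have : Epi sbar := epi_comp _ _
  -- the `N` side
  have hJK : J (kernel s) := hs.1
  let u : kernel s ⟶ i.obj N := kernel.ι s ≫ f
  have hJI : J (Abelian.image u) := J.prop_of_epi (Abelian.factorThruImage u) hJK
  obtain ⟨N₀, ⟨θ'⟩⟩ := hsub N _ (Abelian.image.ι u) inferInstance hJI
  let n₀ : N₀ ⟶ N := i.preimage (θ'.hom ≫ Abelian.image.ι u)
  have hn₀ : i.map n₀ = θ'.hom ≫ Abelian.image.ι u := i.map_preimage _
  have hJN₀ : (J.inverseImage i) N₀ := J.prop_of_iso θ'.symm hJI
  let t : N ⟶ cokernel n₀ := cokernel.π n₀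
  have ht : (J.inverseImage i).isoModSerre t := by
    rw [isoModSerre_iff_of_epi]
    exact (J.inverseImage i).prop_of_epi (Abelian.factorThruImage n₀) hJN₀
  have hut : u ≫ i.map t = 0 := by
    have h1 : u = Abelian.factorThruImage u ≫ θ'.inv ≫ i.map n₀ := by
      rw [hn₀, Iso.inv_hom_id_assoc, Abelian.image.fac]
    rw [h1, Category.assoc, Category.assoc, ← i.map_comp, cokernel.condition, i.map_zero,
      comp_zero, comp_zero]
  -- descending
  have hk : kernel.ι sbar ≫ (f ≫ i.map t) = 0 := by
    have h0 : kernel.ι sbar ≫ s = 0 := by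
      calc kernel.ι sbar ≫ s = kernel.ι sbar ≫ (sbar ≫ i.map m₁) :=
            congrArg (kernel.ι sbar ≫ ·) hsbar.symm
        _ = 0 := by rw [← Category.assoc, kernel.condition, zero_comp]
    have : kernel.ι sbar = kernel.lift s (kernel.ι sbar) h0 ≫ kernel.ι s := (kernel.lift_ι _ _ _).symm
    rw [this, Category.assoc]
    have : kernel.ι s ≫ f ≫ i.map t = u ≫ i.map t := by simp [u]
    rw [this, hut, comp_zero]
  let g' : i.obj (kernel c) ⟶ i.obj (cokernel n₀) := Abelian.epiDesc sbar (f ≫ i.map t) hk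
  have hg' : sbar ≫ g' = f ≫ i.map t := Abelian.comp_epiDesc sbar _ hk
  refine ⟨kernel c, cokernel n₀, m₁, hm₁, t, ht, i.preimage g', sbar, hsbar, ?_⟩
  rw [i.map_preimage, hg']

variable {Q : Type u'} [Category.{v'} Q] (L : A ⥤ Q) [L.IsLocalization J.isoModSerre]
  {Q' : Type u''} [Category.{v''} Q'] (L' : A' ⥤ Q')
  [L'.IsLocalization (J.inverseImage i).isoModSerre]

include J in
lemma map_eq_zero_iff [Preadditive Q] [L.Additive] [Preadditive Q'] [L'.Additive] {M N : A'}
    (f : M ⟶ N) : L.map (i.map f) = 0 ↔ L'.map f = 0 := by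
  have h1 := SerreClassLocalization.map_comp_eq_zero_iff_of_epi_mono L J
    (i.map (Abelian.factorThruImage f)) (i.map (Abelian.image.ι f))
  have h2 := SerreClassLocalization.map_comp_eq_zero_iff_of_epi_mono L' (J.inverseImage i)
    (Abelian.factorThruImage f) (Abelian.image.ι f)
  rw [← L.map_comp, ← i.map_comp, Abelian.image.fac] at h1
  rw [← L'.map_comp, Abelian.image.fac] at h2
  rw [h1, h2]
  rfl

include J in
theorem full_faithful
    (hsub : ∀ (M : A') (N : A) (f : N ⟶ i.obj M), Mono f → J N → i.essImage N)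
    (hquot : ∀ (M : A') (N : A) (p : i.obj M ⟶ N), Epi p → J N → i.essImage N)
    (Φ : Q' ⥤ Q) (e : L' ⋙ Φ ≅ i ⋙ L) : Φ.Full ∧ Φ.Faithful := by
  letI := Localization.preadditive L J.isoModSerre
  haveI := Localization.functor_additive L J.isoModSerre
  letI := Localization.preadditive L' (J.inverseImage i).isoModSerre
  haveI := Localization.functor_additive L' (J.inverseImage i).isoModSerre
  haveI : i.Additive := Functor.additive_of_preserves_binary_products _
  have hess := Localization.essSurj L' (J.inverseImage i).isoModSerre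
  have hW : ∀ {M N : A'} (m : M ⟶ N), (J.inverseImage i).isoModSerre m → IsIso (L'.map m) :=
    fun m hm => Localization.inverts L' _ m hm
  have hWi : ∀ {M N : A'} (m : M ⟶ N), (J.inverseImage i).isoModSerre m →
      IsIso (L.map (i.map m)) := by
    intro M N m hm
    have : IsIso (Φ.map (L'.map m)) := by
      have := hW m hm
      infer_instance
    have h := e.hom.naturality m
    have : L.map (i.map m) = e.inv.app M ≫ Φ.map (L'.map m) ≫ e.hom.app N := by
      have := e.hom.naturality m
      simp only [Functor.comp_map] at this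
      rw [this, ← Category.assoc, Iso.inv_hom_id_app]
      simp
    rw [this]
    infer_instance
  -- the key statement for fullness
  have key : ∀ (M N : A') (b : L.obj (i.obj M) ⟶ L.obj (i.obj N)),
      ∃ a : L'.obj M ⟶ L'.obj N, Φ.map a = e.hom.app M ≫ b ≫ e.inv.app N := by
    intro M N b
    obtain ⟨φ, hφ⟩ := Localization.exists_rightFraction L J.isoModSerre b
    obtain ⟨M₁, N₁, m₁, hm₁, t, ht, g, sbar, h1, h2⟩ :=
      exists_data i J hsub hquot φ.s φ.hs φ.f
    have := hW m₁ hm₁
    have := hW t ht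
    have := hWi m₁ hm₁
    have := hWi t ht
    have := Localization.inverts L J.isoModSerre φ.s φ.hs
    refine ⟨inv (L'.map m₁) ≫ L'.map g ≫ inv (L'.map t), ?_⟩
    have hb : L.map φ.s ≫ b = L.map φ.f := by
      rw [hφ, MorphismProperty.RightFraction.map_s_comp_map]
    have hsb : L.map sbar ≫ L.map (i.map m₁) = L.map φ.s := by rw [← L.map_comp, h1]
    have hsb2 : L.map sbar ≫ L.map (i.map g) = L.map φ.f ≫ L.map (i.map t) := by
      rw [← L.map_comp, h2, L.map_comp]
    have : IsIso (L.map sbar) := by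
      have : L.map sbar = L.map φ.s ≫ inv (L.map (i.map m₁)) := by
        rw [← hsb, Category.assoc, IsIso.hom_inv_id, Category.comp_id]
      rw [this]
      infer_instance
    have hb' : b = inv (L.map (i.map m₁)) ≫ L.map (i.map g) ≫ inv (L.map (i.map t)) := by
      rw [← cancel_epi (L.map φ.s), hb, ← hsb, Category.assoc, IsIso.hom_inv_id_assoc,
        ← Category.assoc, hsb2, Category.assoc, IsIso.hom_inv_id, Category.comp_id]
    have nat : ∀ {X Y : A'} (h : X ⟶ Y),
        Φ.map (L'.map h) = e.hom.app X ≫ L.map (i.map h) ≫ e.inv.app Y := by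
      intro X Y h
      have := e.hom.naturality h
      simp only [Functor.comp_map] at this
      rw [← Category.assoc, ← this, Category.assoc, Iso.hom_inv_id_app]
      simp
    have natinv : ∀ {X Y : A'} (h : X ⟶ Y) [IsIso (L'.map h)] [IsIso (L.map (i.map h))],
        Φ.map (inv (L'.map h)) = e.hom.app Y ≫ inv (L.map (i.map h)) ≫ e.inv.app X := by
      intro X Y h _ _
      rw [Functor.map_inv]
      apply IsIso.inv_eq_of_hom_inv_id
      rw [nat h]
      simp
    rw [Φ.map_comp, Φ.map_comp, natinv m₁, nat g, natinv t, hb']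
    simp
  constructor
  · constructor
    intro X Y b
    let x := L'.objObjPreimageIso X
    let y := L'.objObjPreimageIso Y
    obtain ⟨a, ha⟩ := key _ _ (e.inv.app _ ≫ Φ.map x.hom ≫ b ≫ Φ.map y.inv ≫ e.hom.app _)
    refine ⟨x.inv ≫ a ≫ y.hom, ?_⟩
    rw [Φ.map_comp, Φ.map_comp, ha]
    simp
  · constructor
    intro X Y a b hab
    let x := L'.objObjPreimageIso X
    let y := L'.objObjPreimageIso Y
    suffices x.hom ≫ a ≫ y.inv = x.hom ≫ b ≫ y.inv by
      rwa [cancel_epi, cancel_mono] at this
    obtain ⟨φ, h1, h2⟩ := Localization.exists_leftFraction₂ L' (J.inverseImage i).isoModSerre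
      (x.hom ≫ a ≫ y.inv) (x.hom ≫ b ≫ y.inv)
    have := hW φ.s φ.hs
    have hΦ : Φ.map (x.hom ≫ a ≫ y.inv) = Φ.map (x.hom ≫ b ≫ y.inv) := by
      simp only [Φ.map_comp, hab]
    rw [h1, h2] at hΦ ⊢
    simp only [MorphismProperty.LeftFraction.map] at hΦ ⊢
    rw [Φ.map_comp, Φ.map_comp, cancel_mono] at hΦ
    have hL : L.map (i.map φ.f) = L.map (i.map φ.f') := by
      have n1 := e.hom.naturality φ.f
      have n2 := e.hom.naturality φ.f'
      simp only [Functor.comp_map] at n1 n2
      rw [← cancel_epi (e.hom.app _), ← n1, ← n2, hΦ]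
    have : L'.map φ.f = L'.map φ.f' := by
      rw [← sub_eq_zero, ← L'.map_sub, ← map_eq_zero_iff i J L L', i.map_sub, L.map_sub, hL,
        sub_self]
    rw [this]

end Groth.Agent.H2.SerreFF
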