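import Mathlib

/-!
# Relative Serre criterion, algebraic part (helper2)

Pure commutative algebra used in the proof that an open `W` of a scheme which is covered by
finitely many affine basic opens and for which restriction to reduced closed subschemes is
surjective on sections is affine.
-/

set_option autoImplicit false
universe u

namespace Groth.Agent.H2.SerreRel

variable {A : Type u} [CommRing A]

/-- the union of a nonempty chain of prime ideals is prime. -/
theorem isPrime_sSup_of_isChain (c : Set (Ideal A)) (hc : IsChain (· ≤ ·) c) (hne : c.Nonempty)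
    (hp : ∀ I ∈ c, I.IsPrime) : (sSup c).IsPrime := by
  have hdir : DirectedOn (· ≤ ·) c := hc.directedOn
  have hmem : ∀ z : A, z ∈ sSup c ↔ ∃ y ∈ c, z ∈ y := fun z =>
    Submodule.mem_sSup_of_directed hne hdir
  refine ⟨?_, ?_⟩
  · intro htop
    have h1 : (1 : A) ∈ sSup c := by rw [htop]; trivial
    obtain ⟨I, hI, h1I⟩ := (hmem 1).1 h1
    exact (hp I hI).ne_top ((Ideal.eq_top_iff_one I).2 h1I)
  · intro a b hab
    obtain ⟨I, hI, habI⟩ := (hmem (a * b)).1 hab
    rcases (hp I hI).mem_or_mem habI with h | h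
    · exact Or.inl ((hmem a).2 ⟨I, hI, h⟩)
    · exact Or.inr ((hmem b).2 ⟨I, hI, h⟩)

/-- if `g` lies in every prime ideal contained in the prime `m`, some `t ∉ m` kills a power
of `g`. -/
theorem exists_mul_pow_eq_zero (m : Ideal A) [m.IsPrime] (g : A)
    (h : ∀ p : Ideal A, p.IsPrime → p ≤ m → g ∈ p) :
    ∃ t : A, t ∉ m ∧ ∃ n : ℕ, t * g ^ n = 0 := by
  classical
  by_contra hne
  push Not at hne
  let M : Submonoid A := m.primeCompl ⊔ Submonoid.powers g
  have hdisj : Disjoint ((⊥ : Ideal A) : Set A) (M : Set A) := by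
    rw [Set.disjoint_left]
    intro z hz hzM
    have hz0 : z = 0 := hz
    obtain ⟨t, ht, y, hy, hty⟩ := Submonoid.mem_sup.1 hzM
    obtain ⟨n, rfl⟩ := hy
    exact hne t ht n (by rw [hty, hz0])
  obtain ⟨p, hp, -, hpM⟩ := Ideal.exists_le_prime_disjoint ⊥ M hdisj
  have hpm : p ≤ m := by
    intro z hz
    by_contra hzm
    exact Set.disjoint_left.1 hpM hz (Submonoid.mem_sup_left (S := m.primeCompl)
      (T := Submonoid.powers g) hzm)
  have hg : g ∈ p := h p hp hpm
  exact Set.disjoint_left.1 hpM hg (Submonoid.mem_sup_right (Submonoid.mem_powers g))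

/-- a uniform annihilator for a finite set. -/
theorem exists_mul_pow_eq_zero_finset (m : Ideal A) [m.IsPrime] (s : Finset A)
    (h : ∀ p : Ideal A, p.IsPrime → p ≤ m → ∀ g ∈ s, g ∈ p) :
    ∃ t : A, t ∉ m ∧ ∀ g ∈ s, ∃ n : ℕ, t * g ^ n = 0 := by
  classical
  induction s using Finset.induction_on with
  | empty => exact ⟨1, fun h1 => (Ideal.IsPrime.ne_top ‹_›) ((Ideal.eq_top_iff_one m).2 h1),
      fun g hg => absurd hg (Finset.notMem_empty g)⟩
  | insert a s' ha ih =>
    obtain ⟨t', ht', h'⟩ := ih (fun p hp hpm g hg => h p hp hpm g (Finset.mem_insert_of_mem hg))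
    obtain ⟨t₁, ht₁, n₁, hn₁⟩ := exists_mul_pow_eq_zero m a
      (fun p hp hpm => h p hp hpm a (Finset.mem_insert_self a s'))
    refine ⟨t' * t₁, fun hmem => ?_, ?_⟩
    · rcases Ideal.IsPrime.mem_or_mem ‹m.IsPrime› hmem with h1 | h1
      · exact ht' h1
      · exact ht₁ h1
    · intro g hg
      rcases Finset.mem_insert.1 hg with rfl | hg'
      · exact ⟨n₁, by rw [mul_assoc, hn₁, mul_zero]⟩
      · obtain ⟨n, hn⟩ := h' g hg'
        exact ⟨n, by rw [mul_comm t' t₁, mul_assoc, hn, mul_zero]⟩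

/-- the set of primes below `m` missing some element of `s`. -/
def Good (m : Ideal A) (s : Finset A) : Set (Ideal A) :=
  {p | p.IsPrime ∧ p ≤ m ∧ ∃ g ∈ s, g ∉ p}

/-- Zorn: above any good prime there is a maximal good prime. -/
theorem exists_maximal_good (m : Ideal A) (s : Finset A) (p₀ : Ideal A) (hp₀ : p₀ ∈ Good m s) :
    ∃ p : Ideal A, p ∈ Good m s ∧ ∀ q ∈ Good m s, p ≤ q → q = p := by
  classical
  suffices hz : ∀ c ⊆ Good m s, IsChain (· ≤ ·) c → ∀ y ∈ c, ∃ ub ∈ Good m s, ∀ z ∈ c, z ≤ ub by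
    obtain ⟨p, -, hp⟩ := zorn_le_nonempty₀ (Good m s) hz p₀ hp₀
    exact ⟨p, hp.prop, fun q hq hpq => le_antisymm (hp.le_of_ge hq hpq) hpq⟩
  · intro c hcS hc y hy
    have hne : c.Nonempty := ⟨y, hy⟩
    refine ⟨sSup c, ⟨isPrime_sSup_of_isChain c hc hne (fun I hI => (hcS hI).1),
      sSup_le (fun I hI => (hcS hI).2.1), ?_⟩, fun z hz => le_sSup hz⟩
    -- some element of `s` is missed by the union
    by_contra hall
    push Not at hall
    have hdir : DirectedOn (· ≤ ·) c := hc.directedOn
    have hmem : ∀ z : A, z ∈ sSup c ↔ ∃ I ∈ c, z ∈ I := fun z =>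
      Submodule.mem_sSup_of_directed hne hdir
    -- a single member of the chain contains all of `s`
    have key : ∀ s' : Finset A, (∀ g ∈ s', g ∈ sSup c) → ∃ I ∈ c, ∀ g ∈ s', g ∈ I := by
      intro s'
      induction s' using Finset.induction_on with
      | empty => exact fun _ => ⟨y, hy, fun g hg => absurd hg (Finset.notMem_empty g)⟩
      | insert a s'' ha ih =>
        intro hs'
        obtain ⟨I, hI, hIs⟩ := ih (fun g hg => hs' g (Finset.mem_insert_of_mem hg))
        obtain ⟨I', hI', haI'⟩ := (hmem a).1 (hs' a (Finset.mem_insert_self a s''))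
        rcases hc.total hI hI' with hle | hle
        · refine ⟨I', hI', fun g hg => ?_⟩
          rcases Finset.mem_insert.1 hg with rfl | hg'
          · exact haI'
          · exact hle (hIs g hg')
        · refine ⟨I, hI, fun g hg => ?_⟩
          rcases Finset.mem_insert.1 hg with rfl | hg'
          · exact hle haI'
          · exact hIs g hg'
    obtain ⟨I, hI, hIs⟩ := key s hall
    obtain ⟨g, hg, hgI⟩ := (hcS hI).2.2
    exact hgI (hIs g hg)

/-- for a maximal good prime `p`, an element `g ∈ s` outside `p` and `b ∈ m` outside `p`, some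
`t ∉ m` times a power of `g` is a multiple of `b` modulo `p`. -/
theorem exists_mul_pow_sub_mem (m : Ideal A) [m.IsPrime] (s : Finset A) (p : Ideal A)
    (hp : p ∈ Good m s) (hmax : ∀ q ∈ Good m s, p ≤ q → q = p) (g : A) (hg : g ∈ s) (hgp : g ∉ p)
    (b : A) (hbm : b ∈ m) (hbp : b ∉ p) :
    ∃ t : A, t ∉ m ∧ ∃ (k : ℕ) (c : A), t * g ^ k - b * c ∈ p := by
  classical
  by_contra hne
  push Not at hne
  let M : Submonoid A := m.primeCompl ⊔ Submonoid.powers g
  let I : Ideal A := p ⊔ Ideal.span {b}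
  have hdisj : Disjoint (I : Set A) (M : Set A) := by
    rw [Set.disjoint_left]
    intro z hzI hzM
    obtain ⟨t, ht, y, hy, hty⟩ := Submonoid.mem_sup.1 hzM
    obtain ⟨k, rfl⟩ := hy
    obtain ⟨π, hπ, w, hw, hz⟩ := Submodule.mem_sup.1 hzI
    obtain ⟨c, rfl⟩ := Ideal.mem_span_singleton'.1 hw
    apply hne t ht k c
    have : t * g ^ k - b * c = π := by
      have e1 : t * g ^ k = π + c * b := by
        have := hty
        simp only at this
        rw [this, ← hz]
      rw [e1]; ring
    rw [this]; exact hπ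
  obtain ⟨q, hq, hIq, hqM⟩ := Ideal.exists_le_prime_disjoint I M hdisj
  have hqm : q ≤ m := by
    intro z hz
    by_contra hzm
    exact Set.disjoint_left.1 hqM hz (Submonoid.mem_sup_left (S := m.primeCompl)
      (T := Submonoid.powers g) hzm)
  have hgq : g ∉ q := fun h =>
    Set.disjoint_left.1 hqM h (Submonoid.mem_sup_right (Submonoid.mem_powers g))
  have hpq : p ≤ q := le_trans le_sup_left hIq
  have hbq : b ∈ q := hIq (Submodule.mem_sup_right (Ideal.subset_span rfl))
  have := hmax q ⟨hq, hqm, g, hg, hgq⟩ hpq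
  exact hbp (this ▸ hbq)

/-- uniform version over the finite set. -/
theorem exists_uniform (m : Ideal A) [m.IsPrime] (s : Finset A) (p : Ideal A) [p.IsPrime]
    (hp : p ∈ Good m s) (hmax : ∀ q ∈ Good m s, p ≤ q → q = p)
    (b : A) (hbm : b ∈ m) (hbp : b ∉ p) :
    ∃ t : A, t ∉ m ∧ ∃ k : ℕ, ∀ g ∈ s, g ∉ p → ∃ c : A, t * g ^ k - b * c ∈ p := by
  classical
  have key : ∀ s' : Finset A, s' ⊆ s →
      ∃ t : A, t ∉ m ∧ ∃ k : ℕ, ∀ g ∈ s', g ∉ p → ∃ c : A, t * g ^ k - b * c ∈ p := by
    intro s'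
    induction s' using Finset.induction_on with
    | empty => exact fun _ => ⟨1, fun h1 => (Ideal.IsPrime.ne_top ‹m.IsPrime›)
        ((Ideal.eq_top_iff_one m).2 h1), 0, fun g hg => absurd hg (Finset.notMem_empty g)⟩
    | insert a s'' ha ih =>
      intro hsub
      obtain ⟨t', ht', k', h'⟩ := ih (fun g hg => hsub (Finset.mem_insert_of_mem hg))
      have has : a ∈ s := hsub (Finset.mem_insert_self a s'')
      by_cases hap : a ∈ p
      · refine ⟨t', ht', k', fun g hg hgp => ?_⟩
        rcases Finset.mem_insert.1 hg with rfl | hg'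
        · exact absurd hap hgp
        · exact h' g hg' hgp
      · obtain ⟨t₁, ht₁, k₁, c₁, hc₁⟩ := exists_mul_pow_sub_mem m s p hp hmax a has hap b hbm hbp
        refine ⟨t' * t₁, fun hmem => ?_, k' + k₁, fun g hg hgp => ?_⟩
        · rcases Ideal.IsPrime.mem_or_mem ‹m.IsPrime› hmem with h1 | h1
          · exact ht' h1
          · exact ht₁ h1
        · rcases Finset.mem_insert.1 hg with rfl | hg'
          · refine ⟨t' * g ^ k' * c₁, ?_⟩
            have : t' * t₁ * g ^ (k' + k₁) - b * (t' * g ^ k' * c₁) =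
                (t' * g ^ k') * (t₁ * g ^ k₁ - b * c₁) := by ring
            rw [this]
            exact Ideal.mul_mem_left _ _ hc₁
          · obtain ⟨c, hc⟩ := h' g hg' hgp
            refine ⟨t₁ * g ^ k₁ * c, ?_⟩
            have : t' * t₁ * g ^ (k' + k₁) - b * (t₁ * g ^ k₁ * c) =
                (t₁ * g ^ k₁) * (t' * g ^ k' - b * c) := by ring
            rw [this]
            exact Ideal.mul_mem_left _ _ hc
  exact key s (Finset.Subset.refl s)

end Groth.Agent.H2.SerreRel
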