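import Groth.Agent.Lib.Lead.QC.SerreCore

/-!
# Relative Serre criterion, steps 1–3 (helper2)

For an open `W` of a scheme `X` such that, for every closed subset `Z` of `X`, the restriction
`Γ(W, O_X) → Γ(W, O_X / I_Z)` to the reduced closed subscheme on `Z` is surjective, every point of
`W` which is closed in `W` has arbitrarily small neighbourhoods of the form `X.basicOpen f` with
`f ∈ Γ(X, W)`; if `W` is quasi-compact, finitely many affine such basic opens cover `W`.
(Adapted from lead's `QC.SerreCore`, which treats `W = ⊤`.)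
-/

set_option autoImplicit false
universe u
open CategoryTheory Limits AlgebraicGeometry TopologicalSpace Opposite

namespace Groth.Agent.H2.SerreRel

open Groth.Agent.LD Groth.Agent.LD.QC

variable {X : Scheme.{u}}

/-- the hypothesis of the relative criterion. -/
def Hyp (W : X.Opens) : Prop :=
  ∀ Z : Closeds X, Function.Surjective
    ((cokernel.π (ClSub.idealModι (Scheme.IdealSheafData.vanishingIdeal Z))).app W)

/-- **Step 1.** -/
theorem exists_basicOpen_of_closedPoint {W : X.Opens} (hA : Hyp W) (x : X)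
    (hx : ∀ y ∈ W, y ∈ closure ({x} : Set X) → y = x) (U : X.Opens)
    (hU : IsAffineOpen U) (hUW : U ≤ W) (hxU : x ∈ U) :
    ∃ f : Γ(X, W), x ∈ X.basicOpen f ∧ X.basicOpen f ≤ U := by
  classical
  let Z : Closeds X := ⟨(U : Set X)ᶜ ∪ closure {x}, (U.2.isClosed_compl).union isClosed_closure⟩
  let J := Scheme.IdealSheafData.vanishingIdeal Z
  let ι := ClSub.idealModι J
  let π := cokernel.π ι
  let V₀ : X.Opens := ⟨(W : Set X) ∩ (closure ({x} : Set X))ᶜ,
    W.2.inter isClosed_closure.isOpen_compl⟩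
  have hV₀W : V₀ ≤ W := fun y hy => hy.1
  have hcov : U ⊔ V₀ = W := by
    apply le_antisymm
    · exact sup_le hUW hV₀W
    · intro y hy
      by_cases hyc : y ∈ closure ({x} : Set X)
      · have : y = x := hx y hy hyc
        exact (le_sup_left : U ≤ U ⊔ V₀) (this ▸ hxU)
      · exact (le_sup_right : V₀ ≤ U ⊔ V₀) ⟨hy, hyc⟩
  have hxZ : x ∈ Z := Or.inr (subset_closure rfl)
  -- the section `1` over `U` dies in the quotient over `U ⊓ V₀`
  have h0 : (cokernel ι).presheaf.map (homOfLE (inf_le_left : U ⊓ V₀ ≤ U)).op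
      (π.app U (1 : Γ(X, U))) =
      (cokernel ι).presheaf.map (homOfLE (inf_le_right : U ⊓ V₀ ≤ V₀)).op
        (0 : Γ(cokernel ι, V₀)) := by
    rw [map_zero]
    apply section_ext_of_cover (cokernel ι)
      (fun V : {V : X.affineOpens // V.1 ≤ U ⊓ V₀} => V.1.1) (fun V => V.2)
    · intro y hy
      obtain ⟨W', hW', hyW', hW'U⟩ := exists_isAffineOpen_mem_and_subset (x := y) (U := U ⊓ V₀) hy
      exact Opens.mem_iSup.mpr ⟨⟨⟨W', hW'⟩, hW'U⟩, hyW'⟩
    · rintro ⟨V, hV⟩
      rw [map_zero, res_res, ← app_res]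
      have hd : Disjoint (V.1 : Set X) (Z : Set X) := by
        rw [Set.disjoint_left]
        intro y hyV hyZ
        have h1 := hV hyV
        rcases hyZ with hyU | hyx
        · exact hyU h1.1
        · exact h1.2.2 hyx
      have htop := vanishingIdeal_ideal_eq_top Z V hd
      have hmem : X.presheaf.map (homOfLE (hV.trans inf_le_left)).op (1 : Γ(X, U)) ∈ J.ideal V := by
        change _ ∈ (Scheme.IdealSheafData.vanishingIdeal Z).ideal V
        rw [htop]; trivial
      obtain ⟨t, ht⟩ := (exists_idealModι_app_eq_iff J V _).mpr hmem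
      exact (mem_range_mono_iff ι V.1 _).mp ⟨t, ht⟩
  obtain ⟨z, hz1, hz2⟩ := glue2 (cokernel ι) (π.app U (1 : Γ(X, U))) (0 : Γ(cokernel ι, V₀)) h0
  let σ : Γ(cokernel ι, W) := (cokernel ι).presheaf.map (homOfLE hcov.ge).op z
  have hσ1 : (cokernel ι).presheaf.map (homOfLE hUW).op σ = π.app U (1 : Γ(X, U)) := by
    change (cokernel ι).presheaf.map _ ((cokernel ι).presheaf.map _ z) = _
    rw [res_res]; exact hz1
  have hσ2 : (cokernel ι).presheaf.map (homOfLE hV₀W).op σ = 0 := by
    change (cokernel ι).presheaf.map _ ((cokernel ι).presheaf.map _ z) = _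
    rw [res_res]; exact hz2
  obtain ⟨f, hf⟩ := hA Z σ
  refine ⟨f, ?_, ?_⟩
  · -- `f - 1` lies in the ideal over `U`
    let g : Γ(X, U) := X.presheaf.map (homOfLE hUW).op f - 1
    have e1 : π.app U (X.presheaf.map (homOfLE hUW).op f) =
        (cokernel ι).presheaf.map (homOfLE hUW).op (π.app W f) :=
      app_res π hUW f
    have h1 : π.app U g = 0 := by
      have hf' : π.app W f = σ := hf
      have e2 : π.app U g = π.app U (X.presheaf.map (homOfLE hUW).op f) -
          π.app U (1 : Γ(X, U)) := map_sub (π.app U).hom _ _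
      rw [e2, e1, hf', hσ1, sub_self]
    obtain ⟨t, ht⟩ := (mem_range_mono_iff ι U _).mpr h1
    have h2 : g ∈ J.ideal ⟨U, hU⟩ :=
      (exists_idealModι_app_eq_iff J ⟨U, hU⟩ _).mp ⟨t, ht⟩
    have h3 := notMem_basicOpen_of_mem_vanishingIdeal Z ⟨U, hU⟩ _ h2 x hxU hxZ
    have h4 : ¬ IsUnit (X.presheaf.germ U x hxU
        (X.presheaf.map (homOfLE hUW).op f - 1)) := by
      intro hu; exact h3 ((X.mem_basicOpen _ x hxU).mpr hu)
    have h5 : IsUnit (X.presheaf.germ U x hxU (X.presheaf.map (homOfLE hUW).op f)) := by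
      rw [map_sub, map_one] at h4
      have h6 := IsLocalRing.isUnit_or_isUnit_of_isUnit_add
        (a := X.presheaf.germ U x hxU (X.presheaf.map (homOfLE hUW).op f))
        (b := 1 - X.presheaf.germ U x hxU (X.presheaf.map (homOfLE hUW).op f))
        (by rw [add_sub_cancel]; exact isUnit_one)
      rcases h6 with h6 | h6
      · exact h6
      · exfalso
        apply h4
        have : X.presheaf.germ U x hxU (X.presheaf.map (homOfLE hUW).op f) - 1 =
            -(1 - X.presheaf.germ U x hxU (X.presheaf.map (homOfLE hUW).op f)) := by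
          ring
        rw [this]
        exact h6.neg
    have h7 : x ∈ X.basicOpen (X.presheaf.map (homOfLE hUW).op f) :=
      (X.mem_basicOpen _ x hxU).mpr h5
    rw [X.basicOpen_res] at h7
    exact h7.2
  · intro y hy
    by_contra hyU
    have hyW : y ∈ W := X.basicOpen_le f hy
    have hyc : y ∉ closure ({x} : Set X) := fun h => hyU ((hx y hyW h) ▸ hxU)
    have hyV₀ : y ∈ V₀ := ⟨hyW, hyc⟩
    obtain ⟨W', hW', hyW', hWV₀⟩ := exists_isAffineOpen_mem_and_subset (x := y) (U := V₀) hyV₀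
    have hW'W : W' ≤ W := hWV₀.trans hV₀W
    have e1 : π.app W' (X.presheaf.map (homOfLE hW'W).op f) =
        (cokernel ι).presheaf.map (homOfLE hW'W).op (π.app W f) :=
      app_res π hW'W f
    have h1 : π.app W' (X.presheaf.map (homOfLE hW'W).op f) = 0 := by
      have hf' : π.app W f = σ := hf
      rw [e1, hf', ← res_res (cokernel ι) hV₀W hWV₀, hσ2, map_zero]
    obtain ⟨t, ht⟩ := (mem_range_mono_iff ι W' _).mpr h1
    have h2 : X.presheaf.map (homOfLE hW'W).op f ∈ J.ideal ⟨W', hW'⟩ :=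
      (exists_idealModι_app_eq_iff J ⟨W', hW'⟩ _).mp ⟨t, ht⟩
    have h3 := notMem_basicOpen_of_mem_vanishingIdeal Z ⟨W', hW'⟩ _ h2 y hyW' (Or.inl hyU)
    apply h3
    rw [X.basicOpen_res]
    exact ⟨hyW', hy⟩

/-- **Steps 2–3**: finitely many affine basic opens of sections over `W` cover `W`. -/
theorem exists_finset_affine_basicOpen_cover {W : X.Opens} (hA : Hyp W)
    (hc : IsCompact (W : Set X)) :
    ∃ s : Finset Γ(X, W), (∀ f ∈ s, IsAffineOpen (X.basicOpen f)) ∧
      ∀ x ∈ W, ∃ f ∈ s, x ∈ X.basicOpen f := by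
  classical
  let 𝒮 : Set Γ(X, W) := {f | IsAffineOpen (X.basicOpen f)}
  have hcover : (W : Set X) ⊆ ⋃ f ∈ 𝒮, (X.basicOpen f : Set X) := by
    by_contra hne
    have hopen : IsOpen (⋃ f ∈ 𝒮, (X.basicOpen f : Set X)) :=
      isOpen_biUnion fun f _ => (X.basicOpen f).2
    haveI : CompactSpace ↥(W : Set X) := isCompact_iff_compactSpace.mp hc
    let S' : Set ↥(W : Set X) := Subtype.val ⁻¹' (⋃ f ∈ 𝒮, (X.basicOpen f : Set X))ᶜ
    have hcl : IsClosed S' := (hopen.isClosed_compl).preimage continuous_subtype_val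
    have hnonempty : S'.Nonempty := by
      rw [Set.not_subset] at hne
      obtain ⟨y, hyW, hy⟩ := hne
      exact ⟨⟨y, hyW⟩, hy⟩
    obtain ⟨x', hxS, hx'⟩ := hcl.exists_closed_singleton hnonempty
    have hx : ∀ y ∈ W, y ∈ closure ({x'.1} : Set X) → y = x'.1 := by
      intro y hyW hyc
      have h1 : (⟨y, hyW⟩ : ↥(W : Set X)) ∈ closure ({x'} : Set ↥(W : Set X)) := by
        rw [closure_subtype, Set.image_singleton]
        exact hyc
      rw [hx'.closure_eq] at h1
      exact congrArg Subtype.val (Set.mem_singleton_iff.1 h1)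
    obtain ⟨U, hU, hxU, hUW⟩ := exists_isAffineOpen_mem_and_subset (x := x'.1) (U := W) x'.2
    obtain ⟨f, hxf, hfU⟩ := exists_basicOpen_of_closedPoint hA x'.1 hx U hU hUW hxU
    apply hxS
    refine Set.mem_biUnion (x := f) ?_ hxf
    change IsAffineOpen (X.basicOpen f)
    have h1 : X.basicOpen f = X.basicOpen (X.presheaf.map (homOfLE hUW).op f) := by
      rw [X.basicOpen_res]; exact (inf_eq_right.mpr hfU).symm
    rw [h1]
    exact hU.basicOpen _
  obtain ⟨t, ht𝒮, htfin, htcov⟩ := hc.elim_finite_subcover_image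
    (b := 𝒮) (c := fun f => (X.basicOpen f : Set X)) (fun f _ => (X.basicOpen f).2) hcover
  refine ⟨htfin.toFinset, fun f hf => ?_, fun x hxW => ?_⟩
  · exact ht𝒮 (htfin.mem_toFinset.mp hf)
  · obtain ⟨f, hf, hxf⟩ := Set.mem_iUnion₂.mp (htcov hxW)
    exact ⟨f, htfin.mem_toFinset.mpr hf, hxf⟩

end Groth.Agent.H2.SerreRel
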