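import Groth.Agent.Lib.Helper2.SerreRelA
import Groth.Agent.Lib.Helper2.SerreRelB

/-!
# Relative Serre criterion, final step (helper2)

If finitely many affine basic opens `X.basicOpen g`, `g ∈ Γ(X, W)`, cover the quasi-compact
quasi-separated open `W` and restriction to reduced closed subschemes is surjective on sections
over `W`, then the `g` generate the unit ideal; hence `W` is affine.
-/

set_option autoImplicit false
universe u
open CategoryTheory Limits AlgebraicGeometry TopologicalSpace Opposite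

namespace Groth.Agent.H2.SerreRel

open Groth.Agent.LD Groth.Agent.LD.QC

variable {X : Scheme.{u}}

/-- membership in the vanishing ideal of the closure of a point. -/
lemma mem_vanishingIdeal_closure_iff (x : X) (D : X.affineOpens) (r : Γ(X, D.1)) :
    r ∈ (Scheme.IdealSheafData.vanishingIdeal
      ⟨closure ({x} : Set X), isClosed_closure⟩).ideal D ↔ x ∉ X.basicOpen r := by
  constructor
  · intro hr hx
    have hxD : x ∈ D.1 := X.basicOpen_le r hx
    exact notMem_basicOpen_of_mem_vanishingIdeal _ D r hr x hxD (subset_closure rfl) hx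
  · intro hx
    rw [Scheme.IdealSheafData.vanishingIdeal_ideal, PrimeSpectrum.mem_vanishingIdeal]
    intro q hq
    by_contra hrq
    have h1 : D.2.fromSpec q ∈ X.basicOpen r := by
      have : q ∈ D.2.fromSpec ⁻¹ᵁ X.basicOpen r := by
        rw [D.2.fromSpec_preimage_basicOpen]; exact hrq
      exact this
    obtain ⟨z, hz1, hz2⟩ := mem_closure_iff.1 hq (X.basicOpen r) (X.basicOpen r).2 h1
    rw [Set.mem_singleton_iff.1 hz2] at hz1
    exact hx hz1

/-- evaluation is compatible with restriction. -/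
lemma evaluation_res (x : X) {D D' : X.Opens} (h : D' ≤ D) (hx : x ∈ D') (r : Γ(X, D)) :
    X.evaluation D' x hx (X.presheaf.map (homOfLE h).op r) = X.evaluation D x (h hx) r := by
  change X.residue x (X.presheaf.germ D' x hx (X.presheaf.map (homOfLE h).op r)) =
    X.residue x (X.presheaf.germ D x (h hx) r)
  rw [TopCat.Presheaf.germ_res_apply]


lemma π_res {M : X.Modules} (φ : unitMod X ⟶ M) {U V : X.Opens} (h : V ≤ U) (r : Γ(X, U)) :
    φ.app V (X.presheaf.map (homOfLE h).op r) = M.presheaf.map (homOfLE h).op (φ.app U r) :=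
  app_res φ h r

lemma π_sub {M : X.Modules} (φ : unitMod X ⟶ M) (U : X.Opens) (a b : Γ(X, U)) :
    φ.app U (a - b) = φ.app U a - φ.app U b := map_sub (φ.app U).hom _ _

set_option maxHeartbeats 1600000 in
/-- **the covering basic opens generate the unit ideal.** -/
theorem span_eq_top {W : X.Opens} (hA : Hyp W) (hc : IsCompact (W : Set X))
    (hq : IsQuasiSeparated (W : Set X)) (s : Finset Γ(X, W))
    (hs1 : ∀ f ∈ s, IsAffineOpen (X.basicOpen f))
    (hs2 : ∀ x ∈ W, ∃ f ∈ s, x ∈ X.basicOpen f) :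
    Ideal.span (s : Set Γ(X, W)) = ⊤ := by
  classical
  by_contra hne
  obtain ⟨m, hm, hsm⟩ := Ideal.exists_le_maximal _ hne
  haveI : m.IsPrime := hm.isPrime
  have hsm' : ∀ g ∈ s, g ∈ m := fun g hg => hsm (Ideal.subset_span hg)
  -- an initial good prime
  have hgood : ∃ p₀, p₀ ∈ Good m s := by
    by_contra hno
    push Not at hno
    have hall : ∀ p : Ideal Γ(X, W), p.IsPrime → p ≤ m → ∀ g ∈ s, g ∈ p := by
      intro p hp hpm g hg
      by_contra hgp
      exact hno p ⟨hp, hpm, g, hg, hgp⟩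
    obtain ⟨T, hTm, hT⟩ := exists_mul_pow_eq_zero_finset m s hall
    have hT0 : T = 0 := by
      apply TopCat.Sheaf.eq_of_locally_eq' X.sheaf (fun g : s => X.basicOpen g.1) W
        (fun g => homOfLE (X.basicOpen_le g.1)) ?_ T 0
      · intro g
        obtain ⟨n, hn⟩ := hT g.1 g.2
        have hu : IsUnit (X.presheaf.map (homOfLE (X.basicOpen_le g.1)).op g.1) :=
          X.toRingedSpace.isUnit_res_basicOpen g.1
        have h1 : X.presheaf.map (homOfLE (X.basicOpen_le g.1)).op T *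
            (X.presheaf.map (homOfLE (X.basicOpen_le g.1)).op g.1) ^ n = 0 := by
          rw [← map_pow, ← map_mul, hn, map_zero]
        have h2 := (hu.pow n).mul_left_eq_zero.1 h1
        change X.presheaf.map (homOfLE (X.basicOpen_le g.1)).op T =
          X.presheaf.map (homOfLE (X.basicOpen_le g.1)).op 0
        rw [map_zero]; exact h2
      · intro x hx
        obtain ⟨g, hg, hxg⟩ := hs2 x hx
        exact Opens.mem_iSup.mpr ⟨⟨g, hg⟩, hxg⟩
    exact hTm (hT0 ▸ m.zero_mem)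
  obtain ⟨p₀, hp₀⟩ := hgood
  obtain ⟨p, hp, hmax⟩ := exists_maximal_good m s p₀ hp₀
  haveI hpp : p.IsPrime := hp.1
  have hpm : p ≤ m := hp.2.1
  obtain ⟨g₀, hg₀s, hg₀p⟩ := hp.2.2
  have hg₀m : g₀ ∈ m := hsm' g₀ hg₀s
  obtain ⟨t, htm, k, hk⟩ := exists_uniform m s p hp hmax g₀ hg₀m hg₀p
  -- the point `x`
  have hD₀ : IsAffineOpen (X.basicOpen g₀) := hs1 g₀ hg₀s
  letI alg : Algebra Γ(X, W) Γ(X, X.basicOpen g₀) :=
    (X.presheaf.map (homOfLE (X.basicOpen_le g₀)).op).hom.toAlgebra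
  haveI hloc : IsLocalization.Away g₀ Γ(X, X.basicOpen g₀) :=
    isLocalization_basicOpen_of_qcqs hc hq g₀
  have hdisj : Disjoint (Submonoid.powers g₀ : Set Γ(X, W)) (p : Set Γ(X, W)) := by
    rw [Set.disjoint_left]
    rintro z ⟨n, rfl⟩ hz
    exact hg₀p (hpp.mem_of_pow_mem n hz)
  have hP : (Ideal.map (algebraMap Γ(X, W) Γ(X, X.basicOpen g₀)) p).IsPrime :=
    IsLocalization.isPrime_of_isPrime_disjoint (Submonoid.powers g₀) _ p hpp hdisj
  have hcomap : Ideal.comap (algebraMap Γ(X, W) Γ(X, X.basicOpen g₀))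
      (Ideal.map (algebraMap Γ(X, W) Γ(X, X.basicOpen g₀)) p) = p :=
    IsLocalization.under_map_of_isPrime_disjoint (Submonoid.powers g₀) _ hpp hdisj
  obtain ⟨x, hxdef⟩ : ∃ x : X, x = hD₀.fromSpec ⟨_, hP⟩ := ⟨_, rfl⟩
  have hxD₀ : x ∈ X.basicOpen g₀ := by
    rw [hxdef]
    have : hD₀.fromSpec ⟨_, hP⟩ ∈ Set.range hD₀.fromSpec := ⟨_, rfl⟩
    rw [hD₀.range_fromSpec] at this
    exact this
  have hxW : x ∈ W := X.basicOpen_le g₀ hxD₀
  have hK : ∀ a : Γ(X, W), x ∈ X.basicOpen a ↔ a ∉ p := by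
    intro a
    have h1 : x ∈ X.basicOpen a ↔
        x ∈ X.basicOpen (X.presheaf.map (homOfLE (X.basicOpen_le g₀)).op a) := by
      rw [X.basicOpen_res]
      exact ⟨fun h => ⟨hxD₀, h⟩, fun h => h.2⟩
    rw [h1, hxdef]
    have h2 : hD₀.fromSpec ⟨_, hP⟩ ∈
        X.basicOpen (X.presheaf.map (homOfLE (X.basicOpen_le g₀)).op a) ↔
        (⟨_, hP⟩ : PrimeSpectrum Γ(X, X.basicOpen g₀)) ∈
          hD₀.fromSpec ⁻¹ᵁ X.basicOpen (X.presheaf.map (homOfLE (X.basicOpen_le g₀)).op a) :=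
      Iff.rfl
    rw [h2, hD₀.fromSpec_preimage_basicOpen]
    change X.presheaf.map (homOfLE (X.basicOpen_le g₀)).op a ∉
        Ideal.map (algebraMap Γ(X, W) Γ(X, X.basicOpen g₀)) p ↔ a ∉ p
    have h3 : X.presheaf.map (homOfLE (X.basicOpen_le g₀)).op a ∈
        Ideal.map (algebraMap Γ(X, W) Γ(X, X.basicOpen g₀)) p ↔ a ∈ p := by
      conv_rhs => rw [← hcomap]
      rfl
    exact not_congr h3
  -- evaluation at `x`
  have hev0 : ∀ a : Γ(X, W), X.evaluation W x hxW a = 0 ↔ a ∈ p := by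
    intro a
    rw [Scheme.evaluation_eq_zero_iff_notMem_basicOpen, hK, not_not]
  have hevg₀ : X.evaluation W x hxW g₀ ≠ 0 := fun h => hg₀p ((hev0 g₀).1 h)
  -- the closed set and the quotient
  let Z : Closeds X := ⟨closure ({x} : Set X), isClosed_closure⟩
  let J := Scheme.IdealSheafData.vanishingIdeal Z
  let ι := ClSub.idealModι J
  let π : unitMod X ⟶ cokernel ι := cokernel.π ι
  let U : s → X.Opens := fun i => X.basicOpen i.1
  have hUW : ∀ i, U i ≤ W := fun i => X.basicOpen_le i.1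
  have hxU : ∀ i : s, i.1 ∉ p → x ∈ U i := fun i h => (hK i.1).2 h
  have hpU : ∀ i : s, x ∈ U i → i.1 ∉ p := fun i h => (hK i.1).1 h
  have hu : ∀ i : s, IsUnit (X.presheaf.map (homOfLE (hUW i)).op i.1) := fun i =>
    X.toRingedSpace.isUnit_res_basicOpen i.1
  -- local sections
  let y : ∀ i : s, Γ(X, U i) := fun i =>
    if h : i.1 ∈ p then 0 else
      X.presheaf.map (homOfLE (hUW i)).op (Classical.choose (hk i.1 i.2 h)) *
        (((hu i).unit⁻¹ : (Γ(X, U i))ˣ) : Γ(X, U i)) ^ k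
  have hy : ∀ (i : s) (h : i.1 ∉ p),
      X.evaluation W x hxW g₀ * X.evaluation (U i) x (hxU i h) (y i) =
        X.evaluation W x hxW t := by
    intro i h
    have hc' := Classical.choose_spec (hk i.1 i.2 h)
    have hyi : y i = X.presheaf.map (homOfLE (hUW i)).op (Classical.choose (hk i.1 i.2 h)) *
        (((hu i).unit⁻¹ : (Γ(X, U i))ˣ) : Γ(X, U i)) ^ k := dif_neg h
    set c := Classical.choose (hk i.1 i.2 h) with hcdef
    have e1 : X.evaluation W x hxW (t * i.1 ^ k - g₀ * c) = 0 := (hev0 _).2 hc'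
    rw [map_sub, map_mul, map_mul, map_pow, sub_eq_zero] at e1
    have e2 : X.evaluation (U i) x (hxU i h) (X.presheaf.map (homOfLE (hUW i)).op i.1) *
        X.evaluation (U i) x (hxU i h) (((hu i).unit⁻¹ : (Γ(X, U i))ˣ) : Γ(X, U i)) = 1 := by
      rw [← map_mul]
      have : X.presheaf.map (homOfLE (hUW i)).op i.1 *
          (((hu i).unit⁻¹ : (Γ(X, U i))ˣ) : Γ(X, U i)) = 1 := (hu i).mul_val_inv
      rw [this, map_one]
    rw [evaluation_res x (hUW i) (hxU i h)] at e2
    rw [hyi, map_mul, map_pow, evaluation_res x (hUW i) (hxU i h)]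
    calc X.evaluation W x hxW g₀ * (X.evaluation W x hxW c *
          X.evaluation (U i) x (hxU i h) (((hu i).unit⁻¹ : (Γ(X, U i))ˣ) : Γ(X, U i)) ^ k)
        = (X.evaluation W x hxW g₀ * X.evaluation W x hxW c) *
          X.evaluation (U i) x (hxU i h) (((hu i).unit⁻¹ : (Γ(X, U i))ˣ) : Γ(X, U i)) ^ k := by
          ring
      _ = (X.evaluation W x hxW t * X.evaluation W x hxW i.1 ^ k) *
          X.evaluation (U i) x (hxU i h) (((hu i).unit⁻¹ : (Γ(X, U i))ˣ) : Γ(X, U i)) ^ k := by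
          rw [e1]
      _ = X.evaluation W x hxW t * (X.evaluation W x hxW i.1 *
          X.evaluation (U i) x (hxU i h) (((hu i).unit⁻¹ : (Γ(X, U i))ˣ) : Γ(X, U i))) ^ k := by
          ring
      _ = X.evaluation W x hxW t := by rw [e2, one_pow, mul_one]
  -- membership in the ideal over affine opens
  have hJ : ∀ (D : X.affineOpens) (r : Γ(X, D.1)), x ∉ X.basicOpen r → π.app D.1 r = 0 := by
    intro D r hr
    have h1 : r ∈ J.ideal D := (mem_vanishingIdeal_closure_iff x D r).2 hr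
    obtain ⟨t', ht'⟩ := (exists_idealModι_app_eq_iff J D r).mpr h1
    exact (mem_range_mono_iff ι D.1 r).mp ⟨t', ht'⟩
  have hJ' : ∀ (D : X.affineOpens) (r : Γ(X, D.1)), π.app D.1 r = 0 → x ∉ X.basicOpen r := by
    intro D r hr
    obtain ⟨t', ht'⟩ := (mem_range_mono_iff ι D.1 r).mpr hr
    have h1 : r ∈ J.ideal D := (exists_idealModι_app_eq_iff J D r).mp ⟨t', ht'⟩
    exact (mem_vanishingIdeal_closure_iff x D r).1 h1
  -- compatibility
  let sf : ∀ i : s, Γ(cokernel ι, U i) := fun i => π.app (U i) (y i)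
  have haff : ∀ i j : s, IsAffineOpen (U i ⊓ U j) := by
    intro i j
    have h1 : X.basicOpen (X.presheaf.map (homOfLE (hUW i)).op j.1) = U i ⊓ U j :=
      X.basicOpen_res _ _
    rw [← h1]
    exact (hs1 i.1 i.2).basicOpen _
  have hcompat : TopCat.Presheaf.IsCompatible (cokernel ι).presheaf U sf := by
    intro i j
    change (cokernel ι).presheaf.map (homOfLE (inf_le_left : U i ⊓ U j ≤ U i)).op
        (π.app (U i) (y i)) =
      (cokernel ι).presheaf.map (homOfLE (inf_le_right : U i ⊓ U j ≤ U j)).op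
        (π.app (U j) (y j))
    rw [← π_res π inf_le_left (y i), ← π_res π inf_le_right (y j), ← sub_eq_zero, ← π_sub]
    apply hJ ⟨U i ⊓ U j, haff i j⟩
    intro hx
    have hxij : x ∈ U i ⊓ U j := X.basicOpen_le _ hx
    have hi : i.1 ∉ p := hpU i hxij.1
    have hj : j.1 ∉ p := hpU j hxij.2
    have hne0 := (Scheme.evaluation_ne_zero_iff_mem_basicOpen X x hxij _).2 hx
    apply hne0
    rw [map_sub, evaluation_res x inf_le_left hxij, evaluation_res x inf_le_right hxij]
    have h1 := hy i hi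
    have h2 := hy j hj
    have h3 : X.evaluation W x hxW g₀ * (X.evaluation (U i) x (hxU i hi) (y i) -
        X.evaluation (U j) x (hxU j hj) (y j)) = 0 := by
      rw [mul_sub, h1, h2, sub_self]
    rcases mul_eq_zero.1 h3 with h4 | h4
    · exact absurd h4 hevg₀
    · exact h4
  have hcov : W ≤ iSup U := by
    intro z hz
    obtain ⟨g, hg, hzg⟩ := hs2 z hz
    exact Opens.mem_iSup.mpr ⟨⟨g, hg⟩, hzg⟩
  obtain ⟨σ, hσ, -⟩ := TopCat.Sheaf.existsUnique_gluing' ⟨_, (cokernel ι).isSheaf⟩ U W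
    (fun i => homOfLE (hUW i)) hcov sf hcompat
  obtain ⟨a, ha⟩ : ∃ a : Γ(X, W), π.app W a = σ := hA Z σ
  -- compare on `U i₀`
  let i₀ : s := ⟨g₀, hg₀s⟩
  have e1 : π.app (U i₀) (X.presheaf.map (homOfLE (hUW i₀)).op a) = π.app (U i₀) (y i₀) := by
    rw [π_res π (hUW i₀) a, ha]
    exact hσ i₀
  have e2 : π.app (U i₀) (X.presheaf.map (homOfLE (hUW i₀)).op a - y i₀) = 0 := by
    rw [π_sub, e1, sub_self]
  have e3 := hJ' ⟨U i₀, hD₀⟩ _ e2
  have e4 := (Scheme.evaluation_eq_zero_iff_notMem_basicOpen X x (hxU i₀ hg₀p) _).2 e3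
  rw [map_sub, evaluation_res x (hUW i₀) (hxU i₀ hg₀p), sub_eq_zero] at e4
  have e5 : X.evaluation W x hxW (g₀ * a - t) = 0 := by
    rw [map_sub, map_mul, e4, hy i₀ hg₀p, sub_self]
  have e6 : g₀ * a - t ∈ p := (hev0 _).1 e5
  apply htm
  have : t = g₀ * a - (g₀ * a - t) := by ring
  rw [this]
  exact m.sub_mem (m.mul_mem_right _ hg₀m) (hpm e6)

/-- **Relative Serre criterion.** -/
theorem isAffineOpen_of_hyp {W : X.Opens} (hA : Hyp W) (hc : IsCompact (W : Set X))
    (hq : IsQuasiSeparated (W : Set X)) : IsAffineOpen W := by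
  obtain ⟨s, hs1, hs2⟩ := exists_finset_affine_basicOpen_cover hA hc
  exact isAffineOpen_of_isAffineOpen_basicOpen W (s : Set Γ(X, W))
    (span_eq_top hA hc hq s hs1 hs2) (fun f hf => hs1 f (Finset.mem_coe.mp hf))

end Groth.Agent.H2.SerreRel
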