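import Groth.Agent.Lib.Helper2.SerreRelC
import Groth.Agent.Lib.Lead.PS.FormalClosed

/-!
# Relative Serre criterion for morphisms (helper2)

A quasi-compact quasi-separated morphism `f : X ⟶ Y` is affine as soon as, for every closed subset
`Z` of `X`, the direct image of `O_X → O_X / I_Z` (`I_Z` the radical ideal of `Z`) is an epimorphism.
No quasi-separatedness of `Y` is needed: the radical ideal of the closure in `X` of a closed subset
of `f⁻¹ V` restricts to the radical ideal of that subset.
-/

set_option autoImplicit false
universe u
open CategoryTheory Limits AlgebraicGeometry TopologicalSpace Opposite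

namespace Groth.Agent.H2.SerreRel

open Groth.Agent.LD Groth.Agent.LD.QC

theorem isAffineHom_of_epi_push {X Y : Scheme.{u}} (f : X ⟶ Y) [QuasiCompact f]
    [QuasiSeparated f]
    (h : ∀ Z : Closeds X, Epi ((Scheme.Modules.pushforward f).map
      (cokernel.π (ClSub.idealModι (Scheme.IdealSheafData.vanishingIdeal Z))))) :
    IsAffineHom f := by
  refine ⟨fun V hV => ?_⟩
  apply isAffineOpen_of_hyp ?_ (f.isCompact_preimage hV.isCompact)
    (f.isQuasiSeparated_preimage hV.isQuasiSeparated)
  intro Z
  haveI := h Z
  have hI : (ClSub.idealMod (Scheme.IdealSheafData.vanishingIdeal Z)).IsQuasicoherent :=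
    inferInstance
  have hO : (unitMod X).IsQuasicoherent := inferInstance
  have hQ : (cokernel (ClSub.idealModι (Scheme.IdealSheafData.vanishingIdeal Z))).IsQuasicoherent :=
    qc_cokernel _ hI hO
  haveI q1 : ((Scheme.Modules.pushforward f).obj (unitMod X)).IsQuasicoherent :=
    qc_pushforward f _
  haveI q2 : ((Scheme.Modules.pushforward f).obj
      (cokernel (ClSub.idealModι (Scheme.IdealSheafData.vanishingIdeal Z)))).IsQuasicoherent := by
    haveI := hQ
    exact qc_pushforward f _
  exact PS.app_surjective_of_epi ((Scheme.Modules.pushforward f).map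
      (cokernel.π (ClSub.idealModι (Scheme.IdealSheafData.vanishingIdeal Z))))
    (qc_kernel _ q1 q2) hV

end Groth.Agent.H2.SerreRel
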