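import Groth.Agent.Lib.Helper2.SerreRelD
import Groth.Agent.Lib.Lead.PE.Shift
import Groth.Agent.Lib.Lead.SC.SerreCrit

/-!
# Relative Serre criterion from vanishing of `R¹ f_*` on radical ideals (helper2)
-/

set_option autoImplicit false
universe u
open CategoryTheory Limits AlgebraicGeometry TopologicalSpace Opposite

namespace Groth.Agent.H2.SerreRel

open Groth.Agent.LD Groth.Agent.LD.QC

/-- the direct image of `O_X → O_X / I` is an epimorphism when `R¹ f_* I = 0` (abelian sheaves). -/
theorem epi_push_of_isZero_R1 {X Y : Scheme.{u}} (f : X ⟶ Y) {I : X.Modules}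
    (i : I ⟶ unitMod X) [Mono i]
    (h : IsZero ((Coh.RpushAb f 1).obj (Coh.toAb I))) :
    Epi ((Scheme.Modules.pushforward f).map (cokernel.π i)) := by
  let S : ShortComplex X.Modules := ShortComplex.mk i (cokernel.π i) (cokernel.condition i)
  have hS : S.ShortExact :=
    { exact := ShortComplex.exact_of_g_is_cokernel _ (cokernelIsCokernel i)
      mono_f := inferInstanceAs (Mono i)
      epi_g := inferInstanceAs (Epi (cokernel.π i)) }
  have hS' := SC.shortExact_toSheaf hS
  haveI : PreservesLimits (Coh.pushAb f) :=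
    (Adjunction.ofIsRightAdjoint (Coh.pushAb f)).rightAdjoint_preservesLimits
  haveI : PreservesFiniteLimits (Coh.pushAb f) := inferInstance
  have hS'' := PE.shortExact_map_of_isZero_R1 (Coh.pushAb f) hS' h
  have hepi : Epi ((Coh.pushAb f).map ((SC.toAbF X).map (cokernel.π i))) := hS''.epi_g
  have hepi' : Epi ((SheafOfModules.toSheaf Y.ringCatSheaf).map
      ((Scheme.Modules.pushforward f).map (cokernel.π i))) := hepi
  exact Functor.epi_of_epi_map (SheafOfModules.toSheaf Y.ringCatSheaf) hepi'

/-- **EGA II 5.2.2 (c') ⇒ (a)** in a form using only radical ideals. -/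
theorem isAffineHom_of_isZero_R1 {X Y : Scheme.{u}} (f : X ⟶ Y) [QuasiCompact f]
    [QuasiSeparated f]
    (h : ∀ Z : Closeds X, IsZero ((Coh.RpushAb f 1).obj
      (Coh.toAb (ClSub.idealMod (Scheme.IdealSheafData.vanishingIdeal Z))))) :
    IsAffineHom f :=
  isAffineHom_of_epi_push f (fun Z => epi_push_of_isZero_R1 f _ (h Z))

end Groth.Agent.H2.SerreRel
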