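import Groth.Agent.Lib.Helper2.CubeRoot

/-!
# The shift involution `c ↦ c + m(a, b)` of `R[[a, b, c]]` in characteristic two

Helper library (helper2) for S13128.
-/

namespace Groth.Agent.H2.FormalIFT

open MvPowerSeries

variable {R : Type*} [CommRing R]

/-- the substitution family `a ↦ a, b ↦ b, c ↦ c + m` -/
noncomputable def shiftFam (m : MvPowerSeries (Fin 3) R) : Fin 3 → MvPowerSeries (Fin 3) R :=
  ![X 0, X 1, X 2 + m]

lemma hasSubst_shiftFam (m : MvPowerSeries (Fin 3) R) (hm0 : constantCoeff m = 0) :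
    HasSubst (shiftFam m) := by
  apply hasSubst_of_constantCoeff_zero
  intro s
  fin_cases s <;> simp [shiftFam, hm0]

section CharTwo

variable [CharP R 2]

lemma shift_comp (m : MvPowerSeries (Fin 3) R) (hm0 : constantCoeff m = 0)
    (hinv : subst (shiftFam m) m = m) (p : MvPowerSeries (Fin 3) R) :
    subst (shiftFam m) (subst (shiftFam m) p) = p := by
  have ha := hasSubst_shiftFam m hm0
  rw [subst_comp_subst_apply ha ha]
  have h2 : (2 : MvPowerSeries (Fin 3) R) = 0 := by
    have : (2 : R) = 0 := CharTwo.two_eq_zero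
    rw [show (2 : MvPowerSeries (Fin 3) R) = C (2 : R) by rw [map_ofNat], this, map_zero]
  have : (fun s => subst (shiftFam m) (shiftFam m s)) =
      (X : Fin 3 → MvPowerSeries (Fin 3) R) := by
    funext s
    fin_cases s
    · change subst (shiftFam m) (X 0) = X 0
      rw [subst_X ha]; rfl
    · change subst (shiftFam m) (X 1) = X 1
      rw [subst_X ha]; rfl
    · change subst (shiftFam m) (X 2 + m) = X 2
      rw [subst_add ha, subst_X ha, hinv]
      change X 2 + m + m = X 2
      linear_combination m * h2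
  rw [this, subst_self]
  rfl

/-- the shift involution as an algebra automorphism -/
noncomputable def shiftEquiv (m : MvPowerSeries (Fin 3) R) (hm0 : constantCoeff m = 0)
    (hinv : subst (shiftFam m) m = m) : MvPowerSeries (Fin 3) R ≃ₐ[R] MvPowerSeries (Fin 3) R :=
  AlgEquiv.ofAlgHom (substAlgHom (R := R) (hasSubst_shiftFam m hm0))
    (substAlgHom (R := R) (hasSubst_shiftFam m hm0))
    (by
      apply AlgHom.ext
      intro p
      simp only [AlgHom.coe_comp, Function.comp_apply, substAlgHom_apply, AlgHom.coe_id, id_eq]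
      exact shift_comp m hm0 hinv p)
    (by
      apply AlgHom.ext
      intro p
      simp only [AlgHom.coe_comp, Function.comp_apply, substAlgHom_apply, AlgHom.coe_id, id_eq]
      exact shift_comp m hm0 hinv p)

lemma shiftEquiv_X0 (m : MvPowerSeries (Fin 3) R) (hm0 : constantCoeff m = 0)
    (hinv : subst (shiftFam m) m = m) : shiftEquiv m hm0 hinv (X 0) = X 0 := by
  change substAlgHom (R := R) (hasSubst_shiftFam m hm0) (X 0) = X 0
  rw [substAlgHom_X]; rfl

lemma shiftEquiv_X1 (m : MvPowerSeries (Fin 3) R) (hm0 : constantCoeff m = 0)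
    (hinv : subst (shiftFam m) m = m) : shiftEquiv m hm0 hinv (X 1) = X 1 := by
  change substAlgHom (R := R) (hasSubst_shiftFam m hm0) (X 1) = X 1
  rw [substAlgHom_X]; rfl

lemma shiftEquiv_X2 (m : MvPowerSeries (Fin 3) R) (hm0 : constantCoeff m = 0)
    (hinv : subst (shiftFam m) m = m) : shiftEquiv m hm0 hinv (X 2) = X 2 + m := by
  change substAlgHom (R := R) (hasSubst_shiftFam m hm0) (X 2) = X 2 + m
  rw [substAlgHom_X]; rfl

lemma shiftEquiv_C (m : MvPowerSeries (Fin 3) R) (hm0 : constantCoeff m = 0)
    (hinv : subst (shiftFam m) m = m) (r : R) : shiftEquiv m hm0 hinv (C r) = C r := by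
  rw [c_eq_algebraMap]
  exact (shiftEquiv m hm0 hinv).commutes r

end CharTwo

end Groth.Agent.H2.FormalIFT
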