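import Mathlib

/-! Sum over permutations of products of complementary block minors; sign of a shuffle.
(helper2, for S14879) -/

namespace Groth.Agent.H2.ShuffleSign

open Equiv Equiv.Perm Finset

universe u

lemma sign_eq_signAux {n : ℕ} (f : Perm (Fin n)) : Equiv.Perm.sign f = Equiv.Perm.signAux f := by
  by_cases hn : 2 ≤ n
  · have hs : Function.Surjective (MonoidHom.mk' (signAux (n := n)) signAux_mul) := by
      intro u
      rcases Int.units_eq_one_or u with rfl | rfl
      · exact ⟨1, map_one _⟩
      · refine ⟨swap (⟨0, by omega⟩ : Fin n) ⟨1, by omega⟩, ?_⟩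
        exact signAux_swap (by simp [Fin.ext_iff])
    have := Equiv.Perm.eq_sign_of_surjective_hom hs
    exact (congrArg (fun s => s f) this).symm
  · have : Subsingleton (Perm (Fin n)) := by
      have : Subsingleton (Fin n) := by
        rw [Fin.subsingleton_iff_le_one]; omega
      infer_instance
    rw [Subsingleton.elim f 1]
    simp

/-- `σ ⊕ τ` as a permutation of `Fin (p + r)` -/
noncomputable def blockPerm {p r : ℕ} (σ : Perm (Fin p)) (τ : Perm (Fin r)) : Perm (Fin (p + r)) :=
  finSumFinEquiv.permCongr (Equiv.sumCongr σ τ)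

lemma blockPerm_castAdd {p r : ℕ} (σ : Perm (Fin p)) (τ : Perm (Fin r)) (x : Fin p) :
    blockPerm σ τ (Fin.castAdd r x) = Fin.castAdd r (σ x) := by
  simp [blockPerm, Equiv.permCongr_apply]

lemma blockPerm_natAdd {p r : ℕ} (σ : Perm (Fin p)) (τ : Perm (Fin r)) (y : Fin r) :
    blockPerm σ τ (Fin.natAdd p y) = Fin.natAdd p (τ y) := by
  simp [blockPerm, Equiv.permCongr_apply]

lemma sign_blockPerm {p r : ℕ} (σ : Perm (Fin p)) (τ : Perm (Fin r)) :
    Equiv.Perm.sign (blockPerm σ τ) = Equiv.Perm.sign σ * Equiv.Perm.sign τ := by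
  rw [blockPerm, sign_permCongr, sign_sumCongr]

variable {k : Type u} [CommRing k]

/-- the main identity -/
theorem sum_perm_blocks {p r : ℕ} (N : Matrix (Fin (p + r)) (Fin (p + r)) k) :
    ∑ π : Perm (Fin (p + r)), (((Equiv.Perm.sign π : ℤˣ) : ℤ) : k) *
      ((N.submatrix id π.symm).submatrix (Fin.castAdd r) (Fin.castAdd r)).det *
      ((N.submatrix id π.symm).submatrix (Fin.natAdd p) (Fin.natAdd p)).det =
    ((p.factorial * r.factorial : ℕ) : k) * N.det := by
  classical
  have key : ∀ (σ : Perm (Fin p)) (τ : Perm (Fin r)),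
      ∑ π : Perm (Fin (p + r)), (((Equiv.Perm.sign π : ℤˣ) : ℤ) : k) *
        ((((Equiv.Perm.sign σ : ℤˣ) : ℤ) : k) *
          ∏ x : Fin p, N (Fin.castAdd r (σ x)) (π.symm (Fin.castAdd r x))) *
        ((((Equiv.Perm.sign τ : ℤˣ) : ℤ) : k) *
          ∏ y : Fin r, N (Fin.natAdd p (τ y)) (π.symm (Fin.natAdd p y))) = N.det := by
    intro σ τ
    rw [Matrix.det_apply']
    refine Fintype.sum_equiv (Equiv.mulLeft (blockPerm σ τ)) _ _ ?_
    intro π
    rw [Equiv.coe_mulLeft, Equiv.Perm.sign_mul, sign_blockPerm]
    have h1 : ∏ i : Fin (p + r), N ((blockPerm σ τ * π) i) i =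
        ∏ z : Fin (p + r), N (blockPerm σ τ z) (π.symm z) := by
      rw [← Equiv.prod_comp π (fun z => N (blockPerm σ τ z) (π.symm z))]
      simp
    rw [h1, Fin.prod_univ_add]
    simp only [blockPerm_castAdd, blockPerm_natAdd]
    push_cast
    ring
  calc ∑ π : Perm (Fin (p + r)), (((Equiv.Perm.sign π : ℤˣ) : ℤ) : k) *
        ((N.submatrix id π.symm).submatrix (Fin.castAdd r) (Fin.castAdd r)).det *
        ((N.submatrix id π.symm).submatrix (Fin.natAdd p) (Fin.natAdd p)).det
      = ∑ π : Perm (Fin (p + r)), ∑ σ : Perm (Fin p), ∑ τ : Perm (Fin r),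
          (((Equiv.Perm.sign π : ℤˣ) : ℤ) : k) *
          ((((Equiv.Perm.sign σ : ℤˣ) : ℤ) : k) *
            ∏ x : Fin p, N (Fin.castAdd r (σ x)) (π.symm (Fin.castAdd r x))) *
          ((((Equiv.Perm.sign τ : ℤˣ) : ℤ) : k) *
            ∏ y : Fin r, N (Fin.natAdd p (τ y)) (π.symm (Fin.natAdd p y))) := by
        apply Finset.sum_congr rfl
        intro π _
        rw [Matrix.det_apply', Matrix.det_apply', mul_assoc, Finset.sum_mul_sum, Finset.mul_sum]
        apply Finset.sum_congr rfl
        intro σ _
        rw [Finset.mul_sum]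
        apply Finset.sum_congr rfl
        intro τ _
        simp only [Matrix.submatrix_apply, id]
        ring
    _ = ∑ σ : Perm (Fin p), ∑ τ : Perm (Fin r), N.det := by
        rw [Finset.sum_comm]
        apply Finset.sum_congr rfl
        intro σ _
        rw [Finset.sum_comm]
        apply Finset.sum_congr rfl
        intro τ _
        exact key σ τ
    _ = ((p.factorial * r.factorial : ℕ) : k) * N.det := by
        simp only [Finset.sum_const, Finset.card_univ, Fintype.card_perm, Fintype.card_fin,
          nsmul_eq_mul]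
        push_cast
        ring

section Shuffle

variable {p r : ℕ} (A : Finset (Fin (p + r))) (hA : A.card = p) (B : Finset (Fin (p + r)))
  (hB : B.card = r)

/-- rows of `A` followed by rows of `B` -/
noncomputable def rho : Fin (p + r) → Fin (p + r) :=
  Fin.append (A.orderEmbOfFin hA) (B.orderEmbOfFin hB)

lemma rho_castAdd (x : Fin p) : rho A hA B hB (Fin.castAdd r x) = A.orderEmbOfFin hA x := by
  simp [rho]

lemma rho_natAdd (y : Fin r) : rho A hA B hB (Fin.natAdd p y) = B.orderEmbOfFin hB y := by
  simp [rho]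

lemma rho_injective (hAB : Disjoint A B) : Function.Injective (rho A hA B hB) := by
  intro x y hxy
  induction x using Fin.addCases with
  | left u =>
    induction y using Fin.addCases with
    | left u' =>
      rw [rho_castAdd, rho_castAdd] at hxy
      rw [(A.orderEmbOfFin hA).injective hxy]
    | right v' =>
      rw [rho_castAdd, rho_natAdd] at hxy
      exact absurd (hxy ▸ Finset.orderEmbOfFin_mem A hA u)
        (Finset.disjoint_right.mp hAB (Finset.orderEmbOfFin_mem B hB v'))
  | right v =>
    induction y using Fin.addCases with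
    | left u' =>
      rw [rho_castAdd, rho_natAdd] at hxy
      exact absurd (hxy ▸ Finset.orderEmbOfFin_mem A hA u')
        (Finset.disjoint_right.mp hAB (Finset.orderEmbOfFin_mem B hB v))
    | right v' =>
      rw [rho_natAdd, rho_natAdd] at hxy
      rw [(B.orderEmbOfFin hB).injective hxy]

lemma not_injective_of_ne (hne : B ≠ Aᶜ) : ¬ Function.Injective (rho A hA B hB) := by
  intro hinj
  apply hne
  have hdisj : Disjoint A B := by
    rw [Finset.disjoint_left]
    intro c hcA hcB
    have hcA' : c ∈ Set.range (A.orderEmbOfFin hA) := by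
      rw [Finset.range_orderEmbOfFin]; exact hcA
    have hcB' : c ∈ Set.range (B.orderEmbOfFin hB) := by
      rw [Finset.range_orderEmbOfFin]; exact hcB
    obtain ⟨u, hu⟩ := hcA'
    obtain ⟨v, hv⟩ := hcB'
    have : rho A hA B hB (Fin.castAdd r u) = rho A hA B hB (Fin.natAdd p v) := by
      rw [rho_castAdd, rho_natAdd, hu, hv]
    have h2 := hinj this
    have h3 := congrArg Fin.val h2
    simp at h3
    omega
  apply Finset.eq_of_subset_of_card_le
  · intro b hb
    rw [Finset.mem_compl]
    exact Finset.disjoint_right.mp hdisj hb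
  · rw [Finset.card_compl, hA, hB, Fintype.card_fin]
    omega

end Shuffle

section Sign

variable {p r : ℕ} (A : Finset (Fin (p + r))) (hA : A.card = p) (hAc : Aᶜ.card = r)

/-- the shuffle permutation -/
noncomputable def rhoPerm : Perm (Fin (p + r)) :=
  Equiv.ofBijective (rho A hA Aᶜ hAc)
    ((Finite.injective_iff_bijective).mp (rho_injective A hA Aᶜ hAc disjoint_compl_right))

lemma rhoPerm_apply (x : Fin (p + r)) : rhoPerm A hA hAc x = rho A hA Aᶜ hAc x := rfl

lemma sign_rhoPerm : ((Equiv.Perm.sign (rhoPerm A hA hAc) : ℤˣ) : ℤ) =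
    (-1) ^ ((A ×ˢ Aᶜ).filter (fun ab => ab.2 < ab.1)).card := by
  classical
  rw [sign_eq_signAux, signAux, Finset.prod_ite]
  simp only [Finset.prod_const, one_pow, mul_one]
  have hcard : ((finPairsLT (p + r)).filter
      (fun x => rhoPerm A hA hAc x.1 ≤ rhoPerm A hA hAc x.2)).card =
      ((A ×ˢ Aᶜ).filter (fun ab => ab.2 < ab.1)).card := by
    apply Finset.card_bij (fun x _ => (rhoPerm A hA hAc x.2, rhoPerm A hA hAc x.1))
    · rintro ⟨x1, x2⟩ hx
      rw [Finset.mem_filter, mem_finPairsLT] at hx
      obtain ⟨hlt, hle⟩ := hx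
      simp only at hlt hle
      rw [Finset.mem_filter, Finset.mem_product]
      simp only [rhoPerm_apply] at hle ⊢
      induction x1 using Fin.addCases with
      | left u1 =>
        induction x2 using Fin.addCases with
        | left u2 =>
          exfalso
          rw [rho_castAdd, rho_castAdd] at hle
          have : u2 < u1 := by
            have := Fin.lt_def.mp hlt; simp at this; exact Fin.lt_def.mpr this
          exact absurd ((A.orderEmbOfFin hA).lt_iff_lt.mpr this) (not_lt.mpr hle)
        | right v2 =>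
          exfalso
          have := Fin.lt_def.mp hlt
          simp at this
          omega
      | right v1 =>
        induction x2 using Fin.addCases with
        | left u2 =>
          rw [rho_castAdd, rho_natAdd] at hle ⊢
          refine ⟨⟨Finset.orderEmbOfFin_mem A hA u2, Finset.orderEmbOfFin_mem Aᶜ hAc v1⟩, ?_⟩
          refine lt_of_le_of_ne hle ?_
          intro h
          exact absurd (h ▸ Finset.orderEmbOfFin_mem Aᶜ hAc v1 : _ ∈ Aᶜ)
            (by rw [Finset.mem_compl, not_not]; exact Finset.orderEmbOfFin_mem A hA u2)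
        | right v2 =>
          exfalso
          rw [rho_natAdd, rho_natAdd] at hle
          have : v2 < v1 := by
            have := Fin.lt_def.mp hlt; simp at this; exact Fin.lt_def.mpr this
          exact absurd ((Aᶜ.orderEmbOfFin hAc).lt_iff_lt.mpr this) (not_lt.mpr hle)
    · rintro ⟨x1, x2⟩ _ ⟨y1, y2⟩ _ h
      simp only [Prod.mk.injEq, EmbeddingLike.apply_eq_iff_eq] at h
      obtain ⟨h2, h1⟩ := h
      subst h1 h2
      rfl
    · rintro ⟨a, b⟩ hab
      rw [Finset.mem_filter, Finset.mem_product] at hab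
      obtain ⟨⟨ha, hb⟩, hlt⟩ := hab
      simp only at ha hb hlt
      have ha' : a ∈ Set.range (A.orderEmbOfFin hA) := by
        rw [Finset.range_orderEmbOfFin]; exact ha
      have hb' : b ∈ Set.range (Aᶜ.orderEmbOfFin hAc) := by
        rw [Finset.range_orderEmbOfFin]; exact hb
      obtain ⟨u, rfl⟩ := ha'
      obtain ⟨v, rfl⟩ := hb'
      refine ⟨⟨Fin.natAdd p v, Fin.castAdd r u⟩, ?_, ?_⟩
      · rw [Finset.mem_filter, mem_finPairsLT]
        simp only [rhoPerm_apply, rho_castAdd, rho_natAdd]
        refine ⟨?_, hlt.le⟩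
        rw [Fin.lt_def]
        simp
        omega
      · simp only [rhoPerm_apply, rho_castAdd, rho_natAdd]
  rw [hcard]
  push_cast
  rfl

end Sign

/-- the final statement -/
theorem main {k : Type u} [Field k] (p r : ℕ) (M : Matrix (Fin (p + r)) (Fin (p + r)) k)
    (A : Finset (Fin (p + r))) (hA : A.card = p) (B : Finset (Fin (p + r))) (hB : B.card = r) :
    ∑ π : Equiv.Perm (Fin (p + r)), (((Equiv.Perm.sign π : ℤˣ) : ℤ) : k) *
      ((M * π.permMatrix k).submatrix (A.orderEmbOfFin hA) (Fin.castAdd r)).det *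
      ((M * π.permMatrix k).submatrix (B.orderEmbOfFin hB) (Fin.natAdd p)).det =
    if B = Aᶜ then ((p.factorial * r.factorial : ℕ) : k) *
      (-1 : k) ^ ((A ×ˢ Aᶜ).filter (fun ab => ab.2 < ab.1)).card * M.det else 0 := by
  classical
  have h1 : ∀ π : Equiv.Perm (Fin (p + r)),
      (M * π.permMatrix k).submatrix (A.orderEmbOfFin hA) (Fin.castAdd r) =
      (((M.submatrix (rho A hA B hB) id).submatrix id π.symm).submatrix
        (Fin.castAdd r) (Fin.castAdd r)) := by
    intro π
    rw [Equiv.Perm.permMatrix, PEquiv.mul_toMatrix_toPEquiv]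
    ext x y
    simp only [Matrix.submatrix_apply, id, rho_castAdd]
  have h2 : ∀ π : Equiv.Perm (Fin (p + r)),
      (M * π.permMatrix k).submatrix (B.orderEmbOfFin hB) (Fin.natAdd p) =
      (((M.submatrix (rho A hA B hB) id).submatrix id π.symm).submatrix
        (Fin.natAdd p) (Fin.natAdd p)) := by
    intro π
    rw [Equiv.Perm.permMatrix, PEquiv.mul_toMatrix_toPEquiv]
    ext x y
    simp only [Matrix.submatrix_apply, id, rho_natAdd]
  simp only [h1, h2]
  rw [sum_perm_blocks]
  split_ifs with hBA
  · subst hBA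
    have : M.submatrix (rho A hA Aᶜ hB) id = M.submatrix (rhoPerm A hA hB) id := rfl
    rw [this, Matrix.det_permute, sign_rhoPerm]
    push_cast
    ring
  · have hni := not_injective_of_ne A hA B hB hBA
    rw [Function.Injective] at hni
    push Not at hni
    obtain ⟨x, y, hxy, hne⟩ := hni
    rw [Matrix.det_zero_of_row_eq hne, mul_zero]
    ext j
    simp only [Matrix.submatrix_apply, id, hxy]

end Groth.Agent.H2.ShuffleSign
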