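import Mathlib

/-!
# Sibling functors: abstract dévissage along towers of cells (helper2)

`i : A ⥤ 𝒟` a full functor into a pretriangulated category, `F F' : 𝒟 ⥤ D` triangulated functors
with `t : i ⋙ F ≅ i ⋙ F'`, and no negative self-extensions among the `F (i X)`.
If `K` has a finite tower of cells `(i X)⟦m⟧` with decreasing shifts, then `F K ≅ F' K`.
-/

universe v₁ v₂ v₃ u₁ u₂ u₃

set_option linter.unusedSectionVars false

open CategoryTheory CategoryTheory.Limits CategoryTheory.Pretriangulated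

namespace Groth.Agent.H2.Sib

section general

variable {D : Type u₃} [Category.{v₃} D] [Preadditive D] [HasShift D ℤ]
  [∀ n : ℤ, (shiftFunctor D n).Additive]

lemma hom_shift_zero {A₀ B₀ : D} {q m m' : ℤ} (hq : q + m = m')
    (hz : ∀ g : A₀ ⟶ B₀⟦q⟧, g = 0) (f : A₀⟦m⟧ ⟶ B₀⟦m'⟧) : f = 0 := by
  have e := (shiftFunctorAdd' D q m m' hq).app B₀
  obtain ⟨g, hg⟩ := (shiftFunctor D m).map_surjective (f ≫ e.hom)
  have h1 : f = (f ≫ e.hom) ≫ e.inv := by rw [Category.assoc, Iso.hom_inv_id, Category.comp_id]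
  rw [h1, ← hg, hz g, Functor.map_zero, zero_comp]

lemma eq_zero_of_iso_comp {P Q R W : D} (e₁ : P ≅ Q) (e₂ : R ≅ W) (f : Q ⟶ R)
    (h : e₁.hom ≫ f ≫ e₂.hom = 0) : f = 0 := by
  rw [← cancel_epi e₁.hom, ← cancel_mono e₂.hom, Category.assoc, h, comp_zero, zero_comp]

end general

variable {A : Type u₁} [Category.{v₁} A]
  {𝒟 : Type u₂} [Category.{v₂} 𝒟] [Preadditive 𝒟] [HasZeroObject 𝒟] [HasShift 𝒟 ℤ]
  [∀ n : ℤ, (shiftFunctor 𝒟 n).Additive] [Pretriangulated 𝒟]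
  {D : Type u₃} [Category.{v₃} D] [Preadditive D] [HasZeroObject D] [HasShift D ℤ]
  [∀ n : ℤ, (shiftFunctor D n).Additive] [Pretriangulated D]
  (i : A ⥤ 𝒟) (F F' : 𝒟 ⥤ D) [F.CommShift ℤ] [F.IsTriangulated] [F'.CommShift ℤ]
  [F'.IsTriangulated] (t : i ⋙ F ≅ i ⋙ F')

/-- cells: objects isomorphic to `(i X)⟦m⟧` -/
def Cell (m : ℤ) (S : 𝒟) : Prop := ∃ X : A, Nonempty (S ≅ (i.obj X)⟦m⟧)

lemma Cell.shift {m : ℤ} {S : 𝒟} (h : Cell i m S) : Cell i (m + 1) (S⟦(1 : ℤ)⟧) := by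
  obtain ⟨X, ⟨a⟩⟩ := h
  exact ⟨X, ⟨(shiftFunctor 𝒟 (1 : ℤ)).mapIso a ≪≫
    ((shiftFunctorAdd' 𝒟 m 1 (m + 1) rfl).app (i.obj X)).symm⟩⟩

/-- the standard comparison isomorphism on `(i X)⟦m⟧` -/
noncomputable def θ₀ (m : ℤ) (X : A) : F.obj ((i.obj X)⟦m⟧) ≅ F'.obj ((i.obj X)⟦m⟧) :=
  (F.commShiftIso m).app (i.obj X) ≪≫ (shiftFunctor D m).mapIso (t.app X) ≪≫
    ((F'.commShiftIso m).app (i.obj X)).symm

lemma θ₀_hom (m : ℤ) (X : A) : (θ₀ i F F' t m X).hom =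
    (F.commShiftIso m).hom.app (i.obj X) ≫ (t.hom.app X)⟦m⟧' ≫
      (F'.commShiftIso m).inv.app (i.obj X) := rfl

lemma θ₀_naturality (m : ℤ) {X Y : A} (g : X ⟶ Y) :
    F.map ((i.map g)⟦m⟧') ≫ (θ₀ i F F' t m Y).hom =
      (θ₀ i F F' t m X).hom ≫ F'.map ((i.map g)⟦m⟧') := by
  rw [θ₀_hom, θ₀_hom]
  have h1 := F.commShiftIso_hom_naturality (i.map g) m
  have h2 := F'.commShiftIso_inv_naturality (i.map g) m
  have h3 : F.map (i.map g) ≫ t.hom.app Y = t.hom.app X ≫ F'.map (i.map g) := t.hom.naturality g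
  rw [reassoc_of% h1, ← Functor.map_comp_assoc, h3, Functor.map_comp_assoc, h2]
  simp only [Category.assoc]

/-- admissible comparison isomorphisms on cells -/
def Adm (m : ℤ) (S : 𝒟) (θ : F.obj S ≅ F'.obj S) : Prop :=
  ∃ (X : A) (a : S ≅ (i.obj X)⟦m⟧),
    θ.hom = F.map a.hom ≫ (θ₀ i F F' t m X).hom ≫ F'.map a.inv

variable {i F F' t}

lemma exists_adm {m : ℤ} {S : 𝒟} (h : Cell i m S) : ∃ θ, Adm i F F' t m S θ := by
  obtain ⟨X, ⟨a⟩⟩ := h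
  exact ⟨F.mapIso a ≪≫ θ₀ i F F' t m X ≪≫ (F'.mapIso a).symm, X, a, rfl⟩

lemma Adm.cell {m : ℤ} {S : 𝒟} {θ : F.obj S ≅ F'.obj S} (h : Adm i F F' t m S θ) : Cell i m S := by
  obtain ⟨X, a, _⟩ := h
  exact ⟨X, ⟨a⟩⟩

lemma adm_naturality [i.Full] {m : ℤ} {S₁ S₂ : 𝒟} {θ₁ : F.obj S₁ ≅ F'.obj S₁}
    {θ₂ : F.obj S₂ ≅ F'.obj S₂} (h₁ : Adm i F F' t m S₁ θ₁) (h₂ : Adm i F F' t m S₂ θ₂)
    (γ : S₁ ⟶ S₂) : F.map γ ≫ θ₂.hom = θ₁.hom ≫ F'.map γ := by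
  obtain ⟨X₁, a₁, e₁⟩ := h₁
  obtain ⟨X₂, a₂, e₂⟩ := h₂
  obtain ⟨γ₀, hγ₀⟩ := (shiftFunctor 𝒟 m).map_surjective (a₁.inv ≫ γ ≫ a₂.hom)
  obtain ⟨g, rfl⟩ := i.map_surjective γ₀
  have hγ : γ = a₁.hom ≫ (i.map g)⟦m⟧' ≫ a₂.inv := by
    rw [hγ₀]
    simp
  have hnat := θ₀_naturality i F F' t m g
  rw [e₁, e₂, hγ]
  simp only [Functor.map_comp, Category.assoc]
  rw [← F.map_comp_assoc a₂.inv, Iso.inv_hom_id, F.map_id, Category.id_comp, reassoc_of% hnat,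
    ← F'.map_comp_assoc a₁.inv, Iso.inv_hom_id, F'.map_id, Category.id_comp]

/-- shifting a comparison isomorphism -/
noncomputable def shiftIso {S : 𝒟} (θ : F.obj S ≅ F'.obj S) :
    F.obj (S⟦(1 : ℤ)⟧) ≅ F'.obj (S⟦(1 : ℤ)⟧) :=
  (F.commShiftIso (1 : ℤ)).app S ≪≫ (shiftFunctor D (1 : ℤ)).mapIso θ ≪≫
    ((F'.commShiftIso (1 : ℤ)).app S).symm

lemma shiftIso_hom {S : 𝒟} (θ : F.obj S ≅ F'.obj S) : (shiftIso θ).hom =
    (F.commShiftIso (1 : ℤ)).hom.app S ≫ θ.hom⟦(1 : ℤ)⟧' ≫ (F'.commShiftIso (1 : ℤ)).inv.app S :=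
  rfl

lemma θ₀_succ (m : ℤ) (X : A) :
    (θ₀ i F F' t (m + 1) X).hom =
      F.map ((shiftFunctorAdd' 𝒟 m 1 (m + 1) rfl).hom.app (i.obj X)) ≫
        (shiftIso (θ₀ i F F' t m X)).hom ≫
        F'.map ((shiftFunctorAdd' 𝒟 m 1 (m + 1) rfl).inv.app (i.obj X)) := by
  have eqF := NatTrans.congr_app (congr_arg Iso.hom (F.commShiftIso_add' (rfl : m + 1 = m + 1)))
    (i.obj X)
  have eqF' := NatTrans.congr_app (congr_arg Iso.inv (F'.commShiftIso_add' (rfl : m + 1 = m + 1)))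
    (i.obj X)
  rw [Functor.CommShift.isoAdd'_hom_app] at eqF
  rw [Functor.CommShift.isoAdd'_inv_app] at eqF'
  rw [θ₀_hom, eqF, eqF', shiftIso_hom, θ₀_hom]
  have hn := (shiftFunctorAdd' D m 1 (m + 1) rfl).inv.naturality (t.hom.app X)
  dsimp at hn
  simp only [Category.assoc, Functor.map_comp]
  rw [← reassoc_of% hn, Iso.inv_hom_id_app_assoc]

lemma shiftIso_conj {S S₂ : 𝒟} (a : S ≅ S₂) (θ : F.obj S ≅ F'.obj S) (θ₂ : F.obj S₂ ≅ F'.obj S₂)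
    (h : θ.hom = F.map a.hom ≫ θ₂.hom ≫ F'.map a.inv) :
    (shiftIso θ).hom = F.map (a.hom⟦(1 : ℤ)⟧') ≫ (shiftIso θ₂).hom ≫ F'.map (a.inv⟦(1 : ℤ)⟧') := by
  rw [shiftIso_hom, shiftIso_hom, h]
  have h1 := F.commShiftIso_hom_naturality a.hom (1 : ℤ)
  have h2 := F'.commShiftIso_inv_naturality a.inv (1 : ℤ)
  simp only [Functor.map_comp, Category.assoc]
  rw [reassoc_of% h1, h2]

lemma adm_shift {m : ℤ} {S : 𝒟} {θ : F.obj S ≅ F'.obj S} (h : Adm i F F' t m S θ) :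
    Adm i F F' t (m + 1) (S⟦(1 : ℤ)⟧) (shiftIso θ) := by
  obtain ⟨X, a, e⟩ := h
  refine ⟨X, (shiftFunctor 𝒟 (1 : ℤ)).mapIso a ≪≫
    ((shiftFunctorAdd' 𝒟 m 1 (m + 1) rfl).app (i.obj X)).symm, ?_⟩
  rw [shiftIso_conj a θ _ e, θ₀_succ]
  dsimp
  simp only [Functor.map_comp, Category.assoc]
  rw [← F.map_comp_assoc ((shiftFunctorAdd' 𝒟 m 1 (m + 1) rfl).inv.app (i.obj X)),
    Iso.inv_hom_id_app, ← F'.map_comp_assoc ((shiftFunctorAdd' 𝒟 m 1 (m + 1) rfl).inv.app (i.obj X)),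
    Iso.inv_hom_id_app]
  simp


variable (i) in
/-- `K` has a tower of `n` cells, the top one being `ι : S ⟶ K` with `S` a cell of shift `m`,
the older ones having shifts `m + 1`, `m + 2`, … -/
def IsTw : ℕ → ℤ → (K S : 𝒟) → (S ⟶ K) → Prop
  | 0, m, K, S, _ => IsZero K ∧ IsZero S ∧ Cell i m S
  | n + 1, m, K, S, ι => Cell i m S ∧ ∃ (K' S' : 𝒟) (ι' : S' ⟶ K') (π : K ⟶ K')
      (β : K' ⟶ S⟦(1 : ℤ)⟧), IsTw n (m + 1) K' S' ι' ∧ Triangle.mk ι π β ∈ distTriang 𝒟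

lemma IsTw.cell {n : ℕ} {m : ℤ} {K S : 𝒟} {ι : S ⟶ K} (h : IsTw i n m K S ι) : Cell i m S := by
  cases n with
  | zero => exact h.2.2
  | succ n => exact h.1

variable (h2 : ∀ (X Y : A) (q : ℤ), q < 0 →
  ∀ f : F.obj (i.obj X) ⟶ (F.obj (i.obj Y))⟦q⟧, f = 0)

include h2 in
lemma cell_hom_zero (t : i ⋙ F ≅ i ⋙ F') {m m' : ℤ} (hm : m' < m) {S T : 𝒟} (hS : Cell i m S)
    (hT : Cell i m' T) (f : F.obj S ⟶ F'.obj T) : f = 0 := by
  obtain ⟨X, ⟨a⟩⟩ := hS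
  obtain ⟨Y, ⟨b⟩⟩ := hT
  refine eq_zero_of_iso_comp
    (((F.commShiftIso m).app (i.obj X)).symm ≪≫ (F.mapIso a).symm)
    (F'.mapIso b ≪≫ (F'.commShiftIso m').app (i.obj Y) ≪≫
      (shiftFunctor D m').mapIso (t.app Y).symm) f ?_
  exact hom_shift_zero (q := m' - m) (by ring) (h2 X Y (m' - m) (by omega)) _

include h2 in
lemma isTw_hom_zero (t : i ⋙ F ≅ i ⋙ F') : ∀ (n : ℕ) (m : ℤ) (K S : 𝒟) (ι : S ⟶ K), IsTw i n m K S ι →
    ∀ (m' : ℤ) (T : 𝒟), m' < m → Cell i m' T → ∀ f : F.obj K ⟶ F'.obj T, f = 0 := by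
  intro n
  induction n with
  | zero =>
    intro m K S ι h m' T _ _ f
    exact (F.map_isZero h.1).eq_of_src _ _
  | succ n ih =>
    intro m K S ι h m' T hm hT f
    obtain ⟨hS, K', S', ι', π, β, h', hTr⟩ := h
    have hTF := F.map_distinguished _ hTr
    have h0 : F.map ι ≫ f = 0 := cell_hom_zero h2 t hm hS hT _
    obtain ⟨f', hf'⟩ : ∃ f' : F.obj K' ⟶ F'.obj T, f = F.map π ≫ f' :=
      Triangle.yoneda_exact₂ _ hTF f h0
    have := ih (m + 1) K' S' ι' h' m' T (by omega) hT f'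
    rw [hf', this, comp_zero]

include h2 in
lemma isTw_hom_zero' (t : i ⋙ F ≅ i ⋙ F') {n : ℕ} {m : ℤ} {K S : 𝒟} {ι : S ⟶ K} (h : IsTw i n m K S ι)
    {T : 𝒟} (hT : Cell i m T) (Δ : F.obj K ⟶ F'.obj T) (hΔ : F.map ι ≫ Δ = 0) : Δ = 0 := by
  cases n with
  | zero => exact (F.map_isZero h.1).eq_of_src _ _
  | succ n =>
    obtain ⟨hS, K', S', ι', π, β, h', hTr⟩ := h
    have hTF := F.map_distinguished _ hTr
    obtain ⟨f', hf'⟩ : ∃ f' : F.obj K' ⟶ F'.obj T, Δ = F.map π ≫ f' :=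
      Triangle.yoneda_exact₂ _ hTF Δ hΔ
    have := isTw_hom_zero h2 t n (m + 1) K' S' ι' h' m T (by omega) hT f'
    rw [hf', this, comp_zero]

include h2 in
theorem exists_iso_of_isTw [i.Full] : ∀ (n : ℕ) (m : ℤ) (K S : 𝒟) (ι : S ⟶ K), IsTw i n m K S ι →
    ∀ θ : F.obj S ≅ F'.obj S, Adm i F F' t m S θ →
      ∃ φ : F.obj K ≅ F'.obj K, F.map ι ≫ φ.hom = θ.hom ≫ F'.map ι := by
  intro n
  induction n with
  | zero =>
    intro m K S ι h θ _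
    exact ⟨(F.map_isZero h.1).iso (F'.map_isZero h.1), (F'.map_isZero h.1).eq_of_tgt _ _⟩
  | succ n ih =>
    intro m K S ι h θ hθ
    obtain ⟨hS, K', S', ι', π, β, h', hTr⟩ := h
    obtain ⟨θ', hθ'⟩ := exists_adm (F := F) (F' := F') (t := t) h'.cell
    obtain ⟨φ', hφ'⟩ := ih (m + 1) K' S' ι' h' θ' hθ'
    have hτ := adm_shift hθ
    have hΔ : F.map β ≫ (shiftIso θ).hom = φ'.hom ≫ F'.map β := by
      rw [← sub_eq_zero]
      apply isTw_hom_zero' h2 t h' hτ.cell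
      rw [Preadditive.comp_sub, sub_eq_zero, ← Functor.map_comp_assoc,
        adm_naturality hθ' hτ (ι' ≫ β), reassoc_of% hφ', Functor.map_comp]
    have hTF := F.map_distinguished _ hTr
    have hTF' := F'.map_distinguished _ hTr
    obtain ⟨b, hb1, hb2⟩ := complete_distinguished_triangle_morphism₂ _ _ hTF hTF' θ.hom φ'.hom (by
      change (F.map β ≫ (F.commShiftIso (1 : ℤ)).hom.app S) ≫ θ.hom⟦(1 : ℤ)⟧' =
        φ'.hom ≫ F'.map β ≫ (F'.commShiftIso (1 : ℤ)).hom.app S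
      rw [← reassoc_of% hΔ, shiftIso_hom]
      simp)
    let φm : F.mapTriangle.obj (Triangle.mk ι π β) ⟶ F'.mapTriangle.obj (Triangle.mk ι π β) :=
      { hom₁ := θ.hom
        hom₂ := b
        hom₃ := φ'.hom
        comm₁ := hb1
        comm₂ := hb2
        comm₃ := by
          change (F.map β ≫ (F.commShiftIso (1 : ℤ)).hom.app S) ≫ θ.hom⟦(1 : ℤ)⟧' =
            φ'.hom ≫ F'.map β ≫ (F'.commShiftIso (1 : ℤ)).hom.app S
          rw [← reassoc_of% hΔ, shiftIso_hom]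
          simp }
    have hiso : IsIso b := isIso₂_of_isIso₁₃ φm hTF hTF' (by dsimp [φm]; infer_instance)
      (by dsimp [φm]; infer_instance)
    exact ⟨@asIso _ _ _ _ b hiso, hb1⟩


include h2 in
theorem nonempty_iso_of_isTw [i.Full] (t : i ⋙ F ≅ i ⋙ F') {n : ℕ} {m : ℤ} {K S : 𝒟} {ι : S ⟶ K}
    (h : IsTw i n m K S ι) : Nonempty (F.obj K ≅ F'.obj K) := by
  obtain ⟨θ, hθ⟩ := exists_adm (F := F) (F' := F') (t := t) h.cell
  obtain ⟨φ, _⟩ := exists_iso_of_isTw h2 n m K S ι h θ hθ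
  exact ⟨φ⟩

end Groth.Agent.H2.Sib
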