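import Mathlib
import Groth.Prelude.Def_W4stkfunctorsequivSib
import Groth.Agent.Lib.Helper2.Sib1

/-!
# Sibling functors: towers of cells in `D^b(A)` (helper2)
-/

universe w v u v' u'

set_option linter.unusedSectionVars false

open CategoryTheory CategoryTheory.Limits CategoryTheory.Pretriangulated

namespace Groth.Agent.H2.Sib

section full

variable {C : Type u} [Category.{v} C] [Preadditive C] [HasZeroObject C] [HasShift C ℤ]
  [∀ n : ℤ, (shiftFunctor C n).Additive] [Pretriangulated C]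
  (P : ObjectProperty C) [P.IsTriangulated]

lemma dist_of_ι {X Y Z : P.FullSubcategory} (f : X ⟶ Y) (g : Y ⟶ Z)
    (h : Z.obj ⟶ (X.obj)⟦(1 : ℤ)⟧) (hT : Triangle.mk f.hom g.hom h ∈ distTriang C) :
    Triangle.mk f g (P.homMk (h ≫ (P.ι.commShiftIso (1 : ℤ)).inv.app X)) ∈
      distTriang P.FullSubcategory := by
  change P.ι.mapTriangle.obj _ ∈ distTriang C
  refine isomorphic_distinguished _ hT _
    (Triangle.isoMk _ _ (Iso.refl _) (Iso.refl _) (Iso.refl _) ?_ ?_ ?_)
  · change f.hom ≫ 𝟙 _ = 𝟙 _ ≫ f.hom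
    rw [Category.comp_id, Category.id_comp]
  · change g.hom ≫ 𝟙 _ = 𝟙 _ ≫ g.hom
    rw [Category.comp_id, Category.id_comp]
  · change ((h ≫ (P.ι.commShiftIso (1 : ℤ)).inv.app X) ≫ (P.ι.commShiftIso (1 : ℤ)).hom.app X) ≫
      (𝟙 X.obj)⟦(1 : ℤ)⟧' = 𝟙 _ ≫ h
    simp

lemma isZero_of_isZero_obj {X : P.FullSubcategory} (h : IsZero X.obj) : IsZero X := by
  rw [IsZero.iff_id_eq_zero]
  apply P.ι.map_injective
  exact h.eq_of_src _ _

end full

open DerivedCategory ZeroObject

variable {A : Type u} [Category.{v} A] [Abelian A] [HasDerivedCategory.{w} A]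

instance : (DEquiv.singleB A).Full := by
  unfold DEquiv.singleB
  infer_instance

/-- the object of `D^b(A)` given by a strictly bounded complex -/
noncomputable def QB (L : CochainComplex A ℤ) (a b : ℤ) (hGE : L.IsStrictlyGE a)
    (hLE : L.IsStrictlyLE b) : DerivedCategory.Bounded A :=
  ⟨Q.obj L, ⟨⟨a, inferInstance⟩, ⟨b, inferInstance⟩⟩⟩

section top

variable (L : CochainComplex A ℤ) (b : ℤ) [hLE : L.IsStrictlyLE b]

/-- inclusion of the top term -/
noncomputable def topι :
    (HomologicalComplex.single A (ComplexShape.up ℤ) b).obj (L.X b) ⟶ L :=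
  HomologicalComplex.mkHomFromSingle (𝟙 _) (by
    intro k hk
    have hk' : b + 1 = k := hk
    exact (L.isZero_of_isStrictlyLE b k (by omega)).eq_of_tgt _ _)

lemma isIso_topι_f : IsIso ((topι L b).f b) := by
  unfold topι
  rw [HomologicalComplex.mkHomFromSingle_f]
  infer_instance

instance : Mono (topι L b) := by
  apply HomologicalComplex.mono_of_mono_f
  intro j
  by_cases hj : j = b
  · subst hj
    have := isIso_topι_f L j
    infer_instance
  · exact ⟨fun _ _ _ => (HomologicalComplex.isZero_single_obj_X (ComplexShape.up ℤ) b (L.X b) j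
      hj).eq_of_tgt _ _⟩

/-- the quotient by the top term -/
noncomputable def topQ : CochainComplex A ℤ := cokernel (topι L b)

/-- the projection to the quotient -/
noncomputable def topπ : L ⟶ topQ L b := cokernel.π (topι L b)

instance : Epi (topπ L b) := inferInstanceAs (Epi (cokernel.π (topι L b)))

lemma isZero_topQ_X (j : ℤ) (hj : IsZero (L.X j)) : IsZero ((topQ L b).X j) :=
  IsZero.of_epi ((topπ L b).f j) hj

lemma isZero_topQ_X_top : IsZero ((topQ L b).X b) := by
  have h1 : (topι L b).f b ≫ (topπ L b).f b = 0 := by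
    have := congrArg (fun φ => φ.f b) (cokernel.condition (topι L b))
    exact this
  have := isIso_topι_f L b
  have h2 : (topπ L b).f b = 0 := by
    rw [← cancel_epi ((topι L b).f b), h1, comp_zero]
  exact IsZero.of_epi_eq_zero _ h2

lemma topQ_isStrictlyLE : (topQ L b).IsStrictlyLE (b - 1) := by
  rw [CochainComplex.isStrictlyLE_iff]
  intro j hj
  by_cases hjb : j = b
  · subst hjb
    exact isZero_topQ_X_top L j
  · exact isZero_topQ_X L b j (L.isZero_of_isStrictlyLE b j (by omega))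

lemma topQ_isStrictlyGE (a : ℤ) [L.IsStrictlyGE a] : (topQ L b).IsStrictlyGE a := by
  rw [CochainComplex.isStrictlyGE_iff]
  intro j hj
  exact isZero_topQ_X L b j (L.isZero_of_isStrictlyGE a j hj)

/-- the short exact sequence `0 → L^b[-b] → L → L/L^b[-b] → 0` -/
noncomputable def topS : ShortComplex (CochainComplex A ℤ) :=
  ShortComplex.mk (topι L b) (topπ L b) (cokernel.condition _)

lemma topS_shortExact : (topS L b).ShortExact where
  exact := ShortComplex.exact_cokernel _
  mono_f := inferInstanceAs (Mono (topι L b))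
  epi_g := inferInstanceAs (Epi (topπ L b))

end top

lemma isZero_singleB_zero_shift (m : ℤ) :
    IsZero (((DEquiv.singleB A).obj (0 : A))⟦m⟧) := by
  apply Functor.map_isZero
  apply isZero_of_isZero_obj
  exact (singleFunctor A 0).map_isZero (isZero_zero A)

lemma cell_of_isZero {K : DerivedCategory.Bounded A} (hK : IsZero K) (m : ℤ) :
    Cell (DEquiv.singleB A) m K :=
  ⟨0, ⟨hK.iso (isZero_singleB_zero_shift m)⟩⟩

/-- the top cell as an object of `D^b(A)` -/
noncomputable def topCell (X : A) (b : ℤ) : DerivedCategory.Bounded A :=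
  QB ((HomologicalComplex.single A (ComplexShape.up ℤ) b).obj X) b b
    (inferInstanceAs (((CochainComplex.singleFunctor A b).obj X).IsStrictlyGE b))
    (inferInstanceAs (((CochainComplex.singleFunctor A b).obj X).IsStrictlyLE b))

lemma cell_topCell (X : A) (b : ℤ) : Cell (DEquiv.singleB A) (-b) (topCell X b) := by
  have e : Q.obj ((HomologicalComplex.single A (ComplexShape.up ℤ) b).obj X) ≅
      ((singleFunctor A 0).obj X)⟦-b⟧ :=
    ((singleFunctorIsoCompQ A b).app X).symm ≪≫
      (((singleFunctors A).shiftIso (-b) b 0 (by omega)).app X).symm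
  have e' : (TStructure.t (C := A)).bounded.ι.obj (((DEquiv.singleB A).obj X)⟦-b⟧) ≅
      ((singleFunctor A 0).obj X)⟦-b⟧ :=
    ((TStructure.t (C := A)).bounded.ι.commShiftIso (-b)).app ((DEquiv.singleB A).obj X)
  exact ⟨X, ⟨ObjectProperty.isoMk _ (e ≪≫ e'.symm)⟩⟩

theorem exists_isTw : ∀ (k : ℕ) (a b : ℤ) (L : CochainComplex A ℤ) (hGE : L.IsStrictlyGE a)
    (hLE : L.IsStrictlyLE b), b + 1 - a ≤ k →
    ∃ (n : ℕ) (S : DerivedCategory.Bounded A) (ι : S ⟶ QB L a b hGE hLE),
      IsTw (DEquiv.singleB A) n (-b) (QB L a b hGE hLE) S ι := by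
  intro k
  induction k with
  | zero =>
    intro a b L hGE hLE hk
    have hz : IsZero (QB L a b hGE hLE) := by
      apply isZero_of_isZero_obj
      change IsZero (Q.obj L)
      exact TStructure.t.isZero (Q.obj L) b a (by omega)
    exact ⟨0, _, 𝟙 _, hz, hz, cell_of_isZero hz _⟩
  | succ k ih =>
    intro a b L hGE hLE hk
    by_cases hab : b < a
    · have hz : IsZero (QB L a b hGE hLE) := by
        apply isZero_of_isZero_obj
        change IsZero (Q.obj L)
        exact TStructure.t.isZero (Q.obj L) b a hab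
      exact ⟨0, _, 𝟙 _, hz, hz, cell_of_isZero hz _⟩
    · have hGE' := topQ_isStrictlyGE L b a
      have hLE' := topQ_isStrictlyLE L b
      obtain ⟨n, S', ι', h'⟩ := ih a (b - 1) (topQ L b) hGE' hLE' (by omega)
      have hT := triangleOfSES_distinguished (topS_shortExact L b)
      let ι₀ : topCell (L.X b) b ⟶ QB L a b hGE hLE := ObjectProperty.homMk (Q.map (topι L b))
      let π₀ : QB L a b hGE hLE ⟶ QB (topQ L b) a (b - 1) hGE' hLE' :=
        ObjectProperty.homMk (Q.map (topπ L b))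
      have hT' := dist_of_ι _ ι₀ π₀ (triangleOfSESδ (topS_shortExact L b)) hT
      refine ⟨n + 1, topCell (L.X b) b, ι₀, cell_topCell _ _, _, S', ι', π₀, _, ?_, hT'⟩
      have e : -(b - 1) = -b + 1 := by ring
      rw [← e]
      exact h'


variable {D : Type u'} [Category.{v'} D] [Preadditive D] [HasZeroObject D] [HasShift D ℤ]
  [∀ n : ℤ, (shiftFunctor D n).Additive] [Pretriangulated D]
  (F F' : DerivedCategory.Bounded A ⥤ D) [F.CommShift ℤ] [F.IsTriangulated]
  [F'.CommShift ℤ] [F'.IsTriangulated]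

theorem exists_isTw' (K : DerivedCategory.Bounded A) :
    ∃ (K₁ : DerivedCategory.Bounded A) (_ : K ≅ K₁) (n : ℕ) (m : ℤ)
      (S : DerivedCategory.Bounded A) (ι : S ⟶ K₁), IsTw (DEquiv.singleB A) n m K₁ S ι := by
  have hK : TStructure.t.plus K.obj ∧ TStructure.t.minus K.obj := K.property
  obtain ⟨⟨a, hGE⟩, ⟨b, hLE⟩⟩ := hK
  obtain ⟨L, hL1, hL2, ⟨e⟩⟩ := DerivedCategory.exists_iso_Q_obj_of_isGE_of_isLE K.obj a b
  obtain ⟨n, S, ι, hTw⟩ := exists_isTw (b + 1 - a).toNat a b L hL1 hL2 (Int.self_le_toNat _)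
  exact ⟨QB L a b hL1 hL2, ObjectProperty.isoMk _ e, n, -b, S, ι, hTw⟩

theorem nonempty_iso_of_sibling_data (t : DEquiv.singleB A ⋙ F ≅ DEquiv.singleB A ⋙ F')
    (h2 : ∀ (X Y : A) (q : ℤ), q < 0 →
      ∀ f : F.obj ((DEquiv.singleB A).obj X) ⟶ (F.obj ((DEquiv.singleB A).obj Y))⟦q⟧, f = 0)
    (K : DerivedCategory.Bounded A) : Nonempty (F.obj K ≅ F'.obj K) := by
  obtain ⟨K₁, eK, n, m, S, ι, hTw⟩ := exists_isTw' K
  obtain ⟨φ⟩ := nonempty_iso_of_isTw h2 t hTw
  exact ⟨F.mapIso eK ≪≫ φ ≪≫ (F'.mapIso eK).symm⟩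

end Groth.Agent.H2.Sib
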