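import Mathlib

/-!
# Dévissage for full faithfulness of a triangulated functor (helper2)
-/

universe v₂ v₃ u₂ u₃

set_option linter.unusedSectionVars false

open CategoryTheory CategoryTheory.Limits CategoryTheory.Pretriangulated

namespace Groth.Agent.H2.Sib

variable {𝒟 : Type u₂} [Category.{v₂} 𝒟] [Preadditive 𝒟] [HasZeroObject 𝒟] [HasShift 𝒟 ℤ]
  [∀ n : ℤ, (shiftFunctor 𝒟 n).Additive] [Pretriangulated 𝒟]
  {D : Type u₃} [Category.{v₃} D] [Preadditive D] [HasZeroObject D] [HasShift D ℤ]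
  [∀ n : ℤ, (shiftFunctor D n).Additive] [Pretriangulated D]
  (G : 𝒟 ⥤ D) [G.CommShift ℤ] [G.IsTriangulated]

/-- `G` is bijective on `Hom(K, L)` -/
def Bij (K L : 𝒟) : Prop := Function.Bijective (fun f : K ⟶ L => G.map f)

/-- `G` is bijective on `Hom(K⟦j⟧, L)` for all `j` -/
def BijS (K L : 𝒟) : Prop := ∀ j : ℤ, Bij G (K⟦j⟧) L

variable {G}

lemma Bij.of_iso₁ {K K' L : 𝒟} (h : Bij G K L) (e : K ≅ K') : Bij G K' L := by
  constructor
  · intro f₁ f₂ hf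
    have : e.hom ≫ f₁ = e.hom ≫ f₂ := h.1 (by
      change G.map (e.hom ≫ f₁) = G.map (e.hom ≫ f₂)
      rw [Functor.map_comp, Functor.map_comp]
      exact congrArg (fun z => G.map e.hom ≫ z) hf)
    exact (cancel_epi e.hom).1 this
  · intro φ
    obtain ⟨f, hf⟩ := h.2 (G.map e.hom ≫ φ)
    refine ⟨e.inv ≫ f, ?_⟩
    change G.map (e.inv ≫ f) = φ
    have hf' : G.map f = G.map e.hom ≫ φ := hf
    rw [Functor.map_comp, hf', ← Functor.map_comp_assoc, Iso.inv_hom_id, G.map_id, Category.id_comp]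

lemma Bij.of_iso₂ {K L L' : 𝒟} (h : Bij G K L) (e : L ≅ L') : Bij G K L' := by
  constructor
  · intro f₁ f₂ hf
    have : f₁ ≫ e.inv = f₂ ≫ e.inv := h.1 (by
      change G.map (f₁ ≫ e.inv) = G.map (f₂ ≫ e.inv)
      rw [Functor.map_comp, Functor.map_comp]
      exact congrArg (fun z => z ≫ G.map e.inv) hf)
    exact (cancel_mono e.inv).1 this
  · intro φ
    obtain ⟨f, hf⟩ := h.2 (φ ≫ G.map e.inv)
    refine ⟨f ≫ e.hom, ?_⟩
    change G.map (f ≫ e.hom) = φ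
    have hf' : G.map f = φ ≫ G.map e.inv := hf
    rw [Functor.map_comp, hf', Category.assoc, ← Functor.map_comp, Iso.inv_hom_id, G.map_id,
      Category.comp_id]

lemma map_shift_eq {K L : 𝒟} (g : K ⟶ L) (n : ℤ) :
    G.map (g⟦n⟧') = (G.commShiftIso n).hom.app K ≫ (G.map g)⟦n⟧' ≫
      (G.commShiftIso n).inv.app L := by
  have := G.commShiftIso_hom_naturality g n
  rw [← reassoc_of% this, Iso.hom_inv_id_app]
  exact (Category.comp_id _).symm

lemma Bij.shift {K L : 𝒟} (h : Bij G K L) (n : ℤ) : Bij G (K⟦n⟧) (L⟦n⟧) := by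
  constructor
  · intro f₁ f₂ hf
    obtain ⟨g₁, rfl⟩ := (shiftFunctor 𝒟 n).map_surjective f₁
    obtain ⟨g₂, rfl⟩ := (shiftFunctor 𝒟 n).map_surjective f₂
    have hf' : G.map (g₁⟦n⟧') = G.map (g₂⟦n⟧') := hf
    rw [map_shift_eq, map_shift_eq, cancel_epi, cancel_mono] at hf'
    have := (shiftFunctor D n).map_injective hf'
    rw [h.1 this]
  · intro φ
    obtain ⟨χ, hχ⟩ := (shiftFunctor D n).map_surjective
      ((G.commShiftIso n).inv.app K ≫ φ ≫ (G.commShiftIso n).hom.app L)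
    obtain ⟨g, hg⟩ := h.2 χ
    refine ⟨g⟦n⟧', ?_⟩
    change G.map (g⟦n⟧') = φ
    have hg' : G.map g = χ := hg
    rw [map_shift_eq, hg', hχ]
    simp

lemma bij_of_isZero₁ {K L : 𝒟} (hK : IsZero K) : Bij G K L := by
  constructor
  · intro f₁ f₂ _
    exact hK.eq_of_src _ _
  · intro φ
    exact ⟨0, (G.map_isZero hK).eq_of_src _ _⟩

lemma bij_of_isZero₂ {K L : 𝒟} (hL : IsZero L) : Bij G K L := by
  constructor
  · intro f₁ f₂ _
    exact hL.eq_of_tgt _ _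
  · intro φ
    exact ⟨0, (G.map_isZero hL).eq_of_tgt _ _⟩

/-- the five lemma in the first variable -/
lemma bij_mid₁ (T : Triangle 𝒟) (hT : T ∈ distTriang 𝒟) (L : 𝒟) (h₁ : Bij G T.obj₁ L)
    (h₃ : Bij G T.obj₃ L)
    (h₁' : Function.Surjective (fun f : T.obj₁⟦(1 : ℤ)⟧ ⟶ L => G.map f))
    (h₃' : Function.Injective (fun f : T.obj₃⟦(-1 : ℤ)⟧ ⟶ L => G.map f)) : Bij G T.obj₂ L := by
  have hGT := G.map_distinguished _ hT
  have hGTr := G.map_distinguished _ (rot_of_distTriang _ hT)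
  have hTi := inv_rot_of_distTriang _ hT
  constructor
  · -- injectivity
    intro f₁ f₂ hf
    have hf' : G.map f₁ = G.map f₂ := hf
    rw [← sub_eq_zero]
    have h0 : G.map (f₁ - f₂) = 0 := by rw [Functor.map_sub, hf', sub_self]
    generalize f₁ - f₂ = f at h0
    have h1 : T.mor₁ ≫ f = 0 := h₁.1 (by
      change G.map (T.mor₁ ≫ f) = G.map 0
      rw [Functor.map_comp, h0, comp_zero, Functor.map_zero])
    obtain ⟨g, hg⟩ := Triangle.yoneda_exact₂ _ hT f h1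
    have h2 : G.map T.mor₂ ≫ G.map g = 0 := by rw [← Functor.map_comp, ← hg, h0]
    obtain ⟨h', hh'⟩ : ∃ h' : G.obj (T.obj₁⟦(1 : ℤ)⟧) ⟶ G.obj L, G.map g = G.map T.mor₃ ≫ h' :=
      Triangle.yoneda_exact₂ _ hGTr (G.map g) h2
    obtain ⟨h, hh⟩ := h₁' h'
    have hh2 : G.map h = h' := hh
    have h3 : g = T.mor₃ ≫ h := h₃.1 (by
      change G.map g = G.map (T.mor₃ ≫ h)
      rw [Functor.map_comp, hh2, hh'])
    rw [hg, h3, comp_distTriang_mor_zero₂₃_assoc _ hT, zero_comp]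
  · -- surjectivity
    intro φ
    obtain ⟨f₁, hf₁⟩ := h₁.2 (G.map T.mor₁ ≫ φ)
    have hf₁' : G.map f₁ = G.map T.mor₁ ≫ φ := hf₁
    let w' : T.obj₃⟦(-1 : ℤ)⟧ ⟶ T.obj₁ := T.invRotate.mor₁
    have hw : w' ≫ T.mor₁ = 0 := comp_distTriang_mor_zero₁₂ _ hTi
    have h1 : w' ≫ f₁ = 0 := h₃' (by
      change G.map (w' ≫ f₁) = G.map 0
      rw [Functor.map_comp, hf₁', ← Functor.map_comp_assoc, hw, Functor.map_zero, zero_comp,
        Functor.map_zero])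
    obtain ⟨f₂, hf₂⟩ : ∃ f₂ : T.obj₂ ⟶ L, f₁ = T.mor₁ ≫ f₂ :=
      Triangle.yoneda_exact₂ _ hTi f₁ h1
    have h2 : G.map T.mor₁ ≫ (φ - G.map f₂) = 0 := by
      rw [Preadditive.comp_sub, ← hf₁', hf₂, Functor.map_comp, sub_self]
    obtain ⟨ψ, hψ⟩ : ∃ ψ : G.obj T.obj₃ ⟶ G.obj L, φ - G.map f₂ = G.map T.mor₂ ≫ ψ :=
      Triangle.yoneda_exact₂ _ hGT _ h2
    obtain ⟨g, hg⟩ := h₃.2 ψ
    have hg' : G.map g = ψ := hg
    refine ⟨f₂ + T.mor₂ ≫ g, ?_⟩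
    change G.map (f₂ + T.mor₂ ≫ g) = φ
    rw [Functor.map_add, Functor.map_comp, hg', ← hψ]
    abel

/-- the five lemma in the second variable -/
lemma bij_mid₂ (T : Triangle 𝒟) (hT : T ∈ distTriang 𝒟) (K : 𝒟) (h₁ : Bij G K T.obj₁)
    (h₃ : Bij G K T.obj₃)
    (h₃' : Function.Surjective (fun f : K ⟶ T.obj₃⟦(-1 : ℤ)⟧ => G.map f))
    (h₁' : Function.Injective (fun f : K ⟶ T.obj₁⟦(1 : ℤ)⟧ => G.map f)) : Bij G K T.obj₂ := by
  have hGT := G.map_distinguished _ hT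
  have hTi := inv_rot_of_distTriang _ hT
  have hGTi := G.map_distinguished _ hTi
  constructor
  · intro f₁ f₂ hf
    have hf' : G.map f₁ = G.map f₂ := hf
    rw [← sub_eq_zero]
    have h0 : G.map (f₁ - f₂) = 0 := by rw [Functor.map_sub, hf', sub_self]
    generalize f₁ - f₂ = f at h0
    have h1 : f ≫ T.mor₂ = 0 := h₃.1 (by
      change G.map (f ≫ T.mor₂) = G.map 0
      rw [Functor.map_comp, h0, zero_comp, Functor.map_zero])
    obtain ⟨g, hg⟩ := Triangle.coyoneda_exact₂ _ hT f h1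
    have h2 : G.map g ≫ G.map T.mor₁ = 0 := by rw [← Functor.map_comp, ← hg, h0]
    let w' : T.obj₃⟦(-1 : ℤ)⟧ ⟶ T.obj₁ := T.invRotate.mor₁
    obtain ⟨h', hh'⟩ : ∃ h' : G.obj K ⟶ G.obj (T.obj₃⟦(-1 : ℤ)⟧),
        G.map g = h' ≫ G.map w' :=
      Triangle.coyoneda_exact₂ _ hGTi (G.map g) h2
    obtain ⟨h, hh⟩ := h₃' h'
    have hh2 : G.map h = h' := hh
    have h3 : g = h ≫ w' := h₁.1 (by
      change G.map g = G.map (h ≫ w')
      rw [Functor.map_comp, hh2, hh'])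
    have hw : w' ≫ T.mor₁ = 0 := comp_distTriang_mor_zero₁₂ _ hTi
    rw [hg, h3, Category.assoc, hw, comp_zero]
  · intro φ
    obtain ⟨f₃, hf₃⟩ := h₃.2 (φ ≫ G.map T.mor₂)
    have hf₃' : G.map f₃ = φ ≫ G.map T.mor₂ := hf₃
    have h1 : f₃ ≫ T.mor₃ = 0 := h₁' (by
      change G.map (f₃ ≫ T.mor₃) = G.map 0
      rw [Functor.map_comp, hf₃', Category.assoc, ← Functor.map_comp,
        comp_distTriang_mor_zero₂₃ _ hT, Functor.map_zero, comp_zero, Functor.map_zero])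
    obtain ⟨f₂, hf₂⟩ := Triangle.coyoneda_exact₃ _ hT f₃ h1
    have h2 : (φ - G.map f₂) ≫ G.map T.mor₂ = 0 := by
      rw [Preadditive.sub_comp, ← hf₃', hf₂, Functor.map_comp, sub_self]
    obtain ⟨ψ, hψ⟩ : ∃ ψ : G.obj K ⟶ G.obj T.obj₁, φ - G.map f₂ = ψ ≫ G.map T.mor₁ :=
      Triangle.coyoneda_exact₂ _ hGT _ h2
    obtain ⟨g, hg⟩ := h₁.2 ψ
    have hg' : G.map g = ψ := hg
    refine ⟨f₂ + g ≫ T.mor₁, ?_⟩
    change G.map (f₂ + g ≫ T.mor₁) = φ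
    rw [Functor.map_add, Functor.map_comp, hg', ← hψ]
    abel

end Groth.Agent.H2.Sib
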