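import Mathlib
import Groth.Agent.Lib.Helper2.Sib1
import Groth.Agent.Lib.Helper2.Sib3

/-!
# Sibling functors: full faithfulness passes to a sibling (abstract part) (helper2)
-/

universe v₁ v₂ v₃ u₁ u₂ u₃

set_option linter.unusedSectionVars false

open CategoryTheory CategoryTheory.Limits CategoryTheory.Pretriangulated

namespace Groth.Agent.H2.Sib

variable {A : Type u₁} [Category.{v₁} A]
  {𝒟 : Type u₂} [Category.{v₂} 𝒟] [Preadditive 𝒟] [HasZeroObject 𝒟] [HasShift 𝒟 ℤ]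
  [∀ n : ℤ, (shiftFunctor 𝒟 n).Additive] [Pretriangulated 𝒟]
  {D : Type u₃} [Category.{v₃} D] [Preadditive D] [HasZeroObject D] [HasShift D ℤ]
  [∀ n : ℤ, (shiftFunctor D n).Additive] [Pretriangulated D]

section devissage

variable {G : 𝒟 ⥤ D} [G.CommShift ℤ] [G.IsTriangulated]

lemma bijS_mid₁ (T : Triangle 𝒟) (hT : T ∈ distTriang 𝒟) (L : 𝒟) (h₁ : BijS G T.obj₁ L)
    (h₃ : BijS G T.obj₃ L) : BijS G T.obj₂ L := by
  intro j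
  have hTj := Triangle.shift_distinguished T hT j
  refine bij_mid₁ ((shiftFunctor (Triangle 𝒟) j).obj T) hTj L (h₁ j) (h₃ j) ?_ ?_
  · exact ((h₁ (j + 1)).of_iso₁ ((shiftFunctorAdd' 𝒟 j 1 (j + 1) rfl).app T.obj₁)).2
  · exact ((h₃ (j - 1)).of_iso₁ ((shiftFunctorAdd' 𝒟 j (-1) (j - 1) (by ring)).app T.obj₃)).1

lemma bijS_mid₂ (T : Triangle 𝒟) (hT : T ∈ distTriang 𝒟) (K : 𝒟) (h₁ : BijS G K T.obj₁)
    (h₃ : BijS G K T.obj₃) : BijS G K T.obj₂ := by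
  intro j
  refine bij_mid₂ T hT (K⟦j⟧) (h₁ j) (h₃ j) ?_ ?_
  · exact (((h₃ (j + 1)).shift (-1)).of_iso₁
      ((shiftFunctorAdd' 𝒟 (j + 1) (-1) j (by ring)).app K).symm).2
  · exact (((h₁ (j - 1)).shift 1).of_iso₁
      ((shiftFunctorAdd' 𝒟 (j - 1) 1 j (by ring)).app K).symm).1

variable (i : A ⥤ 𝒟)

lemma Cell.shift' {m : ℤ} {S : 𝒟} (h : Cell i m S) (j : ℤ) : Cell i (m + j) (S⟦j⟧) := by
  obtain ⟨X, ⟨a⟩⟩ := h
  exact ⟨X, ⟨(shiftFunctor 𝒟 j).mapIso a ≪≫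
    ((shiftFunctorAdd' 𝒟 m j (m + j) rfl).app (i.obj X)).symm⟩⟩

variable {i}
variable (hcell : ∀ (m m' : ℤ) (S T : 𝒟), Cell i m S → Cell i m' T → Bij G S T)

include hcell in
lemma bijS_of_isTw₁ : ∀ (n : ℕ) (m : ℤ) (K S : 𝒟) (ι : S ⟶ K), IsTw i n m K S ι →
    ∀ (m' : ℤ) (T : 𝒟), Cell i m' T → BijS G K T := by
  intro n
  induction n with
  | zero =>
    intro m K S ι h m' T _ j
    exact bij_of_isZero₁ ((shiftFunctor 𝒟 j).map_isZero h.1)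
  | succ n ih =>
    intro m K S ι h m' T hT
    obtain ⟨hS, K', S', ι', π, β, h', hTr⟩ := h
    refine bijS_mid₁ _ hTr T ?_ (ih _ _ _ _ h' m' T hT)
    intro j
    exact hcell _ _ _ _ (hS.shift' i j) hT

lemma bijS_of_isTw₂ (K : 𝒟) (hK : ∀ (m' : ℤ) (T : 𝒟), Cell i m' T → BijS G K T) :
    ∀ (n : ℕ) (m : ℤ) (L S : 𝒟) (ι : S ⟶ L), IsTw i n m L S ι → BijS G K L := by
  intro n
  induction n with
  | zero =>
    intro m L S ι h j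
    exact bij_of_isZero₂ h.1
  | succ n ih =>
    intro m L S ι h
    obtain ⟨hS, L', S', ι', π, β, h', hTr⟩ := h
    exact bijS_mid₂ _ hTr K (hK _ _ hS) (ih _ _ _ _ h')

include hcell in
theorem bij_of_towers
    (htw : ∀ K : 𝒟, ∃ (K₁ : 𝒟) (_ : K ≅ K₁) (n : ℕ) (m : ℤ) (S : 𝒟) (ι : S ⟶ K₁),
      IsTw i n m K₁ S ι) (K L : 𝒟) : Bij G K L := by
  obtain ⟨K₁, eK, n, m, S, ι, hK⟩ := htw K
  obtain ⟨L₁, eL, n', m', S', ι', hL⟩ := htw L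
  have h1 : BijS G K₁ L₁ :=
    bijS_of_isTw₂ K₁ (fun m'' T hT => bijS_of_isTw₁ hcell _ _ _ _ _ hK m'' T hT) _ _ _ _ _ hL
  exact (((h1 0).of_iso₁ ((shiftFunctorZero 𝒟 ℤ).app K₁)).of_iso₁ eK.symm).of_iso₂ eL.symm

end devissage

section stepA

variable {i : A ⥤ 𝒟} {F F' : 𝒟 ⥤ D} [F.CommShift ℤ] [F.IsTriangulated] [F'.CommShift ℤ]
  [F'.IsTriangulated] (t : i ⋙ F ≅ i ⋙ F') (hobj : ∀ K : 𝒟, Nonempty (F.obj K ≅ F'.obj K))
  [F.Full] [F.Faithful] [i.Full]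
  (hneg : ∀ (X Y : A) (q : ℤ), q < 0 → ∀ f : i.obj X ⟶ (i.obj Y)⟦q⟧, f = 0)
  (heff : ∀ (X Y : A) (q : ℤ), 0 < q → ∀ ξ : i.obj X ⟶ (i.obj Y)⟦q⟧,
    ∃ (X' : A) (p : X' ⟶ X) (X'' : A) (a : X'' ⟶ X') (δ : i.obj X ⟶ (i.obj X'')⟦(1 : ℤ)⟧),
      Triangle.mk (i.map a) (i.map p) δ ∈ distTriang 𝒟 ∧ i.map p ≫ ξ = 0)

include hobj hneg in
lemma stepA_neg (X Y : A) (q : ℤ) (hq : q < 0) : Bij F' (i.obj X) ((i.obj Y)⟦q⟧) := by
  constructor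
  · intro f₁ f₂ _
    rw [hneg X Y q hq f₁, hneg X Y q hq f₂]
  · intro φ
    obtain ⟨e₁⟩ := hobj (i.obj X)
    obtain ⟨e₂⟩ := hobj ((i.obj Y)⟦q⟧)
    obtain ⟨g, hg⟩ := F.map_surjective (e₁.hom ≫ φ ≫ e₂.inv)
    have hg0 : g = 0 := hneg X Y q hq g
    have h1 : e₁.hom ≫ φ ≫ e₂.inv = 0 := by rw [← hg, hg0, Functor.map_zero]
    have h2 : φ = 0 := eq_zero_of_iso_comp e₁ e₂.symm φ h1
    exact ⟨0, by change F'.map 0 = φ; rw [h2, Functor.map_zero]⟩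

include t in
lemma map_eq_conj (X Y : A) (g : i.obj X ⟶ i.obj Y) :
    F'.map g = (t.app X).inv ≫ F.map g ≫ (t.app Y).hom := by
  obtain ⟨g₀, rfl⟩ := i.map_surjective g
  have := t.hom.naturality g₀
  dsimp at this
  rw [Iso.app_inv, Iso.app_hom, this, Iso.inv_hom_id_app_assoc]

include t in
lemma stepA_zero' (X Y : A) : Bij F' (i.obj X) (i.obj Y) := by
  constructor
  · intro g₁ g₂ h
    have h' : F'.map g₁ = F'.map g₂ := h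
    rw [map_eq_conj t, map_eq_conj t, cancel_epi, cancel_mono] at h'
    exact F.map_injective h'
  · intro φ
    obtain ⟨g, hg⟩ := F.map_surjective ((t.app X).hom ≫ φ ≫ (t.app Y).inv)
    refine ⟨g, ?_⟩
    change F'.map g = φ
    rw [map_eq_conj t, hg]
    simp

include t in
lemma stepA_zero (X Y : A) : Bij F' (i.obj X) ((i.obj Y)⟦(0 : ℤ)⟧) :=
  (stepA_zero' t X Y).of_iso₂ ((shiftFunctorZero 𝒟 ℤ).app (i.obj Y)).symm

include t hobj heff in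
lemma stepA_succ (q : ℤ) (hq : 0 ≤ q) (ih : ∀ X Y : A, Bij F' (i.obj X) ((i.obj Y)⟦q⟧)) (X Y : A) :
    Bij F' (i.obj X) ((i.obj Y)⟦q + 1⟧) := by
  have ih' : ∀ X' : A, Bij F' ((i.obj X')⟦(1 : ℤ)⟧) ((i.obj Y)⟦q + 1⟧) := fun X' =>
    ((ih X' Y).shift 1).of_iso₂ ((shiftFunctorAdd' 𝒟 q 1 (q + 1) rfl).app (i.obj Y)).symm
  constructor
  · -- injectivity
    intro ξ₁ ξ₂ hξ
    have hξ' : F'.map ξ₁ = F'.map ξ₂ := hξ
    rw [← sub_eq_zero]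
    have h0 : F'.map (ξ₁ - ξ₂) = 0 := by rw [Functor.map_sub, hξ', sub_self]
    generalize ξ₁ - ξ₂ = ξ at h0
    obtain ⟨X', p, X'', a, δ, hT, hp⟩ := heff X Y (q + 1) (by omega) ξ
    obtain ⟨ξ', hξ'⟩ : ∃ ξ' : (i.obj X'')⟦(1 : ℤ)⟧ ⟶ (i.obj Y)⟦q + 1⟧, ξ = δ ≫ ξ' :=
      Triangle.yoneda_exact₃ _ hT ξ hp
    have hTr := F'.map_distinguished _ (rot_of_distTriang _ hT)
    have h1 : F'.map δ ≫ F'.map ξ' = 0 := by rw [← Functor.map_comp, ← hξ', h0]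
    obtain ⟨g, hg⟩ : ∃ g : (F'.obj (i.obj X'))⟦(1 : ℤ)⟧ ⟶ F'.obj ((i.obj Y)⟦q + 1⟧),
        F'.map ξ' = (F'.map (-(i.map a)⟦(1 : ℤ)⟧') ≫
          (F'.commShiftIso (1 : ℤ)).hom.app (i.obj X')) ≫ g :=
      Triangle.yoneda_exact₃ _ hTr (F'.map ξ') h1
    obtain ⟨η, hη⟩ := (ih' X').2 ((F'.commShiftIso (1 : ℤ)).hom.app (i.obj X') ≫ g)
    have hη' : F'.map η = (F'.commShiftIso (1 : ℤ)).hom.app (i.obj X') ≫ g := hη
    have h2 : ξ' = (-(i.map a)⟦(1 : ℤ)⟧') ≫ η := (ih' X'').1 (by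
      change F'.map ξ' = F'.map ((-(i.map a)⟦(1 : ℤ)⟧') ≫ η)
      rw [Functor.map_comp, hη', hg, Category.assoc])
    have h3 : δ ≫ (i.map a)⟦(1 : ℤ)⟧' = 0 := comp_distTriang_mor_zero₃₁ _ hT
    rw [hξ', h2, Preadditive.neg_comp, Preadditive.comp_neg, reassoc_of% h3, zero_comp, neg_zero]
  · -- surjectivity
    intro ζ
    obtain ⟨e⟩ := hobj ((i.obj Y)⟦q + 1⟧)
    obtain ⟨ζ₀, hζ₀⟩ := F.map_surjective ((t.app X).hom ≫ ζ ≫ e.inv)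
    obtain ⟨X', p, X'', a, δ, hT, hp⟩ := heff X Y (q + 1) (by omega) ζ₀
    have h1 : F'.map (i.map p) ≫ ζ = 0 := by
      have h2 : F.map (i.map p) ≫ (t.app X).hom ≫ ζ ≫ e.inv = 0 := by
        rw [← hζ₀, ← Functor.map_comp, hp, Functor.map_zero]
      have h3 : F.map (i.map p) ≫ (t.app X).hom = (t.app X').hom ≫ F'.map (i.map p) :=
        t.hom.naturality p
      rw [reassoc_of% h3] at h2
      have h4 : (F'.map (i.map p) ≫ ζ) ≫ e.inv = 0 := by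
        rw [← cancel_epi (t.app X').hom, comp_zero, Category.assoc]
        exact h2
      rw [← cancel_mono e.inv, zero_comp]
      exact h4
    have hTF := F'.map_distinguished _ hT
    obtain ⟨g, hg⟩ : ∃ g : (F'.obj (i.obj X''))⟦(1 : ℤ)⟧ ⟶ F'.obj ((i.obj Y)⟦q + 1⟧),
        ζ = (F'.map δ ≫ (F'.commShiftIso (1 : ℤ)).hom.app (i.obj X'')) ≫ g :=
      Triangle.yoneda_exact₃ _ hTF ζ h1
    obtain ⟨ξ', hξ'⟩ := (ih' X'').2 ((F'.commShiftIso (1 : ℤ)).hom.app (i.obj X'') ≫ g)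
    have hξ'' : F'.map ξ' = (F'.commShiftIso (1 : ℤ)).hom.app (i.obj X'') ≫ g := hξ'
    refine ⟨δ ≫ ξ', ?_⟩
    change F'.map (δ ≫ ξ') = ζ
    rw [Functor.map_comp, hξ'', hg, Category.assoc]

include t hobj hneg heff in
theorem stepA (q : ℤ) : ∀ X Y : A, Bij F' (i.obj X) ((i.obj Y)⟦q⟧) := by
  by_cases hq : q < 0
  · intro X Y
    exact stepA_neg hobj hneg X Y q hq
  · obtain ⟨n, rfl⟩ := Int.eq_ofNat_of_zero_le (not_lt.1 hq)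
    induction n with
    | zero => exact fun X Y => stepA_zero t X Y
    | succ n ih =>
      intro X Y
      have := stepA_succ t hobj heff (n : ℤ) (by omega) (ih (by omega)) X Y
      exact this.of_iso₂ (eqToIso (by push_cast; rfl))

include t hobj hneg heff in
theorem bij_cells (m m' : ℤ) (S T : 𝒟) (hS : Cell i m S) (hT : Cell i m' T) : Bij F' S T := by
  obtain ⟨X, ⟨a⟩⟩ := hS
  obtain ⟨Y, ⟨b⟩⟩ := hT
  have h1 := (stepA t hobj hneg heff (m' - m) X Y).shift m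
  have h2 := h1.of_iso₂ ((shiftFunctorAdd' 𝒟 (m' - m) m m' (by ring)).app (i.obj Y)).symm
  exact (h2.of_iso₁ a.symm).of_iso₂ b.symm

include t hobj hneg heff in
theorem full_faithful_of_sibling
    (htw : ∀ K : 𝒟, ∃ (K₁ : 𝒟) (_ : K ≅ K₁) (n : ℕ) (m : ℤ) (S : 𝒟) (ι : S ⟶ K₁),
      IsTw i n m K₁ S ι) : F'.Full ∧ F'.Faithful := by
  have h := bij_of_towers (G := F') (bij_cells t hobj hneg heff) htw
  exact ⟨⟨fun {K L} => (h K L).2⟩, ⟨fun {K L} => (h K L).1⟩⟩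

end stepA

end Groth.Agent.H2.Sib
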