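import Mathlib
import Groth.Prelude.Def_W4stkfunctorsequivSib
import Groth.Agent.Lib.Helper2.Sib2
import Groth.Agent.Lib.Helper2.Sib4
import Groth.Agent.Lib.Helper2.ExtEfface

/-!
# Sibling functors on `D^b(A)`: full faithfulness (helper2)
-/

universe w v u v' u'

set_option linter.unusedSectionVars false

open CategoryTheory CategoryTheory.Limits CategoryTheory.Pretriangulated

namespace Groth.Agent.H2.Sib

open DerivedCategory ZeroObject

variable {A : Type u} [Category.{v} A] [Abelian A] [HasDerivedCategory.{w} A]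

lemma singleB_hneg (X Y : A) (q : ℤ) (hq : q < 0)
    (f : (DEquiv.singleB A).obj X ⟶ ((DEquiv.singleB A).obj Y)⟦q⟧) : f = 0 := by
  apply (TStructure.t (C := A)).bounded.ι.map_injective
  rw [Functor.map_zero]
  let e' : (TStructure.t (C := A)).bounded.ι.obj (((DEquiv.singleB A).obj Y)⟦q⟧) ≅
      ((singleFunctor A 0).obj Y)⟦q⟧ :=
    ((TStructure.t (C := A)).bounded.ι.commShiftIso q).app ((DEquiv.singleB A).obj Y)
  rw [← cancel_mono e'.hom, zero_comp]
  have : TStructure.t.IsGE (((singleFunctor A 0).obj Y)⟦q⟧) (-q) :=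
    TStructure.t.isGE_shift ((singleFunctor A 0).obj Y) 0 q (-q) (by omega)
  have h2 : TStructure.t.IsLE ((TStructure.t (C := A)).bounded.ι.obj ((DEquiv.singleB A).obj X)) 0 :=
    inferInstanceAs (TStructure.t.IsLE ((singleFunctor A 0).obj X) 0)
  exact TStructure.t.zero _ 0 (-q) (by omega)

lemma singleB_heff (X Y : A) (q : ℤ) (hq : 0 < q)
    (ξ : (DEquiv.singleB A).obj X ⟶ ((DEquiv.singleB A).obj Y)⟦q⟧) :
    ∃ (X' : A) (p : X' ⟶ X) (X'' : A) (a : X'' ⟶ X')
      (δ : (DEquiv.singleB A).obj X ⟶ ((DEquiv.singleB A).obj X'')⟦(1 : ℤ)⟧),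
      Triangle.mk ((DEquiv.singleB A).map a) ((DEquiv.singleB A).map p) δ ∈
        distTriang (DerivedCategory.Bounded A) ∧ (DEquiv.singleB A).map p ≫ ξ = 0 := by
  let e' : (TStructure.t (C := A)).bounded.ι.obj (((DEquiv.singleB A).obj Y)⟦q⟧) ≅
      ((singleFunctor A 0).obj Y)⟦q⟧ :=
    ((TStructure.t (C := A)).bounded.ι.commShiftIso q).app ((DEquiv.singleB A).obj Y)
  let f : (singleFunctor A 0).obj X ⟶ ((singleFunctor A 0).obj Y)⟦q⟧ := ξ.hom ≫ e'.hom
  obtain ⟨X', p, hp, hpf⟩ := ExtEfface.exists_epi_comp_eq_zero q (by omega) f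
  let S : ShortComplex A := ShortComplex.mk (kernel.ι p) p (kernel.condition p)
  have hS : S.ShortExact :=
    { exact := ShortComplex.exact_kernel p
      mono_f := inferInstanceAs (Mono (kernel.ι p))
      epi_g := hp }
  have hT := hS.singleTriangle_distinguished
  have hT' := dist_of_ι _ ((DEquiv.singleB A).map (kernel.ι p)) ((DEquiv.singleB A).map p)
    hS.singleδ hT
  refine ⟨X', p, kernel p, kernel.ι p, _, hT', ?_⟩
  apply (TStructure.t (C := A)).bounded.ι.map_injective
  rw [Functor.map_zero, ← cancel_mono e'.hom, zero_comp]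
  change ((singleFunctor A 0).map p ≫ ξ.hom) ≫ e'.hom = 0
  rw [Category.assoc]
  exact hpf

variable {D : Type u'} [Category.{v'} D] [Preadditive D] [HasZeroObject D] [HasShift D ℤ]
  [∀ n : ℤ, (shiftFunctor D n).Additive] [Pretriangulated D]
  (F F' : DerivedCategory.Bounded A ⥤ D) [F.CommShift ℤ] [F.IsTriangulated]
  [F'.CommShift ℤ] [F'.IsTriangulated]

theorem full_faithful_of_sibling_bounded
    (t : DEquiv.singleB A ⋙ F ≅ DEquiv.singleB A ⋙ F')
    (hobj : ∀ K : DerivedCategory.Bounded A, Nonempty (F.obj K ≅ F'.obj K))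
    [F.Full] [F.Faithful] : F'.Full ∧ F'.Faithful :=
  full_faithful_of_sibling t hobj singleB_hneg singleB_heff exists_isTw'

end Groth.Agent.H2.Sib
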