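import Mathlib
import Groth.Prelude.Def_W4stkfunctorsequivSib
import Groth.Agent.Lib.Helper2.Sib2

/-!
# Sibling functors: covers by top cells in `D^b(A)` (helper2)

t-structure bookkeeping in `D^b(A)`: amplitude predicates `LE`, `GE`, the cell functors `cellF b`,
covers `cellF b M ⟶ K` of an object `K ∈ D^{≤ b}`, their refinements along epimorphisms, and
effacing of morphisms to `D^{≤ b-1}`.
-/

universe w v u

set_option linter.unusedSectionVars false

open CategoryTheory CategoryTheory.Limits CategoryTheory.Pretriangulated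

namespace Groth.Agent.H2.Sib

open DerivedCategory ZeroObject

variable {A : Type u} [Category.{v} A] [Abelian A] [HasDerivedCategory.{w} A]

/-- `K ∈ D^{≤ b}` -/
def LE (K : DerivedCategory.Bounded A) (b : ℤ) : Prop := TStructure.t.IsLE K.obj b

/-- `K ∈ D^{≥ a}` -/
def GE (K : DerivedCategory.Bounded A) (a : ℤ) : Prop := TStructure.t.IsGE K.obj a

lemma LE.mono {K : DerivedCategory.Bounded A} {b b' : ℤ} (h : LE K b) (hb : b ≤ b') : LE K b' := by
  haveI : TStructure.t.IsLE K.obj b := h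
  exact TStructure.t.isLE_of_le K.obj b b' hb

lemma GE.mono {K : DerivedCategory.Bounded A} {a a' : ℤ} (h : GE K a) (ha : a' ≤ a) : GE K a' := by
  haveI : TStructure.t.IsGE K.obj a := h
  exact TStructure.t.isGE_of_ge K.obj a' a ha

lemma LE.of_iso {K L : DerivedCategory.Bounded A} {b : ℤ} (h : LE K b) (e : K ≅ L) : LE L b := by
  haveI : TStructure.t.IsLE ((TStructure.t (C := A)).bounded.ι.obj K) b := h
  exact TStructure.t.isLE_of_iso ((TStructure.t (C := A)).bounded.ι.mapIso e) b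

lemma GE.of_iso {K L : DerivedCategory.Bounded A} {a : ℤ} (h : GE K a) (e : K ≅ L) : GE L a := by
  haveI : TStructure.t.IsGE ((TStructure.t (C := A)).bounded.ι.obj K) a := h
  exact TStructure.t.isGE_of_iso ((TStructure.t (C := A)).bounded.ι.mapIso e) a

lemma hom_zero_of_LE_GE {K L : DerivedCategory.Bounded A} {b b' : ℤ} (hK : LE K b) (hL : GE L b')
    (h : b < b') (f : K ⟶ L) : f = 0 := by
  apply (TStructure.t (C := A)).bounded.ι.map_injective
  rw [Functor.map_zero]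
  haveI : TStructure.t.IsLE ((TStructure.t (C := A)).bounded.ι.obj K) b := hK
  haveI : TStructure.t.IsGE ((TStructure.t (C := A)).bounded.ι.obj L) b' := hL
  exact TStructure.t.zero _ b b' h

lemma isZero_of_LE_GE {K : DerivedCategory.Bounded A} {a b : ℤ} (hK : LE K b) (hK' : GE K a)
    (h : b < a) : IsZero K := by
  rw [IsZero.iff_id_eq_zero]
  exact hom_zero_of_LE_GE hK hK' h _

lemma LE_of_isZero {K : DerivedCategory.Bounded A} (hK : IsZero K) (b : ℤ) : LE K b := by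
  have h0 : IsZero K.obj := (TStructure.t (C := A)).bounded.ι.map_isZero hK
  have : TStructure.t.IsLE (0 : DerivedCategory A) b := inferInstance
  exact TStructure.t.isLE_of_iso (h0.isoZero).symm b

lemma GE_of_isZero {K : DerivedCategory.Bounded A} (hK : IsZero K) (a : ℤ) : GE K a := by
  have h0 : IsZero K.obj := (TStructure.t (C := A)).bounded.ι.map_isZero hK
  have : TStructure.t.IsGE (0 : DerivedCategory A) a := inferInstance
  exact TStructure.t.isGE_of_iso (h0.isoZero).symm a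

lemma LE.shift {K : DerivedCategory.Bounded A} {b : ℤ} (h : LE K b) (n b' : ℤ) (hb : n + b' = b) :
    LE (K⟦n⟧) b' := by
  haveI : TStructure.t.IsLE K.obj b := h
  haveI : TStructure.t.IsLE (((TStructure.t (C := A)).bounded.ι ⋙
      shiftFunctor (DerivedCategory A) n).obj K) b' := TStructure.t.isLE_shift K.obj b n b' hb
  exact TStructure.t.isLE_of_iso
    (((TStructure.t (C := A)).bounded.ι.commShiftIso n).app K).symm b'

lemma GE.shift {K : DerivedCategory.Bounded A} {a : ℤ} (h : GE K a) (n a' : ℤ) (ha : n + a' = a) :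
    GE (K⟦n⟧) a' := by
  haveI : TStructure.t.IsGE K.obj a := h
  haveI : TStructure.t.IsGE (((TStructure.t (C := A)).bounded.ι ⋙
      shiftFunctor (DerivedCategory A) n).obj K) a' := TStructure.t.isGE_shift K.obj a n a' ha
  exact TStructure.t.isGE_of_iso
    (((TStructure.t (C := A)).bounded.ι.commShiftIso n).app K).symm a'

lemma LE₂ (T : Triangle (DerivedCategory.Bounded A))
    (hT : T ∈ distTriang (DerivedCategory.Bounded A)) (n : ℤ) (h₁ : LE T.obj₁ n)
    (h₃ : LE T.obj₃ n) : LE T.obj₂ n :=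
  TStructure.t.isLE₂ _ ((TStructure.t (C := A)).bounded.ι.map_distinguished _ hT) n h₁ h₃

lemma GE₂ (T : Triangle (DerivedCategory.Bounded A))
    (hT : T ∈ distTriang (DerivedCategory.Bounded A)) (n : ℤ) (h₁ : GE T.obj₁ n)
    (h₃ : GE T.obj₃ n) : GE T.obj₂ n :=
  TStructure.t.isGE₂ _ ((TStructure.t (C := A)).bounded.ι.map_distinguished _ hT) n h₁ h₃

lemma exists_bounds (K : DerivedCategory.Bounded A) : ∃ a b : ℤ, GE K a ∧ LE K b := by
  have hK : TStructure.t.plus K.obj ∧ TStructure.t.minus K.obj := K.property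
  obtain ⟨⟨a, hGE⟩, ⟨b, hLE⟩⟩ := hK
  exact ⟨a, b, hGE, hLE⟩

/-- the cell functor: an object placed in degree `b` -/
noncomputable def cellF (b : ℤ) : A ⥤ DerivedCategory.Bounded A :=
  DerivedCategory.TStructure.t.bounded.lift (DerivedCategory.singleFunctor A b)
    (fun _ => ⟨⟨b, inferInstance⟩, ⟨b, inferInstance⟩⟩)

instance (b : ℤ) : (cellF (A := A) b).Full := by
  unfold cellF
  infer_instance

instance (b : ℤ) : (cellF (A := A) b).Faithful := by
  unfold cellF
  infer_instance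

instance (b : ℤ) : (cellF (A := A) b).Additive := by
  unfold cellF
  infer_instance

lemma cellF_LE (X : A) (b : ℤ) : LE ((cellF b).obj X) b :=
  inferInstanceAs (TStructure.t.IsLE ((singleFunctor A b).obj X) b)

lemma cellF_GE (X : A) (b : ℤ) : GE ((cellF b).obj X) b :=
  inferInstanceAs (TStructure.t.IsGE ((singleFunctor A b).obj X) b)

lemma cell_cellF (X : A) (b : ℤ) : Cell (DEquiv.singleB A) (-b) ((cellF b).obj X) := by
  have e : (singleFunctor A b).obj X ≅ ((singleFunctor A 0).obj X)⟦-b⟧ :=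
    (((singleFunctors A).shiftIso (-b) b 0 (by omega)).app X).symm
  have e' : (TStructure.t (C := A)).bounded.ι.obj (((DEquiv.singleB A).obj X)⟦-b⟧) ≅
      ((singleFunctor A 0).obj X)⟦-b⟧ :=
    ((TStructure.t (C := A)).bounded.ι.commShiftIso (-b)).app ((DEquiv.singleB A).obj X)
  exact ⟨X, ⟨ObjectProperty.isoMk _ (e ≪≫ e'.symm)⟩⟩

lemma cellF_map_eq_zero {b : ℤ} {X Y : A} (φ : (cellF b).obj X ⟶ (cellF b).obj Y)
    (h : ∀ f : X ⟶ Y, f = 0) : φ = 0 := by
  obtain ⟨f, rfl⟩ := (cellF b).map_surjective φ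
  rw [h f, Functor.map_zero]

/-- a short exact sequence in `A` gives a distinguished triangle of cells -/
lemma cellF_dist (S : ShortComplex A) (hS : S.ShortExact) (b : ℤ) :
    ∃ δ : (cellF b).obj S.X₃ ⟶ ((cellF b).obj S.X₁)⟦(1 : ℤ)⟧,
      Triangle.mk ((cellF b).map S.f) ((cellF b).map S.g) δ ∈
        distTriang (DerivedCategory.Bounded A) := by
  have hS' := hS.map_of_exact (HomologicalComplex.single A (ComplexShape.up ℤ) b)
  have hT := triangleOfSES_distinguished hS'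
  exact ⟨_, dist_of_ι _ ((cellF b).map S.f) ((cellF b).map S.g) (triangleOfSESδ hS') hT⟩

/-- every object of `D^{[a,b]}` is covered by a cell in degree `b` with cone in `D^{[a,b-1]}` -/
lemma exists_cover (K : DerivedCategory.Bounded A) (a b : ℤ) (hGE : GE K a) (hLE : LE K b) :
    ∃ (M : A) (τ : (cellF b).obj M ⟶ K) (Q₁ : DerivedCategory.Bounded A) (q : K ⟶ Q₁)
      (δ : Q₁ ⟶ ((cellF b).obj M)⟦(1 : ℤ)⟧),
      Triangle.mk τ q δ ∈ distTriang (DerivedCategory.Bounded A) ∧ LE Q₁ (b - 1) ∧ GE Q₁ a := by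
  haveI : TStructure.t.IsGE K.obj a := hGE
  haveI : TStructure.t.IsLE K.obj b := hLE
  obtain ⟨L, hL1, hL2, ⟨e⟩⟩ := DerivedCategory.exists_iso_Q_obj_of_isGE_of_isLE K.obj a b
  have hGE' := topQ_isStrictlyGE L b a
  have hLE' := topQ_isStrictlyLE L b
  let eK : K ≅ QB L a b hL1 hL2 := ObjectProperty.isoMk _ e
  have hT := triangleOfSES_distinguished (topS_shortExact L b)
  let ι₀ : (cellF b).obj (L.X b) ⟶ QB L a b hL1 hL2 := ObjectProperty.homMk (Q.map (topι L b))
  let π₀ : QB L a b hL1 hL2 ⟶ QB (topQ L b) a (b - 1) hGE' hLE' :=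
    ObjectProperty.homMk (Q.map (topπ L b))
  obtain ⟨δ₀, hT'⟩ : ∃ δ₀ : QB (topQ L b) a (b - 1) hGE' hLE' ⟶ ((cellF b).obj (L.X b))⟦(1 : ℤ)⟧,
      Triangle.mk ι₀ π₀ δ₀ ∈ distTriang (DerivedCategory.Bounded A) :=
    ⟨_, dist_of_ι _ ι₀ π₀ (triangleOfSESδ (topS_shortExact L b)) hT⟩
  refine ⟨L.X b, ι₀ ≫ eK.inv, QB (topQ L b) a (b - 1) hGE' hLE', eK.hom ≫ π₀, δ₀, ?_, ?_, ?_⟩
  · refine isomorphic_distinguished _ hT' _
      (Triangle.isoMk _ _ (Iso.refl _) eK (Iso.refl _) ?_ ?_ ?_)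
    · change (ι₀ ≫ eK.inv) ≫ eK.hom = 𝟙 _ ≫ ι₀
      rw [Category.id_comp, Category.assoc, Iso.inv_hom_id, Category.comp_id]
    · change (eK.hom ≫ π₀) ≫ 𝟙 _ = eK.hom ≫ π₀
      rw [Category.comp_id]
    · change δ₀ ≫ (𝟙 ((cellF b).obj (L.X b)))⟦(1 : ℤ)⟧' = 𝟙 _ ≫ δ₀
      rw [CategoryTheory.Functor.map_id, Category.comp_id, Category.id_comp]
  · exact inferInstanceAs (TStructure.t.IsLE (Q.obj (topQ L b)) (b - 1))
  · exact inferInstanceAs (TStructure.t.IsGE (Q.obj (topQ L b)) a)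

/-- negativity transfers from a cover to the covered object -/
lemma hom_zero_of_cover {K : DerivedCategory.Bounded A} {b : ℤ} {M : A}
    (τ : (cellF b).obj M ⟶ K) {Q₁ : DerivedCategory.Bounded A} (q : K ⟶ Q₁)
    (δ : Q₁ ⟶ ((cellF b).obj M)⟦(1 : ℤ)⟧)
    (hT : Triangle.mk τ q δ ∈ distTriang (DerivedCategory.Bounded A)) (hQ : LE Q₁ (b - 1))
    (N : A) (hN : ∀ h : M ⟶ N, h = 0) (φ : K ⟶ (cellF b).obj N) : φ = 0 := by
  have h1 : τ ≫ φ = 0 := cellF_map_eq_zero _ hN
  obtain ⟨φ', hφ'⟩ : ∃ φ' : Q₁ ⟶ (cellF b).obj N, φ = q ≫ φ' :=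
    Triangle.yoneda_exact₂ _ hT φ h1
  rw [hφ', hom_zero_of_LE_GE hQ (cellF_GE N b) (by omega) φ', comp_zero]

/-- effacing a morphism from a cell in degree `b` to an object of `D^{≤ b-1}` -/
lemma exists_efface {b : ℤ} {M : A} {Z : DerivedCategory.Bounded A} (hZ : LE Z (b - 1))
    (ξ : (cellF b).obj M ⟶ Z) :
    ∃ (M' : A) (π : M' ⟶ M), Epi π ∧ (cellF b).map π ≫ ξ = 0 := by
  obtain ⟨E, e, w, hT⟩ := distinguished_cocone_triangle₁ ξ
  have hTi := inv_rot_of_distTriang _ hT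
  have hE : LE E b := by
    refine LE₂ _ hTi b ?_ (cellF_LE M b)
    exact hZ.shift (-1) b (by ring)
  obtain ⟨aE, bE, hEa, _⟩ := exists_bounds E
  obtain ⟨M', τE, QE, qE, δE, hTE, hQE, _⟩ := exists_cover E aE b hEa hE
  obtain ⟨π, hπ⟩ := (cellF b).map_surjective (τE ≫ e)
  refine ⟨M', π, ?_, ?_⟩
  · apply Preadditive.epi_of_cancel_zero
    intro T h hh
    have h1 : τE ≫ e ≫ (cellF b).map h = 0 := by
      rw [← Category.assoc, ← hπ, ← Functor.map_comp, hh, Functor.map_zero]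
    obtain ⟨φ, hφ⟩ : ∃ φ : QE ⟶ (cellF b).obj T, e ≫ (cellF b).map h = qE ≫ φ :=
      Triangle.yoneda_exact₂ _ hTE _ h1
    have h2 : e ≫ (cellF b).map h = 0 := by
      rw [hφ, hom_zero_of_LE_GE hQE (cellF_GE T b) (by omega) φ, comp_zero]
    obtain ⟨ψ, hψ⟩ : ∃ ψ : Z ⟶ (cellF b).obj T, (cellF b).map h = ξ ≫ ψ :=
      Triangle.yoneda_exact₂ _ hT _ h2
    have h3 : (cellF b).map h = 0 := by
      rw [hψ, hom_zero_of_LE_GE hZ (cellF_GE T b) (by omega) ψ, comp_zero]
    exact (cellF b).map_injective (by rw [h3, Functor.map_zero])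
  · rw [hπ, Category.assoc]
    have : e ≫ ξ = 0 := comp_distTriang_mor_zero₁₂ _ hT
    rw [this, comp_zero]

/-- refining a cover along an epimorphism -/
lemma pres_of_epi {K : DerivedCategory.Bounded A} {a b : ℤ} (hab : a < b) {M : A}
    (τ : (cellF b).obj M ⟶ K) {Q₁ : DerivedCategory.Bounded A} (q : K ⟶ Q₁)
    (δ : Q₁ ⟶ ((cellF b).obj M)⟦(1 : ℤ)⟧)
    (hT : Triangle.mk τ q δ ∈ distTriang (DerivedCategory.Bounded A)) (hQ : LE Q₁ (b - 1))
    (hQ' : GE Q₁ a) {N : A} (π : N ⟶ M) [Epi π] :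
    ∃ (Y : DerivedCategory.Bounded A) (y : K ⟶ Y) (δ' : Y ⟶ ((cellF b).obj N)⟦(1 : ℤ)⟧),
      Triangle.mk ((cellF b).map π ≫ τ) y δ' ∈ distTriang (DerivedCategory.Bounded A) ∧
        LE Y (b - 1) ∧ GE Y a := by
  let S : ShortComplex A := ShortComplex.mk (kernel.ι π) π (kernel.condition π)
  have hS : S.ShortExact :=
    { exact := ShortComplex.exact_kernel π
      mono_f := inferInstanceAs (Mono (kernel.ι π))
      epi_g := inferInstanceAs (Epi π) }
  obtain ⟨δS, hTS⟩ := cellF_dist S hS b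
  have hTS' := rot_of_distTriang _ hTS
  obtain ⟨Y, y, δ', hY⟩ := distinguished_cocone_triangle ((cellF b).map π ≫ τ)
  have oct := Triangulated.someOctahedron (rfl : (cellF b).map π ≫ τ = (cellF b).map π ≫ τ)
    hTS' hT hY
  have hm := oct.mem
  have hC1 : LE (((cellF b).obj (kernel π))⟦(1 : ℤ)⟧) (b - 1) :=
    (cellF_LE (kernel π) b).shift 1 (b - 1) (by ring)
  have hC2 : GE (((cellF b).obj (kernel π))⟦(1 : ℤ)⟧) a :=
    ((cellF_GE (kernel π) b).shift 1 (b - 1) (by ring)).mono (by omega)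
  exact ⟨Y, y, δ', hY, LE₂ _ hm (b - 1) hC1 hQ, GE₂ _ hm a hC2 hQ'⟩

end Groth.Agent.H2.Sib
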