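import Mathlib
import Groth.Prelude.Def_W4stkfunctorsequivSib
import Groth.Agent.Lib.Helper2.Sib6

/-!
# Sibling functors: negative presentations and canonical comparison maps (helper2)

`A` has enough negative objects.  A *presentation* of `K ∈ D^{[a,b]}` is a distinguished triangle
`N[-b] ⟶ K ⟶ Y` with `Y ∈ D^{[a,b-1]}` and `Hom(K, N[-b]) = 0`.  Given a natural family of
comparison maps `c : F ⟶ F'` on `D^{[a,b-1]}`, every presentation determines a unique compatible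
map `F K ⟶ F' K`, independent of the presentation and natural in `K`.
-/

universe w v u v' u'

set_option linter.unusedSectionVars false

open CategoryTheory CategoryTheory.Limits CategoryTheory.Pretriangulated

namespace Groth.Agent.H2.Sib

open DerivedCategory ZeroObject

variable {A : Type u} [Category.{v} A] [Abelian A] [HasDerivedCategory.{w} A]

/-- `K ∈ D^{[a,b]}` -/
def In (a b : ℤ) (K : DerivedCategory.Bounded A) : Prop := GE K a ∧ LE K b

lemma In.mono {a b a' b' : ℤ} {K : DerivedCategory.Bounded A} (h : In a b K) (ha : a' ≤ a)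
    (hb : b ≤ b') : In a' b' K := ⟨h.1.mono ha, h.2.mono hb⟩

lemma in_singleB (X : A) : In 0 0 ((DEquiv.singleB A).obj X) :=
  ⟨inferInstanceAs (TStructure.t.IsGE ((singleFunctor A 0).obj X) 0),
    inferInstanceAs (TStructure.t.IsLE ((singleFunctor A 0).obj X) 0)⟩

lemma in_of_cell {j : ℤ} {S : DerivedCategory.Bounded A} (h : Cell (DEquiv.singleB A) (-j) S) :
    In j j S := by
  obtain ⟨X, ⟨e⟩⟩ := h
  have h0 := in_singleB X
  exact ⟨(h0.1.shift (-j) j (by ring)).of_iso e.symm, (h0.2.shift (-j) j (by ring)).of_iso e.symm⟩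

lemma cell_of_in {a : ℤ} {K : DerivedCategory.Bounded A} (h : In a a K) :
    Cell (DEquiv.singleB A) (-a) K := by
  obtain ⟨M, τ, Q₁, q, δ, hT, hQ, hQ'⟩ := exists_cover K a a h.1 h.2
  have hz : IsZero Q₁ := isZero_of_LE_GE hQ hQ' (by omega)
  have hiso : IsIso τ := (Triangle.isZero₃_iff_isIso₁ _ hT).1 hz
  obtain ⟨X, ⟨e⟩⟩ := cell_cellF M a
  exact ⟨X, ⟨(@asIso _ _ _ _ τ hiso).symm ≪≫ e⟩⟩

/-- a negative presentation of `K` at level `b` -/
structure Pres (a b : ℤ) (K : DerivedCategory.Bounded A) where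
  N : A
  x : (cellF b).obj N ⟶ K
  Y : DerivedCategory.Bounded A
  y : K ⟶ Y
  δ : Y ⟶ ((cellF b).obj N)⟦(1 : ℤ)⟧
  dist : Triangle.mk x y δ ∈ distTriang (DerivedCategory.Bounded A)
  hY : In a (b - 1) Y
  hneg : ∀ k : K ⟶ (cellF b).obj N, k = 0

section neg

variable (hneg : ∀ X : A, ∃ (N : A) (p : N ⟶ X), Epi p ∧ ∀ f : X ⟶ N, f = 0)

include hneg in
lemma exists_neg (M₂ M M' : A) : ∃ (N : A) (π : N ⟶ M₂), Epi π ∧ (∀ h : M ⟶ N, h = 0) ∧
    (∀ h : M' ⟶ N, h = 0) := by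
  obtain ⟨N, p, hp, hN⟩ := hneg (M₂ ⊞ (M ⊞ M'))
  refine ⟨N, p ≫ biprod.fst, epi_comp _ _, ?_, ?_⟩
  · intro h
    let u : M₂ ⊞ (M ⊞ M') ⟶ N := biprod.snd ≫ biprod.fst ≫ h
    let j : M ⟶ M₂ ⊞ (M ⊞ M') := biprod.inl ≫ biprod.inr
    have h1 : u = 0 := hN u
    have h2 : h = j ≫ u := by simp [j, u]
    rw [h2, h1, comp_zero]
  · intro h
    let u : M₂ ⊞ (M ⊞ M') ⟶ N := biprod.snd ≫ biprod.snd ≫ h
    let j : M' ⟶ M₂ ⊞ (M ⊞ M') := biprod.inr ≫ biprod.inr
    have h1 : u = 0 := hN u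
    have h2 : h = j ≫ u := by simp [j, u]
    rw [h2, h1, comp_zero]

include hneg in
/-- presentations exist, and may be chosen to kill two given maps to `D^{≤ b-1}` and to be
negative with respect to another object of `D^{≤ b}` -/
lemma exists_pres {a b : ℤ} (hab : a < b) {K : DerivedCategory.Bounded A} (hK : In a b K)
    {Z₁ Z₂ : DerivedCategory.Bounded A} (hZ₁ : LE Z₁ (b - 1)) (hZ₂ : LE Z₂ (b - 1))
    (g₁ : K ⟶ Z₁) (g₂ : K ⟶ Z₂) {K' : DerivedCategory.Bounded A} (hK' : LE K' b) :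
    ∃ p : Pres a b K, p.x ≫ g₁ = 0 ∧ p.x ≫ g₂ = 0 ∧ ∀ k : K' ⟶ (cellF b).obj p.N, k = 0 := by
  obtain ⟨M, τ, Q₁, q, δ, hT, hQ, hQ'⟩ := exists_cover K a b hK.1 hK.2
  obtain ⟨a', b', hK'a, _⟩ := exists_bounds K'
  obtain ⟨M', τ', Q', q', δ', hT', hQ'', _⟩ := exists_cover K' a' b hK'a hK'
  obtain ⟨M₁, π₁, hπ₁, h₁⟩ := exists_efface hZ₁ (τ ≫ g₁)
  obtain ⟨M₂, π₂, hπ₂, h₂⟩ := exists_efface hZ₂ ((cellF b).map π₁ ≫ τ ≫ g₂)
  obtain ⟨N, π₃, hπ₃, hN, hN'⟩ := exists_neg hneg M₂ M M'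
  haveI : Epi (π₃ ≫ π₂ ≫ π₁) := epi_comp' hπ₃ (epi_comp' hπ₂ hπ₁)
  obtain ⟨Y, y, δY, hY, hYLE, hYGE⟩ := pres_of_epi hab τ q δ hT hQ hQ' (π₃ ≫ π₂ ≫ π₁)
  refine ⟨⟨N, (cellF b).map (π₃ ≫ π₂ ≫ π₁) ≫ τ, Y, y, δY, hY, ⟨hYGE, hYLE⟩,
    hom_zero_of_cover τ q δ hT hQ N hN⟩, ?_, ?_, hom_zero_of_cover τ' q' δ' hT' hQ'' N hN'⟩
  · change ((cellF b).map (π₃ ≫ π₂ ≫ π₁) ≫ τ) ≫ g₁ = 0
    rw [Functor.map_comp, Functor.map_comp, Category.assoc, Category.assoc, Category.assoc, h₁,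
      comp_zero, comp_zero]
  · change ((cellF b).map (π₃ ≫ π₂ ≫ π₁) ≫ τ) ≫ g₂ = 0
    rw [Functor.map_comp, Functor.map_comp, Category.assoc, Category.assoc, Category.assoc, h₂,
      comp_zero]

end neg

variable {D : Type u'} [Category.{v'} D] [Preadditive D] [HasZeroObject D] [HasShift D ℤ]
  [∀ n : ℤ, (shiftFunctor D n).Additive] [Pretriangulated D]
  {F F' : DerivedCategory.Bounded A ⥤ D} [F.CommShift ℤ] [F.IsTriangulated]
  [F'.CommShift ℤ] [F'.IsTriangulated]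
  (t : DEquiv.singleB A ⋙ F ≅ DEquiv.singleB A ⋙ F')

/-- the comparison isomorphism on the cell `N[-b]` -/
noncomputable def θc (b : ℤ) (N : A) :
    F.obj ((cellF b).obj N) ≅ F'.obj ((cellF b).obj N) :=
  Classical.choose (exists_adm (F := F) (F' := F') (t := t) (cell_cellF N b))

lemma adm_θc (b : ℤ) (N : A) :
    Adm (DEquiv.singleB A) F F' t (-b) ((cellF b).obj N) (θc t b N) :=
  Classical.choose_spec (exists_adm (F := F) (F' := F') (t := t) (cell_cellF N b))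

/-- a natural family of comparison isomorphisms on `D^{[a,b]}` extending `t` on cells -/
structure IsFam (a b : ℤ) (c : ∀ K : DerivedCategory.Bounded A, F.obj K ⟶ F'.obj K) : Prop where
  nat : ∀ {K L : DerivedCategory.Bounded A}, In a b K → In a b L → ∀ f : K ⟶ L,
    F.map f ≫ c L = c K ≫ F'.map f
  iso : ∀ {K : DerivedCategory.Bounded A}, In a b K → IsIso (c K)
  adm : ∀ (j : ℤ) (S : DerivedCategory.Bounded A) (θ : F.obj S ≅ F'.obj S), a ≤ j → j ≤ b →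
    Adm (DEquiv.singleB A) F F' t (-j) S θ → c S = θ.hom

variable {t}

lemma IsFam.mono {a b a₁ b₁ : ℤ} {c : ∀ K : DerivedCategory.Bounded A, F.obj K ⟶ F'.obj K}
    (h : IsFam t a b c) (ha : a ≤ a₁) (hb : b₁ ≤ b) : IsFam t a₁ b₁ c where
  nat hK hL f := h.nat (hK.mono ha hb) (hL.mono ha hb) f
  iso hK := h.iso (hK.mono ha hb)
  adm j S θ h1 h2 hθ := h.adm j S θ (by omega) (by omega) hθ

variable [F.Full]

variable (t) in
include t in
/-- the key uniqueness lemma -/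
lemma KL {a b : ℤ} {K : DerivedCategory.Bounded A} (p : Pres a b K)
    (K'' : DerivedCategory.Bounded A) (h'' : ∀ k : K'' ⟶ (cellF b).obj p.N, k = 0)
    (d : F.obj K'' ⟶ F'.obj K) (hd : d ≫ F'.map p.y = 0) : d = 0 := by
  have hTF' := F'.map_distinguished _ p.dist
  obtain ⟨h, hh⟩ : ∃ h : F.obj K'' ⟶ F'.obj ((cellF b).obj p.N), d = h ≫ F'.map p.x :=
    Triangle.coyoneda_exact₂ _ hTF' d hd
  obtain ⟨k, hk⟩ := F.map_surjective (h ≫ (θc t b p.N).inv)
  have h1 : h ≫ (θc t b p.N).inv = 0 := by rw [← hk, h'' k, F.map_zero]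
  have h0 : h = 0 := by rw [← cancel_mono (θc t b p.N).inv, h1, zero_comp]
  rw [hh, h0, zero_comp]

/-- compatibility of a comparison map with a presentation -/
def Comp (c : ∀ K : DerivedCategory.Bounded A, F.obj K ⟶ F'.obj K) {a b : ℤ}
    {K : DerivedCategory.Bounded A} (p : Pres a b K) (γ : F.obj K ⟶ F'.obj K) : Prop :=
  F.map p.y ≫ c p.Y = γ ≫ F'.map p.y

variable {c : ∀ K : DerivedCategory.Bounded A, F.obj K ⟶ F'.obj K} {a b : ℤ}

variable (t) in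
include t in
lemma comp_unique {K : DerivedCategory.Bounded A} (p : Pres a b K) {γ γ' : F.obj K ⟶ F'.obj K}
    (h : Comp c p γ) (h' : Comp c p γ') : γ = γ' := by
  rw [← sub_eq_zero]
  apply KL t p K p.hneg
  have h1 : F.map p.y ≫ c p.Y = γ ≫ F'.map p.y := h
  have h2 : F.map p.y ≫ c p.Y = γ' ≫ F'.map p.y := h'
  rw [Preadditive.sub_comp, ← h1, ← h2, sub_self]

lemma in_shift_cell (hab : a < b) (N : A) : In a (b - 1) (((cellF b).obj N)⟦(1 : ℤ)⟧) :=
  ⟨((cellF_GE N b).shift 1 (b - 1) (by ring)).mono (by omega),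
    (cellF_LE N b).shift 1 (b - 1) (by ring)⟩

lemma exists_comp (hab : a < b) (hc : IsFam t a (b - 1) c) {K : DerivedCategory.Bounded A}
    (p : Pres a b K) :
    ∃ γ : F.obj K ⟶ F'.obj K, IsIso γ ∧
      F.map p.x ≫ γ = (θc t b p.N).hom ≫ F'.map p.x ∧ Comp c p γ := by
  have hθ := adm_θc t b p.N
  have hτ := adm_shift hθ
  have hS1 := in_shift_cell (A := A) hab p.N
  have hcS1 : c (((cellF b).obj p.N)⟦(1 : ℤ)⟧) = (shiftIso (θc t b p.N)).hom := by
    refine hc.adm (b - 1) _ _ (by omega) le_rfl ?_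
    have e : -(b - 1) = -b + 1 := by ring
    rw [e]
    exact hτ
  have hΔ : F.map p.δ ≫ (shiftIso (θc t b p.N)).hom = c p.Y ≫ F'.map p.δ := by
    rw [← hcS1]
    exact hc.nat p.hY hS1 p.δ
  have hTF := F.map_distinguished _ p.dist
  have hTF' := F'.map_distinguished _ p.dist
  have hcomm : (F.map p.δ ≫ (F.commShiftIso (1 : ℤ)).hom.app ((cellF b).obj p.N)) ≫
      (θc t b p.N).hom⟦(1 : ℤ)⟧' =
      c p.Y ≫ F'.map p.δ ≫ (F'.commShiftIso (1 : ℤ)).hom.app ((cellF b).obj p.N) := by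
    rw [← reassoc_of% hΔ, shiftIso_hom]
    simp
  obtain ⟨γ, hb1, hb2⟩ := complete_distinguished_triangle_morphism₂ _ _ hTF hTF'
    (θc t b p.N).hom (c p.Y) hcomm
  let φm : F.mapTriangle.obj (Triangle.mk p.x p.y p.δ) ⟶
      F'.mapTriangle.obj (Triangle.mk p.x p.y p.δ) :=
    { hom₁ := (θc t b p.N).hom
      hom₂ := γ
      hom₃ := c p.Y
      comm₁ := hb1
      comm₂ := hb2
      comm₃ := hcomm }
  have hcY : IsIso (c p.Y) := hc.iso p.hY
  have hiso : IsIso γ := isIso₂_of_isIso₁₃ φm hTF hTF' (by dsimp [φm]; infer_instance)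
    (by dsimp [φm]; exact hcY)
  exact ⟨γ, hiso, hb1, hb2⟩

lemma comp_dom (hc : IsFam t a (b - 1) c) {K : DerivedCategory.Bounded A} (p p' : Pres a b K)
    (hd : p.x ≫ p'.y = 0) {γ : F.obj K ⟶ F'.obj K} (h : Comp c p γ) : Comp c p' γ := by
  obtain ⟨g, hg⟩ : ∃ g : p.Y ⟶ p'.Y, p'.y = p.y ≫ g :=
    Triangle.yoneda_exact₂ _ p.dist p'.y hd
  have h1 : F.map p.y ≫ c p.Y = γ ≫ F'.map p.y := h
  change F.map p'.y ≫ c p'.Y = γ ≫ F'.map p'.y
  rw [hg, F.map_comp, Category.assoc, hc.nat p.hY p'.hY g, reassoc_of% h1, F'.map_comp]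

section neg

variable (hneg : ∀ X : A, ∃ (N : A) (p : N ⟶ X), Epi p ∧ ∀ f : X ⟶ N, f = 0)

include hneg in
lemma comp_indep (hab : a < b) (hc : IsFam t a (b - 1) c) {K : DerivedCategory.Bounded A}
    (hK : In a b K) (p' p'' : Pres a b K) {γ : F.obj K ⟶ F'.obj K} (h : Comp c p' γ) :
    Comp c p'' γ := by
  obtain ⟨p, h1, h2, _⟩ := exists_pres hneg hab hK p'.hY.2 p''.hY.2 p'.y p''.y hK.2
  obtain ⟨γ₀, _, _, hγ₀⟩ := exists_comp hab hc p
  have e : γ = γ₀ := comp_unique t p' h (comp_dom hc p p' h1 hγ₀)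
  rw [e]
  exact comp_dom hc p p'' h2 hγ₀

include hneg in
lemma exists_pres₀ (hab : a < b) {K : DerivedCategory.Bounded A} (hK : In a b K) :
    Nonempty (Pres a b K) := by
  have hz : LE (0 : DerivedCategory.Bounded A) (b - 1) := LE_of_isZero (isZero_zero _) _
  obtain ⟨p, _⟩ := exists_pres hneg hab hK hz hz (0 : K ⟶ 0) (0 : K ⟶ 0) hK.2
  exact ⟨p⟩

include hneg in
lemma exists_good (hab : a < b) (hc : IsFam t a (b - 1) c) {K : DerivedCategory.Bounded A}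
    (hK : In a b K) :
    ∃ γ : F.obj K ⟶ F'.obj K, IsIso γ ∧ ∀ p : Pres a b K, Comp c p γ ∧
      F.map p.x ≫ γ = (θc t b p.N).hom ≫ F'.map p.x := by
  obtain ⟨p₀⟩ := exists_pres₀ hneg hab hK
  obtain ⟨γ, hγi, hγx, hγy⟩ := exists_comp hab hc p₀
  refine ⟨γ, hγi, fun p => ?_⟩
  have h1 : Comp c p γ := comp_indep hneg hab hc hK p₀ p hγy
  obtain ⟨γ', _, hγ'x, hγ'y⟩ := exists_comp hab hc p
  have e : γ = γ' := comp_unique t p h1 hγ'y
  exact ⟨h1, by rw [e]; exact hγ'x⟩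

open Classical in
/-- the extended family -/
noncomputable def ext (hab : a < b) (hc : IsFam t a (b - 1) c)
    (K : DerivedCategory.Bounded A) : F.obj K ⟶ F'.obj K :=
  if hK : In a b K then Classical.choose (exists_good hneg hab hc hK) else 0

lemma ext_spec (hab : a < b) (hc : IsFam t a (b - 1) c) {K : DerivedCategory.Bounded A}
    (hK : In a b K) : IsIso (ext hneg hab hc K) ∧ ∀ p : Pres a b K,
      Comp c p (ext hneg hab hc K) ∧
      F.map p.x ≫ ext hneg hab hc K = (θc t b p.N).hom ≫ F'.map p.x := by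
  unfold ext
  rw [dif_pos hK]
  exact Classical.choose_spec (exists_good hneg hab hc hK)

lemma ext_old (hab : a < b) (hc : IsFam t a (b - 1) c) {K : DerivedCategory.Bounded A}
    (hK : In a (b - 1) K) : ext hneg hab hc K = c K := by
  have hK' : In a b K := hK.mono le_rfl (by omega)
  obtain ⟨p₀⟩ := exists_pres₀ hneg hab hK'
  refine comp_unique t p₀ ((ext_spec hneg hab hc hK').2 p₀).1 ?_
  exact hc.nat hK p₀.hY p₀.y

lemma ext_mixed (hab : a < b) (hc : IsFam t a (b - 1) c) {K Z : DerivedCategory.Bounded A}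
    (hK : In a b K) (hZ : In a (b - 1) Z) (g : K ⟶ Z) :
    F.map g ≫ c Z = ext hneg hab hc K ≫ F'.map g := by
  obtain ⟨p, h1, _, _⟩ := exists_pres hneg hab hK hZ.2 hZ.2 g g hK.2
  obtain ⟨g', hg'⟩ : ∃ g' : p.Y ⟶ Z, g = p.y ≫ g' := Triangle.yoneda_exact₂ _ p.dist g h1
  have h2 : F.map p.y ≫ c p.Y = ext hneg hab hc K ≫ F'.map p.y :=
    ((ext_spec hneg hab hc hK).2 p).1
  rw [hg', F.map_comp, Category.assoc, hc.nat p.hY hZ g', reassoc_of% h2, F'.map_comp]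

lemma ext_nat (hab : a < b) (hc : IsFam t a (b - 1) c) {K K' : DerivedCategory.Bounded A}
    (hK : In a b K) (hK' : In a b K') (f : K ⟶ K') :
    F.map f ≫ ext hneg hab hc K' = ext hneg hab hc K ≫ F'.map f := by
  have hz : LE (0 : DerivedCategory.Bounded A) (b - 1) := LE_of_isZero (isZero_zero _) _
  obtain ⟨p', _, _, hp'⟩ := exists_pres hneg hab hK' hz hz (0 : K' ⟶ 0) (0 : K' ⟶ 0) hK.2
  rw [← sub_eq_zero]
  apply KL t p' K hp'
  have h2 : F.map p'.y ≫ c p'.Y = ext hneg hab hc K' ≫ F'.map p'.y :=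
    ((ext_spec hneg hab hc hK').2 p').1
  have h3 := ext_mixed hneg hab hc hK p'.hY (f ≫ p'.y)
  rw [Preadditive.sub_comp, sub_eq_zero, Category.assoc, ← h2, ← F.map_comp_assoc, h3,
    F'.map_comp, Category.assoc]

lemma ext_adm_top (hab : a < b) (hc : IsFam t a (b - 1) c) (S : DerivedCategory.Bounded A)
    (θ : F.obj S ≅ F'.obj S) (hθ : Adm (DEquiv.singleB A) F F' t (-b) S θ) :
    ext hneg hab hc S = θ.hom := by
  have hS : In b b S := in_of_cell hθ.cell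
  have hS' : In a b S := hS.mono (by omega) le_rfl
  obtain ⟨p⟩ := exists_pres₀ hneg hab hS'
  obtain ⟨γ, _, hγx, hγy⟩ := exists_comp hab hc p
  have h1 : ext hneg hab hc S = γ := comp_unique t p ((ext_spec hneg hab hc hS').2 p).1 hγy
  rw [h1]
  have h2 : F.map p.x ≫ θ.hom = (θc t b p.N).hom ≫ F'.map p.x :=
    adm_naturality (adm_θc t b p.N) hθ p.x
  have h3 : F.map p.x ≫ (γ - θ.hom) = 0 := by rw [Preadditive.comp_sub, hγx, h2, sub_self]
  have hTF := F.map_distinguished _ p.dist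
  obtain ⟨e, he⟩ : ∃ e : F.obj p.Y ⟶ F'.obj S, γ - θ.hom = F.map p.y ≫ e :=
    Triangle.yoneda_exact₂ _ hTF _ h3
  obtain ⟨k, hk⟩ := F.map_surjective (e ≫ θ.inv)
  have hk0 : k = 0 := hom_zero_of_LE_GE p.hY.2 hS.1 (by omega) k
  have h4 : e ≫ θ.inv = 0 := by rw [← hk, hk0, F.map_zero]
  have h5 : e = 0 := by rw [← cancel_mono θ.inv, h4, zero_comp]
  rw [h5, comp_zero, sub_eq_zero] at he
  exact he

include hneg in
theorem step (hab : a < b) (hc : IsFam t a (b - 1) c) :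
    ∃ c' : ∀ K : DerivedCategory.Bounded A, F.obj K ⟶ F'.obj K, IsFam t a b c' := by
  refine ⟨ext hneg hab hc, ?_, ?_, ?_⟩
  · intro K L hK hL f
    exact ext_nat hneg hab hc hK hL f
  · intro K hK
    exact (ext_spec hneg hab hc hK).1
  · intro j S θ h1 h2 hθ
    by_cases hj : j = b
    · subst hj
      exact ext_adm_top hneg hab hc S θ hθ
    · have hS : In a (b - 1) S := (in_of_cell hθ.cell).mono h1 (by omega)
      rw [ext_old hneg hab hc hS]
      exact hc.adm j S θ h1 (by omega) hθ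

end neg

end Groth.Agent.H2.Sib
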