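import Mathlib
import Groth.Prelude.Def_W4stkfunctorsequivSib
import Groth.Agent.Lib.Helper2.Sib7

/-!
# Sibling functors: enough negative objects force `F ≅ F'` (helper2)
-/

universe w v u v' u'

set_option linter.unusedSectionVars false

open CategoryTheory CategoryTheory.Limits CategoryTheory.Pretriangulated

namespace Groth.Agent.H2.Sib

open DerivedCategory ZeroObject

variable {A : Type u} [Category.{v} A] [Abelian A] [HasDerivedCategory.{w} A]
  {D : Type u'} [Category.{v'} D] [Preadditive D] [HasZeroObject D] [HasShift D ℤ]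
  [∀ n : ℤ, (shiftFunctor D n).Additive] [Pretriangulated D]
  {F F' : DerivedCategory.Bounded A ⥤ D} [F.CommShift ℤ] [F.IsTriangulated]
  [F'.CommShift ℤ] [F'.IsTriangulated]
  (t : DEquiv.singleB A ⋙ F ≅ DEquiv.singleB A ⋙ F')

open Classical in
/-- the family on cells of level `a` -/
noncomputable def base (a : ℤ) (K : DerivedCategory.Bounded A) : F.obj K ⟶ F'.obj K :=
  if h : ∃ θ : F.obj K ≅ F'.obj K, Adm (DEquiv.singleB A) F F' t (-a) K θ then
    (Classical.choose h).hom else 0

lemma base_eq (a : ℤ) (K : DerivedCategory.Bounded A) (θ : F.obj K ≅ F'.obj K)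
    (hθ : Adm (DEquiv.singleB A) F F' t (-a) K θ) : base t a K = θ.hom := by
  have h : ∃ θ : F.obj K ≅ F'.obj K, Adm (DEquiv.singleB A) F F' t (-a) K θ := ⟨θ, hθ⟩
  unfold base
  rw [dif_pos h]
  have h1 := adm_naturality (Classical.choose_spec h) hθ (𝟙 K)
  rw [F.map_id, F'.map_id, Category.id_comp, Category.comp_id] at h1
  exact h1.symm

lemma isFam_base (a : ℤ) : IsFam t a a (base t a) where
  nat {K L} hK hL f := by
    obtain ⟨θK, hθK⟩ := exists_adm (F := F) (F' := F') (t := t) (cell_of_in hK)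
    obtain ⟨θL, hθL⟩ := exists_adm (F := F) (F' := F') (t := t) (cell_of_in hL)
    rw [base_eq t a K θK hθK, base_eq t a L θL hθL]
    exact adm_naturality hθK hθL f
  iso {K} hK := by
    obtain ⟨θK, hθK⟩ := exists_adm (F := F) (F' := F') (t := t) (cell_of_in hK)
    rw [base_eq t a K θK hθK]
    infer_instance
  adm j S θ h1 h2 hθ := by
    obtain rfl : j = a := le_antisymm h2 h1
    exact base_eq t j S θ hθ

variable [F.Full] (hneg : ∀ X : A, ∃ (N : A) (p : N ⟶ X), Epi p ∧ ∀ f : X ⟶ N, f = 0)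

include hneg in
theorem exists_fam : ∀ (n : ℕ) (a b : ℤ), b = a + n →
    ∃ c : ∀ K : DerivedCategory.Bounded A, F.obj K ⟶ F'.obj K, IsFam t a b c := by
  intro n
  induction n with
  | zero =>
    intro a b hb
    obtain rfl : b = a := by simpa using hb
    exact ⟨base t b, isFam_base t b⟩
  | succ n ih =>
    intro a b hb
    obtain ⟨c, hc⟩ := ih a (b - 1) (by push_cast at hb; omega)
    exact step hneg (by push_cast at hb; omega) hc

include hneg in
theorem fam_unique : ∀ (n : ℕ) (a b : ℤ), b - a < n →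
    ∀ (c c' : ∀ K : DerivedCategory.Bounded A, F.obj K ⟶ F'.obj K) (a' b' : ℤ),
      IsFam t a b c → IsFam t a' b' c' → a' ≤ a → b ≤ b' →
      ∀ K : DerivedCategory.Bounded A, In a b K → c K = c' K := by
  intro n
  induction n with
  | zero =>
    intro a b hn c c' a' b' _ _ _ _ K hK
    have hz : IsZero K := isZero_of_LE_GE hK.2 hK.1 (by simpa using hn)
    exact (F.map_isZero hz).eq_of_src _ _
  | succ n ih =>
    intro a b hn c c' a' b' hc hc' ha hb K hK
    by_cases hab : a < b
    · obtain ⟨p⟩ := exists_pres₀ hneg hab hK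
      have hY : c p.Y = c' p.Y :=
        ih a (b - 1) (by push_cast at hn; omega) c c' a' b' (hc.mono le_rfl (by omega)) hc' ha
          (by omega) p.Y p.hY
      have hYb : In a b p.Y := p.hY.mono le_rfl (by omega)
      have h1 : F.map p.y ≫ c p.Y = c K ≫ F'.map p.y := hc.nat hK hYb p.y
      have h2 : F.map p.y ≫ c' p.Y = c' K ≫ F'.map p.y :=
        hc'.nat (hK.mono ha hb) (hYb.mono ha hb) p.y
      rw [← sub_eq_zero]
      apply KL t p K p.hneg
      rw [Preadditive.sub_comp, ← h1, ← h2, hY, sub_self]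
    · by_cases hab' : b < a
      · have hz : IsZero K := isZero_of_LE_GE hK.2 hK.1 hab'
        exact (F.map_isZero hz).eq_of_src _ _
      · obtain rfl : a = b := by omega
        obtain ⟨θ, hθ⟩ := exists_adm (F := F) (F' := F') (t := t) (cell_of_in hK)
        rw [hc.adm a K θ le_rfl le_rfl hθ, hc'.adm a K θ ha hb hθ]

lemma exists_in (K : DerivedCategory.Bounded A) : ∃ n : ℕ, In (-(n : ℤ)) n K := by
  obtain ⟨a, b, hGE, hLE⟩ := exists_bounds K
  refine ⟨(max (-a) b).toNat, hGE.mono ?_, hLE.mono ?_⟩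
  · have := Int.self_le_toNat (max (-a) b)
    have h2 := le_max_left (-a) b
    omega
  · have := Int.self_le_toNat (max (-a) b)
    have h2 := le_max_right (-a) b
    omega

/-- the chosen family on `D^{[-n,n]}` -/
noncomputable def fam (n : ℕ) : ∀ K : DerivedCategory.Bounded A, F.obj K ⟶ F'.obj K :=
  Classical.choose (exists_fam t hneg (2 * n) (-(n : ℤ)) n (by push_cast; ring))

lemma isFam_fam (n : ℕ) : IsFam t (-(n : ℤ)) n (fam t hneg n) :=
  Classical.choose_spec (exists_fam t hneg (2 * n) (-(n : ℤ)) n (by push_cast; ring))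

/-- the level of an object -/
noncomputable def lvl (K : DerivedCategory.Bounded A) : ℕ := Classical.choose (exists_in K)

lemma in_lvl (K : DerivedCategory.Bounded A) : In (-(lvl K : ℤ)) (lvl K) K :=
  Classical.choose_spec (exists_in K)

lemma fam_eq (K : DerivedCategory.Bounded A) (n : ℕ) (hn : lvl K ≤ n) :
    fam t hneg (lvl K) K = fam t hneg n K := by
  refine fam_unique t hneg (2 * lvl K + 1) (-(lvl K : ℤ)) (lvl K) (by push_cast; omega) _ _
    (-(n : ℤ)) n (isFam_fam t hneg (lvl K)) (isFam_fam t hneg n) ?_ ?_ K (in_lvl K)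
  · have : (lvl K : ℤ) ≤ n := by exact_mod_cast hn
    omega
  · exact_mod_cast hn

include t hneg in
theorem nonempty_iso_of_sibling_neg : Nonempty (F ≅ F') := by
  have hiso : ∀ K : DerivedCategory.Bounded A, IsIso (fam t hneg (lvl K) K) := fun K =>
    (isFam_fam t hneg (lvl K)).iso (in_lvl K)
  refine ⟨NatIso.ofComponents (fun K => @asIso _ _ _ _ (fam t hneg (lvl K) K) (hiso K)) ?_⟩
  intro K L f
  change F.map f ≫ fam t hneg (lvl L) L = fam t hneg (lvl K) K ≫ F'.map f
  have hK : lvl K ≤ max (lvl K) (lvl L) := le_max_left _ _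
  have hL : lvl L ≤ max (lvl K) (lvl L) := le_max_right _ _
  rw [fam_eq t hneg K _ hK, fam_eq t hneg L _ hL]
  have hK' : ((lvl K : ℕ) : ℤ) ≤ ((max (lvl K) (lvl L) : ℕ) : ℤ) := by exact_mod_cast hK
  have hL' : ((lvl L : ℕ) : ℤ) ≤ ((max (lvl K) (lvl L) : ℕ) : ℤ) := by exact_mod_cast hL
  exact (isFam_fam t hneg (max (lvl K) (lvl L))).nat ((in_lvl K).mono (by omega) hK')
    ((in_lvl L).mono (by omega) hL') f

end Groth.Agent.H2.Sib
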