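import Mathlib
import Groth.Agent.Lib.Helper2.SigmaCohA
import Groth.Agent.Lib.Helper6.FEtDim1C

/-! # The direct sum of skyscraper sheaves `(i_x)_* ℤ` over closed points has no higher
cohomology (finite type over a separably closed field). -/

set_option autoImplicit false
set_option linter.style.haveILetI false
set_option linter.unusedVariables false
set_option linter.unusedSectionVars false
universe u
open CategoryTheory CategoryTheory.Limits AlgebraicGeometry Opposite Abelian

namespace Groth.Agent.H2.SigmaCoh

open Groth.Agent.H2.GeoPush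

theorem subsingleton_H_closedPoints (k : Type u) [Field k] [IsSepClosed k] (X : Scheme.{u})
    (f : X ⟶ Spec (CommRingCat.of k)) [LocallyOfFiniteType f] [QuasiCompact f] [QuasiSeparated f]
    (Z : ∀ x : {x : ↥X // IsClosed ({x} : Set ↥X)}, EtCoh.Ab (Spec (X.residueField x.1)))
    (c : Cofan fun x : {x : ↥X // IsClosed ({x} : Set ↥X)} =>
      (EtCoh.push (X.fromSpecResidueField x.1)).obj (Z x))
    (hc : IsColimit c) (q : ℕ) (hq : 1 ≤ q) :
    Subsingleton (EtCoh.H X c.pt q) := by
  haveI : CompactSpace X := QuasiCompact.compactSpace_of_compactSpace f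
  haveI : QuasiSeparatedSpace X := quasiSeparatedSpace_of_quasiSeparated f
  obtain ⟨n, rfl⟩ : ∃ n, q = n + 1 := ⟨q - 1, by omega⟩
  refine subsingleton_H_sigma X _ c hc (n + 1) (fun x => ?_)
  haveI : IsSepClosed (X.residueField x.1) :=
    Groth.Agent.H6.FEtDim1.isSepClosed_residueField k f x.1 x.2
  exact subsingleton_H_push_succ (pointlike_spec (X.residueField x.1)) _ (Z x) n

end Groth.Agent.H2.SigmaCoh
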