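import Mathlib
import Groth.Prelude.Def_CAlg
import Groth.Prelude.Def_EGA4b
import Groth.Agent.Lib.Helper2.SkG
import Groth.Agent.Lib.Helper1.CMQF
import Groth.Agent.Lib.Lead.QC.FlatStalkwise

/-! Helper2: for a morphism locally of finite presentation, the set of points at which the morphism
is flat and the fibre satisfies `(S_k)` is open. -/

set_option autoImplicit false
set_option linter.style.haveILetI false
universe u

open AlgebraicGeometry CategoryTheory

namespace Groth.Agent.H2.Sk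

section Scheme
variable {X Y : Scheme.{u}} (f : X ⟶ Y)

theorem isOpen_flat_and_fibre_hasSk [LocallyOfFinitePresentation f] (k : ℕ) :
    IsOpen {x : X | (f.stalkMap x).hom.Flat ∧
      LocCoh.HasSk k ((f.fiber (f.base x)).presheaf.stalk (f.asFiber x))
        ((f.fiber (f.base x)).presheaf.stalk (f.asFiber x))} := by
  rw [isOpen_iff_forall_mem_open]
  rintro x₀ ⟨hfl₀, hS₀⟩
  obtain ⟨W, hx₀W, hWflat⟩ := Groth.Agent.H1.CMQF.exists_flat_nhd f x₀ hfl₀
  have hflW : ∀ x ∈ W, (f.stalkMap x).hom.Flat := by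
    intro x hx
    have h1 := Flat.stalkMap (W.ι ≫ f) ⟨x, hx⟩
    exact (H5.DS.flat_stalkMap_comp W.ι f ⟨x, hx⟩).mpr h1
  obtain ⟨_, ⟨V, hV, rfl⟩, hyV, -⟩ :=
    Y.isBasis_affineOpens.exists_subset_of_mem_open (Set.mem_univ (f x₀)) isOpen_univ
  obtain ⟨_, ⟨U, hU, rfl⟩, hx₀U, hUsub⟩ := X.isBasis_affineOpens.exists_subset_of_mem_open
    (show x₀ ∈ (((f ⁻¹ᵁ V) ⊓ W : X.Opens) : Set X) from ⟨hyV, hx₀W⟩) ((f ⁻¹ᵁ V) ⊓ W).isOpen
  have e : U ≤ f ⁻¹ᵁ V := fun x hx => (hUsub hx).1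
  have hUW : ∀ x ∈ U, x ∈ W := fun x hx => (hUsub hx).2
  have hfp : letI := (f.appLE V U e).hom.toAlgebra
      Algebra.FinitePresentation Γ(Y, V) Γ(X, U) := by
    have h1 := HasRingHomProperty.appLE (P := @LocallyOfFinitePresentation) f inferInstance
      ⟨V, hV⟩ ⟨U, hU⟩ e
    letI := (f.appLE V U e).hom.toAlgebra
    exact RingHom.finitePresentation_algebraMap.mp h1
  have hflat : letI := (f.appLE V U e).hom.toAlgebra
      Module.Flat Γ(Y, V) Γ(X, U) := by
    have h1 := Groth.Agent.LD.QC.flat_appLE_of_flat_stalkMap f hV hU e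
      (fun x hx => hflW x (hUW x hx))
    letI := (f.appLE V U e).hom.toAlgebra
    exact RingHom.flat_algebraMap_iff.mp h1
  refine ⟨_, ?_, isOpen_fibre_hasSk_chart f hU hV e hfp hflat k, ⟨hx₀U, hS₀⟩⟩
  rintro x ⟨hxU, hx⟩
  exact ⟨hflW x (hUW x hxU), hx⟩

end Scheme

end Groth.Agent.H2.Sk
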