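import Mathlib
import Groth.Prelude.Def_CAlg
import Groth.Prelude.Def_FlatMod2
import Groth.Prelude.Def_CohB1
import Groth.Agent.Lib.Helper2.SkJ
import Groth.Agent.Lib.Helper2.SkD
import Groth.Agent.Lib.Lead.QC.Flat
import Groth.Agent.Lib.Lead.QC.FinPres
import Groth.Agent.Lib.Lead.QC.Pullback

/-! Helper2: **EGA IV 12.1.1 (iv)** for modules: the fibrewise `(S_k)` locus of a finitely presented
module flat over the base is open. -/

set_option autoImplicit false
set_option linter.style.haveILetI false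
universe u

open AlgebraicGeometry CategoryTheory

namespace Groth.Agent.H2.Sk

open Groth.Agent.H2.Idl Groth.Agent.LD.QC

section Scheme
variable {X Y : Scheme.{u}} (f : X ⟶ Y)

theorem isOpen_fibre_hasSk_module [LocallyOfFinitePresentation f] (F : X.Modules)
    (hF : CohB1.IsFP F) (hflat : FlatMod.IsFlatOver f F) (k : ℕ) :
    IsOpen {x : X | LocCoh.HasSk k ((f.fiber (f.base x)).presheaf.stalk (f.asFiber x))
        (((Scheme.Modules.pullback (f.fiberι (f.base x))).obj F).presheaf.stalk (f.asFiber x))} := by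
  haveI := hF
  haveI hqc : F.IsQuasicoherent := inferInstance
  rw [isOpen_iff_forall_mem_open]
  intro x₀ hx₀
  obtain ⟨U, V, hU, hV, hx₀U, e⟩ := exists_affine_nhds_le_preimage f x₀
  letI algAB : Algebra Γ(Y, V) Γ(X, U) := (f.appLE V U e).hom.toAlgebra
  haveI hfpAB : Algebra.FinitePresentation Γ(Y, V) Γ(X, U) := by
    have := HasRingHomProperty.appLE (P := @LocallyOfFinitePresentation) f inferInstance
      ⟨V, hV⟩ ⟨U, hU⟩ e
    exact RingHom.finitePresentation_algebraMap.mp this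
  haveI hfpM : Module.FinitePresentation Γ(X, U) Γ(F, U) :=
    finitePresentation_sections_of_isFinitePresentation F hF hU
  letI modAM : Module Γ(Y, V) Γ(F, U) := sectionsModuleOver f F e
  haveI towerABM : IsScalarTower Γ(Y, V) Γ(X, U) Γ(F, U) := ⟨fun a b m => by
    change (f.appLE V U e a * b) • m = f.appLE V U e a • (b • m)
    rw [mul_smul]⟩
  haveI hflatM : Module.Flat Γ(Y, V) Γ(F, U) :=
    flat_sections_of_isFlatOverAt f F hU hV e (fun x _ => hflat x)
  obtain ⟨n, φ, hφ⟩ := Algebra.FiniteType.iff_quotient_mvPolynomial''.mp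
    (inferInstance : Algebra.FiniteType Γ(Y, V) Γ(X, U))
  letI algPB : Algebra (MvPolynomial (Fin n) Γ(Y, V)) Γ(X, U) := φ.toRingHom.toAlgebra
  haveI : IsScalarTower Γ(Y, V) (MvPolynomial (Fin n) Γ(Y, V)) Γ(X, U) :=
    IsScalarTower.of_algebraMap_eq (fun a => (φ.commutes a).symm)
  letI modPM : Module (MvPolynomial (Fin n) Γ(Y, V)) Γ(F, U) := Module.compHom _ φ.toRingHom
  haveI : IsScalarTower (MvPolynomial (Fin n) Γ(Y, V)) Γ(X, U) Γ(F, U) :=
    IsScalarTower.of_algebraMap_smul fun _ _ => rfl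
  haveI : IsScalarTower Γ(Y, V) (MvPolynomial (Fin n) Γ(Y, V)) Γ(F, U) := ⟨fun a p m => by
    change φ (a • p) • m = a • (φ p • m)
    rw [map_smul, smul_assoc]⟩
  haveI : Module.Finite (MvPolynomial (Fin n) Γ(Y, V)) Γ(X, U) :=
    Module.Finite.of_surjective (Algebra.linearMap _ _) hφ
  haveI : Algebra.FinitePresentation (MvPolynomial (Fin n) Γ(Y, V)) Γ(X, U) :=
    Algebra.FinitePresentation.of_restrict_scalars_finitePresentation Γ(Y, V) _ _
  haveI : Module.FinitePresentation (MvPolynomial (Fin n) Γ(Y, V)) Γ(X, U) :=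
    Module.FinitePresentation.of_finite_of_finitePresentation _ _
  haveI : Module.FinitePresentation (MvPolynomial (Fin n) Γ(Y, V)) Γ(F, U) :=
    Module.FinitePresentation.trans _ Γ(F, U) Γ(X, U)
  have hW := isOpen_hasSk_fibLocMod Γ(Y, V) n Γ(F, U) k
  let ψ : U → PrimeSpectrum (MvPolynomial (Fin n) Γ(Y, V)) :=
    fun x => PrimeSpectrum.comap φ.toRingHom (hU.primeIdealOf x)
  have hψ : Continuous ψ :=
    (PrimeSpectrum.continuous_comap φ.toRingHom).comp hU.isoSpec.hom.continuous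
  have key : ∀ (x : X) (hx : x ∈ U),
      LocCoh.HasSk k ((f.fiber (f.base x)).presheaf.stalk (f.asFiber x))
        (((Scheme.Modules.pullback (f.fiberι (f.base x))).obj F).presheaf.stalk (f.asFiber x)) ↔
      ψ ⟨x, hx⟩ ∈ {𝔮 : PrimeSpectrum (MvPolynomial (Fin n) Γ(Y, V)) |
        LocCoh.HasSk k (EGA4.FibLocRing Γ(Y, V) (MvPolynomial (Fin n) Γ(Y, V)) 𝔮.asIdeal)
          (EGA4.FibLocMod Γ(Y, V) (MvPolynomial (Fin n) Γ(Y, V)) 𝔮.asIdeal Γ(F, U))} := by
    intro x hx
    exact (sl_stalk_fiber_mvPolynomial f F hU hV e n φ hφ x hx).hasSk_iff k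
  refine ⟨Subtype.val '' (ψ ⁻¹' _), ?_, U.isOpen.isOpenMap_subtype_val _ (hW.preimage hψ),
    ⟨⟨x₀, hx₀U⟩, (key x₀ hx₀U).mp hx₀, rfl⟩⟩
  rintro _ ⟨⟨x, hx⟩, hxW, rfl⟩
  exact (key x hx).mpr hxW

end Scheme

end Groth.Agent.H2.Sk
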