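import Mathlib

/-! # Irreducible components of a closed subset and its maximal points (pure topology)

For a closed subset `S` of a quasi-sober `T0` space `T`, the irreducible components of the subspace
`↥S` are the closures of the points of `S` that are maximal for generization within `S`; the
component has the same dimension as the closure of the point in `T`. -/

set_option autoImplicit false
universe u

namespace Groth.Agent.H2.Sk

section Top
variable {T : Type u} [TopologicalSpace T] {S : Set T}

/-- the closure of a point of a closed subspace, as a subspace of the subspace, is homeomorphic to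
the closure in the ambient space -/
theorem topologicalKrullDim_closure_subtype (hS : IsClosed S) (z : T) (hz : z ∈ S) :
    topologicalKrullDim ↥(closure ({⟨z, hz⟩} : Set ↥S)) =
      topologicalKrullDim ↥(closure ({z} : Set T)) := by
  have hemb : Topology.IsClosedEmbedding (Subtype.val : ↥S → T) := hS.isClosedEmbedding_subtypeVal
  have himg : Subtype.val '' (closure ({⟨z, hz⟩} : Set ↥S)) = closure ({z} : Set T) := by
    rw [← hemb.closure_image_eq, Set.image_singleton]
  let e : ↥(closure ({⟨z, hz⟩} : Set ↥S)) ≃ₜ ↥(closure ({z} : Set T)) :=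
    (hemb.isEmbedding.homeomorphImage _).trans (Homeomorph.setCongr himg)
  exact IsHomeomorph.topologicalKrullDim_eq e e.isHomeomorph

variable [QuasiSober T] [T0Space T]

/-- a point of `S` maximal for generization gives an irreducible component of `↥S`. -/
theorem exists_component_of_maximal (hS : IsClosed S) (z : T) (hz : z ∈ S)
    (hmax : ∀ z' ∈ S, z' ⤳ z → z' = z) :
    ∃ C ∈ irreducibleComponents ↥S,
      topologicalKrullDim ↥C = topologicalKrullDim ↥(closure ({z} : Set T)) := by
  haveI : QuasiSober ↥S := hS.isClosedEmbedding_subtypeVal.quasiSober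
  refine ⟨closure {⟨z, hz⟩}, ⟨isIrreducible_singleton.closure, ?_⟩,
    topologicalKrullDim_closure_subtype hS z hz⟩
  intro D hD hCD
  -- generic point of the closure of `D`
  have hDc : IsIrreducible (closure D) := hD.closure
  have hgen := hDc.isGenericPoint_genericPoint isClosed_closure
  set d := hDc.genericPoint with hd
  have hzD : (⟨z, hz⟩ : ↥S) ∈ closure D := subset_closure (hCD (subset_closure rfl))
  have hsp : d ⤳ ⟨z, hz⟩ := hgen.specializes hzD
  have hsp' : d.1 ⤳ z := hsp.map continuous_subtype_val
  have hdz : d.1 = z := hmax d.1 d.2 hsp'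
  have hdz' : d = ⟨z, hz⟩ := Subtype.ext hdz
  intro a ha
  have : a ∈ closure D := subset_closure ha
  rw [← hgen.def, hdz'] at this
  exact this

/-- an irreducible component of `↥S` has a generic point, which is maximal for generization in
`S`. -/
theorem exists_maximal_of_component (hS : IsClosed S) (C : Set ↥S)
    (hC : C ∈ irreducibleComponents ↥S) :
    ∃ z ∈ S, (∀ z' ∈ S, z' ⤳ z → z' = z) ∧ (∀ s ∈ C, z ⤳ (s : T)) ∧
      topologicalKrullDim ↥C = topologicalKrullDim ↥(closure ({z} : Set T)) := by
  haveI : QuasiSober ↥S := hS.isClosedEmbedding_subtypeVal.quasiSober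
  have hCcl : IsClosed C := isClosed_of_mem_irreducibleComponents C hC
  have hgen := hC.1.isGenericPoint_genericPoint hCcl
  set s₀ := hC.1.genericPoint with hs₀
  refine ⟨s₀.1, s₀.2, ?_, ?_, ?_⟩
  · intro z' hz' hsp
    have hsp' : (⟨z', hz'⟩ : ↥S) ⤳ s₀ :=
      (Topology.IsInducing.subtypeVal.specializes_iff).mp hsp
    have hle : C ⊆ closure {⟨z', hz'⟩} := by
      rw [← hgen.def]
      exact hsp'.closure_subset
    have hge : closure ({⟨z', hz'⟩} : Set ↥S) ⊆ C := hC.2 isIrreducible_singleton.closure hle
    have heq : closure ({⟨z', hz'⟩} : Set ↥S) = C := le_antisymm hge hle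
    have h1 : IsGenericPoint (⟨z', hz'⟩ : ↥S) C := heq
    have := h1.eq hgen
    exact congrArg Subtype.val this
  · intro s hs
    have : s₀ ⤳ s := hgen.specializes hs
    exact this.map continuous_subtype_val
  · rw [← topologicalKrullDim_closure_subtype hS s₀.1 s₀.2]
    have : closure ({⟨s₀.1, s₀.2⟩} : Set ↥S) = C := hgen.def
    rw [this]

/-- every point of `S` has a generization in `S` maximal for generization. -/
theorem exists_maximal_generization (hS : IsClosed S) (z : T) (hz : z ∈ S) :
    ∃ z' ∈ S, z' ⤳ z ∧ ∀ z'' ∈ S, z'' ⤳ z' → z'' = z' := by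
  obtain ⟨z', hz', hmax, hsp, -⟩ := exists_maximal_of_component hS
    (irreducibleComponent (⟨z, hz⟩ : ↥S)) (irreducibleComponent_mem_irreducibleComponents _)
  exact ⟨z', hz', hsp ⟨z, hz⟩ mem_irreducibleComponent, hmax⟩

end Top

end Groth.Agent.H2.Sk
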