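import Mathlib
import Groth.Prelude.Def_CAlg
import Groth.Prelude.Def_FlatMod2
import Groth.Prelude.Def_CohB1
import Groth.Prelude.Def_FDesc
import Groth.Agent.Lib.Helper2.SkM
import Groth.Agent.Lib.Helper2.SkR
import Groth.Agent.Lib.Helper2.SkS
import Groth.Agent.Lib.Lead.QC.SuppPullback
import Groth.Agent.Lib.Lead.QC.Support

/-! Helper2: points of the support maximal for generization are associated points; the set of
points of the base over which the support of the fibre module has an irreducible component of a
given dimension is open (EGA IV 12.1.1 (iii)-style, used for 12.2.1). -/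

set_option autoImplicit false
set_option linter.style.haveILetI false
universe u

open AlgebraicGeometry CategoryTheory

namespace Groth.Agent.H2.Sk

open Groth.Agent.H2.Idl Groth.Agent.LD.QC Groth.Agent.H1.StalkGen Groth.Agent.H2.StalkSpec

attribute [-instance] Groth.Agent.LD.QC.stalkModule

section Stalk
variable {X : Scheme.{u}}

/-- the stalk at a generization whose prime is in the support of the stalk is nontrivial -/
theorem nontrivial_stalk_of_mem_support (F : X.Modules) [F.IsQuasicoherent] {x z : X} (h : z ⤳ x)
    (hp : primeOf h ∈ Module.support (X.presheaf.stalk x) (F.presheaf.stalk x)) :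
    Nontrivial (F.presheaf.stalk z) := by
  letI := specModule F h
  haveI := isLocalizedModule_specLinear F h
  rw [Module.mem_support_iff] at hp
  exact (IsLocalizedModule.iso (primeOf h).asIdeal.primeCompl (specLinear F h)).injective.nontrivial

/-- **a point of the support maximal for generization is an associated point** -/
theorem isAssPoint_of_maximal_support [IsLocallyNoetherian X] (F : X.Modules) [F.IsQuasicoherent]
    (hF : F.IsFiniteType) (x : X) (hx : Nontrivial (F.presheaf.stalk x))
    (hmax : ∀ z : X, Nontrivial (F.presheaf.stalk z) → z ⤳ x → z = x) :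
    Curv2.IsAssPoint F x := by
  haveI : Module.Finite (X.presheaf.stalk x) (F.presheaf.stalk x) :=
    Groth.Agent.H1.CohLen.finite_stalk F hF x
  have hmin : IsLocalRing.maximalIdeal (X.presheaf.stalk x) ∈
      (Module.annihilator (X.presheaf.stalk x) (F.presheaf.stalk x)).minimalPrimes := by
    refine ⟨⟨inferInstance, ?_⟩, ?_⟩
    · apply IsLocalRing.le_maximalIdeal
      rw [Ne, Module.annihilator_eq_top_iff]
      exact not_subsingleton _
    · rintro q ⟨hq, hann⟩ hle
      have hsupp : (⟨q, hq⟩ : PrimeSpectrum (X.presheaf.stalk x)) ∈
          Module.support (X.presheaf.stalk x) (F.presheaf.stalk x) := by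
        rw [Module.mem_support_iff_of_finite]
        exact hann
      have hz := fromSpecStalk_specializes x (⟨q, hq⟩ : PrimeSpectrum (X.presheaf.stalk x))
      have h3 : primeOf hz = ⟨q, hq⟩ := primeOf_fromSpecStalk x _
      have hnt : Nontrivial (F.presheaf.stalk (X.fromSpecStalk x ⟨q, hq⟩)) := by
        apply nontrivial_stalk_of_mem_support F hz
        rw [h3]
        exact hsupp
      have h1 := hmax _ hnt hz
      have h2 := primeOf_eq_maximalIdeal_of_eq hz h1
      rw [h3] at h2
      exact h2.ge
  exact Module.associatedPrimes.minimalPrimes_annihilator_subset_associatedPrimes _ _ hmin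

/-- associated points lie in the support -/
theorem nontrivial_stalk_of_isAssPoint (F : X.Modules) (x : X) (h : Curv2.IsAssPoint F x) :
    Nontrivial (F.presheaf.stalk x) := by
  obtain ⟨-, m, hm⟩ := h
  by_contra hn
  rw [not_nontrivial_iff_subsingleton] at hn
  have h1 : (1 : X.presheaf.stalk x) ∈ IsLocalRing.maximalIdeal (X.presheaf.stalk x) := by
    rw [hm]
    apply Ideal.le_radical
    rw [Submodule.mem_colon_singleton, Subsingleton.elim m 0, smul_zero]
    exact Submodule.zero_mem _
  exact (Ideal.ne_top_iff_one _).mp (IsLocalRing.maximalIdeal.isMaximal _).ne_top h1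

end Stalk

end Groth.Agent.H2.Sk
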