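import Mathlib
import Groth.Prelude.Def_CAlg
import Groth.Prelude.Def_FlatMod2
import Groth.Prelude.Def_CohB1
import Groth.Prelude.Def_FDesc
import Groth.Agent.Lib.Helper2.SkT

/-! Helper2: the set of points of the base over which the support of the fibre module has an
irreducible component of a given dimension is open (EGA IV 12.2.1 (ii)-style). -/

set_option autoImplicit false
set_option linter.style.haveILetI false
universe u

open AlgebraicGeometry CategoryTheory

namespace Groth.Agent.H2.Sk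

open Groth.Agent.H2.Idl Groth.Agent.LD.QC

attribute [-instance] Groth.Agent.LD.QC.stalkModule

section Fibre
variable {X Y : Scheme.{u}} (f : X ⟶ Y)

/-- the support of the fibre module, as a set of points of the fibre -/
def fibSupp (F : X.Modules) (y : Y) : Set ↥(f.fiber y) :=
  {z | Nontrivial (((Scheme.Modules.pullback (f.fiberι y)).obj F).presheaf.stalk z)}

theorem mem_fibSupp_iff (F : X.Modules) [F.IsQuasicoherent] (hF : F.IsFiniteType) (y : Y)
    (z : ↥(f.fiber y)) :
    z ∈ fibSupp f F y ↔ ¬ Subsingleton (F.presheaf.stalk (f.fiberι y z)) := by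
  change Nontrivial _ ↔ _
  rw [← not_subsingleton_iff_nontrivial]
  exact support_pullback (f.fiberι y) F hF z

theorem isClosed_fibSupp (F : X.Modules) [F.IsQuasicoherent] (hF : F.IsFiniteType) (y : Y) :
    IsClosed (fibSupp f F y) := by
  haveI := qc_pullback (f.fiberι y) F
  have h := isClosed_support_of_isFiniteType ((Scheme.Modules.pullback (f.fiberι y)).obj F)
    (isFiniteType_pullback (f.fiberι y) F hF)
  convert h using 1
  ext z
  exact not_subsingleton_iff_nontrivial.symm

/-- the maximal points of the support of the fibre module, of given dimension -/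
def IsMaxSuppPt (F : X.Modules) (n : ℕ) (y : Y) (z : ↥(f.fiber y)) : Prop :=
  z ∈ fibSupp f F y ∧ (∀ z' ∈ fibSupp f F y, z' ⤳ z → z' = z) ∧
    topologicalKrullDim ↥(closure ({z} : Set ↥(f.fiber y))) = (n : WithBot ℕ∞)

/-- components of given dimension and maximal points of the support -/
theorem exists_component_iff (F : X.Modules) [F.IsQuasicoherent] (hF : F.IsFiniteType) (n : ℕ)
    (y : Y) :
    (∃ Z ∈ irreducibleComponents ↥(fibSupp f F y), topologicalKrullDim ↥Z = (n : WithBot ℕ∞)) ↔
      ∃ z : ↥(f.fiber y), IsMaxSuppPt f F n y z := by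
  have hcl := isClosed_fibSupp f F hF y
  constructor
  · rintro ⟨Z, hZ, hdim⟩
    obtain ⟨z, hz, hmax, -, hd⟩ := exists_maximal_of_component hcl Z hZ
    exact ⟨z, hz, hmax, hd ▸ hdim⟩
  · rintro ⟨z, hz, hmax, hdim⟩
    obtain ⟨C, hC, hd⟩ := exists_component_of_maximal hcl z hz hmax
    exact ⟨C, hC, hd.trans hdim⟩

/-- arithmetic: `n ≤ 0 + m`, `m ≤ n` gives `m = n` -/
theorem arith_max (n m : ℕ) (h1 : (n : WithBot ℕ∞) ≤ (((0 : ℕ∞)) : WithBot ℕ∞) + (m : WithBot ℕ∞))
    (h2 : m < n + 1) : m = n := by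
  have h0 : ((0 : ℕ∞)) = ((0 : ℕ) : ℕ∞) := rfl
  rw [h0, wb_le_add] at h1
  omega

/-- **the set of points of the base over which the support of the fibre module has a maximal point
of dimension `n` is open** (no properness needed). -/
theorem isOpen_exists_isMaxSuppPt [LocallyOfFinitePresentation f] (F : X.Modules)
    (hF : CohB1.IsFP F) (hflat : FlatMod.IsFlatOver f F) (n : ℕ) :
    IsOpen {y : Y | ∃ z : ↥(f.fiber y), IsMaxSuppPt f F n y z} := by
  haveI := hF
  haveI hqc : F.IsQuasicoherent := inferInstance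
  have hft : F.IsFiniteType := inferInstance
  rw [isOpen_iff_forall_mem_open]
  rintro y₀ ⟨z₀, hz₀S, hz₀max, hz₀dim⟩
  let Q1 : ∀ y : Y, ↥(f.fiber y) → Prop := fun y z =>
    (n : WithBot ℕ∞) ≤ ((LocCoh.depth ((f.fiber y).presheaf.stalk z)
      (((Scheme.Modules.pullback (f.fiberι y)).obj F).presheaf.stalk z) : ℕ∞) : WithBot ℕ∞) +
      topologicalKrullDim ↥(closure ({z} : Set ↥(f.fiber y)))
  let Q2 : ∀ y : Y, ↥(f.fiber y) → Prop := fun y z₁ =>
    ∀ z ∈ _root_.AssSch.Ass ((Scheme.Modules.pullback (f.fiberι y)).obj F), z₁ ∈ closure {z} →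
      ∃ m ∈ Finset.range (n + 1),
        topologicalKrullDim ↥(closure ({z} : Set ↥(f.fiber y))) = (m : WithBot ℕ∞)
  have hW1 : IsOpen {x : X | Q1 (f x) (f.asFiber x)} := isOpen_rectified_depth f F hF hflat n
  have hW2 : IsOpen {x : X | Q2 (f x) (f.asFiber x)} :=
    isOpen_ass_dim_mem f F hF hflat (Finset.range (n + 1))
  have hW : IsOpen ({x : X | Q1 (f x) (f.asFiber x)} ∩ {x : X | Q2 (f x) (f.asFiber x)}) :=
    hW1.inter hW2
  refine ⟨f '' (({x : X | Q1 (f x) (f.asFiber x)} ∩ {x : X | Q2 (f x) (f.asFiber x)}) ∩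
    {x | ¬ Subsingleton (F.presheaf.stalk x)}), ?_,
    isOpen_image_inter_support f F hF hflat _ hW, ?_⟩
  · -- every point of the image has a maximal point of dimension `n`
    rintro y ⟨x, ⟨⟨hx1, hx2⟩, hxF⟩, rfl⟩
    have hxS : f.asFiber x ∈ fibSupp f F (f x) := by
      rw [mem_fibSupp_iff f F hft, f.fiberι_asFiber]
      exact hxF
    obtain ⟨z', hz'S, hz'x, hz'max⟩ :=
      exists_maximal_generization (isClosed_fibSupp f F hft (f x)) _ hxS
    have hx'x : f.fiberι (f x) z' ⤳ x := by
      have := hz'x.map (f.fiberι (f x)).continuous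
      rwa [f.fiberι_asFiber] at this
    have h1 : Q1 (f x) z' := by
      rw [← fiber_transport_iff f Q1 (f x) z']
      exact hx'x.mem_open hW1 hx1
    have h2 : Q2 (f x) z' := by
      rw [← fiber_transport_iff f Q2 (f x) z']
      exact hx'x.mem_open hW2 hx2
    -- `z'` is an associated point of depth zero
    haveI : IsLocallyNoetherian (f.fiber (f x)) := by
      delta Scheme.Hom.fiber; infer_instance
    haveI := qc_pullback (f.fiberι (f x)) F
    have hFy : ((Scheme.Modules.pullback (f.fiberι (f x))).obj F).IsFiniteType :=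
      isFiniteType_pullback (f.fiberι (f x)) F hft
    have hass : Curv2.IsAssPoint ((Scheme.Modules.pullback (f.fiberι (f x))).obj F) z' :=
      isAssPoint_of_maximal_support _ hFy z' hz'S (fun z hz hzz' => hz'max z hz hzz')
    have hdepth : LocCoh.depth ((f.fiber (f x)).presheaf.stalk z')
        (((Scheme.Modules.pullback (f.fiberι (f x))).obj F).presheaf.stalk z') = 0 :=
      (@Groth.Agent.H3.DepthAux.depth_eq_zero_iff_mem_associatedPrimes _ _ _ _ _ _ _
        (Groth.Agent.H1.CohLen.finite_stalk _ hFy z')).mpr hass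
    obtain ⟨m, hm, hdim⟩ := h2 z' hass (subset_closure rfl)
    have h1' : (n : WithBot ℕ∞) ≤ (((0 : ℕ∞)) : WithBot ℕ∞) + (m : WithBot ℕ∞) := by
      have := h1
      change (n : WithBot ℕ∞) ≤ ((LocCoh.depth ((f.fiber (f x)).presheaf.stalk z')
        (((Scheme.Modules.pullback (f.fiberι (f x))).obj F).presheaf.stalk z') : ℕ∞) :
          WithBot ℕ∞) + topologicalKrullDim ↥(closure ({z'} : Set ↥(f.fiber (f x)))) at this
      rwa [hdepth, hdim] at this
    have hmn : m = n := arith_max n m h1' (Finset.mem_range.mp hm)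
    exact ⟨z', hz'S, hz'max, hmn ▸ hdim⟩
  · -- `y₀` is in the image
    refine ⟨f.fiberι y₀ z₀, ⟨⟨?_, ?_⟩, ?_⟩, map_fiberι f y₀ z₀⟩
    · change Q1 _ _
      rw [fiber_transport_iff f Q1 y₀ z₀]
      change (n : WithBot ℕ∞) ≤ _ + topologicalKrullDim ↥(closure ({z₀} : Set ↥(f.fiber y₀)))
      rw [hz₀dim]
      exact le_add_of_nonneg_left (WithBot.coe_nonneg.mpr zero_le)
    · change Q2 _ _
      rw [fiber_transport_iff f Q2 y₀ z₀]
      intro z hz hz₀z
      have hzS : z ∈ fibSupp f F y₀ := nontrivial_stalk_of_isAssPoint _ z hz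
      have hzz₀ : z = z₀ := hz₀max z hzS (specializes_iff_mem_closure.mpr hz₀z)
      exact ⟨n, Finset.mem_range.mpr (Nat.lt_succ_self n), hzz₀ ▸ hz₀dim⟩
    · exact (mem_fibSupp_iff f F hft y₀ z₀).mp hz₀S

end Fibre

end Groth.Agent.H2.Sk
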