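import Mathlib

/-! # The dimension of a quasi-sober space is the supremum of the dimensions of the closures of its
points (pure topology). -/

set_option autoImplicit false
universe u

namespace Groth.Agent.H2.Sk

open TopologicalSpace

section Top
variable {T : Type u} [TopologicalSpace T]

/-- in a closed subspace with generic point, preimages of irreducible closed subsets are
irreducible -/
theorem isIrreducible_preimage_val [QuasiSober T] {V : Set T} (hV : IsClosed V) {W : Set T}
    (hW : IsIrreducible W) (hWc : IsClosed W) (hWV : W ⊆ V) :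
    IsIrreducible ((Subtype.val : ↥V → T) ⁻¹' W) := by
  obtain ⟨w, hw⟩ := QuasiSober.sober hW hWc
  have hwW : w ∈ W := hw.mem
  have hemb : Topology.IsClosedEmbedding (Subtype.val : ↥V → T) := hV.isClosedEmbedding_subtypeVal
  have h1 : Subtype.val '' (closure ({⟨w, hWV hwW⟩} : Set ↥V)) = W := by
    rw [← hemb.closure_image_eq, Set.image_singleton]
    exact hw.def
  have h2 : (Subtype.val : ↥V → T) ⁻¹' W = closure ({⟨w, hWV hwW⟩} : Set ↥V) := by
    rw [← h1, Set.preimage_image_eq _ Subtype.val_injective]
  rw [h2]
  exact isIrreducible_singleton.closure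

/-- **the dimension is bounded by the dimensions of the closures of the points** -/
theorem topologicalKrullDim_le_of_forall_closure [QuasiSober T] (d : WithBot ℕ∞)
    (h : ∀ a : T, topologicalKrullDim ↥(closure ({a} : Set T)) ≤ d) :
    topologicalKrullDim T ≤ d := by
  change Order.krullDim (IrreducibleCloseds T) ≤ d
  rw [Order.krullDim_eq_iSup_height]
  refine iSup_le fun V => ?_
  obtain ⟨a, ha⟩ := QuasiSober.sober V.isIrreducible V.isClosed
  rw [Order.height_eq_krullDim_Iic]
  refine le_trans ?_ (h a)
  have hle : ∀ W : Set.Iic V, ((W.1 : IrreducibleCloseds T) : Set T) ⊆ closure ({a} : Set T) := by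
    intro W
    rw [ha.def]
    exact W.2
  let φ : Set.Iic V → IrreducibleCloseds ↥(closure ({a} : Set T)) := fun W =>
    ⟨Subtype.val ⁻¹' ((W.1 : IrreducibleCloseds T) : Set T),
      isIrreducible_preimage_val isClosed_closure W.1.isIrreducible W.1.isClosed (hle W),
      W.1.isClosed.preimage continuous_subtype_val⟩
  refine Order.krullDim_le_of_strictMono φ ?_
  intro W₁ W₂ hlt
  have hr : ∀ W : Set.Iic V, ((W.1 : IrreducibleCloseds T) : Set T) ⊆
      Set.range (Subtype.val : ↥(closure ({a} : Set T)) → T) := by
    intro W
    rw [Subtype.range_coe]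
    exact hle W
  rw [lt_iff_le_not_ge] at hlt ⊢
  constructor
  · intro x hx
    exact hlt.1 hx
  · intro hge
    apply hlt.2
    change ((W₂.1 : IrreducibleCloseds T) : Set T) ⊆ ((W₁.1 : IrreducibleCloseds T) : Set T)
    rw [← Set.preimage_subset_preimage_iff (hr W₂)]
    exact hge

/-- the closure of a point has dimension at most that of any subset containing it -/
theorem topologicalKrullDim_closure_le {S : Set T} (hS : IsClosed S) (z : T) (hz : z ∈ S) :
    topologicalKrullDim ↥(closure ({z} : Set T)) ≤ topologicalKrullDim ↥S := by
  have hsub : closure ({z} : Set T) ⊆ S := hS.closure_subset_iff.mpr (Set.singleton_subset_iff.mpr hz)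
  have hind : Topology.IsInducing (Set.inclusion hsub) :=
    (Topology.IsEmbedding.inclusion hsub).isInducing
  exact hind.topologicalKrullDim_le

end Top

end Groth.Agent.H2.Sk
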