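import Mathlib
import Groth.Prelude.Def_CAlg
import Groth.Prelude.Def_FlatMod2
import Groth.Prelude.Def_CohB1
import Groth.Prelude.Def_FDesc
import Groth.Agent.Lib.Helper2.SkU
import Groth.Agent.Lib.Helper2.SkV
import Groth.Agent.Lib.Helper1.UOVal

/-! Helper2: the dimensions of the closures of the points of a fibre are natural numbers, bounded
on a quasi-compact fibre. -/

set_option autoImplicit false
set_option linter.style.haveILetI false
universe u

open AlgebraicGeometry CategoryTheory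

namespace Groth.Agent.H2.Sk

open Groth.Agent.H2.Idl Groth.Agent.LD.QC

attribute [-instance] Groth.Agent.LD.QC.stalkModule

section Fibre
variable {X Y : Scheme.{u}} (f : X ⟶ Y)

theorem exists_nat_dim_closure [LocallyOfFiniteType f] (y : Y) (z : ↥(f.fiber y)) :
    ∃ t : ℕ, topologicalKrullDim ↥(closure ({z} : Set ↥(f.fiber y))) = (t : WithBot ℕ∞) := by
  obtain ⟨t, -, ht⟩ := exists_resTrdeg_eq_dim_closure f (f.fiberι y z)
  exact (fiber_transport_iff f (fun y z => ∃ t : ℕ,
    topologicalKrullDim ↥(closure ({z} : Set ↥(f.fiber y))) = (t : WithBot ℕ∞)) y z).mp ⟨t, ht⟩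

theorem compactSpace_fiber [QuasiCompact f] (y : Y) : CompactSpace ↥(f.fiber y) := by
  haveI : QuasiCompact (f.fiberToSpecResidueField y) :=
    inferInstanceAs (QuasiCompact (Limits.pullback.snd f (Y.fromSpecResidueField y)))
  exact QuasiCompact.compactSpace_of_compactSpace (f.fiberToSpecResidueField y)

theorem exists_bound_dim_closure [LocallyOfFiniteType f] [QuasiCompact f] (y : Y) :
    ∃ N : ℕ, ∀ z : ↥(f.fiber y),
      topologicalKrullDim ↥(closure ({z} : Set ↥(f.fiber y))) ≤ (N : WithBot ℕ∞) := by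
  haveI := compactSpace_fiber f y
  have hK : IsCompact (Set.range (f.fiberι y)) := isCompact_range (f.fiberι y).continuous
  have key : ∃ N : ℕ, ∀ x ∈ Set.range (f.fiberι y), Dual3.resTrdeg f x ≤ (N : Cardinal.{u}) := by
    refine hK.induction_on (p := fun s => ∃ N : ℕ, ∀ x ∈ s, Dual3.resTrdeg f x ≤ (N : Cardinal.{u}))
      ⟨0, fun x hx => hx.elim⟩ ?_ ?_ ?_
    · rintro s t hst ⟨N, hN⟩
      exact ⟨N, fun x hx => hN x (hst hx)⟩
    · rintro s t ⟨N, hN⟩ ⟨N', hN'⟩
      refine ⟨max N N', ?_⟩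
      rintro x (hx | hx)
      · exact (hN x hx).trans (by exact_mod_cast le_max_left N N')
      · exact (hN' x hx).trans (by exact_mod_cast le_max_right N N')
    · intro x _
      obtain ⟨U, N, hxU, hN⟩ := exists_nhd_resTrdeg_le f x
      exact ⟨U, mem_nhdsWithin_of_mem_nhds (U.2.mem_nhds hxU), N, hN⟩
  obtain ⟨N, hN⟩ := key
  refine ⟨N, fun z => ?_⟩
  refine (fiber_transport_iff f (fun y z =>
    topologicalKrullDim ↥(closure ({z} : Set ↥(f.fiber y))) ≤ (N : WithBot ℕ∞)) y z).mp ?_
  obtain ⟨t, ht, hdim⟩ := exists_resTrdeg_eq_dim_closure f (f.fiberι y z)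
  have h1 := hN _ (Set.mem_range_self z)
  rw [ht] at h1
  have h2 : t ≤ N := by exact_mod_cast h1
  change topologicalKrullDim ↥(closure ({f.asFiber (f.fiberι y z)} : Set _)) ≤ _
  rw [hdim]
  exact_mod_cast h2

end Fibre

end Groth.Agent.H2.Sk
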