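import Mathlib
import Groth.Prelude.Def_CAlg
import Groth.Prelude.Def_FlatMod2
import Groth.Prelude.Def_CohB1
import Groth.Prelude.Def_FDesc
import Groth.Agent.Lib.Helper2.SkW

/-! Helper2: the dimension of the support of the fibre module of a flat finitely presented module
along a proper morphism is locally constant (EGA IV 12.2.1 (iii)-style). -/

set_option autoImplicit false
set_option linter.style.haveILetI false
universe u

open AlgebraicGeometry CategoryTheory

namespace Groth.Agent.H2.Sk

open Groth.Agent.H2.Idl Groth.Agent.LD.QC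

attribute [-instance] Groth.Agent.LD.QC.stalkModule

section Top

theorem topologicalKrullDim_eq_bot_of_isEmpty (T : Type u) [TopologicalSpace T] [IsEmpty T] :
    topologicalKrullDim T = ⊥ := by
  haveI : IsEmpty (TopologicalSpace.IrreducibleCloseds T) :=
    ⟨fun V => IsEmpty.elim inferInstance V.isIrreducible.nonempty.some⟩
  exact Order.krullDim_eq_bot

end Top

section Fibre
variable {X Y : Scheme.{u}} (f : X ⟶ Y)

/-- the proper version of `isOpen_ass_dim_mem` -/
theorem isOpen_ass_dim_mem_proper [IsProper f] [LocallyOfFinitePresentation f] (F : X.Modules)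
    (hF : CohB1.IsFP F) (hflat : FlatMod.IsFlatOver f F) (Φ : Finset ℕ) :
    IsOpen {y : Y | ∀ z ∈ _root_.AssSch.Ass ((Scheme.Modules.pullback (f.fiberι y)).obj F), ∃ n ∈ Φ,
      topologicalKrullDim ↥(closure ({z} : Set ↥(f.fiber y))) = (n : WithBot ℕ∞)} := by
  have h := isOpen_forall_fiber_of_isClosedMap f f.isClosedMap
    (fun y z₀ => ∀ z ∈ _root_.AssSch.Ass ((Scheme.Modules.pullback (f.fiberι y)).obj F),
      z₀ ∈ closure {z} →
      ∃ n ∈ Φ, topologicalKrullDim ↥(closure ({z} : Set ↥(f.fiber y))) = (n : WithBot ℕ∞))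
    (isOpen_ass_dim_mem f F hF hflat Φ)
  convert h using 1
  ext y
  constructor
  · intro h' z₀ z hz _
    exact h' z hz
  · intro h' z hz
    exact h' z z hz (subset_closure rfl)

/-- the dimension of the support of the fibre module is bounded by `d` as soon as the associated
points of the fibre module have dimension at most `d`. -/
theorem dim_fibSupp_le_of_ass [LocallyOfFiniteType f] (F : X.Modules) [F.IsQuasicoherent]
    (hft : F.IsFiniteType) (y : Y) (d : ℕ)
    (h : ∀ z ∈ _root_.AssSch.Ass ((Scheme.Modules.pullback (f.fiberι y)).obj F),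
      ∃ n ∈ Finset.range (d + 1),
        topologicalKrullDim ↥(closure ({z} : Set ↥(f.fiber y))) = (n : WithBot ℕ∞)) :
    topologicalKrullDim ↥(fibSupp f F y) ≤ (d : WithBot ℕ∞) := by
  have hcl := isClosed_fibSupp f F hft y
  haveI : QuasiSober ↥(fibSupp f F y) := hcl.isClosedEmbedding_subtypeVal.quasiSober
  haveI : IsLocallyNoetherian (f.fiber y) := by
    delta Scheme.Hom.fiber; infer_instance
  haveI := qc_pullback (f.fiberι y) F
  have hFy : ((Scheme.Modules.pullback (f.fiberι y)).obj F).IsFiniteType :=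
    isFiniteType_pullback (f.fiberι y) F hft
  apply topologicalKrullDim_le_of_forall_closure
  rintro ⟨a, ha⟩
  rw [topologicalKrullDim_closure_subtype hcl a ha]
  obtain ⟨z', hz'S, hz'a, hz'max⟩ := exists_maximal_generization hcl a ha
  have hass : Curv2.IsAssPoint ((Scheme.Modules.pullback (f.fiberι y)).obj F) z' :=
    isAssPoint_of_maximal_support _ hFy z' hz'S (fun z hz hzz' => hz'max z hz hzz')
  obtain ⟨m, hm, hdim⟩ := h z' hass
  have hsub : closure ({a} : Set ↥(f.fiber y)) ⊆ closure ({z'} : Set ↥(f.fiber y)) :=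
    hz'a.closure_subset
  refine (Groth.Agent.H1.UOVal.dim_mono' hsub).trans ?_
  rw [hdim]
  have := Finset.mem_range.mp hm
  exact_mod_cast (by omega : m ≤ d)

/-- a value of `WithBot ℕ∞` between `0` and a natural number is a natural number -/
theorem exists_nat_eq_of_le (v : WithBot ℕ∞) (N : ℕ) (h0 : (0 : WithBot ℕ∞) ≤ v)
    (hN : v ≤ (N : WithBot ℕ∞)) : ∃ d : ℕ, v = (d : WithBot ℕ∞) := by
  induction v using WithBot.recBotCoe with
  | bot => exact absurd h0 (by simp)
  | coe e =>
    have hN' : e ≤ (N : ℕ∞) := by exact_mod_cast hN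
    induction e using ENat.recTopCoe with
    | top => exact absurd hN' (by simp)
    | coe m => exact ⟨m, rfl⟩

/-- **EGA IV 12.2.1 (iii)-style**: the dimension of the support of the fibre module is locally
constant on the base. -/
theorem isLocallyConstant_dim_fibSupp [IsProper f] [LocallyOfFinitePresentation f] (F : X.Modules)
    (hF : CohB1.IsFP F) (hflat : FlatMod.IsFlatOver f F) :
    IsLocallyConstant (fun y : Y => topologicalKrullDim ↥(fibSupp f F y)) := by
  haveI := hF
  haveI hqc : F.IsQuasicoherent := inferInstance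
  have hft : F.IsFiniteType := inferInstance
  rw [IsLocallyConstant.iff_exists_open]
  intro y₀
  have hfib : ∀ (y : Y) (z : ↥(f.fiber y)), z ∈ fibSupp f F y →
      y ∈ f '' {x | ¬ Subsingleton (F.presheaf.stalk x)} := fun y z hz =>
    ⟨f.fiberι y z, (mem_fibSupp_iff f F hft y z).mp hz, map_fiberι f y z⟩
  by_cases hne : (fibSupp f F y₀).Nonempty
  · -- nonempty support
    obtain ⟨z₁, hz₁⟩ := hne
    have hcl := isClosed_fibSupp f F hft y₀
    haveI : QuasiSober ↥(fibSupp f F y₀) := hcl.isClosedEmbedding_subtypeVal.quasiSober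
    obtain ⟨N, hN⟩ := exists_bound_dim_closure f y₀
    have hvN : topologicalKrullDim ↥(fibSupp f F y₀) ≤ (N : WithBot ℕ∞) := by
      apply topologicalKrullDim_le_of_forall_closure
      rintro ⟨a, ha⟩
      rw [topologicalKrullDim_closure_subtype hcl a ha]
      exact hN a
    have hge : ∀ a ∈ fibSupp f F y₀, topologicalKrullDim ↥(closure ({a} : Set ↥(f.fiber y₀))) ≤
        topologicalKrullDim ↥(fibSupp f F y₀) := fun a ha => topologicalKrullDim_closure_le hcl a ha
    have hv0 : (0 : WithBot ℕ∞) ≤ topologicalKrullDim ↥(fibSupp f F y₀) := by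
      obtain ⟨t, ht⟩ := exists_nat_dim_closure f y₀ z₁
      refine le_trans ?_ (hge z₁ hz₁)
      rw [ht]
      exact_mod_cast Nat.zero_le t
    obtain ⟨d₀, hd₀⟩ := exists_nat_eq_of_le _ N hv0 hvN
    -- the dimension is attained
    have hatt : ∃ a ∈ fibSupp f F y₀,
        topologicalKrullDim ↥(closure ({a} : Set ↥(f.fiber y₀))) = (d₀ : WithBot ℕ∞) := by
      by_contra hcon
      push Not at hcon
      have hlt : ∀ a ∈ fibSupp f F y₀, ∃ t : ℕ, t < d₀ ∧
          topologicalKrullDim ↥(closure ({a} : Set ↥(f.fiber y₀))) = (t : WithBot ℕ∞) := by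
        intro a ha
        obtain ⟨t, ht⟩ := exists_nat_dim_closure f y₀ a
        have h1 := hge a ha
        rw [ht, hd₀] at h1
        have h2 : t ≤ d₀ := by exact_mod_cast h1
        have h3 : t ≠ d₀ := by
          intro h
          exact hcon a ha (by rw [ht, h])
        exact ⟨t, by omega, ht⟩
      obtain ⟨t₁, ht₁, -⟩ := hlt z₁ hz₁
      have hle : topologicalKrullDim ↥(fibSupp f F y₀) ≤ ((d₀ - 1 : ℕ) : WithBot ℕ∞) := by
        apply topologicalKrullDim_le_of_forall_closure
        rintro ⟨a, ha⟩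
        rw [topologicalKrullDim_closure_subtype hcl a ha]
        obtain ⟨t, ht, hdim⟩ := hlt a ha
        rw [hdim]
        exact_mod_cast (by omega : t ≤ d₀ - 1)
      rw [hd₀] at hle
      have : d₀ ≤ d₀ - 1 := by exact_mod_cast hle
      omega
    obtain ⟨a, ha, hadim⟩ := hatt
    obtain ⟨z₀, hz₀S, hz₀a, hz₀max⟩ := exists_maximal_generization hcl a ha
    have hz₀dim : topologicalKrullDim ↥(closure ({z₀} : Set ↥(f.fiber y₀))) = (d₀ : WithBot ℕ∞) := by
      apply le_antisymm
      · rw [← hd₀]
        exact hge z₀ hz₀S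
      · rw [← hadim]
        exact Groth.Agent.H1.UOVal.dim_mono' hz₀a.closure_subset
    have hW := isOpen_exists_isMaxSuppPt f F hF hflat d₀
    have hU := isOpen_ass_dim_mem_proper f F hF hflat (Finset.range (d₀ + 1))
    refine ⟨_, hW.inter hU, ⟨⟨z₀, hz₀S, hz₀max, hz₀dim⟩, ?_⟩, ?_⟩
    · intro z hz
      have hzS : z ∈ fibSupp f F y₀ := nontrivial_stalk_of_isAssPoint _ z hz
      obtain ⟨t, ht⟩ := exists_nat_dim_closure f y₀ z
      have h1 := hge z hzS
      rw [ht, hd₀] at h1
      have h2 : t ≤ d₀ := by exact_mod_cast h1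
      exact ⟨t, Finset.mem_range.mpr (by omega), ht⟩
    · rintro y ⟨⟨z, hzS, hzmax, hzdim⟩, hyU⟩
      change topologicalKrullDim ↥(fibSupp f F y) = topologicalKrullDim ↥(fibSupp f F y₀)
      rw [hd₀]
      apply le_antisymm
      · exact dim_fibSupp_le_of_ass f F hft y d₀ hyU
      · rw [← hzdim]
        exact topologicalKrullDim_closure_le (isClosed_fibSupp f F hft y) z hzS
  · -- empty support
    have hcl : IsClosed (f '' {x | ¬ Subsingleton (F.presheaf.stalk x)}) :=
      f.isClosedMap _ (isClosed_support_of_isFiniteType F hft)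
    have hempty : ∀ y : Y, y ∉ f '' {x | ¬ Subsingleton (F.presheaf.stalk x)} →
        topologicalKrullDim ↥(fibSupp f F y) = ⊥ := by
      intro y hy
      haveI : IsEmpty ↥(fibSupp f F y) := by
        rw [Set.isEmpty_coe_sort, Set.eq_empty_iff_forall_notMem]
        intro z hz
        exact hy (hfib y z hz)
      exact topologicalKrullDim_eq_bot_of_isEmpty _
    have hy₀ : y₀ ∉ f '' {x | ¬ Subsingleton (F.presheaf.stalk x)} := by
      rintro ⟨x, hx, rfl⟩
      apply hne
      refine ⟨f.asFiber x, ?_⟩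
      rw [mem_fibSupp_iff f F hft, f.fiberι_asFiber]
      exact hx
    refine ⟨_, hcl.isOpen_compl, hy₀, fun y hy => ?_⟩
    change topologicalKrullDim ↥(fibSupp f F y) = topologicalKrullDim ↥(fibSupp f F y₀)
    rw [hempty y hy, hempty y₀ hy₀]

end Fibre

end Groth.Agent.H2.Sk
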