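import Mathlib
import Groth.Prelude.Def_CAlg
import Groth.Prelude.Def_FlatMod2
import Groth.Prelude.Def_CohB1
import Groth.Prelude.Def_FDesc
import Groth.Agent.Lib.Helper2.SkX
import Groth.Agent.Lib.Helper2.SkK

/-! Helper2: EGA IV 12.2.1 (iv)-style: the set of points of the base over which the fibre module has
no embedded associated points and the dimensions of the irreducible components of its support are
prescribed is open. -/

set_option autoImplicit false
set_option linter.style.haveILetI false
universe u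

open AlgebraicGeometry CategoryTheory

namespace Groth.Agent.H2.Sk

open Groth.Agent.H2.Idl Groth.Agent.LD.QC

attribute [-instance] Groth.Agent.LD.QC.stalkModule

section Fibre
variable {X Y : Scheme.{u}} (f : X ⟶ Y)

/-- no embedded points, in terms of `(S_1)` at all points -/
theorem noEmbedded_iff_forall_hasSk_one {Z : Scheme.{u}} [IsLocallyNoetherian Z] (G : Z.Modules)
    [G.IsQuasicoherent] (hG : G.IsFiniteType) :
    _root_.AssSch.NoEmbedded G ↔
      ∀ x : Z, LocCoh.HasSk 1 (Z.presheaf.stalk x) (G.presheaf.stalk x) := by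
  have key : ∀ x : Z, LocCoh.HasSk 1 (Z.presheaf.stalk x) (G.presheaf.stalk x) ↔
      ∀ z ∈ _root_.AssSch.Ass G, x ∈ closure {z} →
        ∀ z' ∈ _root_.AssSch.Ass G, z ∈ closure {z'} → z' = z := fun x =>
    hasSk_one_stalk_iff G hG x
  constructor
  · intro h x
    rw [key x]
    intro z hz _ z' hz' hzz'
    exact (h z hz z' hz' (specializes_iff_mem_closure.mpr hzz')).symm
  · intro h x hx y hy hyx
    exact ((key x).mp (h x) x hx (subset_closure rfl) y hy
      (specializes_iff_mem_closure.mp hyx)).symm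

/-- the set of points of the base over which the fibre module has no embedded associated points is
open (proper case). -/
theorem isOpen_noEmbedded_proper [IsProper f] [LocallyOfFinitePresentation f] (F : X.Modules)
    (hF : CohB1.IsFP F) (hflat : FlatMod.IsFlatOver f F) :
    IsOpen {y : Y | _root_.AssSch.NoEmbedded ((Scheme.Modules.pullback (f.fiberι y)).obj F)} := by
  haveI := hF
  haveI hqc : F.IsQuasicoherent := inferInstance
  have hft : F.IsFiniteType := inferInstance
  have h := isOpen_forall_fiber_of_isClosedMap f f.isClosedMap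
    (fun y z => LocCoh.HasSk 1 ((f.fiber y).presheaf.stalk z)
        (((Scheme.Modules.pullback (f.fiberι y)).obj F).presheaf.stalk z))
    (isOpen_fibre_hasSk_module f F hF hflat 1)
  convert h using 1
  ext y
  haveI : IsLocallyNoetherian (f.fiber y) := by
    delta Scheme.Hom.fiber; infer_instance
  haveI := qc_pullback (f.fiberι y) F
  exact noEmbedded_iff_forall_hasSk_one _ (isFiniteType_pullback (f.fiberι y) F hft)

/-- pointwise reformulation of the condition of EGA IV 12.2.1 (iv) -/
theorem noEmbedded_dims_iff [LocallyOfFiniteType f] (F : X.Modules) [F.IsQuasicoherent]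
    (hft : F.IsFiniteType) (Φ : Finset ℕ) (y : Y) :
    (_root_.AssSch.NoEmbedded ((Scheme.Modules.pullback (f.fiberι y)).obj F) ∧
      (fun Z : Set ↥(fibSupp f F y) => topologicalKrullDim ↥Z) ''
          irreducibleComponents ↥(fibSupp f F y) =
        (fun n : ℕ => (n : WithBot ℕ∞)) '' (Φ : Set ℕ)) ↔
    (_root_.AssSch.NoEmbedded ((Scheme.Modules.pullback (f.fiberι y)).obj F) ∧
      (∀ n ∈ Φ, ∃ Z ∈ irreducibleComponents ↥(fibSupp f F y),
        topologicalKrullDim ↥Z = (n : WithBot ℕ∞)) ∧
      ∀ z ∈ _root_.AssSch.Ass ((Scheme.Modules.pullback (f.fiberι y)).obj F), ∃ n ∈ Φ,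
        topologicalKrullDim ↥(closure ({z} : Set ↥(f.fiber y))) = (n : WithBot ℕ∞)) := by
  have hcl := isClosed_fibSupp f F hft y
  haveI : IsLocallyNoetherian (f.fiber y) := by
    delta Scheme.Hom.fiber; infer_instance
  haveI := qc_pullback (f.fiberι y) F
  have hFy : ((Scheme.Modules.pullback (f.fiberι y)).obj F).IsFiniteType :=
    isFiniteType_pullback (f.fiberι y) F hft
  have hmaxass : ∀ z ∈ fibSupp f F y, (∀ z' ∈ fibSupp f F y, z' ⤳ z → z' = z) →
      z ∈ _root_.AssSch.Ass ((Scheme.Modules.pullback (f.fiberι y)).obj F) := fun z hz hmax =>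
    isAssPoint_of_maximal_support _ hFy z hz (fun z' hz' hzz' => hmax z' hz' hzz')
  constructor
  · rintro ⟨hNE, heq⟩
    refine ⟨hNE, ?_, ?_⟩
    · intro n hn
      have : ((n : ℕ) : WithBot ℕ∞) ∈ (fun n : ℕ => (n : WithBot ℕ∞)) '' (Φ : Set ℕ) :=
        ⟨n, hn, rfl⟩
      rw [← heq] at this
      obtain ⟨Z, hZ, hdim⟩ := this
      exact ⟨Z, hZ, hdim⟩
    · intro z hz
      have hzS : z ∈ fibSupp f F y := nontrivial_stalk_of_isAssPoint _ z hz
      obtain ⟨z', hz'S, hz'z, hz'max⟩ := exists_maximal_generization hcl z hzS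
      have hz'ass := hmaxass z' hz'S hz'max
      have hzz' : z = z' := hNE z hz z' hz'ass hz'z
      subst hzz'
      obtain ⟨C, hC, hd⟩ := exists_component_of_maximal hcl z hzS hz'max
      have : topologicalKrullDim ↥C ∈ (fun Z : Set ↥(fibSupp f F y) => topologicalKrullDim ↥Z) ''
          irreducibleComponents ↥(fibSupp f F y) := ⟨C, hC, rfl⟩
      rw [heq] at this
      obtain ⟨n, hn, hdim⟩ := this
      exact ⟨n, hn, by rw [← hd]; exact hdim.symm⟩
  · rintro ⟨hNE, h2, h3⟩
    refine ⟨hNE, ?_⟩
    ext v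
    constructor
    · rintro ⟨Z, hZ, rfl⟩
      obtain ⟨z, hz, hmax, -, hd⟩ := exists_maximal_of_component hcl Z hZ
      obtain ⟨n, hn, hdim⟩ := h3 z (hmaxass z hz hmax)
      exact ⟨n, hn, by change (n : WithBot ℕ∞) = topologicalKrullDim ↥Z; rw [hd, hdim]⟩
    · rintro ⟨n, hn, rfl⟩
      obtain ⟨Z, hZ, hdim⟩ := h2 n hn
      exact ⟨Z, hZ, hdim⟩

/-- **EGA IV 12.2.1 (iv)-style.** -/
theorem isOpen_noEmbedded_dims [IsProper f] [LocallyOfFinitePresentation f] (F : X.Modules)
    (hF : CohB1.IsFP F) (hflat : FlatMod.IsFlatOver f F) (Φ : Finset ℕ) :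
    IsOpen {y : Y | _root_.AssSch.NoEmbedded ((Scheme.Modules.pullback (f.fiberι y)).obj F) ∧
      (fun Z : Set ↥(fibSupp f F y) => topologicalKrullDim ↥Z) ''
          irreducibleComponents ↥(fibSupp f F y) =
        (fun n : ℕ => (n : WithBot ℕ∞)) '' (Φ : Set ℕ)} := by
  haveI := hF
  haveI hqc : F.IsQuasicoherent := inferInstance
  have hft : F.IsFiniteType := inferInstance
  have h1 := isOpen_noEmbedded_proper f F hF hflat
  have h2 : IsOpen {y : Y | ∀ n ∈ Φ, ∃ Z ∈ irreducibleComponents ↥(fibSupp f F y),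
      topologicalKrullDim ↥Z = (n : WithBot ℕ∞)} := by
    have h : ∀ n : ℕ, IsOpen {y : Y | ∃ Z ∈ irreducibleComponents ↥(fibSupp f F y),
        topologicalKrullDim ↥Z = (n : WithBot ℕ∞)} := by
      intro n
      have := isOpen_exists_isMaxSuppPt f F hF hflat n
      convert this using 1
      ext y
      exact exists_component_iff f F hft n y
    have h2 := isOpen_biInter_finset (s := Φ) (fun n _ => h n)
    convert h2 using 1
    ext y
    simp only [Set.mem_iInter, Set.mem_ofPred_eq]
  have h3 := isOpen_ass_dim_mem_proper f F hF hflat Φ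
  convert (h1.inter h2).inter h3 using 1
  ext y
  rw [Set.mem_ofPred_eq, noEmbedded_dims_iff f F hft Φ y]
  simp only [Set.mem_inter_iff, Set.mem_ofPred_eq, and_assoc]

end Fibre

end Groth.Agent.H2.Sk
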