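import Mathlib
import Groth.Agent.Lib.Helper2.SmEtSheafA
import Groth.Agent.Lib.Helper7.GalCov2

set_option autoImplicit false
set_option linter.style.haveILetI false
set_option linter.unusedVariables false
universe w u
open CategoryTheory CategoryTheory.Limits AlgebraicGeometry MorphismProperty TopologicalSpace Opposite

namespace Groth.Agent.H2.SmEtSheaf

open Groth.Agent.H2.FinStalk Groth.Agent.H7.GalCov

variable {X : Scheme.{u}}

section Coprod

variable {ι : Type u} (V : ι → X.Etale)

/-- The coproduct of a family of étale `X`-schemes. -/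
noncomputable def sigmaObj : X.Etale :=
  MorphismProperty.Over.mk ⊤ (Sigma.desc (fun k => (V k).hom))
    (IsZariskiLocalAtSource.sigmaDesc (P := @Etale) (fun k => (V k).prop))

/-- The inclusion of a summand. -/
noncomputable def sigmaIncl (k : ι) : V k ⟶ sigmaObj V :=
  MorphismProperty.Over.homMk (Sigma.ι (fun k => (V k).left) k) (Sigma.ι_desc _ _)

lemma sigmaIncl_left (k : ι) : (sigmaIncl V k).left = Sigma.ι (fun k => (V k).left) k := rfl

instance (k : ι) : IsOpenImmersion (sigmaIncl V k).left := by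
  rw [sigmaIncl_left]
  exact (sigmaOpenCover (fun k => (V k).left)).map_prop k

lemma exists_sigmaIncl_eq (x : (sigmaObj V).left) : ∃ k y, (sigmaIncl V k).left y = x := by
  obtain ⟨y, hy⟩ := (sigmaOpenCover (fun k => (V k).left)).covers x
  exact ⟨_, y, hy⟩

instance [Finite ι] [∀ k, IsAffine (V k).left] : IsAffine (sigmaObj V).left :=
  inferInstanceAs (IsAffine (∐ fun k => (V k).left))

lemma sigmaDesc_aux {U : X.Etale} (g : ∀ k, V k ⟶ U) :
    (Sigma.desc (fun k => (g k).left) : (∐ fun k => (V k).left) ⟶ U.left) ≫ U.hom =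
      Sigma.desc (fun k => (V k).hom) := by
  apply Sigma.hom_ext
  intro k
  rw [Sigma.ι_desc_assoc, Sigma.ι_desc]
  exact MorphismProperty.Over.w (g k)

/-- The morphism out of the coproduct induced by a family of morphisms. -/
noncomputable def sigmaDesc {U : X.Etale} (g : ∀ k, V k ⟶ U) : sigmaObj V ⟶ U :=
  MorphismProperty.Over.homMk (Sigma.desc (fun k => (g k).left)) (sigmaDesc_aux V g)

lemma sigmaIncl_desc {U : X.Etale} (g : ∀ k, V k ⟶ U) (k : ι) :
    sigmaIncl V k ≫ sigmaDesc V g = g k := by
  apply MorphismProperty.Over.Hom.ext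
  change Sigma.ι _ k ≫ Sigma.desc (fun k => (g k).left) = (g k).left
  exact Sigma.ι_desc _ _

lemma surjective_sigmaDesc {U : X.Etale} (g : ∀ k, V k ⟶ U)
    (h : ∀ x : U.left, ∃ k y, (g k).left y = x) : Surjective (sigmaDesc V g).left := by
  refine ⟨fun x => ?_⟩
  obtain ⟨k, y, hy⟩ := h x
  refine ⟨(sigmaIncl V k).left y, ?_⟩
  rw [← Scheme.Hom.comp_apply]
  have := congrArg (fun m => m.left) (sigmaIncl_desc V g k)
  change (sigmaIncl V k).left ≫ (sigmaDesc V g).left = (g k).left at this
  rw [this, hy]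

variable {F : X.Etaleᵒᵖ ⥤ Type w} (hZ : Presieve.IsSheaf (JZar X) F)

include hZ in
lemma sigma_ext (s t : F.obj (op (sigmaObj V)))
    (h : ∀ k, F.map (sigmaIncl V k).op s = F.map (sigmaIncl V k).op t) : s = t := by
  apply zar_ext hZ
  intro x
  obtain ⟨k, y, hy⟩ := exists_sigmaIncl_eq V x
  exact ⟨V k, sigmaIncl V k, y, inferInstance, hy, h k⟩

include hZ in
set_option backward.isDefEq.respectTransparency.types false in
lemma sigma_glue (x : ∀ k, F.obj (op (V k))) :
    ∃ y : F.obj (op (sigmaObj V)), ∀ k, F.map (sigmaIncl V k).op y = x k := by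
  have hcov : Sieve.ofArrows V (sigmaIncl V) ∈ JZar X (sigmaObj V) := by
    rw [mem_JZar_iff]
    intro p
    obtain ⟨k, y, hy⟩ := exists_sigmaIncl_eq V p
    exact ⟨V k, sigmaIncl V k, y, Sieve.ofArrows_mk _ _ k, inferInstance, hy⟩
  have hsh : Presieve.IsSheafFor F (Presieve.ofArrows V (sigmaIncl V)) := by
    rw [Presieve.isSheafFor_iff_generate]
    exact hZ _ hcov
  have hcompat : Presieve.Arrows.Compatible F (sigmaIncl V) x := by
    intro i j Z gi gj hgij
    by_cases hij : i = j
    · subst hij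
      have hl : gi.left ≫ (sigmaIncl V i).left = gj.left ≫ (sigmaIncl V i).left :=
        congrArg (fun m => m.left) hgij
      have : gi = gj := MorphismProperty.Over.Hom.ext ((cancel_mono (sigmaIncl V i).left).1 hl)
      rw [this]
    · have hl : gi.left ≫ Sigma.ι (fun k => (V k).left) i =
          gj.left ≫ Sigma.ι (fun k => (V k).left) j :=
        congrArg (fun m => m.left) hgij
      haveI : IsEmpty Z.left := isEmpty_of_commSq_sigmaι_of_ne ⟨hl⟩ hij
      haveI := subsingleton_of_isEmpty hZ Z
      exact Subsingleton.elim _ _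
  obtain ⟨y, hy, -⟩ := (Presieve.isSheafFor_arrows_iff _ _).1 hsh x hcompat
  exact ⟨y, hy⟩

end Coprod

end Groth.Agent.H2.SmEtSheaf
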