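import Mathlib
import Groth.Agent.Lib.Helper2.SmEtSheafB

set_option autoImplicit false
set_option linter.style.haveILetI false
set_option linter.unusedVariables false
universe w u
open CategoryTheory CategoryTheory.Limits AlgebraicGeometry MorphismProperty TopologicalSpace Opposite

namespace Groth.Agent.H2.SmEtSheaf

open Groth.Agent.H2.FinStalk Groth.Agent.H7.GalCov

variable {X : Scheme.{u}}

set_option backward.isDefEq.respectTransparency.types false in
/-- Finite affine refinement of an étale covering sieve of a quasi-compact object. -/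
lemma exists_finite_affine_refinement {U : X.Etale} [CompactSpace U.left] (S : Sieve U)
    (hS : S ∈ X.smallEtaleTopology U) :
    ∃ (ι : Type u) (_ : Finite ι) (V : ι → X.Etale) (g : ∀ k, V k ⟶ U),
      (∀ k, IsAffine (V k).left) ∧ (∀ k, S (g k)) ∧ ∀ x : U.left, ∃ k y, (g k).left y = x := by
  have h := (mem_Jet_iff S).1 hS
  choose Y f y hf hy using h
  have hW : ∀ x, ∃ W : (Y x).left.Opens, IsAffineOpen W ∧ y x ∈ W := fun x => by
    obtain ⟨W, hW, hyW, -⟩ := exists_isAffineOpen_mem_and_subset (x := y x)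
      (U := (⊤ : (Y x).left.Opens)) trivial
    exact ⟨W, hW, hyW⟩
  choose W hWaff hyW using hW
  let V' : U.left → X.Etale := fun x => openObj (Y x) (W x)
  let g' : ∀ x, V' x ⟶ U := fun x => openIncl (Y x) (W x) ≫ f x
  have hopen : ∀ x, IsOpen (Set.range (g' x).left) := fun x => by
    haveI := etale_left (g' x)
    exact (g' x).left.isOpenMap.isOpen_range
  have hmem : ∀ x, x ∈ Set.range (g' x).left := fun x => by
    refine ⟨(⟨y x, hyW x⟩ : ↥(W x)), ?_⟩
    have e : (g' x).left = (W x).ι ≫ (f x).left := rfl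
    have e2 : (g' x).left (⟨y x, hyW x⟩ : ↥(W x)) = (f x).left ((W x).ι ⟨y x, hyW x⟩) :=
      (congrArg (fun m : (V' x).left ⟶ U.left => m (⟨y x, hyW x⟩ : ↥(W x))) e).trans
        (Scheme.Hom.comp_apply _ _ _)
    exact e2.trans (hy x)
  obtain ⟨t, ht⟩ := isCompact_univ.elim_finite_subcover (fun x => Set.range (g' x).left) hopen
    (fun x _ => Set.mem_iUnion.2 ⟨x, hmem x⟩)
  refine ⟨↥t, inferInstance, fun k => V' k.1, fun k => g' k.1, fun k => hWaff k.1,
    fun k => S.downward_closed (hf k.1) _, ?_⟩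
  intro x
  have hx := ht (Set.mem_univ x)
  simp only [Set.mem_iUnion] at hx
  obtain ⟨i, hi, z, hz⟩ := hx
  exact ⟨⟨i, hi⟩, z, hz⟩

variable {F : X.Etaleᵒᵖ ⥤ Type w} (hZ : Presieve.IsSheaf (JZar X) F)
  (hA : ∀ (U V : X.Etale) [IsAffine U.left] [IsAffine V.left] (f : V ⟶ U) [Surjective f.left],
    Presieve.IsSheafFor F (Presieve.singleton f))

lemma map_comp_apply' {U V W : X.Etale} (a : W ⟶ V) (b : V ⟶ U) (s : F.obj (op U)) :
    F.map a.op (F.map b.op s) = F.map (a ≫ b).op s := by
  rw [op_comp, F.map_comp]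
  rfl

include hZ hA in
/-- Separatedness for étale coverings of an affine object. -/
lemma et_ext_affine {U : X.Etale} [IsAffine U.left] (S : Sieve U)
    (hS : S ∈ X.smallEtaleTopology U) (s t : F.obj (op U))
    (h : ∀ ⦃Y : X.Etale⦄ (f : Y ⟶ U), S f → F.map f.op s = F.map f.op t) : s = t := by
  obtain ⟨ι, hι, V, g, haff, hgS, hcov⟩ := exists_finite_affine_refinement S hS
  haveI := haff
  haveI := surjective_sigmaDesc V g hcov
  have hinj := (Presieve.isSeparatedFor_singleton (P := F)).1
    (hA U (sigmaObj V) (sigmaDesc V g)).isSeparatedFor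
  apply hinj
  apply sigma_ext V hZ
  intro k
  rw [map_comp_apply', map_comp_apply', sigmaIncl_desc]
  exact h _ (hgS k)

include hZ hA in
/-- Separatedness for étale coverings of an arbitrary object. -/
lemma et_ext {U : X.Etale} (S : Sieve U)
    (hS : S ∈ X.smallEtaleTopology U) (s t : F.obj (op U))
    (h : ∀ ⦃Y : X.Etale⦄ (f : Y ⟶ U), S f → F.map f.op s = F.map f.op t) : s = t := by
  apply zar_ext hZ
  intro x
  obtain ⟨W, hW, hxW, -⟩ := exists_isAffineOpen_mem_and_subset (x := x)
    (U := (⊤ : U.left.Opens)) trivial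
  haveI : IsAffine (openObj U W).left := hW
  refine ⟨openObj U W, openIncl U W, (⟨x, hxW⟩ : ↥W), ?_, rfl, ?_⟩
  · exact inferInstanceAs (IsOpenImmersion (Scheme.Opens.ι W))
  · refine et_ext_affine hZ hA (S.pullback (openIncl U W))
      (X.smallEtaleTopology.pullback_stable _ hS) _ _ ?_
    intro Y f hf
    rw [map_comp_apply', map_comp_apply']
    exact h _ hf

end Groth.Agent.H2.SmEtSheaf
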