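import Mathlib
import Groth.Agent.Lib.Helper2.SmEtSheafC

set_option autoImplicit false
set_option linter.style.haveILetI false
set_option linter.unusedVariables false
universe w u
open CategoryTheory CategoryTheory.Limits AlgebraicGeometry MorphismProperty TopologicalSpace Opposite

namespace Groth.Agent.H2.SmEtSheaf

open Groth.Agent.H2.FinStalk Groth.Agent.H7.GalCov

variable {X : Scheme.{u}}

set_option backward.isDefEq.respectTransparency.types false in
/-- Lifting through an open immersion, on an open subscheme of the source. -/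
lemma exists_lift_openIncl {Z W T : X.Etale} (p : Z ⟶ T) (i : W ⟶ T) [IsOpenImmersion i.left]
    (Zo : Z.left.Opens) (h : ∀ z ∈ Zo, p.left z ∈ Set.range i.left) :
    ∃ q : openObj Z Zo ⟶ W, q ≫ i = openIncl Z Zo ≫ p := by
  have hr : Set.range (Zo.ι ≫ p.left) ⊆ Set.range i.left := by
    rintro _ ⟨z, rfl⟩
    rw [Scheme.Hom.comp_apply]
    exact h _ z.2
  obtain ⟨l, hl⟩ : ∃ l : (Zo : Scheme.{u}) ⟶ W.left, l ≫ i.left = Zo.ι ≫ p.left :=
    ⟨IsOpenImmersion.lift i.left (Zo.ι ≫ p.left) hr, IsOpenImmersion.lift_fac _ _ _⟩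
  have hw : l ≫ W.hom = Zo.ι ≫ Z.hom := by
    have h1 : i.left ≫ T.hom = W.hom := MorphismProperty.Over.w i
    have h2 : p.left ≫ T.hom = Z.hom := MorphismProperty.Over.w p
    rw [← h1, ← Category.assoc, hl, Category.assoc, h2]
  obtain ⟨q, hq⟩ : ∃ q : openObj Z Zo ⟶ W, q.left = l :=
    ⟨MorphismProperty.Over.homMk l hw, rfl⟩
  refine ⟨q, ?_⟩
  apply MorphismProperty.Over.Hom.ext
  change q.left ≫ i.left = Zo.ι ≫ p.left
  exact (congrArg (fun m => m ≫ i.left) hq).trans hl

lemma fam_congr {F : X.Etaleᵒᵖ ⥤ Type w} {U : X.Etale} {S : Sieve U}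
    (x : Presieve.FamilyOfElements F S.arrows) {Y : X.Etale} {f f' : Y ⟶ U} (h : f = f')
    (hf : S f) (hf' : S f') : x f hf = x f' hf' := by
  subst h
  rfl

variable {F : X.Etaleᵒᵖ ⥤ Type w} (hZ : Presieve.IsSheaf (JZar X) F)
  (hA : ∀ (U V : X.Etale) [IsAffine U.left] [IsAffine V.left] (f : V ⟶ U) [Surjective f.left],
    Presieve.IsSheafFor F (Presieve.singleton f))

include hZ hA in
/-- The sheaf condition for étale coverings of an affine object. -/
lemma isSheafFor_affine {U : X.Etale} [IsAffine U.left] (S : Sieve U)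
    (hS : S ∈ X.smallEtaleTopology U) : Presieve.IsSheafFor F S.arrows := by
  intro x hx
  obtain ⟨ι, hι, V, g, haff, hgS, hcov⟩ := exists_finite_affine_refinement S hS
  haveI := haff
  haveI := surjective_sigmaDesc V g hcov
  obtain ⟨y, hy⟩ := sigma_glue V hZ (fun k => x (g k) (hgS k))
  have hycomp : ∀ {Z : X.Etale} (p₁ p₂ : Z ⟶ sigmaObj V),
      p₁ ≫ sigmaDesc V g = p₂ ≫ sigmaDesc V g → F.map p₁.op y = F.map p₂.op y := by
    intro Z p₁ p₂ hp
    apply zar_ext hZ
    intro z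
    obtain ⟨k, a, ha⟩ := exists_sigmaIncl_eq V (p₁.left z)
    obtain ⟨l, b, hb⟩ := exists_sigmaIncl_eq V (p₂.left z)
    let Zo : Z.left.Opens := (p₁.left ⁻¹ᵁ (sigmaIncl V k).left.opensRange) ⊓
      (p₂.left ⁻¹ᵁ (sigmaIncl V l).left.opensRange)
    have hz : z ∈ Zo := ⟨⟨a, ha⟩, ⟨b, hb⟩⟩
    obtain ⟨q₁, hq₁⟩ := exists_lift_openIncl p₁ (sigmaIncl V k) Zo (fun z' hz' => hz'.1)
    obtain ⟨q₂, hq₂⟩ := exists_lift_openIncl p₂ (sigmaIncl V l) Zo (fun z' hz' => hz'.2)
    refine ⟨openObj Z Zo, openIncl Z Zo, (⟨z, hz⟩ : ↥Zo),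
      inferInstanceAs (IsOpenImmersion (Scheme.Opens.ι Zo)), rfl, ?_⟩
    rw [map_comp_apply', map_comp_apply', ← hq₁, ← hq₂, ← map_comp_apply', ← map_comp_apply',
      hy k, hy l]
    refine hx q₁ q₂ (hgS k) (hgS l) ?_
    rw [← sigmaIncl_desc V g k, ← sigmaIncl_desc V g l, ← Category.assoc, ← Category.assoc,
      hq₁, hq₂, Category.assoc, Category.assoc, hp]
  obtain ⟨z', hz', -⟩ := (Presieve.isSheafFor_singleton (P := F)).1
    (hA U (sigmaObj V) (sigmaDesc V g)) y hycomp
  have hzk : ∀ k, F.map (g k).op z' = x (g k) (hgS k) := by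
    intro k
    have e1 : F.map (g k).op z' = F.map (sigmaIncl V k ≫ sigmaDesc V g).op z' :=
      congrArg (fun m : V k ⟶ U => F.map m.op z') (sigmaIncl_desc V g k).symm
    rw [e1, ← map_comp_apply', hz', hy k]
  have hcovS : Sieve.ofArrows V g ∈ X.smallEtaleTopology U := by
    rw [mem_Jet_iff]
    intro p
    obtain ⟨k, y', hy'⟩ := hcov p
    exact ⟨V k, g k, y', Sieve.ofArrows_mk _ _ k, hy'⟩
  refine ⟨z', ?_, ?_⟩
  · intro Y f hf
    refine et_ext hZ hA ((Sieve.ofArrows V g).pullback f)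
      (X.smallEtaleTopology.pullback_stable f hcovS) _ _ ?_
    intro Z h hh
    obtain ⟨k, c, hc⟩ := (Sieve.mem_ofArrows_iff V g (h ≫ f)).1 hh
    rw [map_comp_apply', hc, ← map_comp_apply', hzk k,
      ← Presieve.FamilyOfElements.comp_of_compatible S hx (hgS k) c,
      ← Presieve.FamilyOfElements.comp_of_compatible S hx hf h]
    exact fam_congr x hc.symm _ _
  · intro z'' hz''
    refine et_ext_affine hZ hA S hS _ _ ?_
    intro Y f hf
    have h1 : F.map f.op z' = x f hf := by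
      refine et_ext hZ hA ((Sieve.ofArrows V g).pullback f)
        (X.smallEtaleTopology.pullback_stable f hcovS) _ _ ?_
      intro Z h hh
      obtain ⟨k, c, hc⟩ := (Sieve.mem_ofArrows_iff V g (h ≫ f)).1 hh
      rw [map_comp_apply', hc, ← map_comp_apply', hzk k,
        ← Presieve.FamilyOfElements.comp_of_compatible S hx (hgS k) c,
        ← Presieve.FamilyOfElements.comp_of_compatible S hx hf h]
      exact fam_congr x hc.symm _ _
    rw [hz'' f hf, h1]

end Groth.Agent.H2.SmEtSheaf
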