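import Mathlib
import Groth.Agent.Lib.Helper2.SmEtSheafD

set_option autoImplicit false
set_option linter.style.haveILetI false
set_option linter.unusedVariables false
universe w u
open CategoryTheory CategoryTheory.Limits AlgebraicGeometry MorphismProperty TopologicalSpace Opposite

namespace Groth.Agent.H2.SmEtSheaf

open Groth.Agent.H2.FinStalk Groth.Agent.H7.GalCov

variable {X : Scheme.{u}}

variable {F : X.Etaleᵒᵖ ⥤ Type w} (hZ : Presieve.IsSheaf (JZar X) F)
  (hA : ∀ (U V : X.Etale) [IsAffine U.left] [IsAffine V.left] (f : V ⟶ U) [Surjective f.left],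
    Presieve.IsSheafFor F (Presieve.singleton f))

include hZ hA in
set_option backward.isDefEq.respectTransparency.types false in
/-- The sheaf condition for étale coverings of an arbitrary object. -/
lemma isSheafFor_general {U : X.Etale} (S : Sieve U)
    (hS : S ∈ X.smallEtaleTopology U) : Presieve.IsSheafFor F S.arrows := by
  intro x hx
  have hloc : ∀ W : U.left.affineOpens, ∃ z : F.obj (op (openObj U W.1)),
      ∀ ⦃Y : X.Etale⦄ (f : Y ⟶ openObj U W.1) (hf : S (f ≫ openIncl U W.1)),
        F.map f.op z = x (f ≫ openIncl U W.1) hf := by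
    intro W
    haveI : IsAffine (openObj U W.1).left := W.2
    obtain ⟨z, hz, -⟩ := isSheafFor_affine hZ hA (S.pullback (openIncl U W.1))
      (X.smallEtaleTopology.pullback_stable _ hS) (x.pullback (openIncl U W.1))
      (hx.pullback _)
    exact ⟨z, fun Y f hf => hz f hf⟩
  choose z hz using hloc
  -- the Zariski covering by affine opens
  have hcovZ : Sieve.ofArrows (fun W : U.left.affineOpens => openObj U W.1)
      (fun W => openIncl U W.1) ∈ JZar X U := by
    rw [mem_JZar_iff]
    intro p
    obtain ⟨W, hW, hpW, -⟩ := exists_isAffineOpen_mem_and_subset (x := p)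
      (U := (⊤ : U.left.Opens)) trivial
    exact ⟨openObj U W, openIncl U W, (⟨p, hpW⟩ : ↥W),
      Sieve.ofArrows_mk _ _ (⟨W, hW⟩ : U.left.affineOpens),
      inferInstanceAs (IsOpenImmersion (Scheme.Opens.ι W)), rfl⟩
  have hsh : Presieve.IsSheafFor F (Presieve.ofArrows
      (fun W : U.left.affineOpens => openObj U W.1) (fun W => openIncl U W.1)) := by
    rw [Presieve.isSheafFor_iff_generate]
    exact hZ _ hcovZ
  have hcompat : Presieve.Arrows.Compatible F
      (fun W : U.left.affineOpens => openIncl U W.1) z := by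
    intro W W' Z a b hab
    refine et_ext hZ hA (S.pullback (a ≫ openIncl U W.1))
      (X.smallEtaleTopology.pullback_stable _ hS) _ _ ?_
    intro Y h hh
    have hh' : S ((h ≫ a) ≫ openIncl U W.1) := by
      rw [Category.assoc]; exact hh
    have hh'' : S ((h ≫ b) ≫ openIncl U W'.1) := by
      rw [Category.assoc, ← hab]; exact hh
    rw [map_comp_apply', map_comp_apply', hz W (h ≫ a) hh', hz W' (h ≫ b) hh'']
    exact fam_congr x (by rw [Category.assoc, Category.assoc, hab]) _ _
  obtain ⟨zU, hzU, -⟩ := (Presieve.isSheafFor_arrows_iff _ _).1 hsh z hcompat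
  refine ⟨zU, ?_, ?_⟩
  · intro Y f hf
    apply zar_ext hZ
    intro y
    obtain ⟨W, hW, hyW, -⟩ := exists_isAffineOpen_mem_and_subset (x := f.left y)
      (U := (⊤ : U.left.Opens)) trivial
    let Yo : Y.left.Opens := f.left ⁻¹ᵁ W
    have hy : y ∈ Yo := hyW
    haveI : IsOpenImmersion (openIncl U W).left :=
      inferInstanceAs (IsOpenImmersion (Scheme.Opens.ι W))
    obtain ⟨q, hq⟩ := exists_lift_openIncl f (openIncl U W) Yo (fun y' hy' => by
      refine ⟨(⟨f.left y', hy'⟩ : ↥W), rfl⟩)
    refine ⟨openObj Y Yo, openIncl Y Yo, (⟨y, hy⟩ : ↥Yo),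
      inferInstanceAs (IsOpenImmersion (Scheme.Opens.ι Yo)), rfl, ?_⟩
    have hqS : S (q ≫ openIncl U W) := by
      rw [hq]; exact S.downward_closed hf _
    rw [map_comp_apply', ← hq, ← map_comp_apply', hzU (⟨W, hW⟩ : U.left.affineOpens),
      hz (⟨W, hW⟩ : U.left.affineOpens) q hqS,
      ← Presieve.FamilyOfElements.comp_of_compatible S hx hf (openIncl Y Yo)]
    exact fam_congr x hq _ _
  · intro z'' hz''
    refine et_ext hZ hA S hS _ _ ?_
    intro Y f hf
    rw [hz'' f hf]
    -- same computation as above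
    apply zar_ext hZ
    intro y
    obtain ⟨W, hW, hyW, -⟩ := exists_isAffineOpen_mem_and_subset (x := f.left y)
      (U := (⊤ : U.left.Opens)) trivial
    let Yo : Y.left.Opens := f.left ⁻¹ᵁ W
    have hy : y ∈ Yo := hyW
    haveI : IsOpenImmersion (openIncl U W).left :=
      inferInstanceAs (IsOpenImmersion (Scheme.Opens.ι W))
    obtain ⟨q, hq⟩ := exists_lift_openIncl f (openIncl U W) Yo (fun y' hy' => by
      refine ⟨(⟨f.left y', hy'⟩ : ↥W), rfl⟩)
    refine ⟨openObj Y Yo, openIncl Y Yo, (⟨y, hy⟩ : ↥Yo),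
      inferInstanceAs (IsOpenImmersion (Scheme.Opens.ι Yo)), rfl, ?_⟩
    have hqS : S (q ≫ openIncl U W) := by
      rw [hq]; exact S.downward_closed hf _
    symm
    rw [map_comp_apply', ← hq, ← map_comp_apply', hzU (⟨W, hW⟩ : U.left.affineOpens),
      hz (⟨W, hW⟩ : U.left.affineOpens) q hqS,
      ← Presieve.FamilyOfElements.comp_of_compatible S hx hf (openIncl Y Yo)]
    exact fam_congr x hq _ _

/-- **S14453**. -/
theorem S14453_main (X : Scheme.{u}) (F : X.Etaleᵒᵖ ⥤ Type w) :
    Presieve.IsSheaf X.smallEtaleTopology F ↔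
      Presieve.IsSheaf (X.smallGrothendieckTopology (P := @IsOpenImmersion)) F ∧
        ∀ (U V : X.Etale) [IsAffine U.left] [IsAffine V.left] (f : V ⟶ U) [Surjective f.left],
          Presieve.IsSheafFor F (Presieve.singleton f) :=
  ⟨forward F, fun h U S hS => isSheafFor_general h.1 h.2 S hS⟩

end Groth.Agent.H2.SmEtSheaf
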