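import Mathlib

/-!
# Small extensions: the kernel of multiplication by `t` on a flat algebra (helper2)
-/

namespace Groth.Agent.H2.SmallExt

open TensorProduct

variable {A B : Type*} [CommRing A] [CommRing B] [Algebra A B]

/-- If `B` is flat over `A` and the annihilator of `t` in `A` is `I`, then the annihilator of `t`
in `B` is `I B`. -/
theorem mem_map_of_mul_eq_zero [Module.Flat A B] (t : A) (I : Ideal A)
    (hI : ∀ a, t * a = 0 → a ∈ I) (hI' : ∀ a ∈ I, t * a = 0) (b : B)
    (hb : algebraMap A B t * b = 0) : b ∈ I.map (algebraMap A B) := by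
  let f : I →ₗ[A] A := I.subtype
  let g : A →ₗ[A] A := LinearMap.mulLeft A t
  have hex : Function.Exact f g := by
    intro a
    constructor
    · intro ha
      exact ⟨⟨a, hI a ha⟩, rfl⟩
    · rintro ⟨x, rfl⟩
      exact hI' x x.2
  have hex' := Module.Flat.lTensor_exact B hex
  have h0 : (g.lTensor B) (b ⊗ₜ[A] (1 : A)) = 0 := by
    rw [LinearMap.lTensor_tmul]
    change b ⊗ₜ[A] (t * 1) = 0
    rw [mul_one]
    have : b ⊗ₜ[A] t = (t • b) ⊗ₜ[A] (1 : A) := by
      rw [TensorProduct.smul_tmul, smul_eq_mul, mul_one]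
    rw [this, Algebra.smul_def, hb, TensorProduct.zero_tmul]
  obtain ⟨z, hz⟩ := (hex' _).mp h0
  have key : ∀ z : B ⊗[A] I, (TensorProduct.rid A B) ((f.lTensor B) z) ∈
      I.map (algebraMap A B) := by
    intro z
    induction z using TensorProduct.induction_on with
    | zero => simp
    | tmul b' i =>
      rw [LinearMap.lTensor_tmul, TensorProduct.rid_tmul, Algebra.smul_def]
      exact Ideal.mul_mem_right _ _ (Ideal.mem_map_of_mem _ i.2)
    | add x y hx hy =>
      rw [map_add, map_add]
      exact add_mem hx hy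
  have := key z
  rwa [hz, TensorProduct.rid_tmul, one_smul] at this

theorem mul_eq_zero_of_mem_map (t : A) (I : Ideal A) (hI' : ∀ a ∈ I, t * a = 0) (b : B)
    (hb : b ∈ I.map (algebraMap A B)) : algebraMap A B t * b = 0 := by
  unfold Ideal.map at hb
  induction hb using Submodule.span_induction with
  | mem x hx =>
    obtain ⟨a, ha, rfl⟩ := hx
    rw [← map_mul, hI' a ha, map_zero]
  | zero => rw [mul_zero]
  | add x y _ _ hx hy => rw [mul_add, hx, hy, add_zero]
  | smul c x _ hx => rw [smul_eq_mul, mul_left_comm, hx, mul_zero]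

end Groth.Agent.H2.SmallExt
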