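import Groth.Agent.Lib.Helper2.SmallExt1

/-!
# Lifts of automorphisms over a small extension and derivations (helper2)
-/

namespace Groth.Agent.H2.SmallExt

universe u

section

variable {k : Type u} [Field k] {A : Type u} [CommRing A] [Algebra k A] [IsLocalRing A]
  {B : Type u} [CommRing B] [Algebra A B] [Algebra k B] [IsScalarTower k A B]

/-- The ideal `𝔪_A B`. -/
abbrev mB (A B : Type u) [CommRing A] [IsLocalRing A] [CommRing B] [Algebra A B] : Ideal B :=
  (IsLocalRing.maximalIdeal A).map (algebraMap A B)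

omit [Algebra k A] [Algebra k B] [IsScalarTower k A B] in
theorem ann_iff [Module.Flat A B] (t : A) (ht0 : t ≠ 0)
    (htm : ∀ a ∈ IsLocalRing.maximalIdeal A, a * t = 0) (b : B) :
    algebraMap A B t * b = 0 ↔ b ∈ mB A B := by
  constructor
  · apply mem_map_of_mul_eq_zero t (IsLocalRing.maximalIdeal A)
    · intro a ha
      by_contra hnm
      have hu : IsUnit a := by
        by_contra hnu
        exact hnm ((IsLocalRing.mem_maximalIdeal _).mpr hnu)
      apply ht0
      have : t = hu.unit⁻¹ * (a * t) := by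
        rw [← mul_assoc]
        simp
      rw [this, mul_comm a t, ha, mul_zero]
    · intro a ha
      rw [mul_comm]; exact htm a ha
  · apply mul_eq_zero_of_mem_map t (IsLocalRing.maximalIdeal A)
    intro a ha
    rw [mul_comm]; exact htm a ha

omit [Algebra k A] [Algebra k B] [IsScalarTower k A B] in
theorem t_mul_t (t : A) (ht : t ∈ IsLocalRing.maximalIdeal A)
    (htm : ∀ a ∈ IsLocalRing.maximalIdeal A, a * t = 0) :
    algebraMap A B t * algebraMap A B t = 0 := by
  rw [← map_mul, htm t ht, map_zero]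

omit [Algebra k A] [Algebra k B] [IsScalarTower k A B] in
theorem t_mem (t : A) (ht : t ∈ IsLocalRing.maximalIdeal A) : algebraMap A B t ∈ mB A B :=
  Ideal.mem_map_of_mem _ ht

omit [Algebra k A] [Algebra k B] [IsScalarTower k A B] in
theorem t_mul_congr [Module.Flat A B] (t : A) (ht0 : t ≠ 0)
    (htm : ∀ a ∈ IsLocalRing.maximalIdeal A, a * t = 0) {x x' : B}
    (h : Ideal.Quotient.mk (mB A B) x = Ideal.Quotient.mk (mB A B) x') :
    algebraMap A B t * x = algebraMap A B t * x' := by
  rw [Ideal.Quotient.eq] at h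
  have := (ann_iff t ht0 htm (x - x')).mpr h
  rw [mul_sub, sub_eq_zero] at this
  exact this

theorem mk_algebraMap_eq (hres : ∀ a : A, ∃ c : k, a - algebraMap k A c ∈ IsLocalRing.maximalIdeal A)
    (a : A) : ∃ c : k, Ideal.Quotient.mk (mB A B) (algebraMap A B a) =
      algebraMap k (B ⧸ mB A B) c := by
  obtain ⟨c, hc⟩ := hres a
  refine ⟨c, ?_⟩
  have h1 : algebraMap A B a - algebraMap k B c ∈ mB A B := by
    rw [IsScalarTower.algebraMap_apply k A B, ← map_sub]
    exact Ideal.mem_map_of_mem _ hc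
  rw [← Ideal.Quotient.eq] at h1
  rw [h1]
  rfl

/-- From a derivation to a lift. -/
theorem exists_lift [Module.Flat A B]
    (hres : ∀ a : A, ∃ c : k, a - algebraMap k A c ∈ IsLocalRing.maximalIdeal A)
    (t : A) (ht : t ∈ IsLocalRing.maximalIdeal A) (ht0 : t ≠ 0)
    (htm : ∀ a ∈ IsLocalRing.maximalIdeal A, a * t = 0)
    (τ : B ≃ₐ[A] B) (hτ0 : ∀ b : B, τ b - b ∈ mB A B)
    (d : Derivation k (B ⧸ mB A B) (B ⧸ mB A B)) :
    ∃ η : B ≃ₐ[A] B, (∀ b, η b - τ b ∈ Ideal.span {algebraMap A B t}) ∧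
      ∀ b b' : B, Ideal.Quotient.mk (mB A B) b' = d (Ideal.Quotient.mk (mB A B) b) →
        η b = τ b + algebraMap A B t * b' := by
  classical
  have hsurj : Function.Surjective (Ideal.Quotient.mk (mB A B)) := Ideal.Quotient.mk_surjective
  let s : B ⧸ mB A B → B := Function.surjInv hsurj
  have hs : ∀ y, Ideal.Quotient.mk (mB A B) (s y) = y := Function.surjInv_eq hsurj
  let ηf : B → B := fun b => τ b + algebraMap A B t * s (d (Ideal.Quotient.mk (mB A B) b))
  have hτmk : ∀ b, Ideal.Quotient.mk (mB A B) (τ b) = Ideal.Quotient.mk (mB A B) b := by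
    intro b
    rw [Ideal.Quotient.eq]; exact hτ0 b
  have P0 : ∀ b x, Ideal.Quotient.mk (mB A B) x = d (Ideal.Quotient.mk (mB A B) b) →
      ηf b = τ b + algebraMap A B t * x := by
    intro b x hx
    change τ b + _ = _
    rw [t_mul_congr t ht0 htm ((hs _).trans hx.symm)]
  have h_one : ηf 1 = 1 := by
    rw [P0 1 0 (by rw [map_zero, map_one, Derivation.map_one_eq_zero]), mul_zero, add_zero,
      map_one]
  have h_mul : ∀ b₁ b₂, ηf (b₁ * b₂) = ηf b₁ * ηf b₂ := by
    intro b₁ b₂
    obtain ⟨x₁, hx₁⟩ := hsurj (d (Ideal.Quotient.mk (mB A B) b₁))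
    obtain ⟨x₂, hx₂⟩ := hsurj (d (Ideal.Quotient.mk (mB A B) b₂))
    rw [P0 b₁ x₁ hx₁, P0 b₂ x₂ hx₂, P0 (b₁ * b₂) (b₁ * x₂ + b₂ * x₁) (by
      rw [map_mul, Derivation.leibniz, map_add, map_mul, map_mul, hx₁, hx₂, smul_eq_mul,
        smul_eq_mul])]
    have e1 : algebraMap A B t * (τ b₁ * x₂) = algebraMap A B t * (b₁ * x₂) :=
      t_mul_congr t ht0 htm (by rw [map_mul, map_mul, hτmk])
    have e2 : algebraMap A B t * (τ b₂ * x₁) = algebraMap A B t * (b₂ * x₁) :=
      t_mul_congr t ht0 htm (by rw [map_mul, map_mul, hτmk])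
    have e3 := t_mul_t (B := B) t ht htm
    rw [map_mul]
    linear_combination -e1 - e2 - x₁ * x₂ * e3
  have h_zero : ηf 0 = 0 := by
    rw [P0 0 0 (by rw [map_zero, map_zero]), mul_zero, add_zero, map_zero]
  have h_add : ∀ b₁ b₂, ηf (b₁ + b₂) = ηf b₁ + ηf b₂ := by
    intro b₁ b₂
    obtain ⟨x₁, hx₁⟩ := hsurj (d (Ideal.Quotient.mk (mB A B) b₁))
    obtain ⟨x₂, hx₂⟩ := hsurj (d (Ideal.Quotient.mk (mB A B) b₂))
    rw [P0 b₁ x₁ hx₁, P0 b₂ x₂ hx₂, P0 (b₁ + b₂) (x₁ + x₂) (by
      rw [map_add, map_add, map_add, hx₁, hx₂])]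
    rw [map_add]
    ring
  have h_comm : ∀ a : A, ηf (algebraMap A B a) = algebraMap A B a := by
    intro a
    obtain ⟨c, hc⟩ := mk_algebraMap_eq (B := B) hres a
    rw [P0 (algebraMap A B a) 0 (by rw [hc, map_zero, Derivation.map_algebraMap]), mul_zero,
      add_zero, AlgEquiv.commutes]
  let ηa : B →ₐ[A] B :=
    { toFun := ηf
      map_one' := h_one
      map_mul' := h_mul
      map_zero' := h_zero
      map_add' := h_add
      commutes' := h_comm }
  -- bijectivity
  let ν : B → B := fun b => τ.symm (algebraMap A B t * s (d (Ideal.Quotient.mk (mB A B) b)))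
  have hην : ∀ b, ηf b = τ (b + ν b) := by
    intro b
    change τ b + _ = _
    rw [map_add, AlgEquiv.apply_symm_apply]
  have hν1 : ∀ b c, Ideal.Quotient.mk (mB A B) b = Ideal.Quotient.mk (mB A B) c → ν b = ν c := by
    intro b c h
    change τ.symm _ = τ.symm _
    rw [h]
  have hν2 : ∀ b, Ideal.Quotient.mk (mB A B) (ν b) = 0 := by
    intro b
    rw [Ideal.Quotient.eq_zero_iff_mem]
    change τ.symm _ ∈ _
    rw [map_mul, AlgEquiv.commutes]
    exact Ideal.mul_mem_right _ _ (t_mem t ht)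
  have hbij : Function.Bijective ηa := by
    constructor
    · intro b b' h
      change ηf b = ηf b' at h
      rw [hην, hην] at h
      have h1 := τ.injective h
      have h2 : Ideal.Quotient.mk (mB A B) b = Ideal.Quotient.mk (mB A B) b' := by
        have := congrArg (Ideal.Quotient.mk (mB A B)) h1
        rwa [map_add, map_add, hν2, hν2, add_zero, add_zero] at this
      rw [hν1 b b' h2] at h1
      exact add_right_cancel h1
    · intro y
      refine ⟨τ.symm y - ν (τ.symm y), ?_⟩
      change ηf _ = y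
      rw [hην]
      have h2 : Ideal.Quotient.mk (mB A B) (τ.symm y - ν (τ.symm y)) =
          Ideal.Quotient.mk (mB A B) (τ.symm y) := by
        rw [map_sub, hν2, sub_zero]
      rw [hν1 _ _ h2, sub_add_cancel, AlgEquiv.apply_symm_apply]
  refine ⟨AlgEquiv.ofBijective ηa hbij, ?_, ?_⟩
  · intro b
    change ηf b - τ b ∈ _
    change τ b + _ - τ b ∈ _
    rw [add_sub_cancel_left]
    exact Ideal.mul_mem_right _ _ (Ideal.mem_span_singleton_self _)
  · intro b b' h
    exact P0 b b' h

end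

end Groth.Agent.H2.SmallExt
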