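import Groth.Agent.Lib.Helper2.SmallExt2

/-!
# Lifts of automorphisms over a small extension and derivations, II (helper2)
-/

namespace Groth.Agent.H2.SmallExt

universe u

variable {k : Type u} [Field k] {A : Type u} [CommRing A] [Algebra k A] [IsLocalRing A]
  {B : Type u} [CommRing B] [Algebra A B] [Algebra k B] [IsScalarTower k A B]

/-- From a lift to a derivation. -/
theorem existsUnique_der [Module.Flat A B]
    (t : A) (ht : t ∈ IsLocalRing.maximalIdeal A) (ht0 : t ≠ 0)
    (htm : ∀ a ∈ IsLocalRing.maximalIdeal A, a * t = 0)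
    (τ : B ≃ₐ[A] B) (hτ0 : ∀ b : B, τ b - b ∈ mB A B)
    (η : B ≃ₐ[A] B) (hη : ∀ b, η b - τ b ∈ Ideal.span {algebraMap A B t}) :
    ∃! d : Derivation k (B ⧸ mB A B) (B ⧸ mB A B),
      ∀ b b' : B, Ideal.Quotient.mk (mB A B) b' = d (Ideal.Quotient.mk (mB A B) b) →
        η b = τ b + algebraMap A B t * b' := by
  classical
  have hsurj : Function.Surjective (Ideal.Quotient.mk (mB A B)) := Ideal.Quotient.mk_surjective
  let s : B ⧸ mB A B → B := Function.surjInv hsurj
  have hs : ∀ y, Ideal.Quotient.mk (mB A B) (s y) = y := Function.surjInv_eq hsurj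
  have hτmk : ∀ b, Ideal.Quotient.mk (mB A B) (τ b) = Ideal.Quotient.mk (mB A B) b := by
    intro b
    rw [Ideal.Quotient.eq]; exact hτ0 b
  have hdiff : ∀ b, ∃ c, η b - τ b = algebraMap A B t * c := by
    intro b
    obtain ⟨c, hc⟩ := Ideal.mem_span_singleton'.mp (hη b)
    exact ⟨c, by rw [← hc, mul_comm]⟩
  choose cf hcf using hdiff
  let D : B → B ⧸ mB A B := fun b => Ideal.Quotient.mk (mB A B) (cf b)
  have spec : ∀ b c, η b - τ b = algebraMap A B t * c → D b = Ideal.Quotient.mk (mB A B) c := by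
    intro b c hc
    change Ideal.Quotient.mk (mB A B) (cf b) = _
    rw [Ideal.Quotient.eq, ← ann_iff t ht0 htm, mul_sub, ← hcf b, ← hc, sub_self]
  have D_add : ∀ b₁ b₂, D (b₁ + b₂) = D b₁ + D b₂ := by
    intro b₁ b₂
    rw [spec (b₁ + b₂) (cf b₁ + cf b₂) (by rw [map_add, map_add, mul_add, ← hcf, ← hcf]; ring)]
    exact map_add _ _ _
  have D_mul : ∀ b₁ b₂, D (b₁ * b₂) =
      Ideal.Quotient.mk (mB A B) b₁ * D b₂ + Ideal.Quotient.mk (mB A B) b₂ * D b₁ := by
    intro b₁ b₂
    have e3 := t_mul_t (B := B) t ht htm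
    have h1 := hcf b₁
    have h2 := hcf b₂
    rw [spec (b₁ * b₂) (cf b₁ * τ b₂ + cf b₂ * τ b₁) (by
      rw [map_mul, map_mul]
      linear_combination (η b₂) * h1 + (τ b₁) * h2 + (cf b₁ * cf b₂) * e3 + (cf b₁) * (algebraMap A B t) * h2)]
    rw [map_add, map_mul, map_mul, hτmk, hτmk]
    change _ = _ * Ideal.Quotient.mk (mB A B) (cf b₂) + _ * Ideal.Quotient.mk (mB A B) (cf b₁)
    ring
  have D_alg : ∀ a : A, D (algebraMap A B a) = 0 := by
    intro a
    rw [spec (algebraMap A B a) 0 (by rw [AlgEquiv.commutes, AlgEquiv.commutes, sub_self, mul_zero]),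
      map_zero]
  have D_zero : D 0 = 0 := by
    have := D_alg 0
    rwa [map_zero] at this
  have D_smul : ∀ (c : k) (b : B), D (c • b) = c • D b := by
    intro c b
    have hsm : c • b = algebraMap A B (algebraMap k A c) * b := by
      rw [Algebra.smul_def, IsScalarTower.algebraMap_apply k A B]
    rw [hsm, D_mul, D_alg, mul_zero, add_zero, Algebra.smul_def,
      ← IsScalarTower.algebraMap_apply k A B]
    rfl
  have D_kill : ∀ y ∈ mB A B, D y = 0 := by
    intro y hy
    unfold mB Ideal.map at hy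
    induction hy using Submodule.span_induction with
    | mem x hx =>
      obtain ⟨a, _, rfl⟩ := hx
      exact D_alg a
    | zero => exact D_zero
    | add x y _ _ hx hy => rw [D_add, hx, hy, add_zero]
    | smul c x hxm hx =>
      rw [smul_eq_mul, D_mul, hx, mul_zero, zero_add]
      have : Ideal.Quotient.mk (mB A B) x = 0 := Ideal.Quotient.eq_zero_iff_mem.mpr hxm
      rw [this, zero_mul]
  have D_neg : ∀ b, D (-b) = -D b := by
    intro b
    have := D_add b (-b)
    rw [add_neg_cancel, D_zero] at this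
    exact eq_neg_of_add_eq_zero_right this.symm
  have D_well : ∀ b₁ b₂, Ideal.Quotient.mk (mB A B) b₁ = Ideal.Quotient.mk (mB A B) b₂ →
      D b₁ = D b₂ := by
    intro b₁ b₂ h
    rw [Ideal.Quotient.eq] at h
    have h1 := D_kill _ h
    rw [sub_eq_add_neg, D_add, D_neg] at h1
    exact eq_of_sub_eq_zero (by rw [sub_eq_add_neg]; exact h1)
  have Ds : ∀ b, D (s (Ideal.Quotient.mk (mB A B) b)) = D b := fun b => D_well _ _ (hs _)
  let dl : (B ⧸ mB A B) →ₗ[k] (B ⧸ mB A B) :=
    { toFun := fun y => D (s y)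
      map_add' := by
        intro x y
        obtain ⟨b₁, rfl⟩ := hsurj x
        obtain ⟨b₂, rfl⟩ := hsurj y
        rw [← map_add, Ds, Ds, Ds, D_add]
      map_smul' := by
        intro c x
        obtain ⟨b, rfl⟩ := hsurj x
        have : c • Ideal.Quotient.mk (mB A B) b = Ideal.Quotient.mk (mB A B) (c • b) := rfl
        rw [this, Ds, Ds, D_smul]
        rfl }
  have hdl : ∀ b, dl (Ideal.Quotient.mk (mB A B) b) = D b := Ds
  let d : Derivation k (B ⧸ mB A B) (B ⧸ mB A B) := Derivation.mk' dl (by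
    intro x y
    obtain ⟨b₁, rfl⟩ := hsurj x
    obtain ⟨b₂, rfl⟩ := hsurj y
    rw [← map_mul, hdl, hdl, hdl, D_mul, smul_eq_mul, smul_eq_mul])
  have hd : ∀ b, d (Ideal.Quotient.mk (mB A B) b) = D b := hdl
  refine ⟨d, ?_, ?_⟩
  · intro b b' h
    rw [hd] at h
    change _ = Ideal.Quotient.mk (mB A B) (cf b) at h
    rw [t_mul_congr t ht0 htm h, ← hcf b]
    ring
  · intro d' hd'
    ext x
    obtain ⟨b, rfl⟩ := hsurj x
    obtain ⟨b', hb'⟩ := hsurj (d' (Ideal.Quotient.mk (mB A B) b))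
    have h1 := hd' b b' hb'
    rw [hd, ← hb']
    exact (spec b b' (by rw [h1]; ring)).symm

end Groth.Agent.H2.SmallExt
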