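import Mathlib
import Groth.Prelude.Def_QuadGrp

/-!
# The element `w = ∏ (1 - 2 e_{2i} e_{2i+1})` in the Clifford algebra of the split form (S17016)
-/

namespace Groth.Agent.H2.SplitCliff

open QuadGrp

variable (R : Type*) [CommRing R] (m : ℕ)

lemma splitForm_apply (v : Fin (m * 2) → R) :
    QuadGrp.splitForm R (m * 2) v =
      ∑ i : Fin m, v (finProdFinEquiv (i, 0)) * v (finProdFinEquiv (i, 1)) := by
  unfold QuadGrp.splitForm
  have h0 : m * 2 % 2 = 0 := Nat.mul_mod_left m 2
  have h1 : ¬ (m * 2 % 2 = 1) := by omega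
  rw [dif_neg h1, add_zero, QuadraticMap.sum_apply]
  have hdiv : m * 2 / 2 = m := Nat.mul_div_cancel m (by norm_num)
  refine Fintype.sum_equiv (finCongr hdiv) _ _ (fun i => ?_)
  simp only [QuadraticMap.linMulLin_apply, LinearMap.proj_apply]
  congr 2 <;> (apply Fin.ext; simp [finProdFinEquiv, h0]) <;> ring

variable {R m}

lemma fpf_ne (i : Fin m) : (finProdFinEquiv (i, (0 : Fin 2)) : Fin (m * 2)) ≠ finProdFinEquiv (i, 1) := by
  intro h
  have := finProdFinEquiv.injective h
  simp at this

lemma Q_single (j : Fin (m * 2)) : QuadGrp.splitForm R (m * 2) (Pi.single j 1) = 0 := by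
  rw [splitForm_apply]
  apply Finset.sum_eq_zero
  intro i _
  by_cases h0 : (finProdFinEquiv (i, (0 : Fin 2)) : Fin (m * 2)) = j
  · have h1 : (finProdFinEquiv (i, (1 : Fin 2)) : Fin (m * 2)) ≠ j := by
      rw [← h0]; exact (fpf_ne i).symm
    rw [Pi.single_apply, Pi.single_apply, if_neg h1, mul_zero]
  · rw [Pi.single_apply, if_neg h0, zero_mul]

lemma Q_pair (i : Fin m) :
    QuadGrp.splitForm R (m * 2) (Pi.single (finProdFinEquiv (i, (0 : Fin 2))) 1 +
      Pi.single (finProdFinEquiv (i, (1 : Fin 2))) 1) = 1 := by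
  rw [splitForm_apply, Finset.sum_eq_single i]
  · simp [Pi.single_apply, fpf_ne i, (fpf_ne i).symm]
  · intro k _ hk
    have h1 : (finProdFinEquiv (k, (0 : Fin 2)) : Fin (m * 2)) ≠ finProdFinEquiv (i, 0) := by
      intro h; have := finProdFinEquiv.injective h; simp at this; exact hk this
    have h2 : (finProdFinEquiv (k, (0 : Fin 2)) : Fin (m * 2)) ≠ finProdFinEquiv (i, 1) := by
      intro h; have := finProdFinEquiv.injective h; simp at this
    simp [Pi.single_apply, h1, h2]
  · intro h; exact absurd (Finset.mem_univ i) h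

lemma Q_nonpair (i i' : Fin m) (c c' : Fin 2) (hii' : i ≠ i') :
    QuadGrp.splitForm R (m * 2) (Pi.single (finProdFinEquiv (i, c)) 1 +
      Pi.single (finProdFinEquiv (i', c')) 1) = 0 := by
  rw [splitForm_apply]
  apply Finset.sum_eq_zero
  intro k _
  simp only [Pi.add_apply, Pi.single_apply, EmbeddingLike.apply_eq_iff_eq, Prod.mk.injEq]
  by_cases hk : k = i
  · subst hk
    have : ¬ (k = i') := hii'
    simp only [this, false_and, if_false, add_zero, true_and]
    by_cases hc : (0 : Fin 2) = c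
    · have : ¬ ((1 : Fin 2) = c) := by rw [← hc]; decide
      simp [this]
    · simp [hc]
  · by_cases hk' : k = i'
    · subst hk'
      simp only [hk, false_and, if_false, zero_add, true_and]
      by_cases hc : (0 : Fin 2) = c'
      · have : ¬ ((1 : Fin 2) = c') := by rw [← hc]; decide
        simp [this]
      · simp [hc]
    · simp [hk, hk']

section cliff

open CliffordAlgebra

/-- basis vectors in the Clifford algebra -/
noncomputable def e (R : Type*) [CommRing R] (m : ℕ) (j : Fin (m * 2)) :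
    CliffordAlgebra (QuadGrp.splitForm R (m * 2)) :=
  ι (QuadGrp.splitForm R (m * 2)) (Pi.single j 1)

lemma e_sq (j : Fin (m * 2)) : e R m j * e R m j = 0 := by
  unfold e
  rw [ι_sq_scalar, Q_single, map_zero]

lemma e_pair (i : Fin m) :
    e R m (finProdFinEquiv (i, 0)) * e R m (finProdFinEquiv (i, 1)) +
      e R m (finProdFinEquiv (i, 1)) * e R m (finProdFinEquiv (i, 0)) = 1 := by
  unfold e
  rw [ι_mul_ι_add_swap, QuadraticMap.polar, Q_pair, Q_single, Q_single, sub_zero, sub_zero, map_one]

lemma e_anti (i i' : Fin m) (c c' : Fin 2) (hii' : i ≠ i') :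
    e R m (finProdFinEquiv (i, c)) * e R m (finProdFinEquiv (i', c')) =
      - (e R m (finProdFinEquiv (i', c')) * e R m (finProdFinEquiv (i, c))) := by
  have h : e R m (finProdFinEquiv (i, c)) * e R m (finProdFinEquiv (i', c')) +
      e R m (finProdFinEquiv (i', c')) * e R m (finProdFinEquiv (i, c)) = 0 := by
    unfold e
    rw [ι_mul_ι_add_swap, QuadraticMap.polar, Q_nonpair i i' c c' hii', Q_single, Q_single,
      sub_zero, sub_zero, map_zero]
  exact eq_neg_of_add_eq_zero_left h

/-- `u i = e_{2i} e_{2i+1}` -/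
noncomputable def u (R : Type*) [CommRing R] (m : ℕ) (i : Fin m) :
    CliffordAlgebra (QuadGrp.splitForm R (m * 2)) :=
  e R m (finProdFinEquiv (i, 0)) * e R m (finProdFinEquiv (i, 1))

/-- `f i = 1 - 2 u i` -/
noncomputable def f (R : Type*) [CommRing R] (m : ℕ) (i : Fin m) :
    CliffordAlgebra (QuadGrp.splitForm R (m * 2)) := 1 - 2 * u R m i

lemma yx_eq (i : Fin m) : e R m (finProdFinEquiv (i, 1)) * e R m (finProdFinEquiv (i, 0)) =
    1 - u R m i := by
  have := e_pair (R := R) i
  unfold u
  rw [← this]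
  abel

lemma x_u (i : Fin m) : e R m (finProdFinEquiv (i, 0)) * u R m i = 0 := by
  unfold u
  rw [← mul_assoc, e_sq, zero_mul]

lemma u_x (i : Fin m) : u R m i * e R m (finProdFinEquiv (i, 0)) = e R m (finProdFinEquiv (i, 0)) := by
  have h : u R m i * e R m (finProdFinEquiv (i, 0)) =
      e R m (finProdFinEquiv (i, 0)) * (e R m (finProdFinEquiv (i, 1)) * e R m (finProdFinEquiv (i, 0))) := by
    unfold u; rw [mul_assoc]
  rw [h, yx_eq, mul_sub, mul_one, x_u, sub_zero]

lemma u_y (i : Fin m) : u R m i * e R m (finProdFinEquiv (i, 1)) = 0 := by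
  unfold u
  rw [mul_assoc, e_sq, mul_zero]

lemma y_u (i : Fin m) : e R m (finProdFinEquiv (i, 1)) * u R m i = e R m (finProdFinEquiv (i, 1)) := by
  have h : e R m (finProdFinEquiv (i, 1)) * u R m i =
      (e R m (finProdFinEquiv (i, 1)) * e R m (finProdFinEquiv (i, 0))) * e R m (finProdFinEquiv (i, 1)) := by
    unfold u; rw [mul_assoc]
  rw [h, yx_eq, sub_mul, one_mul, u_y, sub_zero]

lemma u_sq (i : Fin m) : u R m i * u R m i = u R m i := by
  have h : u R m i * u R m i = (u R m i * e R m (finProdFinEquiv (i, 0))) * e R m (finProdFinEquiv (i, 1)) := by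
    conv_lhs => rw [u]
    rw [← mul_assoc]
    rfl
  rw [h, u_x]
  rfl

lemma f_sq (i : Fin m) : f R m i * f R m i = 1 := by
  unfold f
  have : (1 - 2 * u R m i) * (1 - 2 * u R m i) = 1 - 4 * u R m i + 4 * (u R m i * u R m i) := by
    noncomm_ring
  rw [this, u_sq]
  abel

lemma x_f (i : Fin m) : e R m (finProdFinEquiv (i, 0)) * f R m i =
    - (f R m i * e R m (finProdFinEquiv (i, 0))) := by
  unfold f
  rw [mul_sub, sub_mul, mul_one, one_mul, ← mul_assoc, mul_assoc 2 (u R m i), u_x]
  have : e R m (finProdFinEquiv (i, 0)) * 2 * u R m i = 2 * (e R m (finProdFinEquiv (i, 0)) * u R m i) := by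
    noncomm_ring
  rw [this, x_u]
  noncomm_ring

lemma y_f (i : Fin m) : e R m (finProdFinEquiv (i, 1)) * f R m i =
    - (f R m i * e R m (finProdFinEquiv (i, 1))) := by
  unfold f
  rw [mul_sub, sub_mul, mul_one, one_mul, ← mul_assoc, mul_assoc 2 (u R m i), u_y]
  have : e R m (finProdFinEquiv (i, 1)) * 2 * u R m i = 2 * (e R m (finProdFinEquiv (i, 1)) * u R m i) := by
    noncomm_ring
  rw [this, y_u]
  noncomm_ring

lemma e_u_comm (i i' : Fin m) (c : Fin 2) (hii' : i' ≠ i) :
    e R m (finProdFinEquiv (i', c)) * u R m i = u R m i * e R m (finProdFinEquiv (i', c)) := by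
  unfold u
  rw [← mul_assoc, e_anti i' i c 0 hii', neg_mul, mul_assoc, e_anti i' i c 1 hii', mul_neg, neg_neg,
    mul_assoc]

lemma e_f_comm (i i' : Fin m) (c : Fin 2) (hii' : i' ≠ i) :
    e R m (finProdFinEquiv (i', c)) * f R m i = f R m i * e R m (finProdFinEquiv (i', c)) := by
  unfold f
  rw [mul_sub, sub_mul, mul_one, one_mul, mul_assoc 2, ← e_u_comm i i' c hii']
  noncomm_ring

lemma e_f (i : Fin m) (c : Fin 2) : e R m (finProdFinEquiv (i, c)) * f R m i =
    - (f R m i * e R m (finProdFinEquiv (i, c))) := by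
  fin_cases c
  · exact x_f i
  · exact y_f i

lemma f_comm (i i' : Fin m) : Commute (f R m i) (f R m i') := by
  by_cases h : i = i'
  · subst h; exact Commute.refl _
  · have hu : u R m i' * f R m i = f R m i * u R m i' := by
      unfold u
      rw [mul_assoc, e_f_comm i i' 1 (Ne.symm h), ← mul_assoc, e_f_comm i i' 0 (Ne.symm h), mul_assoc]
    have key : ∀ g : CliffordAlgebra (QuadGrp.splitForm R (m * 2)),
        Commute (u R m i') g → Commute (1 - 2 * u R m i') g := fun g hg =>
      (Commute.one_left g).sub_left ((Commute.ofNat_left 2 g).mul_left hg)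
    exact (key _ hu).symm

/-- product over a list -/
noncomputable def W (R : Type*) [CommRing R] (m : ℕ) (l : List (Fin m)) :
    CliffordAlgebra (QuadGrp.splitForm R (m * 2)) := (l.map (f R m)).prod

lemma W_cons (a : Fin m) (t : List (Fin m)) : W R m (a :: t) = f R m a * W R m t := by
  unfold W; simp

lemma f_comm_W (a : Fin m) (t : List (Fin m)) : Commute (f R m a) (W R m t) := by
  unfold W
  apply Commute.list_prod_right
  intro x hx
  obtain ⟨b, _, rfl⟩ := List.mem_map.1 hx
  exact f_comm a b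

lemma W_sq (l : List (Fin m)) : W R m l * W R m l = 1 := by
  induction l with
  | nil => simp [W]
  | cons a t ih =>
    rw [W_cons]
    have hc := f_comm_W (R := R) a t
    calc f R m a * W R m t * (f R m a * W R m t)
        = f R m a * (W R m t * f R m a) * W R m t := by noncomm_ring
      _ = f R m a * (f R m a * W R m t) * W R m t := by rw [hc.eq]
      _ = (f R m a * f R m a) * (W R m t * W R m t) := by noncomm_ring
      _ = 1 := by rw [f_sq, ih, one_mul]

lemma e_W (i₀ : Fin m) (c : Fin 2) (l : List (Fin m)) (hl : l.Nodup) :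
    (i₀ ∉ l → e R m (finProdFinEquiv (i₀, c)) * W R m l = W R m l * e R m (finProdFinEquiv (i₀, c))) ∧
    (i₀ ∈ l → e R m (finProdFinEquiv (i₀, c)) * W R m l =
      - (W R m l * e R m (finProdFinEquiv (i₀, c)))) := by
  induction l with
  | nil =>
    refine ⟨fun _ => by simp [W], fun h => by simp at h⟩
  | cons a t ih =>
    obtain ⟨hat, htn⟩ := List.nodup_cons.1 hl
    obtain ⟨ih1, ih2⟩ := ih htn
    rw [W_cons]
    constructor
    · intro h
      rw [List.mem_cons, not_or] at h
      rw [← mul_assoc, e_f_comm a i₀ c h.1, mul_assoc, ih1 h.2, mul_assoc]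
    · intro h
      rw [List.mem_cons] at h
      by_cases hia : i₀ = a
      · subst hia
        rw [← mul_assoc, e_f, neg_mul, mul_assoc, ih1 hat, mul_assoc]
      · have hit : i₀ ∈ t := h.resolve_left hia
        rw [← mul_assoc, e_f_comm a i₀ c hia, mul_assoc, ih2 hit, mul_neg, mul_assoc]

theorem main (R : Type*) [CommRing R] (m : ℕ) :
    W R m (List.finRange m) * W R m (List.finRange m) = 1 ∧
      ∀ j : Fin (m * 2), e R m j * W R m (List.finRange m) = -(W R m (List.finRange m) * e R m j) := by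
  refine ⟨W_sq _, fun j => ?_⟩
  obtain ⟨⟨i₀, c⟩, rfl⟩ := finProdFinEquiv.surjective j
  exact (e_W i₀ c (List.finRange m) (List.nodup_finRange m)).2 (List.mem_finRange i₀)

end cliff

end Groth.Agent.H2.SplitCliff
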