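import Mathlib
import Groth.Agent.Lib.Helper2.SplitFact1

/-!
# Factorization of a morphism of complexes through a termwise split injection
followed by a homotopy equivalence.
-/

universe v u

open CategoryTheory CategoryTheory.Limits CochainComplex HomComplex

namespace Groth.Agent.H2.SplitFact

variable {V : Type u} [Category.{v} V] [Preadditive V] [HasBinaryBiproducts V]
variable (K L : CochainComplex V ℤ) (α : K ⟶ L)

/-- contractibility of the cone of the identity -/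
noncomputable def coneIdHomotopy : Homotopy (𝟙 (mappingCone (𝟙 K))) 0 :=
  mappingCone.liftHomotopy _ _ _ (mappingCone.snd _) 0 (by simp) (by simp)

/-- the middle complex -/
noncomputable abbrev L' : CochainComplex V ℤ := mappingCone (𝟙 K) ⊞ L

/-- the termwise split injection -/
noncomputable def α' : K ⟶ L' K L := biprod.lift (mappingCone.inr (𝟙 K)) α

lemma α'_π : α' K L α ≫ (biprod.snd : L' K L ⟶ L) = α := by simp [α']

/-- `π ≫ s` is homotopic to the identity -/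
noncomputable def homotopyπs :
    Homotopy ((biprod.snd : L' K L ⟶ L) ≫ biprod.inr) (𝟙 (L' K L)) :=
  let h₁ := ((coneIdHomotopy K).compRight
      (biprod.inl : _ ⟶ L' K L)).compLeft (biprod.fst : L' K L ⟶ _)
  let h₂ := Homotopy.add h₁ (Homotopy.refl ((biprod.snd : L' K L ⟶ L) ≫ biprod.inr))
  ((Homotopy.ofEq (by simp [biprod.total])).trans
    (h₂.trans (Homotopy.ofEq (by simp)))).symm

lemma total_f (n : ℤ) :
    (biprod.fst : L' K L ⟶ _).f n ≫ (biprod.inl : _ ⟶ L' K L).f n +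
      (biprod.snd : L' K L ⟶ _).f n ≫ (biprod.inr : _ ⟶ L' K L).f n = 𝟙 _ := by
  rw [← HomologicalComplex.comp_f, ← HomologicalComplex.comp_f, ← HomologicalComplex.add_f_apply,
    biprod.total]
  rfl

lemma α'_f (n : ℤ) : (α' K L α).f n =
    (mappingCone.inr (𝟙 K)).f n ≫ (biprod.inl : _ ⟶ L' K L).f n +
      α.f n ≫ (biprod.inr : _ ⟶ L' K L).f n := by
  rw [← HomologicalComplex.comp_f, ← HomologicalComplex.comp_f, ← HomologicalComplex.add_f_apply]
  congr 1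
  ext <;> simp [α']

lemma inl_fst_f (n : ℤ) :
    (biprod.inl : _ ⟶ L' K L).f n ≫ (biprod.fst : L' K L ⟶ _).f n = 𝟙 _ := by
  rw [← HomologicalComplex.comp_f, biprod.inl_fst]
  rfl

lemma inl_snd_f (n : ℤ) :
    (biprod.inl : _ ⟶ L' K L).f n ≫ (biprod.snd : L' K L ⟶ _).f n = 0 := by
  rw [← HomologicalComplex.comp_f, biprod.inl_snd]
  rfl

lemma inr_fst_f (n : ℤ) :
    (biprod.inr : _ ⟶ L' K L).f n ≫ (biprod.fst : L' K L ⟶ _).f n = 0 := by
  rw [← HomologicalComplex.comp_f, biprod.inr_fst]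
  rfl

lemma inr_snd_f (n : ℤ) :
    (biprod.inr : _ ⟶ L' K L).f n ≫ (biprod.snd : L' K L ⟶ _).f n = 𝟙 _ := by
  rw [← HomologicalComplex.comp_f, biprod.inr_snd]
  rfl

lemma termwise_split (n : ℤ) :
    ∃ (C : V) (e : (L' K L).X n ≅ K.X n ⊞ C), (α' K L α).f n ≫ e.hom = biprod.inl := by
  let a := (biprod.fst : L' K L ⟶ _).f n
  let b := (biprod.snd : L' K L ⟶ _).f n
  let ia := (biprod.inl : _ ⟶ L' K L).f n
  let ib := (biprod.inr : _ ⟶ L' K L).f n
  let fst' := (mappingCone.fst (𝟙 K)).1.v n (n + 1) rfl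
  let snd' := (mappingCone.snd (𝟙 K)).v n n (add_zero n)
  let inl' := (mappingCone.inl (𝟙 K)).v (n + 1) n (by omega)
  let inr' := (mappingCone.inr (𝟙 K)).f n
  have e1 : ia ≫ a = 𝟙 _ := inl_fst_f K L n
  have e2 : ia ≫ b = 0 := inl_snd_f K L n
  have e3 : ib ≫ a = 0 := inr_fst_f K L n
  have e4 : ib ≫ b = 𝟙 _ := inr_snd_f K L n
  have e5 : a ≫ ia + b ≫ ib = 𝟙 _ := total_f K L n
  have c1 : inl' ≫ fst' = 𝟙 _ := mappingCone.inl_v_fst_v _ _ _ _
  have c2 : inl' ≫ snd' = 0 := mappingCone.inl_v_snd_v _ _ _ _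
  have c3 : inr' ≫ fst' = 0 := mappingCone.inr_f_fst_v _ _ _ _
  have c4 : inr' ≫ snd' = 𝟙 _ := mappingCone.inr_f_snd_v _ _
  have c5 : fst' ≫ inl' + snd' ≫ inr' = 𝟙 _ := mappingCone.id_X _ _ _ _
  have hi : (α' K L α).f n = inr' ≫ ia + α.f n ≫ ib := α'_f K L α n
  obtain ⟨e, he, -, -, -⟩ := exists_iso_biprod (X := K.X n) (Z := K.X (n + 1) ⊞ L.X n)
    (inr' ≫ ia + α.f n ≫ ib) (a ≫ snd')
    (biprod.desc (inl' ≫ ia) ib)
    (biprod.lift (a ≫ fst') (b - a ≫ snd' ≫ α.f n))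
    (by
      rw [Preadditive.add_comp, Category.assoc, Category.assoc, reassoc_of% e1,
        reassoc_of% e3, c4, zero_comp, comp_zero, add_zero])
    (by
      ext
      · simp [reassoc_of% e1, c1]
      · simp [reassoc_of% e1, e2, reassoc_of% c2]
      · simp [reassoc_of% e3]
      · simp [reassoc_of% e3, e4])
    (by
      rw [biprod.lift_desc]
      simp only [Preadditive.comp_add, Preadditive.sub_comp, Category.assoc]
      have : a ≫ snd' ≫ inr' ≫ ia + a ≫ fst' ≫ inl' ≫ ia = a ≫ ia := by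
        rw [← Preadditive.comp_add, ← Category.assoc snd', ← Category.assoc fst',
          ← Preadditive.add_comp, add_comm (snd' ≫ inr'), c5, Category.id_comp]
      rw [← e5, ← this]
      abel)
  exact ⟨_, e, by rw [hi]; exact he⟩

lemma isZero_X (n : ℤ) (h1 : IsZero (K.X (n + 1))) (h2 : IsZero (K.X n)) (h3 : IsZero (L.X n)) :
    IsZero ((L' K L).X n) := by
  rw [IsZero.iff_id_eq_zero, ← total_f K L n]
  have hc : IsZero ((mappingCone (𝟙 K)).X n) := by
    rw [IsZero.iff_id_eq_zero, ← mappingCone.id_X (𝟙 K) n (n + 1) rfl]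
    rw [h1.eq_of_tgt ((mappingCone.fst (𝟙 K)).1.v n (n + 1) rfl) 0,
      h2.eq_of_tgt ((mappingCone.snd (𝟙 K)).v n n (add_zero n)) 0]
    simp
  rw [hc.eq_of_tgt ((biprod.fst : L' K L ⟶ _).f n) 0,
    h3.eq_of_tgt ((biprod.snd : L' K L ⟶ _).f n) 0]
  simp

lemma isStrictlyGE (a : ℤ) [K.IsStrictlyGE a] [L.IsStrictlyGE a] :
    (L' K L).IsStrictlyGE (a - 1) := by
  rw [isStrictlyGE_iff]
  intro i hi
  exact isZero_X K L i (K.isZero_of_isStrictlyGE a _ (by omega))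
    (K.isZero_of_isStrictlyGE a _ (by omega)) (L.isZero_of_isStrictlyGE a _ (by omega))

lemma isStrictlyLE (a : ℤ) [K.IsStrictlyLE a] [L.IsStrictlyLE a] :
    (L' K L).IsStrictlyLE a := by
  rw [isStrictlyLE_iff]
  intro i hi
  exact isZero_X K L i (K.isZero_of_isStrictlyLE a _ (by omega))
    (K.isZero_of_isStrictlyLE a _ (by omega)) (L.isZero_of_isStrictlyLE a _ (by omega))

theorem main :
    ∃ (L' : CochainComplex V ℤ) (α' : K ⟶ L') (π : L' ⟶ L) (s : L ⟶ L'),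
      α' ≫ π = α ∧ s ≫ π = 𝟙 L ∧ Nonempty (Homotopy (π ≫ s) (𝟙 L')) ∧
      (∀ n : ℤ, ∃ (C : V) (e : L'.X n ≅ K.X n ⊞ C), α'.f n ≫ e.hom = biprod.inl) ∧
      (∀ a : ℤ, K.IsStrictlyGE a → L.IsStrictlyGE a → ∃ a' : ℤ, L'.IsStrictlyGE a') ∧
      (∀ a : ℤ, K.IsStrictlyLE a → L.IsStrictlyLE a → ∃ a' : ℤ, L'.IsStrictlyLE a') :=
  ⟨L' K L, α' K L α, biprod.snd, biprod.inr, α'_π K L α, biprod.inr_snd, ⟨homotopyπs K L⟩,
    termwise_split K L α, fun a _ _ => ⟨a - 1, isStrictlyGE K L a⟩,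
    fun a _ _ => ⟨a, isStrictlyLE K L a⟩⟩

end Groth.Agent.H2.SplitFact
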