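import Mathlib
import Groth.Agent.Lib.Helper2.SplitFact2

/-!
# Replacing a sequence of complexes by a sequence of termwise split injections
-/

universe v u

open CategoryTheory CategoryTheory.Limits CochainComplex HomComplex

namespace Groth.Agent.H2.SplitFact

variable {V : Type u} [Category.{v} V] [Preadditive V] [HasBinaryBiproducts V]

/-- the homotopy equivalence `L' K L ≃ L` -/
noncomputable def homotopyEquivL' (K L : CochainComplex V ℤ) : HomotopyEquiv (L' K L) L where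
  hom := biprod.snd
  inv := biprod.inr
  homotopyHomInvId := homotopyπs K L
  homotopyInvHomId := Homotopy.ofEq (by simp)

variable (X : ℕ → CochainComplex V ℤ) (a : ∀ i, X i ⟶ X (i + 1))

/-- the inductive state -/
structure State (i : ℕ) where
  /-- the complex -/
  B : CochainComplex V ℤ
  /-- the homotopy equivalence -/
  e : HomotopyEquiv B (X i)

/-- the inductive step -/
noncomputable def step (i : ℕ) (s : State X i) : State X (i + 1) where
  B := L' s.B (X (i + 1))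
  e := homotopyEquivL' s.B (X (i + 1))

/-- the sequence of states -/
noncomputable def st : ∀ i, State X i
  | 0 => ⟨X 0, HomotopyEquiv.refl _⟩
  | (i + 1) => step X i (st i)

/-- the transition maps -/
noncomputable def b (i : ℕ) : (st X i).B ⟶ (st X (i + 1)).B :=
  α' (st X i).B (X (i + 1)) ((st X i).e.hom ≫ a i)

lemma b_comp (i : ℕ) : b X a i ≫ (st X (i + 1)).e.hom = (st X i).e.hom ≫ a i :=
  α'_π _ _ _

lemma b_split (i : ℕ) (n : ℤ) :
    ∃ (C : V) (ε : (st X (i + 1)).B.X n ≅ (st X i).B.X n ⊞ C),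
      (b X a i).f n ≫ ε.hom = biprod.inl :=
  termwise_split _ _ _ n

lemma st_GE (h : ∀ i, ∃ m : ℤ, (X i).IsStrictlyGE m) (i : ℕ) :
    ∃ m : ℤ, (st X i).B.IsStrictlyGE m := by
  induction i with
  | zero => exact h 0
  | succ i ih =>
    obtain ⟨m1, h1⟩ := ih
    obtain ⟨m2, h2⟩ := h (i + 1)
    have h1' : (st X i).B.IsStrictlyGE (min m1 m2) :=
      CochainComplex.isStrictlyGE_of_ge _ _ m1 (min_le_left _ _)
    have h2' : (X (i + 1)).IsStrictlyGE (min m1 m2) :=
      CochainComplex.isStrictlyGE_of_ge _ _ m2 (min_le_right _ _)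
    exact ⟨min m1 m2 - 1, isStrictlyGE (st X i).B (X (i + 1)) (min m1 m2)⟩

lemma st_LE (h : ∀ i, ∃ m : ℤ, (X i).IsStrictlyLE m) (i : ℕ) :
    ∃ m : ℤ, (st X i).B.IsStrictlyLE m := by
  induction i with
  | zero => exact h 0
  | succ i ih =>
    obtain ⟨m1, h1⟩ := ih
    obtain ⟨m2, h2⟩ := h (i + 1)
    have h1' : (st X i).B.IsStrictlyLE (max m1 m2) :=
      CochainComplex.isStrictlyLE_of_le _ m1 _ (le_max_left _ _)
    have h2' : (X (i + 1)).IsStrictlyLE (max m1 m2) :=
      CochainComplex.isStrictlyLE_of_le _ m2 _ (le_max_right _ _)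
    exact ⟨max m1 m2, isStrictlyLE (st X i).B (X (i + 1)) (max m1 m2)⟩

theorem main_seq :
    ∃ (B : ℕ → CochainComplex V ℤ) (b : ∀ i, B i ⟶ B (i + 1))
      (e : ∀ i, HomotopyEquiv (B i) (X i)),
      (∀ i, b i ≫ (e (i + 1)).hom = (e i).hom ≫ a i) ∧
      (∀ (i : ℕ) (n : ℤ), ∃ (C : V) (ε : (B (i + 1)).X n ≅ (B i).X n ⊞ C),
        (b i).f n ≫ ε.hom = biprod.inl) ∧
      ((∀ i, ∃ m : ℤ, (X i).IsStrictlyGE m) → ∀ i, ∃ m : ℤ, (B i).IsStrictlyGE m) ∧
      ((∀ i, ∃ m : ℤ, (X i).IsStrictlyLE m) → ∀ i, ∃ m : ℤ, (B i).IsStrictlyLE m) :=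
  ⟨fun i => (st X i).B, b X a, fun i => (st X i).e, b_comp X a, b_split X a,
    st_GE X, st_LE X⟩

end Groth.Agent.H2.SplitFact
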