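import Mathlib
import Groth.Agent.Lib.Helper2.SplitFact2

/-!
# Factorization of a morphism of complexes through a homotopy equivalence
followed by a termwise split surjection.
-/

universe v u

open CategoryTheory CategoryTheory.Limits CochainComplex HomComplex

namespace Groth.Agent.H2.SplitFact

variable {V : Type u} [Category.{v} V] [Preadditive V] [HasBinaryBiproducts V]
variable (K L : CochainComplex V ℤ) (α : K ⟶ L)

/-- a shift of a contractible complex is contractible -/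
noncomputable def shiftContractible (M : CochainComplex V ℤ) (h : Homotopy (𝟙 M) 0) (n : ℤ) :
    Homotopy (𝟙 (M⟦n⟧)) 0 :=
  (Homotopy.ofEq (CategoryTheory.Functor.map_id _ _).symm).trans
    ((h.shift n).trans (Homotopy.ofEq (CategoryTheory.Functor.map_zero _ _ _)))

/-- contractibility of the cocone of the identity -/
noncomputable def coconeIdHomotopy : Homotopy (𝟙 (mappingCocone (𝟙 L))) 0 :=
  shiftContractible (mappingCone (𝟙 L)) (coneIdHomotopy L) (-1)

/-- the middle complex -/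
noncomputable abbrev K' : CochainComplex V ℤ := K ⊞ mappingCocone (𝟙 L)

/-- the termwise split surjection -/
noncomputable def β' : K' K L ⟶ L := biprod.desc α (mappingCocone.fst (𝟙 L))

lemma i_β' : (biprod.inl : K ⟶ K' K L) ≫ β' K L α = α := by simp [β']

/-- `s ≫ i` is homotopic to the identity -/
noncomputable def homotopysi :
    Homotopy ((biprod.fst : K' K L ⟶ K) ≫ biprod.inl) (𝟙 (K' K L)) :=
  let h₁ := ((coconeIdHomotopy L).compRight
      (biprod.inr : _ ⟶ K' K L)).compLeft (biprod.snd : K' K L ⟶ _)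
  let h₂ := Homotopy.add (Homotopy.refl ((biprod.fst : K' K L ⟶ K) ≫ biprod.inl)) h₁
  ((Homotopy.ofEq (by simp [biprod.total])).trans
    (h₂.trans (Homotopy.ofEq (by simp)))).symm

lemma total_f' (n : ℤ) :
    (biprod.fst : K' K L ⟶ _).f n ≫ (biprod.inl : _ ⟶ K' K L).f n +
      (biprod.snd : K' K L ⟶ _).f n ≫ (biprod.inr : _ ⟶ K' K L).f n = 𝟙 _ := by
  rw [← HomologicalComplex.comp_f, ← HomologicalComplex.comp_f, ← HomologicalComplex.add_f_apply,
    biprod.total]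
  rfl

lemma β'_f (n : ℤ) : (β' K L α).f n =
    (biprod.fst : K' K L ⟶ _).f n ≫ α.f n +
      (biprod.snd : K' K L ⟶ _).f n ≫ (mappingCocone.fst (𝟙 L)).f n := by
  rw [← HomologicalComplex.comp_f, ← HomologicalComplex.comp_f, ← HomologicalComplex.add_f_apply]
  congr 1
  ext <;> simp [β']

lemma inl_fst_f' (n : ℤ) :
    (biprod.inl : _ ⟶ K' K L).f n ≫ (biprod.fst : K' K L ⟶ _).f n = 𝟙 _ := by
  rw [← HomologicalComplex.comp_f, biprod.inl_fst]
  rfl

lemma inl_snd_f' (n : ℤ) :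
    (biprod.inl : _ ⟶ K' K L).f n ≫ (biprod.snd : K' K L ⟶ _).f n = 0 := by
  rw [← HomologicalComplex.comp_f, biprod.inl_snd]
  rfl

lemma inr_fst_f' (n : ℤ) :
    (biprod.inr : _ ⟶ K' K L).f n ≫ (biprod.fst : K' K L ⟶ _).f n = 0 := by
  rw [← HomologicalComplex.comp_f, biprod.inr_fst]
  rfl

lemma inr_snd_f' (n : ℤ) :
    (biprod.inr : _ ⟶ K' K L).f n ≫ (biprod.snd : K' K L ⟶ _).f n = 𝟙 _ := by
  rw [← HomologicalComplex.comp_f, biprod.inr_snd]
  rfl

lemma termwise_split' (n : ℤ) :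
    ∃ (C : V) (e : (K' K L).X n ≅ C ⊞ L.X n), e.inv ≫ (β' K L α).f n = biprod.snd := by
  let a := (biprod.fst : K' K L ⟶ _).f n
  let b := (biprod.snd : K' K L ⟶ _).f n
  let ia := (biprod.inl : _ ⟶ K' K L).f n
  let ib := (biprod.inr : _ ⟶ K' K L).f n
  let fstP := (mappingCocone.fst (𝟙 L)).f n
  let sndP := (mappingCocone.snd (𝟙 L)).v n (n + -1) rfl
  let inlP := (mappingCocone.inl (𝟙 L)).v n n (add_zero n)
  let inrP := (mappingCocone.inr (𝟙 L)).1.v (n + -1) n (by omega)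
  have e1 : ia ≫ a = 𝟙 _ := inl_fst_f' K L n
  have e2 : ia ≫ b = 0 := inl_snd_f' K L n
  have e3 : ib ≫ a = 0 := inr_fst_f' K L n
  have e4 : ib ≫ b = 𝟙 _ := inr_snd_f' K L n
  have e5 : a ≫ ia + b ≫ ib = 𝟙 _ := total_f' K L n
  have c1 : inlP ≫ fstP = 𝟙 _ := mappingCocone.inl_v_fst_f _ _
  have c2 : inlP ≫ sndP = 0 := mappingCocone.inl_v_snd_v _ _ _ _
  have c3 : inrP ≫ fstP = 0 := mappingCocone.inr_v_fst_f _ _ _ _
  have c4 : inrP ≫ sndP = 𝟙 _ := mappingCocone.inr_v_snd_v _ _ _ _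
  have c5 : fstP ≫ inlP + sndP ≫ inrP = 𝟙 _ := mappingCocone.id_X _ _ _ _
  have hp : (β' K L α).f n = a ≫ α.f n + b ≫ fstP := β'_f K L α n
  obtain ⟨e, -, -, -, he⟩ := exists_iso_biprod (X := K.X n ⊞ L.X (n + -1)) (Z := L.X n)
    (biprod.desc (ia - α.f n ≫ inlP ≫ ib) (inrP ≫ ib))
    (biprod.lift a (b ≫ sndP))
    (inlP ≫ ib) (a ≫ α.f n + b ≫ fstP)
    (by
      ext
      · simp [e1, e3]
      · simp [reassoc_of% e2, reassoc_of% e4, c2]
      · simp [e3]
      · simp [reassoc_of% e4, c4])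
    (by
      rw [Preadditive.comp_add, Category.assoc, Category.assoc, reassoc_of% e3,
        reassoc_of% e4, c1, zero_comp, comp_zero, zero_add])
    (by
      rw [biprod.lift_desc]
      simp only [Preadditive.comp_sub, Preadditive.add_comp, Category.assoc]
      have : b ≫ sndP ≫ inrP ≫ ib + b ≫ fstP ≫ inlP ≫ ib = b ≫ ib := by
        rw [← Preadditive.comp_add, ← Category.assoc sndP, ← Category.assoc fstP,
          ← Preadditive.add_comp, add_comm (sndP ≫ inrP), c5, Category.id_comp]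
      rw [← e5, ← this]
      abel)
  exact ⟨_, e, by rw [hp]; exact he⟩

lemma isZero_X' (n : ℤ) (h1 : IsZero (K.X n)) (h2 : IsZero (L.X n))
    (h3 : IsZero (L.X (n + -1))) :
    IsZero ((K' K L).X n) := by
  rw [IsZero.iff_id_eq_zero, ← total_f' K L n]
  have hc : IsZero ((mappingCocone (𝟙 L)).X n) := by
    rw [IsZero.iff_id_eq_zero, ← mappingCocone.id_X (𝟙 L) n (n + -1) rfl]
    rw [h2.eq_of_tgt ((mappingCocone.fst (𝟙 L)).f n) 0,
      h3.eq_of_tgt ((mappingCocone.snd (𝟙 L)).v n (n + -1) rfl) 0]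
    simp
  rw [h1.eq_of_tgt ((biprod.fst : K' K L ⟶ _).f n) 0,
    hc.eq_of_tgt ((biprod.snd : K' K L ⟶ _).f n) 0]
  simp

lemma isStrictlyGE' (a : ℤ) [K.IsStrictlyGE a] [L.IsStrictlyGE a] :
    (K' K L).IsStrictlyGE a := by
  rw [isStrictlyGE_iff]
  intro i hi
  exact isZero_X' K L i (K.isZero_of_isStrictlyGE a _ (by omega))
    (L.isZero_of_isStrictlyGE a _ (by omega)) (L.isZero_of_isStrictlyGE a _ (by omega))

lemma isStrictlyLE' (a : ℤ) [K.IsStrictlyLE a] [L.IsStrictlyLE a] :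
    (K' K L).IsStrictlyLE (a + 1) := by
  rw [isStrictlyLE_iff]
  intro i hi
  exact isZero_X' K L i (K.isZero_of_isStrictlyLE a _ (by omega))
    (L.isZero_of_isStrictlyLE a _ (by omega)) (L.isZero_of_isStrictlyLE a _ (by omega))

theorem main' :
    ∃ (K' : CochainComplex V ℤ) (i : K ⟶ K') (α' : K' ⟶ L) (s : K' ⟶ K),
      i ≫ α' = α ∧ i ≫ s = 𝟙 K ∧ Nonempty (Homotopy (s ≫ i) (𝟙 K')) ∧
      (∀ n : ℤ, ∃ (C : V) (e : K'.X n ≅ C ⊞ L.X n), e.inv ≫ α'.f n = biprod.snd) ∧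
      (∀ a : ℤ, K.IsStrictlyGE a → L.IsStrictlyGE a → ∃ a' : ℤ, K'.IsStrictlyGE a') ∧
      (∀ a : ℤ, K.IsStrictlyLE a → L.IsStrictlyLE a → ∃ a' : ℤ, K'.IsStrictlyLE a') :=
  ⟨K' K L, biprod.inl, β' K L α, biprod.fst, i_β' K L α, biprod.inl_fst, ⟨homotopysi K L⟩,
    termwise_split' K L α, fun a _ _ => ⟨a, isStrictlyGE' K L a⟩,
    fun a _ _ => ⟨a + 1, isStrictlyLE' K L a⟩⟩

end Groth.Agent.H2.SplitFact
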