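import Mathlib

/-!
# Helper2: a map of finite modules over a Noetherian ring which splits modulo arbitrarily high
powers of an ideal in the Jacobson radical splits.
-/

namespace Groth.Agent.H2.SplitPow

open Submodule

universe u v w

variable {R : Type u} [CommRing R] [IsNoetherianRing R] (I : Ideal R)

/-- consequence of Artin–Rees -/
lemma exists_AR {V : Type v} {W : Type w} [AddCommGroup V] [Module R V] [AddCommGroup W]
    [Module R W] [Module.Finite R W] (d : V →ₗ[R] W) :
    ∃ c : ℕ, ∀ n ≥ c, ∀ x : V, d x ∈ I ^ n • (⊤ : Submodule R W) →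
      ∃ x' ∈ I ^ (n - c) • (⊤ : Submodule R V), d x' = d x := by
  obtain ⟨c, hc⟩ := I.exists_pow_inf_eq_pow_smul (LinearMap.range d)
  refine ⟨c, fun n hn x hx => ?_⟩
  have h1 : d x ∈ I ^ n • (⊤ : Submodule R W) ⊓ LinearMap.range d := ⟨hx, LinearMap.mem_range_self d x⟩
  rw [hc n hn] at h1
  have h2 : d x ∈ I ^ (n - c) • LinearMap.range d :=
    Submodule.smul_mono le_rfl inf_le_right h1
  rw [LinearMap.range_eq_map, ← Submodule.map_smul''] at h2
  obtain ⟨x', hx', hx'd⟩ := h2
  exact ⟨x', hx', hx'd⟩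

lemma apply_mem_of_mem_pi {ι : Type*} {N : Type*} [AddCommGroup N] [Module R N] (k : ℕ)
    (x : ι → N) (hx : x ∈ I ^ k • (⊤ : Submodule R (ι → N))) (i : ι) :
    x i ∈ I ^ k • (⊤ : Submodule R N) := by
  have := Submodule.mem_map_of_mem (f := (LinearMap.proj i : (ι → N) →ₗ[R] N)) hx
  rw [Submodule.map_smul''] at this
  exact Submodule.smul_mono le_rfl le_top this

lemma mem_pi_of_apply_mem {ι : Type*} [Fintype ι] [DecidableEq ι] {N : Type*} [AddCommGroup N]
    [Module R N] (k : ℕ)
    (x : ι → N) (hx : ∀ i, x i ∈ I ^ k • (⊤ : Submodule R N)) :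
    x ∈ I ^ k • (⊤ : Submodule R (ι → N)) := by
  have : x = ∑ i, (LinearMap.single R (fun _ => N) i) (x i) := by
    ext j
    simp [Finset.sum_apply, Pi.single_apply]
  rw [this]
  apply Submodule.sum_mem
  intro i _
  have := Submodule.mem_map_of_mem (f := (LinearMap.single R (fun _ => N) i)) (hx i)
  rw [Submodule.map_smul''] at this
  exact Submodule.smul_mono le_rfl le_top this

lemma apply_mem_of_mem_hom {M N : Type*} [AddCommGroup M] [Module R M] [AddCommGroup N]
    [Module R N] (k : ℕ)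
    (e : M →ₗ[R] N) (he : e ∈ I ^ k • (⊤ : Submodule R (M →ₗ[R] N))) (y : M) :
    e y ∈ I ^ k • (⊤ : Submodule R N) := by
  have := Submodule.mem_map_of_mem (f := (LinearMap.applyₗ y : (M →ₗ[R] N) →ₗ[R] N)) he
  rw [Submodule.map_smul''] at this
  exact Submodule.smul_mono le_rfl le_top this

/-- Lemma B: an endomorphism with values in `I^m N` lies in `I^(m-c) End N`. -/
lemma lemB (N : Type v) [AddCommGroup N] [Module R N] [Module.Finite R N] :
    ∃ c : ℕ, ∀ m ≥ c, ∀ e : N →ₗ[R] N, (∀ y, e y ∈ I ^ m • (⊤ : Submodule R N)) →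
      e ∈ I ^ (m - c) • (⊤ : Submodule R (N →ₗ[R] N)) := by
  classical
  obtain ⟨g, ys, hys⟩ := Module.Finite.exists_fin (R := R) (M := N)
  let ev : (N →ₗ[R] N) →ₗ[R] (Fin g → N) := LinearMap.pi (fun i => LinearMap.applyₗ (ys i))
  obtain ⟨c, hc⟩ := exists_AR I ev
  refine ⟨c, fun m hm e he => ?_⟩
  have h1 : ev e ∈ I ^ m • (⊤ : Submodule R (Fin g → N)) :=
    mem_pi_of_apply_mem I m _ (fun i => he (ys i))
  obtain ⟨e', he', hee'⟩ := hc m hm e h1
  have : e' = e := by
    apply LinearMap.ext_on hys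
    rintro _ ⟨i, rfl⟩
    exact congrFun hee' i
  rw [← this]
  exact he'

/-- Lemma A: approximate lifting of maps between the quotients. -/
lemma lemA (M : Type v) (N : Type w) [AddCommGroup M] [Module R M] [Module.Finite R M]
    [AddCommGroup N] [Module R N] [Module.Finite R N] :
    ∃ c : ℕ, ∀ n ≥ c, ∀ (s : (M ⧸ I ^ n • (⊤ : Submodule R M)) →ₗ[R]
        (N ⧸ I ^ n • (⊤ : Submodule R N))),
      ∃ h : M →ₗ[R] N, ∀ (m : M) (y : N), s (Submodule.Quotient.mk m) = Submodule.Quotient.mk y →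
        h m - y ∈ I ^ (n - c) • (⊤ : Submodule R N) := by
  classical
  obtain ⟨b, ms, hms⟩ := Module.Finite.exists_fin (R := R) (M := M)
  let π : (Fin b → R) →ₗ[R] M := Fintype.linearCombination R ms
  have hπ : Function.Surjective π := by
    rw [← LinearMap.range_eq_top, Fintype.range_linearCombination, hms]
  have hK : (LinearMap.ker π).FG := IsNoetherian.noetherian _
  obtain ⟨a, ks, hks⟩ := Submodule.fg_iff_exists_fin_generating_family.1 hK
  -- evaluation of tuples
  let xt : (Fin b → N) →ₗ[R] ((Fin b → R) →ₗ[R] N) :=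
    { toFun := fun x => Fintype.linearCombination R x
      map_add' := fun x y => by
        ext r
        simp [Fintype.linearCombination_apply, Finset.sum_add_distrib]
      map_smul' := fun t x => by
        ext r
        simp [Fintype.linearCombination_apply, Finset.smul_sum, smul_comm t] }
  have xt_apply : ∀ x r, xt x r = ∑ i, r i • x i := fun x r => rfl
  let d : (Fin b → N) →ₗ[R] (Fin a → N) := LinearMap.pi (fun j => (LinearMap.applyₗ (ks j)).comp xt)
  have d_apply : ∀ x j, d x j = xt x (ks j) := fun x j => rfl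
  obtain ⟨c, hc⟩ := exists_AR I d
  refine ⟨c, fun n hn s => ?_⟩
  -- choose lifts
  have hsurj : ∀ i, ∃ xi : N, Submodule.Quotient.mk xi = s (Submodule.Quotient.mk (ms i)) :=
    fun i => Submodule.Quotient.mk_surjective _ _
  choose x hx using hsurj
  have key : ∀ r : Fin b → R, (Submodule.Quotient.mk (xt x r) : N ⧸ I ^ n • (⊤ : Submodule R N)) =
      s (Submodule.Quotient.mk (π r)) := by
    intro r
    rw [xt_apply]
    show _ = s (Submodule.Quotient.mk (∑ i, r i • ms i))
    rw [← Submodule.mkQ_apply, ← Submodule.mkQ_apply, map_sum, map_sum, map_sum]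
    apply Finset.sum_congr rfl
    intro i _
    rw [map_smul, map_smul, map_smul, Submodule.mkQ_apply, Submodule.mkQ_apply, hx]
  have hdx : d x ∈ I ^ n • (⊤ : Submodule R (Fin a → N)) := by
    apply mem_pi_of_apply_mem
    intro j
    rw [d_apply, ← Submodule.Quotient.mk_eq_zero, key]
    have : π (ks j) = 0 := by
      have : ks j ∈ LinearMap.ker π := by
        rw [← hks]; exact Submodule.subset_span ⟨j, rfl⟩
      exact this
    rw [this, Submodule.Quotient.mk_zero, map_zero]
  obtain ⟨x', hx', hxx'⟩ := hc n hn x hdx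
  -- the corrected tuple
  have hker : LinearMap.ker π ≤ LinearMap.ker (xt (x - x')) := by
    rw [← hks, Submodule.span_le]
    rintro _ ⟨j, rfl⟩
    show xt (x - x') (ks j) = 0
    rw [← d_apply, map_sub, hxx', sub_self]
    rfl
  let h : M →ₗ[R] N :=
    ((LinearMap.ker π).liftQ (xt (x - x')) hker).comp
      (π.quotKerEquivOfSurjective hπ).symm.toLinearMap
  have h_apply : ∀ r, h (π r) = xt (x - x') r := by
    intro r
    have : (π.quotKerEquivOfSurjective hπ).symm (π r) = Submodule.Quotient.mk r := by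
      rw [LinearEquiv.symm_apply_eq]
      rfl
    show ((LinearMap.ker π).liftQ (xt (x - x')) hker) ((π.quotKerEquivOfSurjective hπ).symm (π r)) = _
    rw [this]
    rfl
  refine ⟨h, fun m y hmy => ?_⟩
  obtain ⟨r, rfl⟩ := hπ m
  rw [h_apply, map_sub, LinearMap.sub_apply]
  have h1 : xt x r - y ∈ I ^ n • (⊤ : Submodule R N) := by
    rw [← Submodule.Quotient.eq, key, hmy]
  have h2 : xt x' r ∈ I ^ (n - c) • (⊤ : Submodule R N) := by
    rw [xt_apply]
    apply Submodule.sum_mem
    intro i _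
    exact Submodule.smul_mem _ _ (apply_mem_of_mem_pi I _ x' hx' i)
  have h3 : I ^ n • (⊤ : Submodule R N) ≤ I ^ (n - c) • (⊤ : Submodule R N) :=
    Submodule.smul_mono_left (Ideal.pow_le_pow_right (Nat.sub_le n c))
  have : xt x r - xt x' r - y = (xt x r - y) - xt x' r := by abel
  rw [this]
  exact Submodule.sub_mem _ (h3 h1) h2

theorem main {M N : Type v} [AddCommGroup M] [Module R M] [Module.Finite R M]
    [AddCommGroup N] [Module R N] [Module.Finite R N] (hI : I ≤ (⊥ : Ideal R).jacobson)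
    (u : N →ₗ[R] M)
    (h : ∀ n₀ : ℕ, ∃ n, n₀ ≤ n ∧ ∃ s : (M ⧸ (I ^ n) • (⊤ : Submodule R M)) →ₗ[R]
        (N ⧸ (I ^ n) • (⊤ : Submodule R N)),
      ∀ x : N, s (Submodule.Quotient.mk (u x)) = Submodule.Quotient.mk x) :
    ∃ s : M →ₗ[R] N, s.comp u = LinearMap.id := by
  let φ : (M →ₗ[R] N) →ₗ[R] (N →ₗ[R] N) := LinearMap.lcomp R N u
  have φ_apply : ∀ g, φ g = g.comp u := fun g => rfl
  suffices hid : (LinearMap.id : N →ₗ[R] N) ∈ LinearMap.range φ by
    obtain ⟨s, hs⟩ := hid
    exact ⟨s, hs⟩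
  rw [← Submodule.Quotient.mk_eq_zero]
  have hkrull := Ideal.iInf_pow_smul_eq_bot_of_le_jacobson (M := (N →ₗ[R] N) ⧸ LinearMap.range φ) I hI
  rw [← Submodule.mem_bot R, ← hkrull, Submodule.mem_iInf]
  intro k
  obtain ⟨c₁, hc₁⟩ := lemA I M N
  obtain ⟨c₂, hc₂⟩ := lemB I N
  obtain ⟨n, hn, s, hs⟩ := h (k + c₁ + c₂)
  obtain ⟨g, hg⟩ := hc₁ n (by omega) s
  let e : N →ₗ[R] N := g.comp u - LinearMap.id
  have he : ∀ y, e y ∈ I ^ (n - c₁) • (⊤ : Submodule R N) := by
    intro y
    exact hg (u y) y (hs y)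
  have he' := hc₂ (n - c₁) (by omega) e he
  have he'' : e ∈ I ^ k • (⊤ : Submodule R (N →ₗ[R] N)) :=
    Submodule.smul_mono_left (Ideal.pow_le_pow_right (by omega)) he'
  have h1 : (Submodule.Quotient.mk (LinearMap.id : N →ₗ[R] N) : (N →ₗ[R] N) ⧸ LinearMap.range φ) =
      - Submodule.Quotient.mk e := by
    rw [← Submodule.Quotient.mk_neg, Submodule.Quotient.eq]
    refine ⟨g, ?_⟩
    rw [φ_apply]
    simp only [e]
    abel
  rw [h1]
  apply Submodule.neg_mem
  have := Submodule.mem_map_of_mem (f := (LinearMap.range φ).mkQ) he''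
  rw [Submodule.map_smul''] at this
  exact Submodule.smul_mono le_rfl le_top this

end Groth.Agent.H2.SplitPow
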