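import Groth.Agent.Lib.Helper2.TwoIdealComplete

/-!
# Square-zero extensions of complete Noetherian local rings are complete
-/

namespace Groth.Agent.H2.SqZeroComplete

variable {A : Type*} {E : Type*} [CommRing A] [CommRing E]

theorem isNoetherianRing_of_sq_zero [IsNoetherianRing A] (f : E →+* A)
    (hf : Function.Surjective f) (hsq : RingHom.ker f ^ 2 = ⊥) (hfg : (RingHom.ker f).FG) :
    IsNoetherianRing E := by
  apply IsNoetherianRing.of_prime
  intro P hP
  have hNP : RingHom.ker f ≤ P := by
    intro x hx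
    have : x ^ 2 ∈ P := by
      have : x ^ 2 ∈ RingHom.ker f ^ 2 := Ideal.pow_mem_pow hx 2
      rw [hsq] at this
      rw [(Submodule.mem_bot E).1 this]; exact P.zero_mem
    exact hP.mem_of_pow_mem 2 this
  obtain ⟨T, hT⟩ := (isNoetherianRing_iff_ideal_fg A).1 inferInstance (P.map f)
  have hlift : ∀ t : A, ∃ e : E, t ∈ T → e ∈ P ∧ f e = t := by
    intro t
    by_cases ht : t ∈ T
    · have : t ∈ P.map f := hT ▸ Ideal.subset_span ht
      obtain ⟨e, he, hfe⟩ := (Ideal.mem_map_iff_of_surjective f hf).1 this
      exact ⟨e, fun _ => ⟨he, hfe⟩⟩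
    · exact ⟨0, fun h => absurd h ht⟩
  choose e he using hlift
  classical
  have key : P = Ideal.span ((T.image e : Finset E) : Set E) ⊔ RingHom.ker f := by
    have h1 : (Ideal.span ((T.image e : Finset E) : Set E)).map f = P.map f := by
      rw [Ideal.map_span, ← hT]
      congr 1
      ext t
      simp only [Finset.coe_image, Set.mem_image, Finset.mem_coe, exists_exists_and_eq_and]
      constructor
      · rintro ⟨t', ht', rfl⟩
        rw [(he t' ht').2]; exact ht'
      · intro ht
        exact ⟨t, ht, (he t ht).2⟩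
    have h2 := Ideal.comap_map_of_surjective f hf (Ideal.span ((T.image e : Finset E) : Set E))
    have h3 := Ideal.comap_map_of_surjective f hf P
    rw [h1, h3] at h2
    rw [← RingHom.ker_eq_comap_bot] at h2
    rw [← h2]
    exact (sup_eq_left.2 hNP).symm
  rw [key]
  exact Submodule.FG.sup ⟨_, rfl⟩ hfg

theorem isAdicComplete_of_sq_zero (N : Ideal E) (hsq : N ^ 2 = ⊥) : IsAdicComplete N E := by
  have hpow : ∀ n, 2 ≤ n → N ^ n = ⊥ := by
    intro n hn
    rw [eq_bot_iff, ← hsq]
    exact Ideal.pow_le_pow_right hn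
  haveI : IsHausdorff N E := by
    refine ⟨fun x hx => ?_⟩
    have := hx 2
    rw [SModEq.zero, smul_eq_mul, Ideal.mul_top, hsq] at this
    simpa using this
  haveI : IsPrecomplete N E := by
    refine ⟨fun {f} hf => ⟨f 2, fun n => ?_⟩⟩
    rw [SModEq.sub_mem, smul_eq_mul, Ideal.mul_top]
    by_cases hn : n ≤ 2
    · have := hf hn
      rwa [SModEq.sub_mem, smul_eq_mul, Ideal.mul_top] at this
    · push Not at hn
      have := hf hn.le
      rw [SModEq.sub_mem, smul_eq_mul, Ideal.mul_top, hsq] at this
      have h0 : f n - f 2 = 0 := by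
        have : f 2 - f n = 0 := by simpa using this
        rw [← neg_sub, this, neg_zero]
      rw [h0]; exact Ideal.zero_mem _
  exact ⟨⟩

theorem main [IsNoetherianRing A] [IsLocalRing A] [IsAdicComplete (IsLocalRing.maximalIdeal A) A]
    (f : E →+* A) (hf : Function.Surjective f)
    (hsq : RingHom.ker f ^ 2 = ⊥) (hfg : (RingHom.ker f).FG) :
    IsAdicComplete ((IsLocalRing.maximalIdeal A).comap f) E := by
  haveI := isNoetherianRing_of_sq_zero f hf hsq hfg
  haveI := isAdicComplete_of_sq_zero (RingHom.ker f) hsq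
  let e : (E ⧸ RingHom.ker f) ≃+* A := RingHom.quotientKerEquivOfSurjective hf
  haveI : IsAdicComplete (((IsLocalRing.maximalIdeal A).comap f).map
      (Ideal.Quotient.mk (RingHom.ker f))) (E ⧸ RingHom.ker f) := by
    have h1 : ((((IsLocalRing.maximalIdeal A).comap f).map
        (Ideal.Quotient.mk (RingHom.ker f))).map (e : (E ⧸ RingHom.ker f) →+* A))
        = IsLocalRing.maximalIdeal A := by
      rw [Ideal.map_map]
      have : (e : (E ⧸ RingHom.ker f) →+* A).comp (Ideal.Quotient.mk (RingHom.ker f)) = f := by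
        ext x; rfl
      rw [this, Ideal.map_comap_of_surjective f hf]
    have h2 := (IsAdicComplete.congr_ringEquiv (I := (((IsLocalRing.maximalIdeal A).comap f).map
        (Ideal.Quotient.mk (RingHom.ker f)))) (e := e))
    rw [← h2]
    convert (inferInstance : IsAdicComplete (IsLocalRing.maximalIdeal A) A)
    exact h1
  exact Groth.Agent.H2.TwoIdealComplete.main (RingHom.ker f) _

end Groth.Agent.H2.SqZeroComplete
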