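import Mathlib
import Groth.Prelude.Def_EtMod2
import Groth.Prelude.Def_PBC
import Groth.Agent.Lib.Helper2.StalkCardA
import Groth.Agent.Lib.Helper2.GeomIndepA
import Groth.Agent.Lib.Helper2.GenConstC
import Groth.Agent.Lib.Helper2.ConsOpenA
import Groth.Agent.Lib.Helper2.ConsClosB
import Groth.Agent.Lib.Helper2.SubFLCD

set_option autoImplicit false
set_option linter.style.haveILetI false
set_option linter.unusedSectionVars false
universe u

open CategoryTheory CategoryTheory.Limits Opposite TopologicalSpace AlgebraicGeometry Topology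

namespace Groth.Agent.H2.StalkCard

open Groth.Agent.H2.StalkLC Groth.Agent.H2.Strata Groth.Agent.H2.GeomIndep
  Groth.Agent.H2.GenConst Groth.Agent.H2.ConsOpen Groth.Agent.H2.ConsClos

theorem S3116_mpr {X : Scheme.{u}} [IsLocallyNoetherian X] (F : EtCoh.Ab X)
    (hfin : ∀ (Ω : Type u) [Field Ω] [IsSepClosed Ω] (ξ : Spec (CommRingCat.of Ω) ⟶ X),
      Finite ((EtCoh.stalk ξ).obj F))
    (hE : ∀ n : ℕ, IsLocallyConstructible (cardSet F n)) : EtPBC.IsConstructible F := by
  apply S8527_mpr F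
  intro x
  obtain ⟨Ω, _, _, ξ, hξ⟩ := exists_geomPt x
  let n := Nat.card ((EtCoh.stalk ξ).obj F)
  have hn : n ≠ 0 := by
    haveI := hfin Ω ξ
    exact Nat.card_pos.ne'
  have hxE : x ∈ cardSet F n :=
    ⟨Ω, inferInstance, inferInstance, ξ, (range_geomPt_eq_iff ξ x).2 hξ, rfl⟩
  obtain ⟨O, hO, hxO, hOsub⟩ := exists_open_of_isLocallyConstructible (hE n) x hxE
  obtain ⟨T, g, hg, hrange⟩ := exists_immersion_range (⟨O, hO⟩ : X.Opens)
    ⟨closure {x}, isClosed_closure⟩
  haveI := hg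
  haveI : IsLocallyNoetherian T := LocallyOfFiniteType.isLocallyNoetherian g
  have hrange' : Set.range g = O ∩ closure {x} := hrange
  have hmemr : ∀ t : T, g t ∈ O ∩ closure ({x} : Set X) := fun t => hrange' ▸ Set.mem_range_self t
  have hx' : x ∈ Set.range g := by rw [hrange']; exact ⟨hxO, subset_closure rfl⟩
  obtain ⟨t₀, ht₀⟩ := hx'
  have hgen : ∀ t : T, t₀ ⤳ t := by
    intro t
    rw [← g.isEmbedding.isInducing.specializes_iff, ht₀]
    exact specializes_iff_mem_closure.2 (hmemr t).2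
  let G := (EtCoh.pull g).obj F
  have hcard : ∀ (Ω' : Type u) [Field Ω'] [IsSepClosed Ω'] (l : Spec (CommRingCat.of Ω') ⟶ T),
      Nat.card ((EtCoh.stalk l).obj G) = n := by
    intro Ω' _ _ l
    have e1 : Nat.card ((EtCoh.stalk l).obj G) = Nat.card ((EtCoh.stalk (l ≫ g)).obj F) :=
      Nat.card_congr
        ((Groth.Agent.H7.ST.stalkPullIso g l).app F).addCommGroupIsoToAddEquiv.toEquiv
    rw [e1]
    have hmem : g (l default) ∈ cardSet F n := hOsub (hmemr _)
    obtain ⟨Ω'', _, _, ξ'', hξ'', hc⟩ := hmem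
    rw [← hc]
    exact card_stalk_eq_of_same_point F (l ≫ g) ξ''
      (by rw [(range_geomPt_eq_iff ξ'' _).1 hξ'']; rfl)
  obtain ⟨W, ⟨w, hw⟩, A, _, _, ⟨α⟩⟩ := exists_etale_const_of_card t₀ hgen G n hn hcard
  haveI : Etale W.hom := W.prop
  let T' : T.Opens := ⟨Set.range W.hom, W.hom.isOpenMap.isOpen_range⟩
  have hflc : EtCoh.IsFiniteLocallyConstant ((EtCoh.pull T'.ι).obj G) :=
    Groth.Agent.H2.SubFLC.isFLC_pull_of_restr_const T'.ι G W (fun y => y.2) A α
  obtain ⟨V'', hV''o, hV''⟩ := g.isEmbedding.isInducing.isOpen_iff.1 T'.2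
  have hxV'' : x ∈ V'' := by
    have : t₀ ∈ g ⁻¹' V'' := by
      rw [hV'']
      exact ⟨w, hw⟩
    rw [← ht₀]
    exact this
  refine ⟨⟨O ∩ V'', hO.inter hV''o⟩, T', T'.ι ≫ g, inferInstance, ⟨hxO, hxV''⟩, ?_, ?_⟩
  · change Set.range (T'.ι ≫ g) = (O ∩ V'') ∩ closure {x}
    rw [Scheme.Hom.comp_base, TopCat.coe_comp, Set.range_comp, Scheme.Opens.range_ι]
    change g '' (Set.range W.hom) = _
    have : Set.range W.hom = g ⁻¹' V'' := hV''.symm
    rw [this, Set.image_preimage_eq_inter_range, hrange']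
    ext y
    simp only [Set.mem_inter_iff]
    tauto
  · exact isFiniteLocallyConstant_of_iso ((pullCompIsoAb T'.ι g).app F).symm hflc

end Groth.Agent.H2.StalkCard
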