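import Mathlib
import Groth.Prelude.Def_EtMod2
import Groth.Prelude.Def_ARSys
import Groth.Agent.Lib.Helper2.StalkLCC
import Groth.Agent.Lib.Helper2.ARPullA

set_option autoImplicit false
set_option linter.style.haveILetI false
set_option linter.unusedSectionVars false
universe u

open CategoryTheory CategoryTheory.Limits Opposite TopologicalSpace AlgebraicGeometry

namespace Groth.Agent.H2.StalkLC

open Groth.Agent.H2.ARPull

theorem S13613_main
    (Λ : Type (u + 1)) [CommRing Λ] [IsNoetherianRing Λ] (I : Ideal Λ) (X : Scheme.{u})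
    (F : ARSys.PS (EtModW.Mod Λ X))
    (hF : (ARSys.TermKilled I F ∧ ∃ (Y : ARSys.PS (EtModW.Mod Λ X)) (v : Y ⟶ F), ARSys.IsAdic I Y ∧ (∀ n : ℕ, EtModW.IsConstructible Λ (Y.obj (op n))) ∧ ARSys.IsARIso v))
    {Ω : Type u} [Field Ω] [IsSepClosed Ω] (s : Spec (CommRingCat.of Ω) ⟶ X) :
    (ARSys.TermKilled I (F ⋙ EtModW.stalk Λ s) ∧ ∃ (Y : ARSys.PS (ModuleCat.{u + 1} Λ)) (v : Y ⟶ F ⋙ EtModW.stalk Λ s), ARSys.IsAdic I Y ∧ (∀ n : ℕ, Module.Finite Λ (Y.obj (op n))) ∧ ARSys.IsARIso v) := by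
  obtain ⟨h1, Y, v, hY, hYc, hv⟩ := hF
  haveI : PreservesFiniteLimits (EtModW.stalk Λ s) := inferInstance
  haveI : PreservesFiniteColimits (EtModW.stalk Λ s) := inferInstance
  refine ⟨termKilled_comp _ I h1, Y ⋙ EtModW.stalk Λ s, Functor.whiskerRight v _,
    isAdic_comp _ I hY, fun n => ?_, isARIso_whiskerRight _ v hv⟩
  exact finite_stalk_of_isConstructible Λ _ (hYc n) s

end Groth.Agent.H2.StalkLC
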