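import Mathlib

/-! # Helpers for EGA III 4.3.x: radiciality of the finite part of the Stein factorization
of a universally open morphism with purely inseparable function-field extension.

Pure Mathlib (ring-level + topology + field points). -/

set_option autoImplicit false
universe u
open CategoryTheory CategoryTheory.Limits AlgebraicGeometry TopologicalSpace

namespace Groth.Agent.H2.SteinRad

/-- ring-level: two maps `B → L` to a field agreeing on `A` (injectively) coincide when every element
of `B` has a `p^e`-th power in `Frac A` (written without fractions). -/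
lemma hom_ext_of_pow {A B L : Type*} [CommRing A] [CommRing B] [Field L] (p : ℕ) [ExpChar L p]
    (φ : A →+* B) (α β : B →+* L) (hαβ : α.comp φ = β.comp φ)
    (hinj : Function.Injective (α.comp φ))
    (hpow : ∀ t : B, ∃ (e : ℕ) (s₁ s₂ : A), s₂ ≠ 0 ∧ t ^ (p ^ e) * φ s₂ = φ s₁) : α = β := by
  ext t
  obtain ⟨e, s₁, s₂, hs₂, h⟩ := hpow t
  have h1 : α t ^ (p ^ e) * α (φ s₂) = α (φ s₁) := by rw [← map_pow, ← map_mul, h]
  have h2 : β t ^ (p ^ e) * β (φ s₂) = β (φ s₁) := by rw [← map_pow, ← map_mul, h]
  have e1 : β (φ s₁) = α (φ s₁) := (congr($hαβ s₁)).symm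
  have e2 : β (φ s₂) = α (φ s₂) := (congr($hαβ s₂)).symm
  have hne : α (φ s₂) ≠ 0 := fun h0 => hs₂ (hinj (by simpa using h0))
  rw [e1, e2, ← h1] at h2
  have h3 := mul_right_cancel₀ hne h2
  exact ((iterateFrobenius_inj L p e) (by simpa [iterateFrobenius_def] using h3)).symm

/-- topology: if `φ : P → W` is a continuous surjection, `s : W → T` continuous, and every
irreducible component of `P` has dense image in `T`, then the generic point of any irreducible
component of `W` maps to a generic point of `T`. -/
lemma dense_singleton_of_dense_image {P W T : Type*} [TopologicalSpace P] [TopologicalSpace W]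
    [TopologicalSpace T] [QuasiSober P] [T0Space W]
    (φ : P → W) (hφ : Continuous φ) (hφs : Function.Surjective φ) (s : W → T) (hs : Continuous s)
    (hdense : ∀ Z ∈ irreducibleComponents P, Dense ((s ∘ φ) '' Z))
    (ζ : W) (hζ : closure {ζ} ∈ irreducibleComponents W) : Dense ({s ζ} : Set T) := by
  obtain ⟨ξ, rfl⟩ := hφs ζ
  obtain ⟨ω, hω⟩ := QuasiSober.sober (isIrreducible_irreducibleComponent (x := ξ))
    isClosed_irreducibleComponent
  have h1 : ω ⤳ ξ := by
    rw [specializes_iff_mem_closure, hω.def]
    exact mem_irreducibleComponent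
  have h2 : φ ω ⤳ φ ξ := h1.map hφ
  have h3 : closure {φ ξ} ⊆ closure {φ ω} :=
    closure_minimal (Set.singleton_subset_iff.mpr (specializes_iff_mem_closure.mp h2))
      isClosed_closure
  have h4 : closure {φ ω} ⊆ closure {φ ξ} := hζ.2 (isIrreducible_singleton.closure) h3
  have h5 : φ ξ ⤳ φ ω := specializes_iff_mem_closure.mpr (h4 (subset_closure rfl))
  have h6 : φ ω = φ ξ := (h2.antisymm h5).eq
  have h7 := hdense _ (irreducibleComponent_mem_irreducibleComponents ξ)
  rw [← hω.def] at h7
  have h8 : (s ∘ φ) '' closure {ω} ⊆ closure {s (φ ξ)} := by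
    refine (image_closure_subset_closure_image (hs.comp hφ)).trans ?_
    rw [Set.image_singleton, Function.comp_apply, h6]
  exact dense_closure.mp (Dense.mono h8 h7)


/-- composition of a geometrically connected morphism with a universally injective surjective one
is geometrically connected (no openness needed). -/
theorem geometricallyConnected_comp_of_universallyInjective {X Y' Y : Scheme.{u}} (f' : X ⟶ Y')
    (g : Y' ⟶ Y) [GeometricallyConnected f'] [UniversallyInjective g] [Surjective g] :
    GeometricallyConnected (f' ≫ g) := by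
  refine ⟨geometrically_iff_of_isClosedUnderIsomorphisms.mpr fun K _ x ↦ ?_⟩
  rw [← (pullbackRightPullbackFstIso g x f').hom.homeomorph.connectedSpace_iff]
  -- `W = Y' ×_Y Spec K` is a one-point scheme
  obtain ⟨w, -⟩ := (pullback.snd g x).surjective (IsLocalRing.closedPoint K)
  have hui : UniversallyInjective (pullback.snd g x) :=
    MorphismProperty.pullback_snd g x inferInstance
  have hsub : ∀ w' : ↥(pullback g x), w' = w := fun w' =>
    (pullback.snd g x).injective (Subsingleton.elim _ _)
  let j := (pullback g x).fromSpecResidueField w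
  have hj : Surjective j := ⟨fun w' => ⟨IsLocalRing.closedPoint _, by
    rw [hsub w']; exact Scheme.fromSpecResidueField_apply _ _⟩⟩
  have hQ : ConnectedSpace ↥(pullback f' (j ≫ pullback.fst g x)) :=
    pullback_of_geometrically (P := (ConnectedSpace ·))
      (GeometricallyConnected.geometrically_connectedSpace (f := f')) _ (j ≫ pullback.fst g x)
  have hQ' : ConnectedSpace ↥(pullback (pullback.snd f' (pullback.fst g x)) j) := by
    rw [(pullbackLeftPullbackSndIso f' (pullback.fst g x) j).hom.homeomorph.connectedSpace_iff]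
    exact hQ
  exact (pullback.fst (pullback.snd f' (pullback.fst g x)) j).surjective.connectedSpace
    (pullback.fst (pullback.snd f' (pullback.fst g x)) j).continuous

/-- `g` separated is universally injective as soon as the two projections agree on the residue
field points at generic points of irreducible components of `Y' ×_Y Y'`. -/
theorem universallyInjective_of_generic {Y' Y : Scheme.{u}} (g : Y' ⟶ Y) [IsSeparated g]
    (h : ∀ ζ : ↥(pullback g g), closure {ζ} ∈ irreducibleComponents ↥(pullback g g) →
      (pullback g g).fromSpecResidueField ζ ≫ pullback.fst g g =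
        (pullback g g).fromSpecResidueField ζ ≫ pullback.snd g g) : UniversallyInjective g := by
  rw [UniversallyInjective.iff_diagonal, surjective_iff]
  intro z'
  have hcl : IsClosed (Set.range (pullback.diagonal g)) :=
    (pullback.diagonal g).isClosedEmbedding.isClosed_range
  obtain ⟨z, hz⟩ := QuasiSober.sober (isIrreducible_irreducibleComponent (x := z'))
    isClosed_irreducibleComponent
  have hz' : closure {z} ∈ irreducibleComponents ↥(pullback g g) := by
    rw [hz.def]; exact irreducibleComponent_mem_irreducibleComponents z'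
  let φ := (pullback g g).fromSpecResidueField z
  have hφ₁ : φ ≫ pullback.fst g g = φ ≫ pullback.snd g g := h z hz'
  have hφ₂ : φ = (φ ≫ pullback.fst g g) ≫ pullback.diagonal g := by
    apply pullback.hom_ext
    · simp
    · simp [hφ₁]
  have hzr : z ∈ Set.range (pullback.diagonal g) := by
    refine ⟨(φ ≫ pullback.fst g g) (IsLocalRing.closedPoint _), ?_⟩
    rw [← Scheme.Hom.comp_apply, ← hφ₂, Scheme.fromSpecResidueField_apply]
  have : z' ∈ closure {z} := by rw [hz.def]; exact mem_irreducibleComponent
  exact (closure_minimal (Set.singleton_subset_iff.mpr hzr) hcl) this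


lemma specMap_closedPoint_asIdeal {S : CommRingCat.{u}} {Ω : Type u} [Field Ω]
    (γ : S ⟶ CommRingCat.of Ω) :
    ((Spec.map γ) (IsLocalRing.closedPoint Ω)).asIdeal = RingHom.ker γ.hom := by
  show Ideal.comap γ.hom (IsLocalRing.maximalIdeal Ω) = RingHom.ker γ.hom
  rw [IsLocalRing.maximalIdeal_eq_bot, RingHom.ker_eq_comap_bot]

/-- two field-valued points of `Y'` with the same image in `Y`, lying over the generic point of
`Y`, coincide, if `O(g⁻¹U)` is "purely inseparable up to denominators" over `O(U)` for one nonempty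
affine open `U`. -/
theorem fieldPoint_ext {Y' Y : Scheme.{u}} [IsIntegral Y] (g : Y' ⟶ Y) [IsAffineHom g]
    (L : Type u) [Field L] (p : ℕ)
    (a b : Spec (CommRingCat.of L) ⟶ Y') (hab : a ≫ g = b ≫ g)
    (hgen : (a ≫ g) (IsLocalRing.closedPoint L) = genericPoint Y)
    (U : Y.Opens) (hU : IsAffineOpen U) [hne : Nonempty U] [ExpChar Γ(Y, U) p]
    (hpow : ∀ t : Γ(Y', g ⁻¹ᵁ U), ∃ (e : ℕ) (s₁ s₂ : Γ(Y, U)), s₂ ≠ 0 ∧
      t ^ (p ^ e) * (g.app U).hom s₂ = (g.app U).hom s₁) : a = b := by
  have hV : IsAffineOpen (g ⁻¹ᵁ U) := hU.preimage g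
  have hηU : genericPoint Y ∈ U :=
    ((genericPoint_spec Y).mem_open_set_iff U.isOpen).mpr (by simpa using hne)
  have hr : ∀ c : Spec (CommRingCat.of L) ⟶ Y', c ≫ g = a ≫ g →
      Set.range c ⊆ Set.range hV.fromSpec := by
    intro c hc
    rw [hV.range_fromSpec]
    rintro _ ⟨q, rfl⟩
    have : q = IsLocalRing.closedPoint L := Subsingleton.elim _ _
    subst this
    show g (c _) ∈ U
    rw [← Scheme.Hom.comp_apply, hc, hgen]
    exact hηU
  have key : ∀ (c : Spec (CommRingCat.of L) ⟶ Y') (γ : Γ(Y', g ⁻¹ᵁ U) ⟶ CommRingCat.of L),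
      Spec.map γ ≫ hV.fromSpec = c → c ≫ g = Spec.map (g.app U ≫ γ) ≫ hU.fromSpec := by
    intro c γ hγ
    rw [← hγ, Category.assoc, ← hU.SpecMap_appLE_fromSpec g hV le_rfl, ← Category.assoc,
      ← Spec.map_comp, Scheme.Hom.app_eq_appLE]
  let a₁ := IsOpenImmersion.lift hV.fromSpec a (hr a rfl)
  have ha₁ : a₁ ≫ hV.fromSpec = a := IsOpenImmersion.lift_fac _ _ _
  let b₁ := IsOpenImmersion.lift hV.fromSpec b (hr b hab.symm)
  have hb₁ : b₁ ≫ hV.fromSpec = b := IsOpenImmersion.lift_fac _ _ _
  obtain ⟨α, hα⟩ := Spec.map_surjective a₁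
  obtain ⟨β, hβ⟩ := Spec.map_surjective b₁
  rw [← hα] at ha₁
  rw [← hβ] at hb₁
  have ka := key a α ha₁
  have kb := key b β hb₁
  have h1 : Spec.map (g.app U ≫ α) = Spec.map (g.app U ≫ β) := by
    rw [← cancel_mono hU.fromSpec, ← ka, ← kb, hab]
  have h2 : g.app U ≫ α = g.app U ≫ β := Spec.map_injective h1
  have hinj : Function.Injective (α.hom.comp (g.app U).hom) := by
    rw [RingHom.injective_iff_ker_eq_bot]
    have hpt : hU.fromSpec (Spec.map (g.app U ≫ α) (IsLocalRing.closedPoint L)) =
        genericPoint Y := by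
      rw [← Scheme.Hom.comp_apply, ← ka, hgen]
    have hpt2 : Spec.map (g.app U ≫ α) (IsLocalRing.closedPoint L) =
        genericPoint (Spec Γ(Y, U)) :=
      hU.fromSpec.injective (hpt.trans (genericPoint_eq_of_isOpenImmersion hU.fromSpec).symm)
    rw [genericPoint_eq_bot_of_affine] at hpt2
    have h3 := congrArg PrimeSpectrum.asIdeal hpt2
    rw [specMap_closedPoint_asIdeal] at h3
    exact h3
  have hL : ExpChar L p := expChar_of_injective_ringHom hinj p
  have h4 := hom_ext_of_pow (L := L) p (g.app U).hom α.hom β.hom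
    (by ext s; exact congr($h2 s)) hinj hpow
  rw [← ha₁, ← hb₁, CommRingCat.hom_ext h4]

end Groth.Agent.H2.SteinRad
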