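import Mathlib
import Groth.Agent.Lib.Helper2.SteinRadA
import Groth.Agent.Lib.Lead.Stein.Factor
import Groth.Agent.Lib.Lead.Stein.UnibranchGeom
import Groth.Agent.Lib.Lead.Stein.Local
import Groth.Agent.Lib.Lead.Stein.AlgClosed
import Groth.Agent.Lib.Helper6.HC2

/-! # EGA III 4.3.x: proper, universally open, purely inseparable function field extension
⇒ geometrically connected fibres. -/

set_option autoImplicit false
set_option linter.style.haveILetI false
universe u
open CategoryTheory CategoryTheory.Limits AlgebraicGeometry TopologicalSpace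

namespace Groth.Agent.H2.SteinRad

open Groth.Agent.LD

/-- unconditional Stein factorization over a locally Noetherian base, packaged abstractly. -/
theorem exists_stein {X Y : Scheme.{u}} [IsIntegral X] (f : X ⟶ Y) [IsProper f]
    [IsLocallyNoetherian Y] :
    ∃ (Y' : Scheme.{u}) (f' : X ⟶ Y') (g : Y' ⟶ Y), f' ≫ g = f ∧ IsFinite g ∧ IsIntegral Y' ∧
      IsLocallyNoetherian Y' ∧ Surjective f' ∧ GeometricallyConnected f' ∧
      ∀ U : Y.Opens, IsAffineOpen U → Function.Injective (f'.app (g ⁻¹ᵁ U)).hom := by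
  have hfin := Groth.Agent.H6.HC.finCoh.{u}
  have hF := Groth.Agent.H6.HC.formalBij.{u}
  haveI := Stein.isFinite_fromNormalization f hfin
  haveI := Stein.isLocallyNoetherian_normalization f hfin
  refine ⟨f.normalization, f.toNormalization, f.fromNormalization,
    f.toNormalization_fromNormalization, inferInstance, inferInstance, inferInstance,
    ⟨Stein.surjective_toNormalization f hfin hF⟩, ?_, ?_⟩
  · rw [GeometricallyConnected.iff_geometricallyConnected_fiber]
    intro y'
    obtain ⟨_, ⟨U, hU, rfl⟩, hyU, -⟩ :=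
      Y.isBasis_affineOpens.exists_subset_of_mem_open
        (Set.mem_univ (f.fromNormalization.base y')) isOpen_univ
    exact Stein.geometricallyConnected_fiber f.toNormalization hF y'
      (f.fromNormalization ⁻¹ᵁ U) (hU.preimage f.fromNormalization) hyU
      (Stein.isIso_toNormalization_app f hfin ⟨U, hU⟩)
  · intro U hU
    have := Stein.isIso_toNormalization_app f hfin ⟨U, hU⟩
    exact ((ConcreteCategory.isIso_iff_bijective _).mp this).1

/-- every integral section of `O_X` over `f⁻¹U` has a `p^e`-th power in `Frac O_Y(U)`. -/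
theorem exists_pow_mul_eq {X Y : Scheme.{u}} [IsIntegral X] [IsIntegral Y] (f : X ⟶ Y)
    (hdom : f.base (genericPoint X) ⤳ genericPoint Y)
    (hrad : ∀ x : X.functionField,
      (∃ q : Polynomial Y.functionField, q ≠ 0 ∧
        Polynomial.eval₂ (CohIII.stalkToFunctionField f (genericPoint Y) hdom) x q = 0) →
      ∃ e : ℕ, x ^ (ringExpChar X.functionField ^ e) ∈
        Set.range (CohIII.stalkToFunctionField f (genericPoint Y) hdom))
    (U : Y.Opens) (hU : IsAffineOpen U) [Nonempty U] (c : Γ(X, f ⁻¹ᵁ U))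
    (hc : (f.app U).hom.IsIntegralElem c) :
    ∃ (e : ℕ) (s₁ s₂ : Γ(Y, U)), s₂ ≠ 0 ∧
      c ^ (ringExpChar X.functionField ^ e) * (f.app U).hom s₂ = (f.app U).hom s₁ := by
  set ψ := CohIII.stalkToFunctionField f (genericPoint Y) hdom with hψ
  have hX := Stein.genericPoint_mem_preimage f hdom U
  set gX := (X.presheaf.germ (f ⁻¹ᵁ U) (genericPoint X) hX).hom with hgX
  have hgXinj : Function.Injective gX := germ_injective_of_isIntegral X _ hX
  have hcomp : ψ.comp (algebraMap Γ(Y, U) Y.functionField) = gX.comp (f.app U).hom :=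
    Stein.stalkToFunctionField_comp f hdom U
  obtain ⟨p, hpm, hpb⟩ := hc
  have hgb : Polynomial.eval₂ (gX.comp (f.app U).hom) (gX c) p = 0 := by
    rw [← Polynomial.hom_eval₂, hpb, map_zero]
  obtain ⟨e, s, hs⟩ := hrad (gX c) ⟨p.map (algebraMap Γ(Y, U) Y.functionField),
    (hpm.map _).ne_zero, by rw [Polynomial.eval₂_map, hcomp]; exact hgb⟩
  haveI : IsFractionRing Γ(Y, U) Y.functionField :=
    functionField_isFractionRing_of_isAffineOpen Y U hU
  obtain ⟨s₁, s₂, hs₂, hs12⟩ := IsFractionRing.div_surjective (A := Γ(Y, U)) s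
  have hs₂0 : algebraMap Γ(Y, U) Y.functionField s₂ ≠ 0 :=
    IsFractionRing.to_map_ne_zero_of_mem_nonZeroDivisors hs₂
  refine ⟨e, s₁, s₂, nonZeroDivisors.ne_zero hs₂, ?_⟩
  apply hgXinj
  rw [map_mul, map_pow]
  have h1 : gX ((f.app U).hom s₂) = ψ (algebraMap _ _ s₂) := (congr($hcomp s₂)).symm
  have h2 : gX ((f.app U).hom s₁) = ψ (algebraMap _ _ s₁) := (congr($hcomp s₁)).symm
  rw [h1, h2, ← hs, ← map_mul, ← hs12, div_mul_cancel₀ _ hs₂0]


/-- the main theorem, for an abstract Stein-type factorization `f = f' ≫ g`. -/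
theorem main_factor {X Y' Y : Scheme.{u}} [IsIntegral X] [IsIntegral Y] [IsIntegral Y']
    (f' : X ⟶ Y') (g : Y' ⟶ Y) [IsFinite g] [Surjective f'] [GeometricallyConnected f']
    [IsProper (f' ≫ g)]
    (hinjapp : ∀ U : Y.Opens, IsAffineOpen U → Function.Injective (f'.app (g ⁻¹ᵁ U)).hom)
    (hdom : (f' ≫ g).base (genericPoint X) ⤳ genericPoint Y)
    (hopen : ∀ Z ∈ irreducibleComponents ↥(pullback (f' ≫ g) g),
      Dense ((pullback.snd (f' ≫ g) g).base '' Z))
    (hrad : ∀ x : X.functionField,
      (∃ q : Polynomial Y.functionField, q ≠ 0 ∧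
        Polynomial.eval₂ (CohIII.stalkToFunctionField (f' ≫ g) (genericPoint Y) hdom) x q = 0) →
      ∃ e : ℕ, x ^ (ringExpChar X.functionField ^ e) ∈
        Set.range (CohIII.stalkToFunctionField (f' ≫ g) (genericPoint Y) hdom)) :
    GeometricallyConnected (f' ≫ g) := by
  have hsurj : Function.Surjective (f' ≫ g).base := Stein.surjective_of_dominant (f' ≫ g) hdom
  haveI hgs : Surjective g := ⟨fun y => by
    obtain ⟨x, hx⟩ := hsurj y
    exact ⟨f'.base x, hx⟩⟩
  -- the generic point of `Y'` maps to the generic point of `Y`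
  have hgη : g (genericPoint Y') = genericPoint Y := by
    have h1 := (genericPoint_spec Y').image g.continuous
    rw [Set.image_univ, g.surjective.range_eq, closure_univ] at h1
    exact ((genericPoint_spec Y).eq h1).symm
  -- a nonempty affine open of `Y`
  obtain ⟨_, ⟨U, hU, rfl⟩, hηU, -⟩ :=
    Y.isBasis_affineOpens.exists_subset_of_mem_open (Set.mem_univ (genericPoint Y)) isOpen_univ
  haveI : Nonempty U := ⟨⟨_, hηU⟩⟩
  set p := ringExpChar X.functionField with hp
  -- exponential characteristic of `Γ(Y, U)`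
  haveI : ExpChar Γ(Y, U) p := by
    have hinj : Function.Injective
        ((CohIII.stalkToFunctionField (f' ≫ g) (genericPoint Y) hdom).comp
          (algebraMap Γ(Y, U) Y.functionField)) :=
      (CohIII.stalkToFunctionField (f' ≫ g) (genericPoint Y) hdom).injective.comp
        (Y.germToFunctionField_injective U)
    exact RingHom.expChar _ hinj p
  -- the `p`-power property of `O(g⁻¹U)` over `O(U)`
  have hpow : ∀ t : Γ(Y', g ⁻¹ᵁ U), ∃ (e : ℕ) (s₁ s₂ : Γ(Y, U)), s₂ ≠ 0 ∧
      t ^ (p ^ e) * (g.app U).hom s₂ = (g.app U).hom s₁ := by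
    intro t
    have hint : (g.app U).hom.IsIntegralElem t := IsIntegralHom.isIntegral_app g U hU t
    have hc : ((f' ≫ g).app U).hom.IsIntegralElem ((f'.app (g ⁻¹ᵁ U)).hom t) := by
      obtain ⟨q, hqm, hq⟩ := hint
      refine ⟨q, hqm, ?_⟩
      have h0 : Polynomial.eval₂ ((f'.app (g ⁻¹ᵁ U)).hom.comp (g.app U).hom)
          ((f'.app (g ⁻¹ᵁ U)).hom t) q = 0 := by
        rw [← Polynomial.hom_eval₂, hq, map_zero]
      exact h0
    obtain ⟨e, s₁, s₂, hs₂, h⟩ := exists_pow_mul_eq (f' ≫ g) hdom hrad U hU _ hc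
    refine ⟨e, s₁, s₂, hs₂, hinjapp U hU ?_⟩
    rw [map_mul, map_pow]
    exact h
  -- `g` is universally injective
  haveI : UniversallyInjective g := by
    refine universallyInjective_of_generic g fun ζ hζ => ?_
    let φ : pullback (f' ≫ g) g ⟶ pullback g g :=
      (pullbackRightPullbackFstIso g g f').inv ≫ pullback.snd f' (pullback.fst g g)
    have hφsnd : φ ≫ pullback.snd g g = pullback.snd (f' ≫ g) g := by
      simp [φ]
    have hdense : Dense ({(pullback.snd g g) ζ} : Set Y') := by
      refine dense_singleton_of_dense_image φ.base φ.continuous φ.surjective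
        (pullback.snd g g).base (pullback.snd g g).continuous (fun Z hZ => ?_) ζ hζ
      have := hopen Z hZ
      rw [← hφsnd] at this
      exact this
    have hζη : (pullback.snd g g) ζ = genericPoint Y' :=
      ((genericPoint_spec Y').eq (isGenericPoint_def.mpr hdense.closure_eq)).symm
    have key : ∀ (L : Type u) [Field L] (z : Spec (CommRingCat.of L) ⟶ pullback g g),
        z (IsLocalRing.closedPoint L) = ζ → z ≫ pullback.fst g g = z ≫ pullback.snd g g := by
      intro L _ z hz
      have hab : (z ≫ pullback.fst g g) ≫ g = (z ≫ pullback.snd g g) ≫ g := by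
        simp only [Category.assoc, pullback.condition]
      have hgen : ((z ≫ pullback.fst g g) ≫ g) (IsLocalRing.closedPoint L) = genericPoint Y := by
        rw [hab, Scheme.Hom.comp_apply, Scheme.Hom.comp_apply, hz, hζη, hgη]
      exact fieldPoint_ext g L p _ _ hab hgen U hU hpow
    exact key ((pullback g g).residueField ζ) ((pullback g g).fromSpecResidueField ζ)
      (Scheme.fromSpecResidueField_apply _ _)
  exact geometricallyConnected_comp_of_universallyInjective f' g

end Groth.Agent.H2.SteinRad
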