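import Mathlib
import Groth.Agent.Lib.Helper2.SteinRadB
import Groth.Agent.Lib.Helper1.UO14C
import Groth.Agent.Lib.Helper1.GeomNum2
import Groth.Agent.Lib.Helper1.ChevSchB
import Groth.Prelude.Def_MoreMor

/-! # Geometric number of connected components of fibres via the Stein factorization. -/

set_option autoImplicit false
set_option linter.style.haveILetI false
universe u
open CategoryTheory CategoryTheory.Limits AlgebraicGeometry TopologicalSpace

namespace Groth.Agent.H2.SteinRad

open Groth.Agent.LD

/-- unconditional Stein factorization over a locally Noetherian base (no integrality). -/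
theorem exists_stein' {X Y : Scheme.{u}} (f : X ⟶ Y) [IsProper f] [IsLocallyNoetherian Y] :
    ∃ (Y' : Scheme.{u}) (f' : X ⟶ Y') (g : Y' ⟶ Y), f' ≫ g = f ∧ IsFinite g ∧
      IsLocallyNoetherian Y' ∧ IsProper f' ∧ Surjective f' ∧ GeometricallyConnected f' := by
  have hfin := Groth.Agent.H6.HC.finCoh.{u}
  have hF := Groth.Agent.H6.HC.formalBij.{u}
  haveI := Stein.isFinite_fromNormalization f hfin
  haveI := Stein.isLocallyNoetherian_normalization f hfin
  refine ⟨f.normalization, f.toNormalization, f.fromNormalization,
    f.toNormalization_fromNormalization, inferInstance, inferInstance, inferInstance,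
    ⟨Stein.surjective_toNormalization f hfin hF⟩, ?_⟩
  rw [GeometricallyConnected.iff_geometricallyConnected_fiber]
  intro y'
  obtain ⟨_, ⟨U, hU, rfl⟩, hyU, -⟩ :=
    Y.isBasis_affineOpens.exists_subset_of_mem_open
      (Set.mem_univ (f.fromNormalization.base y')) isOpen_univ
  exact Stein.geometricallyConnected_fiber f.toNormalization hF y'
    (f.fromNormalization ⁻¹ᵁ U) (hU.preimage f.fromNormalization) hyU
    (Stein.isIso_toNormalization_app f hfin ⟨U, hU⟩)

/-- the canonical separably closed point over `y`. -/
noncomputable def geomPt (Y : Scheme.{u}) (y : Y) :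
    Spec (CommRingCat.of (SeparableClosure (Y.residueField y))) ⟶ Y :=
  Spec.map (CommRingCat.ofHom
    (algebraMap (Y.residueField y) (SeparableClosure (Y.residueField y)))) ≫
    Y.fromSpecResidueField y

/-- a closed continuous surjection with connected fibres preserves the number of connected
components. -/
lemma card_connectedComponents_eq {A B : Type*} [TopologicalSpace A] [TopologicalSpace B]
    (φ : A → B) (hc : Continuous φ) (hcl : IsClosedMap φ) (hs : Function.Surjective φ)
    (hfib : ∀ b, IsConnected (φ ⁻¹' {b})) :
    ENat.card (_root_.ConnectedComponents A) = ENat.card (_root_.ConnectedComponents B) :=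
  ENat.card_congr
    ((hcl.isQuotientMap hc hs).isCoinducing.connectedComponentsHomeomorph hfib).toEquiv

lemma card_connectedComponents_eq_of_homeomorph {A B : Type*} [TopologicalSpace A]
    [TopologicalSpace B] (e : A ≃ₜ B) :
    ENat.card (_root_.ConnectedComponents A) = ENat.card (_root_.ConnectedComponents B) := by
  refine card_connectedComponents_eq e e.continuous e.isClosedMap e.surjective fun b => ?_
  have : e ⁻¹' {b} = {e.symm b} := by
    ext a
    simp [Homeomorph.eq_symm_apply]
  rw [this]
  exact isConnected_singleton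

theorem nGeomConnComp_eq_card {X Y : Scheme.{u}} (f : X ⟶ Y) (y : Y) :
    MoreMor.nGeomConnComp f y =
      ENat.card (_root_.ConnectedComponents ↥(pullback f (geomPt Y y))) := by
  unfold MoreMor.nGeomConnComp MoreMor.geomFiber
  exact card_connectedComponents_eq_of_homeomorph
    (pullbackLeftPullbackSndIso f (Y.fromSpecResidueField y) (Spec.map (CommRingCat.ofHom
      (algebraMap (Y.residueField y) (SeparableClosure (Y.residueField y)))))).hom.homeomorph

/-- **Stein**: composing with a universally closed surjective morphism with geometrically connected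
fibres does not change the geometric number of connected components of the fibres. -/
theorem nGeomConnComp_comp_eq {X Y' Y : Scheme.{u}} (f' : X ⟶ Y') (g : Y' ⟶ Y)
    [UniversallyClosed f'] [GeometricallyConnected f'] (y : Y) :
    MoreMor.nGeomConnComp (f' ≫ g) y = MoreMor.nGeomConnComp g y := by
  rw [nGeomConnComp_eq_card, nGeomConnComp_eq_card]
  set c := geomPt Y y
  let ψ := pullback.snd f' (pullback.fst g c)
  have e1 := card_connectedComponents_eq ψ.base ψ.continuous ψ.isClosedMap ψ.surjective
    (fun z => ψ.isConnected_preimage_singleton z)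
  have e2 := card_connectedComponents_eq_of_homeomorph
    (pullbackRightPullbackFstIso g c f').hom.homeomorph
  rw [← e2, e1]


/-- EGA IV 15.5.?: lower semicontinuity of the geometric number of connected components of the
fibres of a proper morphism universally open along a fibre. -/
theorem s3415 {X Y : Scheme.{u}} [IsLocallyNoetherian Y] (f : X ⟶ Y) [IsProper f] (y : Y)
    (h : ∀ x : X, f.base x = y → EGA43.IsUnivOpenAt f x) :
    ∃ V ∈ nhds y, ∀ z ∈ V, MoreMor.nGeomConnComp f y ≤ MoreMor.nGeomConnComp f z := by
  obtain ⟨Y', f', g, rfl, hg, hN, hp, hs, hgc⟩ := exists_stein' f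
  have huo : ∀ s' : Y', g.base s' = y → EGA43.IsUnivOpenAt g s' := by
    intro s' hs'
    obtain ⟨x, rfl⟩ := f'.surjective s'
    exact Groth.Agent.H1.UO14.isUnivOpenAt_of_comp f' g x (h x hs')
  obtain ⟨V, hV, hle⟩ := (Groth.Agent.H1.GeomNum.s3411_s3412 g y huo).1
  refine ⟨V, hV, fun z hz => ?_⟩
  rw [nGeomConnComp_comp_eq, nGeomConnComp_comp_eq]
  exact hle z hz

theorem s3414 {X Y : Scheme.{u}} [IrreducibleSpace Y] [IsLocallyNoetherian Y] (f : X ⟶ Y)
    [IsProper f]
    (hdom : ∀ Z ∈ irreducibleComponents (X : Type u), closure (f.base '' Z) = Set.univ) (y₀ : Y)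
    (hy : CAlg2.IsGeomUnibranch (Y.presheaf.stalk y₀)) :
    ∃ V ∈ nhds y₀, ∀ z ∈ V, MoreMor.nGeomConnComp f y₀ ≤ MoreMor.nGeomConnComp f z := by
  obtain ⟨Y', f', g, rfl, hg, hN, hp, hs, hgc⟩ := exists_stein' f
  have huo : ∀ s' : Y', g.base s' = y₀ → EGA43.IsUnivOpenAt g s' := by
    intro s' hs'
    subst hs'
    refine Groth.Agent.H1.ChevSch.isUnivOpenAt_of_quasiFinite g s' hy ?_
    intro ξ hξmax _ w hw
    obtain ⟨x, rfl⟩ := f'.surjective ξ
    obtain ⟨ω, hω⟩ := QuasiSober.sober (isIrreducible_irreducibleComponent (x := x))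
      isClosed_irreducibleComponent
    have h1 : ω ⤳ x := by
      rw [specializes_iff_mem_closure, hω.def]; exact mem_irreducibleComponent
    have h2 : f'.base ω = f'.base x := hξmax _ (h1.map f'.continuous)
    have h3 := hdom _ (irreducibleComponent_mem_irreducibleComponents x)
    rw [← hω.def] at h3
    have h4 : closure {(f' ≫ g).base ω} = Set.univ := by
      apply Set.univ_subset_iff.mp
      rw [← h3]
      refine closure_minimal ?_ isClosed_closure
      refine (image_closure_subset_closure_image (f' ≫ g).continuous).trans ?_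
      rw [Set.image_singleton]
    have h5 : IsGenericPoint ((f' ≫ g).base ω) Set.univ := h4
    have h6 : g.base (f'.base x) = (f' ≫ g).base ω := by rw [← h2]; rfl
    rw [h6] at hw ⊢
    exact (hw.antisymm (h5.specializes (Set.mem_univ w))).eq
  obtain ⟨V, hV, hle⟩ := (Groth.Agent.H1.GeomNum.s3411_s3412 g y₀ huo).1
  refine ⟨V, hV, fun z hz => ?_⟩
  rw [nGeomConnComp_comp_eq, nGeomConnComp_comp_eq]
  exact hle z hz

end Groth.Agent.H2.SteinRad
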