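import Mathlib

/-!
# Strong generators from classical generators

If a triangulated category has a strong generator, any classical generator is strong.
-/

namespace Groth.Agent.H2.StrongGen

open CategoryTheory Limits Pretriangulated ObjectProperty

universe v u
variable {C : Type u} [Category.{v} C]

section Products

variable {J : Type} (P : ObjectProperty C)

lemma isClosedUnderLimitsOfShape_discrete_of_pi [P.IsClosedUnderIsomorphisms]
    [HasLimitsOfShape (Discrete J) C]
    (h : ∀ (X : J → C), (∀ j, P (X j)) → P (∏ᶜ X)) :
    P.IsClosedUnderLimitsOfShape (Discrete J) := by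
  apply IsClosedUnderLimitsOfShape.mk'
  rintro _ ⟨F, hF⟩
  have e : limit F ≅ ∏ᶜ (fun j => F.obj ⟨j⟩) :=
    HasLimit.isoOfNatIso (Discrete.natIsoFunctor (F := F))
  exact P.prop_of_iso e.symm (h _ (fun j => hF ⟨j⟩))

instance retractClosure_closedUnderProducts [HasLimitsOfShape (Discrete J) C]
    [P.IsClosedUnderLimitsOfShape (Discrete J)] :
    P.retractClosure.IsClosedUnderLimitsOfShape (Discrete J) := by
  apply isClosedUnderLimitsOfShape_discrete_of_pi
  intro X hX
  choose Y hY r using hX
  refine ⟨∏ᶜ Y, P.prop_pi Y hY, ⟨⟨Limits.Pi.map (fun j => (r j).some.i), Limits.Pi.map (fun j => (r j).some.r), ?_⟩⟩⟩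
  rw [Limits.Pi.map_comp_map]
  have : (fun j => (r j).some.i ≫ (r j).some.r) = fun j => 𝟙 (X j) := by
    funext j
    exact (r j).some.retract
  rw [this]
  exact Limits.Pi.map_id

end Products

variable [HasZeroObject C] [HasShift C ℤ] [Preadditive C]
  [∀ (n : ℤ), (shiftFunctor C n).Additive] [Pretriangulated C]

section Products

variable {J : Type} (P Q : ObjectProperty C)

instance extensionProduct_closedUnderProducts [HasLimitsOfShape (Discrete J) C]
    [P.IsClosedUnderLimitsOfShape (Discrete J)] [Q.IsClosedUnderLimitsOfShape (Discrete J)] :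
    (extensionProduct P Q).IsClosedUnderLimitsOfShape (Discrete J) := by
  apply isClosedUnderLimitsOfShape_discrete_of_pi
  intro X hX
  choose Y Z f g h hT hP hQ using hX
  let T : J → Triangle C := fun j => Triangle.mk (f j) (g j) (h j)
  exact ⟨_, _, _, _, _, productTriangle_distinguished T hT, P.prop_pi Y hP, Q.prop_pi Z hQ⟩

instance extensionProductIter_closedUnderProducts [HasLimitsOfShape (Discrete J) C]
    [P.IsClosedUnderLimitsOfShape (Discrete J)] (n : ℕ) :
    (P.extensionProductIter n).IsClosedUnderLimitsOfShape (Discrete J) := by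
  induction n with
  | zero => rwa [extensionProductIter_zero]
  | succ n ih => rw [extensionProductIter_succ]; infer_instance

end Products

section Main

variable (P Q : ObjectProperty C)

lemma retractClosure_containsZero [P.Nonempty] : P.retractClosure.ContainsZero where
  exists_zero := by
    obtain ⟨X, hX⟩ := ‹P.Nonempty›
    obtain ⟨Z, hZ⟩ := HasZeroObject.zero (C := C)
    exact ⟨Z, hZ, X, hX, ⟨⟨0, 0, hZ.eq_of_src _ _⟩⟩⟩

/-- the basic building block of the triangulated envelope -/
abbrev base : ObjectProperty C := (P.shiftClosure ℤ).binaryProductsClosure.retractClosure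

lemma triangEnvelopeIter_eq (n : ℕ) :
    P.triangEnvelopeIter n = ((base P).extensionProductIter n).retractClosure := rfl

instance [P.Nonempty] : (base P).Nonempty := by
  obtain ⟨X, hX⟩ := ‹P.Nonempty›
  exact ⟨X, le_retractClosure _ _ (le_limitsClosure _ _ _ (le_shiftClosure _ _ hX))⟩

instance : (base P).IsClosedUnderBinaryProducts := by
  dsimp only [base]
  infer_instance

instance triangEnvelopeIter_closedUnderBinaryProducts (n : ℕ) :
    (P.triangEnvelopeIter n).IsClosedUnderBinaryProducts := by
  rw [triangEnvelopeIter_eq]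
  infer_instance

lemma triangEnvelopeIter_containsZero [P.Nonempty] (n : ℕ) :
    (P.triangEnvelopeIter n).ContainsZero := by
  rw [triangEnvelopeIter_eq]
  exact retractClosure_containsZero _

variable {P Q} in
lemma base_le_triangEnvelopeIter [Q.Nonempty] {m : ℕ} (h : P ≤ Q.triangEnvelopeIter m) :
    base P ≤ Q.triangEnvelopeIter m := by
  have := triangEnvelopeIter_containsZero Q m
  dsimp only [base]
  rwa [retractClosure_le_iff, binaryProductsClosure_le_iff, shiftClosure_le_iff]

lemma exists_extensionProductIter_iter [IsTriangulated C] (m n : ℕ) :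
    ∃ N, (P.extensionProductIter m).extensionProductIter n = P.extensionProductIter N := by
  induction n with
  | zero => exact ⟨m, rfl⟩
  | succ n ih =>
    obtain ⟨N, hN⟩ := ih
    refine ⟨(m + 1) + N, ?_⟩
    rw [extensionProductIter_succ, hN, extensionProductIter_add P (n' := m) rfl]

variable {P Q} in
lemma triangEnvelopeIter_le [IsTriangulated C] [Q.Nonempty] {m : ℕ}
    (h : P ≤ Q.triangEnvelopeIter m) (n : ℕ) :
    ∃ N, P.triangEnvelopeIter n ≤ Q.triangEnvelopeIter N := by
  obtain ⟨N, hN⟩ := exists_extensionProductIter_iter (base Q) m n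
  refine ⟨N, ?_⟩
  rw [triangEnvelopeIter_eq P, triangEnvelopeIter_eq Q, retractClosure_le_iff]
  refine (monotone_extensionProductIter (base_le_triangEnvelopeIter h) n).trans ?_
  rw [triangEnvelopeIter_eq Q]
  refine (extensionProductIter_retractClosure_le _).trans ?_
  rw [hN]

theorem strong_of_classical [IsTriangulated C] (G E : C)
    (hG : IsStrongTriangulatedGenerator (fun X : C => X = G))
    (hE : IsClassicalTriangulatedGenerator (fun X : C => X = E)) :
    IsStrongTriangulatedGenerator (fun X : C => X = E) := by
  obtain ⟨n, hn⟩ := hG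
  have hGE : triangEnvelope (fun X : C => X = E) G := by
    rw [isClassicalTriangulatedGenerator_iff] at hE
    rw [hE]
    trivial
  rw [prop_triangEnvelope_iff] at hGE
  obtain ⟨m, hm⟩ := hGE
  haveI : ObjectProperty.Nonempty (fun X : C => X = E) := ⟨E, rfl⟩
  have h : (fun X : C => X = G) ≤ triangEnvelopeIter (fun X : C => X = E) m := by
    rintro X rfl
    exact hm
  obtain ⟨N, hN⟩ := triangEnvelopeIter_le h n
  exact ⟨N, eq_top_iff.2 (hn ▸ hN)⟩

end Main

end Groth.Agent.H2.StrongGen
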