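import Mathlib
import Groth.Prelude.Def_EtBase
import Groth.Prelude.Def_PBC
import Groth.Agent.Lib.Helper2.ColimC
import Groth.Agent.Lib.Helper2.CompactB
import Groth.Agent.Lib.Helper7.ST5
import Groth.Agent.Lib.Helper7.ST6
import Groth.Agent.Lib.Helper7.GT1

set_option autoImplicit false
set_option linter.style.haveILetI false
set_option linter.unusedSectionVars false
set_option linter.unusedVariables false
universe u

open CategoryTheory CategoryTheory.Limits Opposite AlgebraicGeometry
open scoped ZeroObject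

namespace Groth.Agent.H2.SurjDesc

open Groth.Agent.H2.StalkLC Groth.Agent.H2.Gen Groth.Agent.H2.Colim Groth.Agent.H2.Compact
open Groth.Agent.H7.ST

variable {X Y : Scheme.{u}} (f : X ⟶ Y) [EtCoh.BCCont f]

lemma stalk_map_conj {F G : EtCoh.Ab Y} (a : F ⟶ G) {Ω : Type u} [Field Ω] [IsSepClosed Ω]
    (ξ : Spec (CommRingCat.of Ω) ⟶ X) :
    (EtCoh.stalk (ξ ≫ f)).map a = (stalkPullIso f ξ).inv.app F ≫
      (EtCoh.stalk ξ).map ((EtCoh.pull f).map a) ≫ (stalkPullIso f ξ).hom.app G := by
  have nat := (stalkPullIso f ξ).hom.naturality a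
  rw [Functor.comp_map] at nat
  rw [nat]
  exact (Iso.inv_hom_id_app_assoc _ F _).symm

/-- The inverse image along a surjective morphism reflects epimorphisms. -/
theorem epi_of_epi_pull [Surjective f] {F G : EtCoh.Ab Y} (a : F ⟶ G)
    [Epi ((EtCoh.pull f).map a)] : Epi a := by
  refine ab_epi_of_family (fun x' => geomξ X x' ≫ f) (iUnion_range_comp f) a ?_
  intro x'
  rw [← AddCommGrpCat.epi_iff_surjective, stalk_map_conj]
  haveI h1 : Epi ((EtCoh.stalk (geomξ X x')).map ((EtCoh.pull f).map a)) := inferInstance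
  haveI h2 : Epi ((EtCoh.stalk (geomξ X x')).map ((EtCoh.pull f).map a) ≫
      (stalkPullIso f (geomξ X x')).hom.app G) := epi_comp _ _
  exact epi_comp _ _

/-- The inverse image along a surjective morphism is faithful. -/
theorem eq_of_pull_eq [Surjective f] {F G : EtCoh.Ab Y} (a b : F ⟶ G)
    (h : (EtCoh.pull f).map a = (EtCoh.pull f).map b) : a = b := by
  refine sheaf_hom_ext_of_stalks (hPFam (fun x' => geomξ X x' ≫ f) (iUnion_range_comp f)) a b ?_
  rintro ⟨_, ⟨x'⟩⟩
  change (EtCoh.stalk (geomξ X x' ≫ f)).map a = (EtCoh.stalk (geomξ X x' ≫ f)).map b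
  rw [stalk_map_conj, stalk_map_conj, h]

theorem isConstructible_of_pull [CompactSpace X] [QuasiSeparatedSpace X] [CompactSpace Y]
    [QuasiSeparatedSpace Y] [Surjective f] (F : EtCoh.Ab Y)
    (h : EtPBC.IsConstructible ((EtCoh.pull f).obj F)) : EtPBC.IsConstructible F := by
  -- `F` is killed by an integer, hence torsion
  obtain ⟨N, hN, hk⟩ := exists_killedBy X _ h
  haveI : (EtCoh.pull f).Additive := (EtCoh.pullPushAdj f).left_adjoint_additive
  have hkil : Kil N F := by
    unfold Kil
    apply eq_of_pull_eq f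
    rw [Functor.map_nsmul, CategoryTheory.Functor.map_id, Functor.map_zero]
    exact kil_of_killedBy hk
  have hkF := killedBy_of_kil hkil
  have htors : EtCoh.IsTorsion F := by
    intro U s x
    refine ⟨U, 𝟙 U, ⟨x, rfl⟩, ?_⟩
    rw [isOfFinAddOrder_iff_nsmul_eq_zero]
    exact ⟨N, hN, hkF U _⟩
  haveI := mono_κ F
  haveI := epi_κ F htors
  haveI : IsIso (κ F) := isIso_of_mono_of_epi _
  haveI : PreservesColimitsOfSize.{u + 1, u + 1} (EtCoh.pull f) :=
    (EtCoh.pullPushAdj f).leftAdjoint_preservesColimits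
  let c' := (EtCoh.pull f).mapCocone (colimit.cocone (D F))
  have hc' : IsColimit c' := isColimitOfPreserves (EtCoh.pull f) (colimit.isColimit _)
  have hpt : EtPBC.IsConstructible c'.pt :=
    Groth.Agent.H2.SubFLC.isConstructible_of_iso ((EtCoh.pull f).mapIso (asIso (κ F)).symm) h
  haveI : PreservesColimitsOfShape (Obj F) (forget AddCommGrpCat.{u + 1}) :=
    PreservesFilteredColimitsOfSize.preserves_filtered_colimits (Obj F)
  obtain ⟨i, s, hs⟩ := (compactFor_of_isConstructible (D F ⋙ EtCoh.pull f) c' hc' c'.pt hpt).1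
    (𝟙 _)
  have hGi : EtPBC.IsConstructible ((EtCoh.pull f).obj i.p.sheaf) :=
    Groth.Agent.H2.Strata.S0127_main f _ i.p.isConstructible
  obtain ⟨k, b, hb⟩ := (compactFor_of_isConstructible (D F ⋙ EtCoh.pull f) c' hc' _ hGi).2 i
    (𝟙 _) (c'.ι.app i ≫ s) (by
      rw [Category.id_comp, Category.assoc, ← hs]
      exact (Category.comp_id _).symm)
  have hb' : (EtCoh.pull f).map ((D F).map b) =
      (EtCoh.pull f).map (colimit.ι (D F) i) ≫ s ≫ (EtCoh.pull f).map ((D F).map b) := by
    have := hb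
    rw [Category.id_comp, Category.assoc] at this
    exact this
  haveI : Epi (colimit.ι (D F) i) := by
    haveI : Epi ((EtCoh.pull f).map (colimit.ι (D F) i)) := by
      have h1 : s ≫ (EtCoh.pull f).map (colimit.ι (D F) i) = 𝟙 _ := hs.symm
      exact epi_of_epi_fac h1
    exact epi_of_epi_pull f _
  have hpq : kernel.ι (colimit.ι (D F) i) ≫ (D F).map b = 0 := by
    apply eq_of_pull_eq f
    rw [Functor.map_comp, Functor.map_zero, hb', ← Category.assoc, ← Functor.map_comp,
      kernel.condition, Functor.map_zero, zero_comp]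
  have hqp : kernel.ι ((D F).map b) ≫ colimit.ι (D F) i = 0 := by
    rw [← colimit.w (D F) b, ← Category.assoc, kernel.condition, zero_comp]
  -- the two kernels agree
  let α : kernel (colimit.ι (D F) i) ≅ kernel ((D F).map b) :=
    { hom := kernel.lift _ (kernel.ι _) hpq
      inv := kernel.lift _ (kernel.ι _) hqp
      hom_inv_id := by
        rw [← cancel_mono (kernel.ι (colimit.ι (D F) i)), Category.assoc, kernel.lift_ι,
          kernel.lift_ι, Category.id_comp]
      inv_hom_id := by
        rw [← cancel_mono (kernel.ι ((D F).map b)), Category.assoc, kernel.lift_ι,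
          kernel.lift_ι, Category.id_comp] }
  have e1 : cokernel (kernel.ι (colimit.ι (D F) i)) ≅ colimit (D F) :=
    (cokernelIsCokernel (kernel.ι (colimit.ι (D F) i))).coconePointUniqueUpToIso
      (Abelian.epiIsCokernelOfKernel (Fork.ofι (kernel.ι (colimit.ι (D F) i)) _)
        (kernelIsKernel (colimit.ι (D F) i)))
  have e2 : cokernel (kernel.ι (colimit.ι (D F) i)) ≅ cokernel (kernel.ι ((D F).map b)) :=
    cokernel.mapIso _ _ α (Iso.refl _) (by
      rw [Iso.refl_hom, Category.comp_id]
      exact (kernel.lift_ι _ _ _).symm)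
  have hKc : EtPBC.IsConstructible (kernel ((D F).map b)) :=
    (Groth.Agent.H2.Strata.S0131_main ((D F).map b) i.p.isConstructible k.p.isConstructible).1
  have hQc : EtPBC.IsConstructible (cokernel (kernel.ι ((D F).map b))) :=
    (Groth.Agent.H2.Strata.S0131_main (kernel.ι ((D F).map b)) hKc i.p.isConstructible).2
  exact Groth.Agent.H2.SubFLC.isConstructible_of_iso
    (e2.symm ≪≫ e1 ≪≫ asIso (κ F)) hQc

theorem S0135_main {X Y : Scheme.{u}} [CompactSpace X] [QuasiSeparatedSpace X]
    [CompactSpace Y] [QuasiSeparatedSpace Y] (f : X ⟶ Y) [Surjective f] [EtCoh.BCCont f]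
    (F : EtCoh.Ab Y) :
    EtPBC.IsConstructible F ↔ EtPBC.IsConstructible ((EtCoh.pull f).obj F) :=
  ⟨fun h => Groth.Agent.H2.Strata.S0127_main f F h, fun h => isConstructible_of_pull f F h⟩

end Groth.Agent.H2.SurjDesc
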