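import Mathlib
import Groth.Prelude.Def_EtBase
import Groth.Prelude.Def_PBC
import Groth.Agent.Lib.Helper2.SurjDescA
import Groth.Agent.Lib.Helper2.GenB
import Groth.Agent.Lib.Helper2.StrataF

set_option autoImplicit false
set_option linter.style.haveILetI false
set_option linter.unusedSectionVars false
set_option linter.unusedVariables false
universe u

open CategoryTheory CategoryTheory.Limits Opposite AlgebraicGeometry Topology
open scoped ZeroObject

namespace Groth.Agent.H2.SurjDesc

open Groth.Agent.H2.Strata Groth.Agent.H2.Gen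
open Groth.Agent.H7.ST

/-- A sheaf on a finite coproduct of affine schemes is constructible when its restrictions to
the summands are. -/
theorem isConstructible_sigma {σ : Type u} [Finite σ] (g : σ → Scheme.{u}) [∀ i, IsAffine (g i)]
    (G : EtCoh.Ab (∐ g)) (h : ∀ i, EtPBC.IsConstructible ((EtCoh.pull (Sigma.ι g i)).obj G)) :
    EtPBC.IsConstructible G := by
  refine Strata.S0129_main G (fun i => (Sigma.ι g i).opensRange) ?_ ?_
  · exact (sigmaOpenCover g).iSup_opensRange
  · intro i
    let e := (Sigma.ι g i).isoOpensRange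
    haveI := Groth.Agent.H7.GT.S101_main e.hom
    haveI : IsAffine (Sigma.ι g i).opensRange.toScheme := IsAffine.of_isIso e.inv
    refine (S0135_main e.hom _).2 ?_
    have w : e.hom ≫ (Sigma.ι g i).opensRange.ι = Sigma.ι g i :=
      Scheme.Hom.isoOpensRange_hom_ι _
    have h1 := h i
    rw [← w] at h1
    exact Groth.Agent.H2.SubFLC.isConstructible_of_iso ((pullCompIsoAb e.hom _).app G) h1

theorem isConstructible_of_pull_lofp {X Y : Scheme.{u}} (f : X ⟶ Y) [Surjective f]
    [LocallyOfFinitePresentation f] (F : EtCoh.Ab Y)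
    (h : EtPBC.IsConstructible ((EtCoh.pull f).obj F)) : EtPBC.IsConstructible F := by
  refine Strata.S0129_main F (fun W : Y.affineOpens => W.1) (iSup_affineOpens_eq_top Y) ?_
  rintro ⟨W, hW⟩
  change EtPBC.IsConstructible ((EtCoh.pull W.ι).obj F)
  haveI : IsAffine W.toScheme := hW
  let I := {V : X.affineOpens // V.1 ≤ f ⁻¹ᵁ W}
  let gV : ∀ V : I, V.1.1.toScheme ⟶ W.toScheme := fun V => f.resLE W V.1.1 V.2
  have hcons : ∀ V : I, IsConstructible (Set.range (gV V)) := by
    intro V
    haveI : IsAffine V.1.1.toScheme := V.1.2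
    haveI : QuasiCompact (gV V) :=
      (HasAffineProperty.iff_of_isAffine (P := @QuasiCompact)).mpr
        (inferInstance : CompactSpace V.1.1.toScheme)
    rw [← Set.image_univ]
    exact (gV V).isConstructible_image IsConstructible.univ
  have hcov : ∀ w : W.toScheme, ∃ V : I, w ∈ Set.range (gV V) := by
    intro w
    obtain ⟨x, hx⟩ := f.surjective w.1
    have hxW : x ∈ f ⁻¹ᵁ W := by
      change f x ∈ W
      rw [hx]
      exact w.2
    obtain ⟨_, ⟨V, hV, rfl⟩, hxV, hVW⟩ :=
      X.isBasis_affineOpens.exists_subset_of_mem_open hxW (f ⁻¹ᵁ W).2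
    refine ⟨⟨⟨V, hV⟩, hVW⟩, ⟨x, hxV⟩, ?_⟩
    apply Subtype.ext
    have h1 := congrArg (fun q => q.base (⟨x, hxV⟩ : Scheme.Opens.toScheme (X := X) V))
      (Scheme.Hom.resLE_comp_ι f (U := W) (V := V) hVW)
    exact h1.trans hx
  obtain ⟨s, hs⟩ := exists_finset_cover_of_isConstructible
    (fun V : I => Set.range (gV V)) hcons hcov
  let T : s → Scheme.{u} := fun V => V.1.1.1.toScheme
  haveI : ∀ V, IsAffine (T V) := fun V => V.1.1.2
  let g : ∐ T ⟶ W.toScheme := Sigma.desc (fun V => gV V.1)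
  haveI : Surjective g := ⟨fun w => by
    obtain ⟨V, hVs, y, hy⟩ := hs w
    refine ⟨Sigma.ι T ⟨V, hVs⟩ y, ?_⟩
    rw [← Scheme.Hom.comp_apply, Sigma.ι_desc]
    exact hy⟩
  haveI := Groth.Agent.H7.GT.S101_main g
  refine isConstructible_of_pull g _ ?_
  refine isConstructible_sigma T _ fun V => ?_
  have w : Sigma.ι T V ≫ g ≫ W.ι = V.1.1.1.ι ≫ f := by
    rw [Sigma.ι_desc_assoc]
    exact Scheme.Hom.resLE_comp_ι f _
  haveI := Groth.Agent.H7.GT.S101_main V.1.1.1.ι
  have h1 := S0127_main V.1.1.1.ι _ h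
  have h2 : EtPBC.IsConstructible ((EtCoh.pull (V.1.1.1.ι ≫ f)).obj F) :=
    Groth.Agent.H2.SubFLC.isConstructible_of_iso ((pullCompIsoAb V.1.1.1.ι f).app F).symm h1
  rw [← w] at h2
  have h3 : EtPBC.IsConstructible ((EtCoh.pull (Sigma.ι T V)).obj
      ((EtCoh.pull (g ≫ W.ι)).obj F)) :=
    Groth.Agent.H2.SubFLC.isConstructible_of_iso ((pullCompIsoAb (Sigma.ι T V) (g ≫ W.ι)).app F) h2
  exact Groth.Agent.H2.SubFLC.isConstructible_of_iso
    ((EtCoh.pull (Sigma.ι T V)).mapIso ((pullCompIsoAb g W.ι).app F)) h3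

theorem S8546_main {X Y : Scheme.{u}} (f : X ⟶ Y) [Surjective f]
    [LocallyOfFinitePresentation f] (F : EtCoh.Ab Y) :
    EtPBC.IsConstructible F ↔ EtPBC.IsConstructible ((EtCoh.pull f).obj F) := by
  haveI := Groth.Agent.H7.GT.S101_main f
  exact ⟨fun h => S0127_main f F h, fun h => isConstructible_of_pull_lofp f F h⟩

end Groth.Agent.H2.SurjDesc
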