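import Mathlib
import Groth.Agent.Lib.Helper2.SyntCM4

/-! Syntomic-local properties of locally Noetherian schemes: the general pattern. -/

universe u
set_option linter.style.haveILetI false

open AlgebraicGeometry CategoryTheory

namespace Groth.Agent.H2.SyntCM

theorem main {ι : Type u} {S : Scheme.{u}} {X : ι → Scheme.{u}} (f : ∀ i, X i ⟶ S)
    (hsurj : ∀ s : S, ∃ i, s ∈ Set.range (f i).base) (hsyn : ∀ i, Synt.IsSyntomicMor (f i))
    (P : CommRingCat.{u} → Prop)
    (hP : ∀ (i : ι) (U : (X i).affineOpens) (V : S.affineOpens) (e : U.1 ≤ (f i) ⁻¹ᵁ V.1)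
      (x : X i) (_ : x ∈ U.1),
      (letI := ((f i).appLE V.1 U.1 e).hom.toAlgebra;
        Synt.IsSyntomic Γ(S, V.1) Γ((X i), U.1)) →
      IsNoetherianRing Γ(S, V.1) → IsNoetherianRing Γ((X i), U.1) →
      (P (S.presheaf.stalk ((f i) x)) ↔ P ((X i).presheaf.stalk x))) :
    (IsLocallyNoetherian S ∧ ∀ s : S, P (S.presheaf.stalk s)) ↔
      ∀ i, IsLocallyNoetherian (X i) ∧ ∀ x : X i, P ((X i).presheaf.stalk x) := by
  constructor
  · rintro ⟨hN, hS⟩ i
    have key : ∀ x : X i, ∃ U : (X i).affineOpens, x ∈ U.1 ∧ IsNoetherianRing Γ((X i), U.1) ∧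
        P ((X i).presheaf.stalk x) := by
      intro x
      obtain ⟨U, V, e, hx, hs⟩ := hsyn i x
      haveI hNV : IsNoetherianRing Γ(S, V.1) := IsLocallyNoetherian.component_noetherian V
      have hNU : IsNoetherianRing Γ((X i), U.1) := by
        letI := ((f i).appLE V.1 U.1 e).hom.toAlgebra
        exact isNoetherianRing_of_isSyntomic hs
      exact ⟨U, hx, hNU, (hP i U V e x hx hs hNV hNU).mp (hS _)⟩
    choose U hU1 hU2 hU3 using key
    refine ⟨isLocallyNoetherian_of_affine_cover (S := U) ?_ hU2, hU3⟩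
    exact eq_top_iff.mpr fun x _ => TopologicalSpace.Opens.mem_iSup.mpr ⟨x, hU1 x⟩
  · intro h
    have key1 : ∀ s : S, ∃ W : S.affineOpens, s ∈ W.1 ∧ IsNoetherianRing Γ(S, W.1) := by
      intro s
      obtain ⟨i, x, rfl⟩ := hsurj s
      obtain ⟨U, V, e, hx, hs⟩ := hsyn i x
      haveI := (h i).1
      haveI : IsNoetherianRing Γ((X i), U.1) := IsLocallyNoetherian.component_noetherian U
      exact chart_exists_noetherian (f i) e x hx hs
    choose W hW1 hW2 using key1
    have hN : IsLocallyNoetherian S := by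
      refine isLocallyNoetherian_of_affine_cover (S := W) ?_ hW2
      exact eq_top_iff.mpr fun s _ => TopologicalSpace.Opens.mem_iSup.mpr ⟨s, hW1 s⟩
    refine ⟨hN, fun s => ?_⟩
    obtain ⟨i, x, rfl⟩ := hsurj s
    obtain ⟨U, V, e, hx, hs⟩ := hsyn i x
    haveI := (h i).1
    have hNU : IsNoetherianRing Γ((X i), U.1) := IsLocallyNoetherian.component_noetherian U
    have hNV : IsNoetherianRing Γ(S, V.1) := IsLocallyNoetherian.component_noetherian V
    exact (hP i U V e x hx hs hNV hNU).mpr ((h i).2 x)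

end Groth.Agent.H2.SyntCM
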