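import Groth.Agent.Lib.Lead.Taut

set_option autoImplicit false
universe u v
open LinTop Topology UniformSpace Filter

namespace Groth.Agent.H2.TautAdic

open Groth.Agent.LD.TT

theorem exists_fg_le_mem_map {A : Type u} [CommRing A] {B : Type v} [CommRing B] (φ : A →+* B)
    (I₁ : Ideal A) {u : B} (hu : u ∈ I₁.map φ) :
    ∃ 𝔞 : Ideal A, 𝔞.FG ∧ 𝔞 ≤ I₁ ∧ u ∈ 𝔞.map φ := by
  unfold Ideal.map at hu
  induction hu using Submodule.span_induction with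
  | mem x hx =>
    obtain ⟨a, ha, rfl⟩ := hx
    refine ⟨Ideal.span {a}, ⟨{a}, by simp⟩, ?_, ?_⟩
    · rw [Ideal.span_le]; simpa using ha
    · exact Ideal.mem_map_of_mem φ (Ideal.subset_span rfl)
  | zero => exact ⟨⊥, Submodule.fg_bot, bot_le, Ideal.zero_mem _⟩
  | add x y _ _ ihx ihy =>
    obtain ⟨a1, h1, h2, h3⟩ := ihx
    obtain ⟨a2, k1, k2, k3⟩ := ihy
    exact ⟨a1 ⊔ a2, Submodule.FG.sup h1 k1, sup_le h2 k2,
      Ideal.add_mem _ (Ideal.map_mono le_sup_left h3) (Ideal.map_mono le_sup_right k3)⟩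
  | smul c x _ ih =>
    obtain ⟨a1, h1, h2, h3⟩ := ih
    exact ⟨a1, h1, h2, Ideal.mul_mem_left _ c h3⟩

theorem S10170
    (A : Type u) [CommRing A] [UniformSpace A] [IsUniformAddGroup A] [IsTopologicalRing A] [IsLinearTopology A A] [T2Space A] [CompleteSpace A]
    (B : Type v) [CommRing B] [UniformSpace B] [IsUniformAddGroup B] [IsTopologicalRing B] (hB : LinTop.IsAdicRing B)
    (hJ : ∃ J : Ideal B, LinTop.IsIdealOfDefinition B J ∧ J.FG)
    (φ : A →+* B) (hφ : LinTop.IsTautFFlat φ) :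
    LinTop.IsAdicRing A ∧ ∃ I : Ideal A, LinTop.IsIdealOfDefinition A I ∧ I.FG := by
  obtain ⟨hpre, _, _⟩ := hB
  obtain ⟨J, ⟨hJopen, hJsmall⟩, hJfg⟩ := hJ
  haveI : IsLinearTopology B B := by
    obtain ⟨J₀, hJ₀⟩ := hpre
    exact isLinearTopology_of_isAdic hJ₀
  have hJpow : ∀ n : ℕ, IsOpen ((J ^ n : Ideal B) : Set B) := isOpen_pow_of_isPreadic hpre hJopen
  -- step 2
  obtain ⟨I₁, hI₁open, hI₁J⟩ := hφ.1.2.2 _ (open_ideal_mem_nhds hJopen)
  have hI₁J' : (I₁.map φ).closure ≤ J := hI₁J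
  -- step 3
  obtain ⟨m, hm0, hm⟩ := hJsmall _ (open_ideal_mem_nhds (K := (I₁.map φ).closure) (hφ.1.2.1 I₁ hI₁open))
  have hm' : J ^ m ≤ (I₁.map φ).closure := hm
  set K : Ideal B := J ^ m with hK
  have hKfg : K.FG := hJfg.pow
  have hKopen : ∀ n : ℕ, IsOpen ((K ^ n : Ideal B) : Set B) := fun n => by
    rw [hK, ← pow_mul]; exact hJpow _
  obtain ⟨s, h, hh⟩ := Submodule.fg_iff_exists_fin_generating_family.mp hKfg
  -- step 4
  have h4 : ∀ i : Fin s, ∃ 𝔞 : Ideal A, 𝔞.FG ∧ 𝔞 ≤ I₁ ∧ h i ∈ 𝔞.map φ ⊔ K ^ 2 := by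
    intro i
    have hi : h i ∈ K := by rw [← hh]; exact Submodule.subset_span ⟨i, rfl⟩
    have h5 : h i ∈ I₁.map φ ⊔ K ^ 2 := closure_le_sup_of_isOpen _ (hKopen 2) (hm' hi)
    obtain ⟨u, hu, v, hv, huv⟩ := Submodule.mem_sup.mp h5
    obtain ⟨𝔞, h1, h2, h3⟩ := exists_fg_le_mem_map φ I₁ hu
    refine ⟨𝔞, h1, h2, ?_⟩
    rw [← huv]
    exact Ideal.add_mem _ (Ideal.mem_sup_left h3) (Ideal.mem_sup_right hv)
  choose 𝔞s h𝔞fg h𝔞le h𝔞mem using h4
  set 𝔞 : Ideal A := ⨆ i, 𝔞s i with h𝔞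
  have h𝔞FG : 𝔞.FG := Submodule.fg_iSup _ h𝔞fg
  have h𝔞I₁ : 𝔞 ≤ I₁ := iSup_le h𝔞le
  have hK2 : K ≤ 𝔞.map φ ⊔ K ^ 2 := by
    have hK' : K = Ideal.span (Set.range h) := hh.symm
    conv_lhs => rw [hK']
    rw [Ideal.span_le]
    rintro _ ⟨i, rfl⟩
    have : (𝔞s i).map φ ⊔ K ^ 2 ≤ 𝔞.map φ ⊔ K ^ 2 :=
      sup_le_sup_right (Ideal.map_mono (le_iSup 𝔞s i)) _
    exact this (h𝔞mem i)
  -- step 5
  have hKN : ∀ N : ℕ, K ≤ 𝔞.map φ ⊔ K ^ (N + 1) := by
    intro N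
    induction N with
    | zero => rw [zero_add, pow_one]; exact le_sup_right
    | succ N ih =>
      have h6 : K ^ 2 ≤ 𝔞.map φ ⊔ K ^ (N + 2) := by
        rw [pow_two]
        calc K * K ≤ K * (𝔞.map φ ⊔ K ^ (N + 1)) := Ideal.mul_mono_right ih
          _ = K * 𝔞.map φ ⊔ K * K ^ (N + 1) := Ideal.mul_sup _ _ _
          _ ≤ 𝔞.map φ ⊔ K ^ (N + 2) := by
            refine sup_le_sup Ideal.mul_le_right ?_
            rw [← pow_succ']
      exact hK2.trans (sup_le le_sup_left h6)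
  have hKcl : K ≤ (𝔞.map φ).closure := by
    intro x hx
    apply mem_closure_of_forall_sup
    intro I' hI'
    obtain ⟨n, _, hn⟩ := hJsmall _ (open_ideal_mem_nhds hI')
    have h7 : K ^ (n + 1) ≤ I' := by
      intro y hy
      apply hn
      have : K ^ (n + 1) ≤ J ^ n := by
        rw [hK, ← pow_mul]
        exact Ideal.pow_le_pow_right (by nlinarith)
      exact this hy
    exact (sup_le_sup_left h7 _) (hKN n hx)
  -- step 6
  have h6a : ∀ n : ℕ, K ^ n ≤ ((𝔞 ^ n).map φ).closure := by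
    intro n
    rw [Ideal.map_pow]
    exact (Ideal.pow_right_mono hKcl n).trans (closure_pow_le _ n)
  have hopenB : ∀ n : ℕ, IsOpen ((((𝔞 ^ n).map φ).closure : Ideal B) : Set B) := fun n =>
    ideal_isOpen_mono (h6a n) (hKopen n)
  have h6b : ∀ n : ℕ, ((𝔞 ^ n).map φ).closure ≤ J ^ n := by
    intro n
    have h8 : (𝔞 ^ n).map φ ≤ J ^ n := by
      rw [Ideal.map_pow]
      refine Ideal.pow_right_mono ?_ n
      have h9 : I₁.map φ ≤ (I₁.map φ).closure := fun x hx => subset_closure hx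
      exact (Ideal.map_mono h𝔞I₁).trans (h9.trans hI₁J')
    intro x hx
    have := closure_mono (show (((𝔞 ^ n).map φ : Ideal B) : Set B) ⊆ (J ^ n : Ideal B) from h8) hx
    rwa [closure_eq_of_isOpen (hJpow n)] at this
  -- step 7
  have hopenA : ∀ n : ℕ, IsOpen (closure ((𝔞 ^ n : Ideal A) : Set A)) := by
    intro n
    obtain ⟨I₂, hI₂1, hI₂2⟩ := hφ.1.2.2 _ (open_ideal_mem_nhds (hopenB n))
    have hsub : I₂ ≤ (𝔞 ^ n).closure := by
      intro x hx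
      apply mem_closure_of_forall_sup
      intro I' hI'
      have hopen' : IsOpen ((𝔞 ^ n ⊔ I' : Ideal A) : Set A) := ideal_isOpen_mono le_sup_right hI'
      rw [← comap_closure_map_eq hφ hopen', Ideal.mem_comap]
      have h2 : ((𝔞 ^ n).map φ).closure ≤ ((𝔞 ^ n ⊔ I').map φ).closure :=
        closure_mono' (Ideal.map_mono le_sup_left)
      exact h2 (hI₂2 (subset_closure (Ideal.mem_map_of_mem φ hx)))
    exact ideal_isOpen_mono hsub hI₂1
  have hbasisA : ∀ U ∈ nhds (0 : A), ∃ n : ℕ, closure ((𝔞 ^ n : Ideal A) : Set A) ⊆ U := by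
    intro U hU
    obtain ⟨I', hI'1, hI'2⟩ := exists_open_ideal_subset hU
    obtain ⟨n, _, hn⟩ := hJsmall _ (open_ideal_mem_nhds (K := (I'.map φ).closure) (hφ.1.2.1 I' hI'1))
    refine ⟨n, ?_⟩
    have h3 : 𝔞 ^ n ≤ I' := by
      intro x hx
      rw [← comap_closure_map_eq hφ hI'1, Ideal.mem_comap]
      apply hn
      exact h6b n (subset_closure (Ideal.mem_map_of_mem φ hx))
    refine (closure_mono (show ((𝔞 ^ n : Ideal A) : Set A) ⊆ I' from h3)).trans ?_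
    rw [closure_eq_of_isOpen hI'1]
    exact hI'2
  have hadic : IsAdic 𝔞 := S10163' 𝔞 hopenA hbasisA h𝔞FG
  exact ⟨⟨⟨𝔞, hadic⟩, inferInstance, inferInstance⟩, 𝔞, IsAdic.isIdealOfDefinition hadic, h𝔞FG⟩

end Groth.Agent.H2.TautAdic
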