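import Groth.Agent.Lib.Helper2.Telescope1

/-!
# The telescope sequence `0 → ⨁ Fₙ → ⨁ Fₙ → colim F → 0`

Part 2: the colimit is the cokernel of `1 - shift`; short exactness.
-/

namespace Groth.Agent.H2.Telescope

open CategoryTheory Limits DerLim

universe v u
variable {A : Type u} [Category.{v} A] [Abelian A]
variable (F : ℕ ⥤ A) [HasCoproduct F.obj]

/-- the transition maps of a sequence -/
abbrev tr (n : ℕ) : F.obj n ⟶ F.obj (n + 1) := F.map (homOfLE (Nat.le_succ n))

variable {F} (c : Cocone F)

lemma one_sub_shiftMap_desc :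
    (𝟙 (∐ F.obj) - shiftMap F.obj (tr F)) ≫ Sigma.desc (fun n => c.ι.app n) = 0 := by
  apply Sigma.hom_ext
  intro n
  rw [Preadditive.sub_comp, Preadditive.comp_sub, Category.id_comp, comp_zero,
    ← Category.assoc, ι_shiftMap, Category.assoc, Sigma.ι_desc, Sigma.ι_desc, sub_eq_zero]
  exact (c.w (homOfLE (Nat.le_succ n))).symm

/-- a morphism killed by `1 - shift` defines a cocone -/
@[simps]
noncomputable def coconeOf {T : A} (g : ∐ F.obj ⟶ T)
    (hg : (𝟙 (∐ F.obj) - shiftMap F.obj (tr F)) ≫ g = 0) : Cocone F where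
  pt := T
  ι := NatTrans.ofSequence (fun n => Sigma.ι F.obj n ≫ g) (fun n => by
    change F.map _ ≫ Sigma.ι F.obj (n + 1) ≫ g = (Sigma.ι F.obj n ≫ g) ≫ 𝟙 T
    rw [Category.comp_id]
    have h : Sigma.ι F.obj n ≫ (𝟙 (∐ F.obj) - shiftMap F.obj (tr F)) ≫ g =
      Sigma.ι F.obj n ≫ 0 := by rw [hg]
    rw [Preadditive.sub_comp, Preadditive.comp_sub, Category.id_comp, comp_zero, sub_eq_zero,
      ← Category.assoc, ι_shiftMap, Category.assoc] at h
    exact h.symm)

variable {c} (hc : IsColimit c)

/-- a colimit of the sequence is a cokernel of `1 - shift` -/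
noncomputable def isColimitCokernelCofork :
    IsColimit (CokernelCofork.ofπ (Sigma.desc (fun n => c.ι.app n)) (one_sub_shiftMap_desc c)) :=
  CokernelCofork.IsColimit.ofπ _ _ (fun g hg => hc.desc (coconeOf g hg))
    (fun g hg => by
      apply Sigma.hom_ext
      intro n
      rw [← Category.assoc, Sigma.ι_desc]
      exact hc.fac (coconeOf g hg) n)
    (fun g hg m hm => by
      apply hc.hom_ext
      intro n
      refine Eq.trans ?_ (hc.fac (coconeOf g hg) n).symm
      change c.ι.app n ≫ m = Sigma.ι F.obj n ≫ g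
      rw [← hm, ← Category.assoc, Sigma.ι_desc])

end Groth.Agent.H2.Telescope

namespace Groth.Agent.H2.Telescope

open CategoryTheory Limits DerLim

universe v u
variable {A : Type u} [Category.{v} A] [Abelian A]
variable {F : ℕ ⥤ A} [HasCoproduct F.obj] {c : Cocone F} (hc : IsColimit c)
variable [HasColimitsOfShape ℕ A] [HasExactColimitsOfShape ℕ A]

include hc in
theorem shortExact_of_isColimit :
    (ShortComplex.mk _ _ (one_sub_shiftMap_desc c)).ShortExact := by
  have h := isColimitCokernelCofork hc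
  exact
    { exact := ShortComplex.exact_of_g_is_cokernel _ h
      mono_f := mono_one_sub_shiftMap F.obj (tr F)
      epi_g := epi_of_isColimit_cofork h }

theorem shortExact (F : ℕ ⥤ A) [HasCoproduct F.obj] :
    ∃ w : (𝟙 (∐ F.obj) - shiftMap F.obj (fun n => F.map (homOfLE (Nat.le_succ n)))) ≫
        Sigma.desc (fun n => colimit.ι F n) = 0,
      (ShortComplex.mk _ _ w).ShortExact :=
  ⟨one_sub_shiftMap_desc (colimit.cocone F), shortExact_of_isColimit (colimit.isColimit F)⟩

end Groth.Agent.H2.Telescope
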