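import Groth.Agent.Lib.Helper2.Telescope2

/-!
# Homological functors commuting with countable sums send homotopy colimits to colimits
-/

namespace Groth.Agent.H2.Telescope

open CategoryTheory Limits DerLim Pretriangulated

universe v v' u u'

section HasCoprod

variable {D : Type u} [Category.{v} D] {A : Type u'} [Category.{v'} A] (Φ : D ⥤ A)
  {J : Type*} (K : J → D) [HasCoproduct K] [PreservesColimit (Discrete.functor K) Φ]

include Φ in
lemma hasCoproduct_map : HasCoproduct (fun n => Φ.obj (K n)) := by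
  have : HasColimit (Discrete.functor K ⋙ Φ) :=
    ⟨⟨⟨_, isColimitOfPreserves Φ (colimit.isColimit (Discrete.functor K))⟩⟩⟩
  exact hasColimit_of_iso (Discrete.compNatIsoDiscrete K Φ).symm

end HasCoprod

section Functor

variable {D : Type u} [Category.{v} D] [Preadditive D]
  {A : Type u'} [Category.{v'} A] [Preadditive A]
  (Φ : D ⥤ A) [Φ.Additive]
  (K : ℕ → D) (f : ∀ n, K n ⟶ K (n + 1)) [HasCoproduct K] [HasCoproduct (fun n => Φ.obj (K n))]
  [PreservesColimit (Discrete.functor K) Φ]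

/-- the comparison isomorphism for a functor preserving the coproduct -/
noncomputable def ε : (∐ fun n => Φ.obj (K n)) ≅ Φ.obj (∐ K) :=
  (PreservesCoproduct.iso Φ K).symm

@[reassoc (attr := simp)]
lemma ι_ε_hom (n : ℕ) : Sigma.ι (fun n => Φ.obj (K n)) n ≫ (ε Φ K).hom = Φ.map (Sigma.ι K n) := by
  simp [ε]

lemma one_sub_shiftMap_ε :
    (𝟙 _ - shiftMap (fun n => Φ.obj (K n)) (fun n => Φ.map (f n))) ≫ (ε Φ K).hom =
      (ε Φ K).hom ≫ Φ.map (𝟙 _ - shiftMap K f) := by
  apply Sigma.hom_ext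
  intro n
  rw [Preadditive.sub_comp, Preadditive.comp_sub, Category.id_comp, ← Category.assoc,
    ← Category.assoc, ι_shiftMap, ι_ε_hom, Category.assoc, ι_ε_hom, ← Φ.map_comp, ← Φ.map_comp,
    ← Φ.map_sub]
  congr 1
  rw [Preadditive.comp_sub, Category.comp_id, ι_shiftMap]

end Functor

section

variable {D : Type u} [Category.{v} D] [Preadditive D]
  {A : Type u'} [Category.{v'} A] [Abelian A] [HasColimitsOfShape ℕ A]
  [HasExactColimitsOfShape ℕ A]
  (Φ : D ⥤ A) [Φ.Additive]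
  (K : ℕ → D) (f : ∀ n, K n ⟶ K (n + 1)) [HasCoproduct K] [HasCoproduct (fun n => Φ.obj (K n))]
  [PreservesColimit (Discrete.functor K) Φ]

lemma mono_map_one_sub_shiftMap : Mono (Φ.map (𝟙 _ - shiftMap K f)) := by
  have h := one_sub_shiftMap_ε Φ K f
  have h' : Φ.map (𝟙 _ - shiftMap K f) =
      (ε Φ K).inv ≫ (𝟙 _ - shiftMap (fun n => Φ.obj (K n)) (fun n => Φ.map (f n))) ≫
        (ε Φ K).hom := by
    rw [h, Iso.inv_hom_id_assoc]
  rw [h']
  have := mono_one_sub_shiftMap (fun n => Φ.obj (K n)) (fun n => Φ.map (f n))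
  infer_instance

end

section

variable {A : Type u'} [Category.{v'} A] [Abelian A] [HasColimitsOfShape ℕ A]
  (G : ℕ ⥤ A) [HasCoproduct G.obj] {X Y : A} (ε : ∐ G.obj ≅ X) (m : X ⟶ X) (p : X ⟶ Y)
  (w : m ≫ p = 0) (hcok : IsColimit (CokernelCofork.ofπ p w))
  (hm : (𝟙 _ - shiftMap G.obj (tr G)) ≫ ε.hom = ε.hom ≫ m)

include hcok hm in
lemma exists_iso_of_cokernel :
    ∃ e : colimit G ≅ Y, ∀ n, colimit.ι G n ≫ e.hom = Sigma.ι G.obj n ≫ ε.hom ≫ p := by
  have hcok₁ := isColimitCokernelCofork (colimit.isColimit G)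
  have hm' : m ≫ ε.inv = ε.inv ≫ (𝟙 _ - shiftMap G.obj (tr G)) := by
    rw [← cancel_mono ε.hom, Category.assoc, Category.assoc, Iso.inv_hom_id,
      Category.comp_id, hm, Iso.inv_hom_id_assoc]
  let π₁ : ∐ G.obj ⟶ colimit G := Sigma.desc (fun n => colimit.ι G n)
  have hπ₁ : (𝟙 _ - shiftMap G.obj (tr G)) ≫ π₁ = 0 := one_sub_shiftMap_desc (colimit.cocone G)
  have hπepi : Epi π₁ := epi_of_isColimit_cofork hcok₁
  have hpepi : Epi p := epi_of_isColimit_cofork hcok
  let a : colimit G ⟶ Y := hcok₁.desc (CokernelCofork.ofπ (ε.hom ≫ p) (by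
    rw [← Category.assoc, hm, Category.assoc, w, comp_zero]))
  have h1 : π₁ ≫ a = ε.hom ≫ p := Cofork.IsColimit.π_desc hcok₁
  let b : Y ⟶ colimit G := hcok.desc (CokernelCofork.ofπ (ε.inv ≫ π₁) (by
    rw [← Category.assoc, hm', Category.assoc, hπ₁, comp_zero]))
  have h2 : p ≫ b = ε.inv ≫ π₁ := Cofork.IsColimit.π_desc hcok
  refine ⟨⟨a, b, ?_, ?_⟩, fun n => ?_⟩
  · rw [← cancel_epi π₁, ← Category.assoc, h1, Category.assoc, h2, Iso.hom_inv_id_assoc,
      Category.comp_id]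
  · rw [← cancel_epi p, ← Category.assoc, h2, Category.assoc, h1,
      Iso.inv_hom_id_assoc, Category.comp_id]
  · change colimit.ι G n ≫ a = _
    have : colimit.ι G n = Sigma.ι G.obj n ≫ π₁ := (Sigma.ι_desc _ n).symm
    rw [this, Category.assoc, h1]

end

section

variable {A : Type u'} [Category.{v'} A] [Abelian A] [HasColimitsOfShape ℕ A]
  (K' : ℕ → A) (f' : ∀ n, K' n ⟶ K' (n + 1)) [HasCoproduct K'] {X Y : A} (ε : ∐ K' ≅ X)
  (m : X ⟶ X) (p : X ⟶ Y)
  (w : m ≫ p = 0) (hcok : IsColimit (CokernelCofork.ofπ p w))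
  (hm : (𝟙 _ - shiftMap K' f') ≫ ε.hom = ε.hom ≫ m)

include hcok hm in
lemma exists_iso_of_cokernel' :
    ∃ e : colimit (Functor.ofSequence f') ≅ Y,
      ∀ n, colimit.ι (Functor.ofSequence f') n ≫ e.hom = Sigma.ι K' n ≫ ε.hom ≫ p := by
  have htr : tr (Functor.ofSequence f') = f' := by
    funext n
    exact Functor.ofSequence_map_homOfLE_succ f' n
  have : HasCoproduct (Functor.ofSequence f').obj := ‹HasCoproduct K'›
  have hm' : (𝟙 _ - shiftMap (Functor.ofSequence f').obj (tr (Functor.ofSequence f'))) ≫ ε.hom =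
      ε.hom ≫ m := by
    rw [htr]
    exact hm
  exact exists_iso_of_cokernel (Functor.ofSequence f') ε m p w hcok hm'

end

variable {D : Type u} [Category.{v} D] [Preadditive D] [HasZeroObject D] [HasShift D ℤ]
  [∀ n : ℤ, (shiftFunctor D n).Additive] [Pretriangulated D]
  [HasColimitsOfShape (Discrete ℕ) D]
  {A : Type u'} [Category.{v'} A] [Abelian A] [HasColimitsOfShape ℕ A]
  [HasExactColimitsOfShape ℕ A]
  (H : D ⥤ A) [H.IsHomological] [PreservesColimitsOfShape (Discrete ℕ) H]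
  (K : ℕ → D) (f : ∀ n, K n ⟶ K (n + 1)) (L : D) (i : ∀ n, K n ⟶ L)

include H in
theorem exists_iso_of_isHocolim (hL : DerLim.IsHocolim K f L i) :
    ∃ e : colimit (Functor.ofSequence (fun n => H.map (f n))) ≅ H.obj L,
      ∀ n : ℕ, colimit.ι (Functor.ofSequence (fun n => H.map (f n))) n ≫ e.hom = H.map (i n) := by
  obtain ⟨c, hT⟩ := hL
  -- exactness of `H` on the triangle and its rotations
  have ex1 := H.map_distinguished_exact _ hT
  have ex2 := H.map_distinguished_exact _ (rot_of_distTriang _ hT)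
  have ex3 := H.map_distinguished_exact _ (rot_of_distTriang _ (rot_of_distTriang _ hT))
  -- `H` of the shifted `1 - shift` is a monomorphism
  have hmono : Mono (H.map ((𝟙 (∐ K) - shiftMap K f)⟦(1 : ℤ)⟧')) := by
    have := hasCoproduct_map (shiftFunctor D (1 : ℤ) ⋙ H) K
    exact mono_map_one_sub_shiftMap (shiftFunctor D (1 : ℤ) ⋙ H) K f
  have hc : H.map c = 0 := by
    have h0 : H.map c ≫ H.map (-(𝟙 (∐ K) - shiftMap K f)⟦(1 : ℤ)⟧') = 0 := by
      rw [← H.map_comp]
      have : c ≫ (-(𝟙 (∐ K) - shiftMap K f)⟦(1 : ℤ)⟧') = 0 :=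
        comp_distTriang_mor_zero₁₂ _ (rot_of_distTriang _ (rot_of_distTriang _ hT))
      rw [this, H.map_zero]
    rw [H.map_neg, Preadditive.comp_neg, neg_eq_zero] at h0
    rw [← cancel_mono (H.map ((𝟙 (∐ K) - shiftMap K f)⟦(1 : ℤ)⟧')), h0, zero_comp]
  have hepi : Epi (H.map (Sigma.desc i)) := (ShortComplex.exact_iff_epi _ hc).1 ex2
  have := hasCoproduct_map H K
  have hz : H.map (𝟙 _ - shiftMap K f) ≫ H.map (Sigma.desc i) = 0 := by
    rw [← H.map_comp]
    have : (𝟙 _ - shiftMap K f) ≫ Sigma.desc i = 0 := comp_distTriang_mor_zero₁₂ _ hT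
    rw [this, H.map_zero]
  have : Epi ((shortComplexOfDistTriangle _ hT).map H).g := hepi
  have hcok₂ : IsColimit (CokernelCofork.ofπ (H.map (Sigma.desc i)) hz) := ex1.gIsCokernel
  obtain ⟨e, he⟩ := exists_iso_of_cokernel' (fun n => H.obj (K n)) (fun n => H.map (f n))
    (ε H K) _ _ hz hcok₂ (one_sub_shiftMap_ε H K f)
  refine ⟨e, fun n => ?_⟩
  rw [he n, ι_ε_hom_assoc, ← H.map_comp, Sigma.ι_desc]

end Groth.Agent.H2.Telescope
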