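import Groth.Agent.Lib.Lead.QC.TwistEquiv
import Groth.Agent.Lib.Lead.QC.PullInv
import Groth.Agent.Lib.Lead.QC.FreeData
import Groth.Agent.Lib.Helper5.Glue.F
import Groth.Agent.Lib.Helper2.ParaFD
import Groth.Prelude.Def_ThetaK

/-!
# Translation of an invertible module by a point: the module on the base (helper2)
-/

set_option autoImplicit false
set_option linter.style.haveILetI false
universe u

open CategoryTheory CategoryTheory.Limits AlgebraicGeometry Opposite TopologicalSpace
open MonoidalCategory CartesianMonoidalCategory MonObj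

namespace Groth.Agent.H2.ThetaA

open Groth.Agent.LD.QC Groth.Agent.LD

section General
variable {Y : Scheme.{u}}

/-- if `A ⊗ B ≅ C` with `A`, `C` invertible then `B` is invertible. -/
theorem isInvertible_of_tensor_iso_invertible {A B C : Y.Modules} (hA : PicF.IsInvertible A)
    (hC : PicF.IsInvertible C) (h : CohB1.tensorMod A B ≅ C) : PicF.IsInvertible B := by
  obtain ⟨C', hC', ⟨c⟩⟩ := Groth.Agent.H5.Glue.exists_inverse C hC
  have iso1 : CohB1.tensorMod (CohB1.tensorMod A B) C' ≅ unitMod Y :=
    tensorIso' h (Iso.refl C') ≪≫ c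
  have ε : CohB1.tensorMod A (CohB1.tensorMod B C') ≅ unitMod Y :=
    (twFComp B C').app A ≪≫ iso1
  have hBC' : PicF.IsInvertible (CohB1.tensorMod B C') := isInvertible_of_tensor_iso hA ε
  have c' : CohB1.tensorMod C' C ≅ unitMod Y := tensorCommGen C' C ≪≫ c
  have e : B ≅ CohB1.tensorMod (CohB1.tensorMod B C') C :=
    (SecTwist.unitorR B).symm ≪≫ tensorIso' (Iso.refl B) c'.symm ≪≫ (twFComp C' C).app B
  exact isInvertible_of_iso e.symm (isInvertible_tensorMod hBC' hC)

/-- pullbacks along equal morphisms. -/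
theorem nonempty_pullback_iso_of_eq {Y' : Scheme.{u}} {a b : Y' ⟶ Y} (hab : a = b)
    (N : Y.Modules) :
    Nonempty ((Scheme.Modules.pullback a).obj N ≅ (Scheme.Modules.pullback b).obj N) := by
  subst hab; exact ⟨Iso.refl _⟩

/-- invertible modules on the spectrum of a field are trivial. -/
theorem picTrivial_field (k : Type u) [Field k] : ParaF.PicTrivial (Spec (CommRingCat.of k)) := by
  have key : ∀ z₀ : PrimeSpectrum k, ∀ W : (Spec (CommRingCat.of k)).Opens,
      (show (Spec (CommRingCat.of k) : Scheme.{u}) from z₀) ∈ W → W = ⊤ := by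
    intro z₀ W hz
    ext y
    constructor
    · intro _; trivial
    · intro _
      have : (show PrimeSpectrum k from y) = z₀ := Subsingleton.elim _ _
      rw [this]; exact hz
  exact ParaFK.picTrivial_of_local (default : PrimeSpectrum k) (key default)

end General

section Main
variable (k : Type u) [Field k] (X : Over (Spec (CommRingCat.of k))) [GrpObj X]

set_option maxHeartbeats 800000 in
/-- **S19767** -/
theorem s19767 (L : X.left.Modules) (hL : PicF.IsInvertible L)
    (T : Over (Spec (CommRingCat.of k))) (x : T ⟶ X) (M : T.left.Modules)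
    (h : Nonempty (CohB1.tensorMod ((Scheme.Modules.pullback (fst X T).left).obj L)
          ((Scheme.Modules.pullback (snd X T).left).obj M) ≅
        (Scheme.Modules.pullback (ThetaGrp.transl X x ≫ fst X T).left).obj L)) :
    Nonempty (M ≅ (Scheme.Modules.pullback x.left).obj L) := by
  obtain ⟨h⟩ := h
  let p₁ := (fst X T).left
  let p₂ := (snd X T).left
  let m' := (ThetaGrp.transl X x ≫ fst X T).left
  let A := (Scheme.Modules.pullback p₁).obj L
  let B := (Scheme.Modules.pullback p₂).obj M
  let C := (Scheme.Modules.pullback m').obj L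
  have hA : PicF.IsInvertible A := isInvertible_pullback p₁ hL
  have hC : PicF.IsInvertible C := isInvertible_pullback m' hL
  have hB : PicF.IsInvertible B := isInvertible_of_tensor_iso_invertible hA hC h
  let e : T ⟶ X ⊗ T := lift (toUnit T ≫ η[X]) (𝟙 T)
  have he₁ : e ≫ fst X T = toUnit T ≫ η[X] := lift_fst _ _
  have he₂ : e ≫ snd X T = 𝟙 T := lift_snd _ _
  have he₃ : e ≫ ThetaGrp.transl X x ≫ fst X T = x := by
    rw [ThetaGrp.transl_fst, MonObj.comp_mul, he₁, ← Category.assoc, he₂, Category.id_comp,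
      ← Hom.one_def, _root_.one_mul]
  have hl₁ : e.left ≫ p₁ = T.hom ≫ (η[X]).left := congrArg (fun φ => φ.left) he₁
  have hl₂ : e.left ≫ p₂ = 𝟙 T.left := congrArg (fun φ => φ.left) he₂
  have hl₃ : e.left ≫ m' = x.left := congrArg (fun φ => φ.left) he₃
  obtain ⟨g1a⟩ := nonempty_pullback_iso_of_eq hl₁ L
  obtain ⟨triv⟩ := picTrivial_field k ((Scheme.Modules.pullback (η[X]).left).obj L)
    (isInvertible_pullback _ hL)
  have G1 : (Scheme.Modules.pullback e.left).obj A ≅ unitMod T.left :=
    (Scheme.Modules.pullbackComp e.left p₁).app L ≪≫ g1a ≪≫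
      ((Scheme.Modules.pullbackComp T.hom (η[X]).left).app L).symm ≪≫
      (Scheme.Modules.pullback T.hom).mapIso triv ≪≫ pbUnitIso T.hom
  obtain ⟨g2a⟩ := nonempty_pullback_iso_of_eq hl₂ M
  have G2 : (Scheme.Modules.pullback e.left).obj B ≅ M :=
    (Scheme.Modules.pullbackComp e.left p₂).app M ≪≫ g2a ≪≫
      (Scheme.Modules.pullbackId T.left).app M
  obtain ⟨g3a⟩ := nonempty_pullback_iso_of_eq hl₃ L
  have G3 : (Scheme.Modules.pullback e.left).obj C ≅ (Scheme.Modules.pullback x.left).obj L :=
    (Scheme.Modules.pullbackComp e.left m').app L ≪≫ g3a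
  exact ⟨(unitorL' M).symm ≪≫ tensorIso' G1.symm G2.symm ≪≫
    (pbTensorIso e.left A B hA hB).symm ≪≫
    (Scheme.Modules.pullback e.left).mapIso h ≪≫ G3⟩

end Main

end Groth.Agent.H2.ThetaA
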