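import Groth.Agent.Lib.Helper2.ThetaA
import Groth.Agent.Lib.Helper5.PicLaw.Hom

/-!
# The subscheme `K(L)` and translations: computations in the Picard group (helper2)
-/

set_option autoImplicit false
set_option linter.style.haveILetI false
universe u

open CategoryTheory CategoryTheory.Limits AlgebraicGeometry Opposite TopologicalSpace
open MonoidalCategory CartesianMonoidalCategory MonObj

namespace Groth.Agent.H2.ThetaA

open Groth.Agent.LD.QC Groth.Agent.LD Groth.Agent.H5.PicLaw

section Cls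
variable {Y Y' Y'' : Scheme.{u}}

/-- the class of a pullback along a composite. -/
theorem clsOf_pullback_comp (a : Y'' ⟶ Y') (b : Y' ⟶ Y) (L : Y.Modules)
    (hL : PicF.IsInvertible L) :
    clsOf ((Scheme.Modules.pullback (a ≫ b)).obj L) =
      pbHom a (clsOf ((Scheme.Modules.pullback b).obj L)) := by
  refine Eq.trans ?_ (pbHom_clsOf a _ (isInvertible_pullback b hL)).symm
  exact (clsOf_iso ((Scheme.Modules.pullbackComp a b).app L)
    (isInvertible_pullback a (isInvertible_pullback b hL))).symm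

/-- pullback of the class of a pullback. -/
theorem pbHom_clsOf_pullback (a : Y'' ⟶ Y') (b : Y' ⟶ Y) (c : Y'' ⟶ Y) (h : a ≫ b = c)
    (L : Y.Modules) (hL : PicF.IsInvertible L) :
    H5.PicLaw.pbHom a (clsOf ((Scheme.Modules.pullback b).obj L)) =
      clsOf ((Scheme.Modules.pullback c).obj L) := by
  subst h; exact (clsOf_pullback_comp a b L hL).symm

/-- the class of the pullback along the identity. -/
theorem clsOf_pullback_id (M : Y.Modules) (hM : PicF.IsInvertible M) :
    clsOf ((Scheme.Modules.pullback (𝟙 Y)).obj M) = clsOf M :=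
  clsOf_iso ((Scheme.Modules.pullbackId Y).app M) (isInvertible_pullback (𝟙 Y) hM)

/-- the class of a pullback only depends on the morphism. -/
theorem clsOf_pullback_congr {a b : Y' ⟶ Y} (hab : a = b) (L : Y.Modules) :
    clsOf ((Scheme.Modules.pullback a).obj L) = clsOf ((Scheme.Modules.pullback b).obj L) := by
  subst hab; rfl

end Cls

section Grp
variable {k : Type u} [Field k] (X : Over (Spec (CommRingCat.of k))) [GrpObj X]

/-- the restricted multiplication `(a, t) ↦ a · x(t)` is the translation followed by the first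
projection. -/
theorem whisker_mul {T : Over (Spec (CommRingCat.of k))} (x : T ⟶ X) :
    (X ◁ x) ≫ μ[X] = ThetaGrp.transl X x ≫ fst X T := by
  rw [ThetaGrp.transl_fst, Hom.mul_def]
  congr 1

/-- the class of the pullback of an invertible module along a morphism through the unit section is
trivial. -/
theorem clsOf_pullback_unit {T : Over (Spec (CommRingCat.of k))}
    (L : X.left.Modules) (hL : PicF.IsInvertible L) :
    clsOf ((Scheme.Modules.pullback (toUnit T ≫ η[X]).left).obj L) = 1 := by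
  obtain ⟨triv⟩ := picTrivial_field k ((Scheme.Modules.pullback (η[X]).left).obj L)
    (isInvertible_pullback _ hL)
  have G1 : (Scheme.Modules.pullback (toUnit T ≫ η[X]).left).obj L ≅ unitMod T.left :=
    ((Scheme.Modules.pullbackComp T.hom (η[X]).left).app L).symm ≪≫
      (Scheme.Modules.pullback T.hom).mapIso triv ≪≫ pbUnitIso T.hom
  exact (clsOf_eq_one_iff (isInvertible_pullback _ hL)).mpr ⟨G1⟩

end Grp

theorem comm_aux1 {G : Type*} [CommGroup G] (a s t : G) : a * (s * t) = s * a * t := by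
  rw [_root_.mul_comm s a, _root_.mul_assoc]

theorem comm_aux2 {G : Type*} [CommGroup G] (s t a : G) : s * t⁻¹ * a * t = a * s := by
  rw [_root_.mul_comm (s * t⁻¹) a, _root_.mul_assoc, inv_mul_cancel_right]

section Main
variable {k : Type u} [Field k] (X : Over (Spec (CommRingCat.of k))) [GrpObj X]
  (L : X.left.Modules) (hL : PicF.IsInvertible L)

set_option maxHeartbeats 800000 in
include hL in
/-- **S19766** -/
theorem s19766 {K : Over (Spec (CommRingCat.of k))} (i : K ⟶ X) (hK : ThetaGrp.IsKL X L i)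
    (T : Over (Spec (CommRingCat.of k))) (x : T ⟶ X) :
    (∃ y : T ⟶ K, y ≫ i = x) ↔ ∃ M : T.left.Modules, PicF.IsInvertible M ∧
      Nonempty (CohB1.tensorMod ((Scheme.Modules.pullback (fst X T).left).obj L)
          ((Scheme.Modules.pullback (snd X T).left).obj M) ≅
        (Scheme.Modules.pullback (ThetaGrp.transl X x ≫ fst X T).left).obj L) := by
  rw [← hK.univ T x]
  let p₁ := (fst X T).left
  let p₂ := (snd X T).left
  let m' := (ThetaGrp.transl X x ≫ fst X T).left
  have hA : PicF.IsInvertible ((Scheme.Modules.pullback p₁).obj L) := isInvertible_pullback p₁ hL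
  have hC : PicF.IsInvertible ((Scheme.Modules.pullback m').obj L) := isInvertible_pullback m' hL
  let Q := (Scheme.Modules.pullback x.left).obj L
  have hQ : PicF.IsInvertible Q := isInvertible_pullback x.left hL
  have hqi : PicF.IsInvertible ((Scheme.Modules.pullback (snd X T ≫ x).left).obj L) :=
    isInvertible_pullback _ hL
  have hq : clsOf ((Scheme.Modules.pullback (snd X T ≫ x).left).obj L) = pbHom p₂ (clsOf Q) :=
    clsOf_pullback_comp p₂ x.left L hL
  have hmm : ((X ◁ x) ≫ μ[X]).left = m' := by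
    rw [whisker_mul X x]
  have hm : clsOf ((Scheme.Modules.pullback ((X ◁ x) ≫ μ[X]).left).obj L) =
      clsOf ((Scheme.Modules.pullback m').obj L) := by
    rw [hmm]
  constructor
  · rintro ⟨M', hM', ⟨φ⟩⟩
    have hM'p := isInvertible_pullback p₂ hM'
    have h1 := clsOf_iso φ (isInvertible_tensorMod (isInvertible_tensorMod hM'p hA) hqi)
    rw [clsOf_tensor (isInvertible_tensorMod hM'p hA) hqi, clsOf_tensor hM'p hA, hq, hm,
      ← pbHom_clsOf p₂ M' hM'] at h1
    have hRp := isInvertible_pullback p₂ (isInvertible_rep (clsOf M' * clsOf Q))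
    refine ⟨rep (clsOf M' * clsOf Q), isInvertible_rep _, ?_⟩
    rw [← clsOf_eq_iff (isInvertible_tensorMod hA hRp) hC, clsOf_tensor hA hRp,
      ← pbHom_clsOf p₂ _ (isInvertible_rep _), clsOf_rep, map_mul, ← h1]
    exact comm_aux1 _ _ _
  · rintro ⟨M, hM, ⟨ψ⟩⟩
    have hMp := isInvertible_pullback p₂ hM
    have h1 := clsOf_iso ψ (isInvertible_tensorMod hA hMp)
    rw [clsOf_tensor hA hMp, ← pbHom_clsOf p₂ M hM] at h1
    have hRp := isInvertible_pullback p₂ (isInvertible_rep (clsOf M * (clsOf Q)⁻¹))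
    refine ⟨rep (clsOf M * (clsOf Q)⁻¹), isInvertible_rep _, ?_⟩
    change Nonempty (_ ≅ _)
    rw [← clsOf_eq_iff (isInvertible_tensorMod (isInvertible_tensorMod hRp hA) hqi)
        (isInvertible_pullback _ hL),
      clsOf_tensor (isInvertible_tensorMod hRp hA) hqi, clsOf_tensor hRp hA, hq, hm,
      ← pbHom_clsOf p₂ _ (isInvertible_rep _), clsOf_rep, map_mul, map_inv, ← h1]
    exact comm_aux2 _ _ _

set_option maxHeartbeats 800000 in
include hL in
/-- **S19768** -/
theorem s19768 {K : Over (Spec (CommRingCat.of k))} (i : K ⟶ X) (hK : ThetaGrp.IsKL X L i) :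
    AgPol.IsLambdaSheaf ((X ◁ i) ≫ μ[X]).left (fst X K).left (snd X K ≫ i).left L
      (Coh.structureModule (X ⊗ K).left) := by
  obtain ⟨M', hM', ⟨φ⟩⟩ := (hK.univ K i).mpr ⟨𝟙 K, Category.id_comp i⟩
  let p₁ := (fst X K).left
  let p₂ := (snd X K).left
  let m := ((X ◁ i) ≫ μ[X]).left
  let q := (snd X K ≫ i).left
  have hA : PicF.IsInvertible ((Scheme.Modules.pullback p₁).obj L) := isInvertible_pullback p₁ hL
  have hqi : PicF.IsInvertible ((Scheme.Modules.pullback q).obj L) := isInvertible_pullback q hL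
  have hmi : PicF.IsInvertible ((Scheme.Modules.pullback m).obj L) := isInvertible_pullback m hL
  have hM'p := isInvertible_pullback p₂ hM'
  have h1 := clsOf_iso φ (isInvertible_tensorMod (isInvertible_tensorMod hM'p hA) hqi)
  rw [clsOf_tensor (isInvertible_tensorMod hM'p hA) hqi, clsOf_tensor hM'p hA] at h1
  -- the unit section
  let e : K ⟶ X ⊗ K := lift (toUnit K ≫ η[X]) (𝟙 K)
  have he₁ : e ≫ fst X K = toUnit K ≫ η[X] := lift_fst _ _
  have he₂ : e ≫ snd X K = 𝟙 K := lift_snd _ _
  have he₃ : e ≫ (X ◁ i) ≫ μ[X] = i := by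
    rw [whisker_mul X i, ThetaGrp.transl_fst, MonObj.comp_mul, he₁, ← Category.assoc, he₂,
      Category.id_comp, ← Hom.one_def, _root_.one_mul]
  have he₄ : e ≫ snd X K ≫ i = i := by rw [← Category.assoc, he₂, Category.id_comp]
  have hl₁ : e.left ≫ p₁ = (toUnit K ≫ η[X]).left := congrArg (fun ψ => ψ.left) he₁
  have hl₂ : e.left ≫ p₂ = 𝟙 K.left := congrArg (fun ψ => ψ.left) he₂
  have hl₃ : e.left ≫ m = i.left := congrArg (fun ψ => ψ.left) he₃
  have hl₄ : e.left ≫ q = i.left := congrArg (fun ψ => ψ.left) he₄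
  have h2 := congrArg (H5.PicLaw.pbHom e.left) h1
  rw [map_mul, map_mul, pbHom_clsOf_pullback e.left p₁ _ hl₁ L hL, clsOf_pullback_unit X L hL,
    pbHom_clsOf_pullback e.left q _ hl₄ L hL, pbHom_clsOf_pullback e.left m _ hl₃ L hL,
    pbHom_clsOf_pullback e.left p₂ _ hl₂ M' hM', clsOf_pullback_id M' hM', _root_.mul_one,
    mul_eq_right] at h2
  -- so `M'` is trivial
  have h3 : clsOf ((Scheme.Modules.pullback p₂).obj M') = 1 := by
    rw [← pbHom_clsOf p₂ M' hM', h2, map_one]
  rw [h3] at h1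
  change Nonempty (_ ≅ _)
  have hO : PicF.IsInvertible (Coh.structureModule (X ⊗ K).left) := isInvertible_unit _
  rw [← clsOf_eq_iff (isInvertible_tensorMod (isInvertible_tensorMod hO hA) hqi) hmi,
    clsOf_tensor (isInvertible_tensorMod hO hA) hqi, clsOf_tensor hO hA, clsOf_unit]
  exact h1

set_option maxHeartbeats 800000 in
include hL in
/-- **S19770** -/
theorem s19770 {K : Over (Spec (CommRingCat.of k))} (i : K ⟶ X) (hK : ThetaGrp.IsKL X L i)
    (B : Over (Spec (CommRingCat.of k))) [GrpObj B] (j : B ⟶ X) [IsMonHom j]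
    (hj : ∃ y : B ⟶ K, y ≫ i = j) :
    Nonempty (CohB1.tensorMod ((Scheme.Modules.pullback j.left).obj L)
        ((Scheme.Modules.pullback ((𝟙 B)⁻¹ ≫ j).left).obj L) ≅ Coh.structureModule B.left) := by
  obtain ⟨y, hy⟩ := hj
  obtain ⟨φ⟩ := s19768 X L hL i hK
  let p₁ := (fst X K).left
  let m := ((X ◁ i) ≫ μ[X]).left
  let q := (snd X K ≫ i).left
  have hA : PicF.IsInvertible ((Scheme.Modules.pullback p₁).obj L) := isInvertible_pullback p₁ hL
  have hqi : PicF.IsInvertible ((Scheme.Modules.pullback q).obj L) := isInvertible_pullback q hL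
  have hO : PicF.IsInvertible (Coh.structureModule (X ⊗ K).left) := isInvertible_unit _
  have h1 := clsOf_iso φ (isInvertible_tensorMod (isInvertible_tensorMod hO hA) hqi)
  rw [clsOf_tensor (isInvertible_tensorMod hO hA) hqi, clsOf_tensor hO hA, clsOf_unit,
    _root_.one_mul] at h1
  let ψ : B ⟶ X ⊗ K := lift j ((𝟙 B)⁻¹ ≫ y)
  have hψ₁ : ψ ≫ fst X K = j := lift_fst _ _
  have hψ₂ : ψ ≫ snd X K ≫ i = (𝟙 B)⁻¹ ≫ j := by
    rw [← Category.assoc, lift_snd, Category.assoc, hy]
  have hψ₃ : ψ ≫ (X ◁ i) ≫ μ[X] = toUnit B ≫ η[X] := by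
    rw [whisker_mul X i, ThetaGrp.transl_fst, MonObj.comp_mul, hψ₁, hψ₂]
    have h4 : j * ((𝟙 B)⁻¹ ≫ j) = (𝟙 B * (𝟙 B)⁻¹) ≫ j := by
      rw [MonObj.mul_comp, Category.id_comp]
    rw [h4, mul_inv_cancel, MonObj.one_comp, Hom.one_def]
  have hl₁ : ψ.left ≫ p₁ = j.left := congrArg (fun χ => χ.left) hψ₁
  have hl₂ : ψ.left ≫ q = ((𝟙 B)⁻¹ ≫ j).left := congrArg (fun χ => χ.left) hψ₂
  have hl₃ : ψ.left ≫ m = (toUnit B ≫ η[X]).left := congrArg (fun χ => χ.left) hψ₃
  have h2 := congrArg (H5.PicLaw.pbHom ψ.left) h1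
  rw [map_mul, pbHom_clsOf_pullback ψ.left p₁ _ hl₁ L hL,
    pbHom_clsOf_pullback ψ.left q _ hl₂ L hL, pbHom_clsOf_pullback ψ.left m _ hl₃ L hL,
    clsOf_pullback_unit X L hL] at h2
  have hj1 := isInvertible_pullback j.left hL
  have hj2 := isInvertible_pullback ((𝟙 B)⁻¹ ≫ j).left hL
  rw [← clsOf_eq_one_iff (isInvertible_tensorMod hj1 hj2), clsOf_tensor hj1 hj2]
  exact h2

end Main

end Groth.Agent.H2.ThetaA
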