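import Groth.Agent.Lib.Helper2.ThetaB
import Groth.Agent.Lib.Helper2.TransInvD
import Groth.Prelude.Def_ThetaGrp

/-!
# `K(L)` is a subgroup functor (helper2)
-/

set_option autoImplicit false
set_option linter.style.haveILetI false
universe u

open CategoryTheory CategoryTheory.Limits AlgebraicGeometry Opposite TopologicalSpace
open MonoidalCategory CartesianMonoidalCategory MonObj

namespace Groth.Agent.H2.ThetaA

open Groth.Agent.LD.QC Groth.Agent.LD Groth.Agent.H5.PicLaw Groth.Agent.H2.TransInv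

section Cls
variable {Y : Scheme.{u}}

theorem pbHom_id_apply (z : PicLoc.PicSet Y) : H5.PicLaw.pbHom (𝟙 Y) z = z := by
  rw [← clsOf_rep z, pbHom_clsOf (𝟙 Y) _ (isInvertible_rep z),
    clsOf_pullback_id _ (isInvertible_rep z)]

end Cls

section Main
variable {k : Type u} [Field k] (X : Over (Spec (CommRingCat.of k))) [GrpObj X]
  (L : X.left.Modules) (hL : PicF.IsInvertible L)

set_option maxHeartbeats 800000 in
include hL in
/-- the points of `K(L)`, in terms of the Picard group of `X × T`. -/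
theorem factors_iff {K : Over (Spec (CommRingCat.of k))} (i : K ⟶ X) (hK : ThetaGrp.IsKL X L i)
    (T : Over (Spec (CommRingCat.of k))) (x : T ⟶ X) :
    (∃ y : T ⟶ K, y ≫ i = x) ↔ ∃ c : PicLoc.PicSet T.left,
      clsOf ((Scheme.Modules.pullback (fst X T).left).obj L) * H5.PicLaw.pbHom (snd X T).left c =
        H5.PicLaw.pbHom (ThetaGrp.transl X x).left
          (clsOf ((Scheme.Modules.pullback (fst X T).left).obj L)) := by
  rw [s19766 X L hL i hK T x]
  have hA : PicF.IsInvertible ((Scheme.Modules.pullback (fst X T).left).obj L) :=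
    isInvertible_pullback _ hL
  have hC : PicF.IsInvertible
      ((Scheme.Modules.pullback (ThetaGrp.transl X x ≫ fst X T).left).obj L) :=
    isInvertible_pullback _ hL
  have hcomp : clsOf ((Scheme.Modules.pullback (ThetaGrp.transl X x ≫ fst X T).left).obj L) =
      H5.PicLaw.pbHom (ThetaGrp.transl X x).left
        (clsOf ((Scheme.Modules.pullback (fst X T).left).obj L)) :=
    clsOf_pullback_comp (ThetaGrp.transl X x).left (fst X T).left L hL
  constructor
  · rintro ⟨M, hM, ⟨φ⟩⟩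
    have hMp := isInvertible_pullback (snd X T).left hM
    have h1 := clsOf_iso φ (isInvertible_tensorMod hA hMp)
    rw [clsOf_tensor hA hMp, ← pbHom_clsOf _ M hM, hcomp] at h1
    exact ⟨clsOf M, h1⟩
  · rintro ⟨c, hc⟩
    have hRp := isInvertible_pullback (snd X T).left (isInvertible_rep c)
    refine ⟨rep c, isInvertible_rep c, ?_⟩
    rw [← clsOf_eq_iff (isInvertible_tensorMod hA hRp) hC, clsOf_tensor hA hRp,
      ← pbHom_clsOf _ _ (isInvertible_rep c), clsOf_rep, hcomp]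
    exact hc

/-- translations fix classes pulled back from `T`. -/
theorem pbHom_transl_snd {T : Over (Spec (CommRingCat.of k))} (x : T ⟶ X)
    (c : PicLoc.PicSet T.left) :
    H5.PicLaw.pbHom (ThetaGrp.transl X x).left (H5.PicLaw.pbHom (snd X T).left c) =
      H5.PicLaw.pbHom (snd X T).left c := by
  rw [← pbHom_comp_apply]
  have h : (ThetaGrp.transl X x).left ≫ (snd X T).left = (snd X T).left := by
    rw [← Over.comp_left, ThetaGrp.transl_snd]
  exact pbHom_congr h c

theorem pbHom_transl_mul {T : Over (Spec (CommRingCat.of k))} (x y : T ⟶ X)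
    (z : PicLoc.PicSet (X ⊗ T).left) :
    H5.PicLaw.pbHom (ThetaGrp.transl X (x * y)).left z =
      H5.PicLaw.pbHom (ThetaGrp.transl X x).left (H5.PicLaw.pbHom (ThetaGrp.transl X y).left z) := by
  rw [← pbHom_comp_apply]
  have h : (ThetaGrp.transl X (x * y)).left =
      (ThetaGrp.transl X x).left ≫ (ThetaGrp.transl X y).left := by
    rw [← Over.comp_left, ThetaGrp.transl_mul]
  exact pbHom_congr h z

theorem pbHom_transl_one {T : Over (Spec (CommRingCat.of k))}
    (z : PicLoc.PicSet (X ⊗ T).left) :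
    H5.PicLaw.pbHom (ThetaGrp.transl X (1 : T ⟶ X)).left z = z := by
  have h : (ThetaGrp.transl X (1 : T ⟶ X)).left = 𝟙 (X ⊗ T).left := by
    rw [ThetaGrp.transl_one]; rfl
  rw [pbHom_congr h z, pbHom_id_apply]

set_option maxHeartbeats 800000 in
include hL in
/-- **S19769** -/
theorem s19769 {K : Over (Spec (CommRingCat.of k))} (i : K ⟶ X) (hK : ThetaGrp.IsKL X L i)
    (T : Over (Spec (CommRingCat.of k))) :
    (∀ y₁ y₂ : T ⟶ K, ∃ y : T ⟶ K, y ≫ i = (y₁ ≫ i) * (y₂ ≫ i)) ∧
      (∃ y : T ⟶ K, y ≫ i = 1) ∧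
      (∀ y₁ : T ⟶ K, ∃ y : T ⟶ K, y ≫ i = (y₁ ≫ i)⁻¹) := by
  refine ⟨?_, ?_, ?_⟩
  · intro y₁ y₂
    obtain ⟨c₁, h₁⟩ := (factors_iff X L hL i hK T (y₁ ≫ i)).mp ⟨y₁, rfl⟩
    obtain ⟨c₂, h₂⟩ := (factors_iff X L hL i hK T (y₂ ≫ i)).mp ⟨y₂, rfl⟩
    refine (factors_iff X L hL i hK T _).mpr ⟨c₁ * c₂, ?_⟩
    rw [pbHom_transl_mul, ← h₂, map_mul, map_mul, pbHom_transl_snd, ← h₁, _root_.mul_assoc]
  · refine (factors_iff X L hL i hK T _).mpr ⟨1, ?_⟩
    rw [pbHom_transl_one, map_one, _root_.mul_one]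
  · intro y₁
    obtain ⟨c₁, h₁⟩ := (factors_iff X L hL i hK T (y₁ ≫ i)).mp ⟨y₁, rfl⟩
    refine (factors_iff X L hL i hK T _).mpr ⟨c₁⁻¹, ?_⟩
    have h2 := congrArg (H5.PicLaw.pbHom (ThetaGrp.transl X (y₁ ≫ i)⁻¹).left) h₁
    rw [← pbHom_transl_mul, inv_mul_cancel, pbHom_transl_one, map_mul, pbHom_transl_snd] at h2
    rw [map_inv]
    exact (_root_.eq_mul_inv_of_mul_eq h2).symm

end Main

end Groth.Agent.H2.ThetaA
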