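import Groth.Agent.Lib.Helper2.ThetaC
import Mathlib.CategoryTheory.FiberedCategory.Grothendieck

/-!
# Points of the theta group lying over a translation (helper2)

Bridge between automorphisms in the Grothendieck construction of the pseudofunctor of modules
and isomorphisms `L_T ≅ t_x^* L_T`.
-/

set_option autoImplicit false
set_option linter.style.haveILetI false
universe u

open CategoryTheory CategoryTheory.Limits AlgebraicGeometry Opposite TopologicalSpace
open MonoidalCategory CartesianMonoidalCategory MonObj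

namespace Groth.Agent.H2.ThetaD

open CategoryTheory.Pseudofunctor CategoryTheory.Pseudofunctor.CoGrothendieck

section General

theorem isIso_of_comp_eq {C : Type*} [Category C] {X Y Z W : C} (p : X ⟶ Y) (q : Y ⟶ Z)
    (i : X ⟶ W) (h : W = Z) (hq : IsIso q) (hi : IsIso i) (e : p ≫ q = i ≫ eqToHom h) :
    IsIso p := by
  have : p = (i ≫ eqToHom h) ≫ inv q := (IsIso.eq_comp_inv q).mpr e
  rw [this]; infer_instance

theorem mono_map_of_comp_eq {C D : Type*} [Category C] [Category D] (G : C ⥤ D) {X Y Z W : C}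
    (p : X ⟶ Y) (q : Y ⟶ Z) (i : X ⟶ W) (h : W = Z) (hi : IsIso i)
    (e : p ≫ q = i ≫ eqToHom h) : Mono (G.map p) := by
  haveI : IsIso (i ≫ eqToHom h) := by infer_instance
  haveI : IsIso (G.map p ≫ G.map q) := by rw [← G.map_comp, e]; infer_instance
  exact mono_of_mono (G.map p) (G.map q)

theorem isIso_of_isIso_comp_of_mono {C : Type*} [Category C] {X Y Z : C} (p : X ⟶ Y) (g : Y ⟶ Z)
    (h : IsIso (p ≫ g)) (hg : Mono g) : IsIso p := by
  haveI : IsSplitEpi g := IsSplitEpi.mk' ⟨inv (p ≫ g) ≫ p, by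
    rw [Category.assoc, IsIso.inv_hom_id]⟩
  haveI : IsIso g := isIso_of_mono_of_isSplitEpi g
  exact IsIso.of_isIso_comp_right p g

universe v₁ u₁ v₂ u₂
variable {𝒮 : Type u₁} [Category.{v₁} 𝒮] {F : Pseudofunctor (LocallyDiscrete 𝒮ᵒᵖ) Cat.{v₂, u₂}}

/-- the fibre component of an isomorphism of the Grothendieck construction is an isomorphism. -/
theorem isIso_fiber_of_isIso {a b : ∫ᶜ F} (f : a ⟶ b) [IsIso f] : IsIso f.fiber := by
  have h1 := Hom.congr (IsIso.hom_inv_id f)
  have h2 := Hom.congr (IsIso.inv_hom_id f)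
  rw [categoryStruct_comp_fiber, categoryStruct_id_fiber] at h1 h2
  have i1 : IsIso ((F.mapId ⟨op a.base⟩).inv.toNatTrans.app a.fiber) := inferInstance
  have i2 : IsIso ((F.mapComp (inv f).base.op.toLoc f.base.op.toLoc).inv.toNatTrans.app a.fiber) :=
    inferInstance
  have i3 : IsIso ((F.mapId ⟨op b.base⟩).inv.toNatTrans.app b.fiber) := inferInstance
  have hm := mono_map_of_comp_eq (F.map f.base.op.toLoc).toFunctor _ _ _ _ i3 h2
  rw [← Category.assoc] at h1
  have hi := isIso_of_comp_eq _ _ _ _ i2 i1 h1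
  exact isIso_of_isIso_comp_of_mono _ _ hi hm

/-- an automorphism of the Grothendieck construction with prescribed base isomorphism, from an
isomorphism of the fibre. -/
theorem exists_aut_of_iso {X : 𝒮} (M : F.obj ⟨op X⟩) (t : X ⟶ X) [IsIso t]
    (φ : M ≅ (F.map t.op.toLoc).toFunctor.obj M) :
    ∃ α : Aut (⟨X, M⟩ : ∫ᶜ F), α.hom.base = t := by
  let c : (⟨X, (F.map t.op.toLoc).toFunctor.obj M⟩ : ∫ᶜ F) ⟶ ⟨X, M⟩ := cartesianLift M t
  haveI : Functor.IsStronglyCartesian (forget F) t c := isStronglyCartesian_homCartesianLift M t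
  haveI : IsIso c := Functor.IsStronglyCartesian.isIso_of_base_isIso (forget F) t c
  let m : (⟨X, M⟩ : ∫ᶜ F) ⟶ ⟨X, (F.map t.op.toLoc).toFunctor.obj M⟩ := (CoGrothendieck.ι F X).map φ.hom
  haveI : IsIso m := Functor.map_isIso (CoGrothendieck.ι F X) φ.hom
  refine ⟨asIso (m ≫ c), ?_⟩
  change (m ≫ c).base = t
  rw [categoryStruct_comp_base]
  change 𝟙 X ≫ t = t
  exact Category.id_comp t

end General

section Bridge
variable {S : Scheme.{u}} (A : Over S) [GrpObj A] (L : A.left.Modules)

theorem isIso_transl {T : Over S} (x : T ⟶ A) : IsIso (ThetaGrp.transl A x).left := by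
  have h1 : ThetaGrp.transl A x ≫ ThetaGrp.transl A x⁻¹ = 𝟙 _ := by
    rw [← ThetaGrp.transl_mul, mul_inv_cancel, ThetaGrp.transl_one]
  have h2 : ThetaGrp.transl A x⁻¹ ≫ ThetaGrp.transl A x = 𝟙 _ := by
    rw [← ThetaGrp.transl_mul, inv_mul_cancel, ThetaGrp.transl_one]
  exact ⟨(ThetaGrp.transl A x⁻¹).left, by rw [← Over.comp_left, h1]; rfl,
    by rw [← Over.comp_left, h2]; rfl⟩

/-- a point of the theta group lies over `x` iff `L_T ≅ t_x^* L_T`. -/
theorem exists_thetaPt_iff {T : Over S} (x : T ⟶ A) :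
    (∃ β : ThetaGrp.thetaPts A L T, ThetaGrp.IsOverPt β x) ↔
      Nonempty ((Scheme.Modules.pullback (fst A T).left).obj L ≅
        (Scheme.Modules.pullback (ThetaGrp.transl A x).left).obj
          ((Scheme.Modules.pullback (fst A T).left).obj L)) := by
  haveI := isIso_transl A x
  constructor
  · rintro ⟨β, hβ⟩
    have hi := isIso_fiber_of_isIso β.1.hom
    have hβ' : β.1.hom.base = (ThetaGrp.transl A x).left := hβ
    let e : (Scheme.Modules.pullback (fst A T).left).obj L ≅
        (Scheme.Modules.pullback β.1.hom.base).obj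
          ((Scheme.Modules.pullback (fst A T).left).obj L) :=
      @asIso _ _ _ _ β.1.hom.fiber hi
    exact ⟨e ≪≫ (Scheme.Modules.pullbackCongr hβ').app _⟩
  · rintro ⟨φ⟩
    obtain ⟨α, hα⟩ := exists_aut_of_iso (F := ThetaGrp.modPF.{u})
      (X := (A ⊗ T).left) ((Scheme.Modules.pullback (fst A T).left).obj L)
      (ThetaGrp.transl A x).left φ
    exact ⟨⟨α, ⟨x, hα⟩⟩, hα⟩

end Bridge

end Groth.Agent.H2.ThetaD
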