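import Groth.Agent.Lib.Helper2.UbcB

/-!
# `O_T → (f_T)_* O` is an isomorphism universally, for `f` proper flat with `h⁰(X_y, O) = 1`
(helper2)
-/

set_option autoImplicit false
set_option linter.style.haveILetI false
universe u

open CategoryTheory CategoryTheory.Limits AlgebraicGeometry Opposite TopologicalSpace TensorProduct

namespace Groth.Agent.H2.Ubc

open Groth.Agent.H2.Mum Groth.Agent.H2.RpA Groth.Agent.H2.RpB Groth.Agent.H2.RpC Groth.Agent.LD
  Groth.Agent.LD.CL Groth.Agent.LD.QC Groth.Agent.H8.ExtBridge Groth.Agent.H2.EtH0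

/-- `O_Y(V) → O_X(f⁻¹V)` is an isomorphism for all opens when all fibres have only constant global
functions. -/
theorem isIso_app_of_forall_bijective {X Y : Scheme.{u}} (f : X ⟶ Y) [IsProper f] [Flat f]
    [IsLocallyNoetherian Y]
    (h0 : ∀ y : Y, Function.Bijective (algebraMap (Y.residueField y) Γ(f.fiber y, ⊤)))
    (V : Y.Opens) : IsIso (f.app V) := by
  choose U hyU hU using fun y => exists_isIso_app_of_bijective f y (h0 y)
  refine Groth.Agent.H1.isIso_app_of_isBasis f
    (fun i : {V' : Y.Opens // ∃ y, V' ≤ U y} => i.1) ?_ (fun i => ?_) V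
  · rw [Opens.isBasis_iff_nbhd]
    intro V' x hx
    exact ⟨V' ⊓ U x, ⟨⟨V' ⊓ U x, x, inf_le_right⟩, rfl⟩, ⟨hx, hyU x⟩, inf_le_left⟩
  · obtain ⟨y, hy⟩ := i.2
    exact hU y i.1 hy

end Groth.Agent.H2.Ubc
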