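import Groth.Agent.Lib.Helper2.ThetaD
import Groth.Agent.Lib.Helper2.SeeW
import Groth.Agent.Lib.Helper2.SeeR
import Groth.Agent.Lib.Helper2.SeeM
import Groth.Agent.Lib.Helper2.UbcC

/-!
# The image of the theta group in `X` is `K(L)` (helper2)
-/

set_option autoImplicit false
set_option linter.style.haveILetI false
universe u

open CategoryTheory CategoryTheory.Limits AlgebraicGeometry Opposite TopologicalSpace
open MonoidalCategory CartesianMonoidalCategory MonObj

namespace Groth.Agent.H2.ThetaE

open Groth.Agent.LD.QC Groth.Agent.LD Groth.Agent.H5.PicLaw Groth.Agent.H2.TransInv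
  Groth.Agent.H2.ThetaA Groth.Agent.H2.ThetaD

section Nat
variable {S : Scheme.{u}} (A : Over S) [GrpObj A]

/-- translations are natural in the base. -/
theorem whisker_transl {U T : Over S} (j : U ⟶ T) (x : T ⟶ A) :
    (A ◁ j) ≫ ThetaGrp.transl A x = ThetaGrp.transl A (j ≫ x) ≫ (A ◁ j) := by
  apply CartesianMonoidalCategory.hom_ext
  · rw [Category.assoc, Category.assoc, ThetaGrp.transl_fst, whiskerLeft_fst,
      ThetaGrp.transl_fst, MonObj.comp_mul, whiskerLeft_fst, ← Category.assoc,
      whiskerLeft_snd, Category.assoc]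
  · rw [Category.assoc, Category.assoc, ThetaGrp.transl_snd, whiskerLeft_snd,
      ← Category.assoc, ThetaGrp.transl_snd]

end Nat

section Main
variable {k : Type u} [Field k] (X : Over (Spec (CommRingCat.of k))) [GrpObj X]
  [IsProper X.hom] [GeometricallyIntegral X.hom]

omit [GrpObj X] in
/-- `O_T → p₂_* O_{X × T}` is bijective on all opens. -/
theorem bijective_snd_app (T : Over (Spec (CommRingCat.of k))) (U : T.left.Opens) :
    Function.Bijective ((snd X T).left.app U) := by
  haveI : Flat X.hom := inferInstance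
  haveI : Flat T.hom := inferInstance
  have hfX : ∀ V : (Spec (CommRingCat.of k)).Opens, Function.Bijective (X.hom.app V) := fun V => by
    haveI := Groth.Agent.H2.Ubc.isIso_app_of_forall_bijective X.hom
      (See.bijective_algebraMap_fiber X.hom) V
    exact ConcreteCategory.bijective_of_isIso (X.hom.app V)
  exact See.bijective_app_of_isPullback X.hom hfX T.hom (pullback.snd X.hom T.hom)
    (pullback.fst X.hom T.hom) (IsPullback.of_hasPullback X.hom T.hom) U

omit [IsProper X.hom] [GeometricallyIntegral X.hom] in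
set_option maxHeartbeats 1600000 in
/-- the local criterion in terms of classes. -/
theorem local_iff (L : X.left.Modules) (hL : PicF.IsInvertible L)
    (T : Over (Spec (CommRingCat.of k))) (x : T ⟶ X) (U : T.left.Opens) :
    (∃ β : ThetaGrp.thetaPts X L (Over.mk (U.ι ≫ T.hom)),
        ThetaGrp.IsOverPt β ((Over.homMk U.ι rfl : Over.mk (U.ι ≫ T.hom) ⟶ T) ≫ x)) ↔
      H5.PicLaw.pbHom (X ◁ (Over.homMk U.ι rfl : Over.mk (U.ι ≫ T.hom) ⟶ T)).left
        (H5.PicLaw.pbHom (ThetaGrp.transl X x).left
            (clsOf ((Scheme.Modules.pullback (fst X T).left).obj L)) *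
          (clsOf ((Scheme.Modules.pullback (fst X T).left).obj L))⁻¹) = 1 := by
  let U' : Over (Spec (CommRingCat.of k)) := Over.mk (U.ι ≫ T.hom)
  let j : U' ⟶ T := Over.homMk U.ι rfl
  have hLU := isInvertible_pullback (fst X U').left hL
  have h1 : H5.PicLaw.pbHom (X ◁ j).left (clsOf ((Scheme.Modules.pullback (fst X T).left).obj L)) =
      clsOf ((Scheme.Modules.pullback (fst X U').left).obj L) :=
    pbHom_clsOf_pullback (X ◁ j).left (fst X T).left (fst X U').left
      (by rw [← Over.comp_left, whiskerLeft_fst]) L hL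
  have h2 : H5.PicLaw.pbHom (X ◁ j).left (H5.PicLaw.pbHom (ThetaGrp.transl X x).left
        (clsOf ((Scheme.Modules.pullback (fst X T).left).obj L))) =
      H5.PicLaw.pbHom (ThetaGrp.transl X (j ≫ x)).left
        (clsOf ((Scheme.Modules.pullback (fst X U').left).obj L)) := by
    rw [← pbHom_comp_apply, pbHom_congr (show (X ◁ j).left ≫ (ThetaGrp.transl X x).left =
      (ThetaGrp.transl X (j ≫ x)).left ≫ (X ◁ j).left from by
        rw [← Over.comp_left, whisker_transl, Over.comp_left]), pbHom_comp_apply, h1]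
  rw [exists_thetaPt_iff, ← clsOf_eq_iff hLU (isInvertible_pullback _ hLU), ← pbHom_clsOf _ _ hLU,
    map_mul, map_inv, h2, h1, mul_inv_eq_one]
  exact eq_comm

set_option maxHeartbeats 1600000 in
/-- **S19945** -/
theorem s19945 (L : X.left.Modules) (hL : PicF.IsInvertible L)
    {K : Over (Spec (CommRingCat.of k))} (iK : K ⟶ X) (hK : ThetaGrp.IsKL X L iK)
    (T : Over (Spec (CommRingCat.of k))) (x : T ⟶ X) :
    (∃ y : T ⟶ K, y ≫ iK = x) ↔
      ∀ t : ↥T.left, ∃ U : T.left.Opens, t ∈ U ∧
        ∃ β : ThetaGrp.thetaPts X L (Over.mk (U.ι ≫ T.hom)),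
          ThetaGrp.IsOverPt β ((Over.homMk U.ι rfl : Over.mk (U.ι ≫ T.hom) ⟶ T) ≫ x) := by
  simp only [local_iff X L hL T x]
  rw [factors_iff X L hL iK hK T x]
  set a := clsOf ((Scheme.Modules.pullback (fst X T).left).obj L) with ha
  set b := H5.PicLaw.pbHom (ThetaGrp.transl X x).left a with hb
  let p₂ := (snd X T).left
  constructor
  · rintro ⟨c, hc⟩ t
    have hz : b * a⁻¹ = H5.PicLaw.pbHom p₂ c := by
      rw [← hc, _root_.mul_comm a, mul_inv_cancel_right]
    obtain ⟨U, htU, ⟨φ⟩⟩ := isInvertible_rep c t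
    refine ⟨U, htU, ?_⟩
    let U' : Over (Spec (CommRingCat.of k)) := Over.mk (U.ι ≫ T.hom)
    let j : U' ⟶ T := Over.homMk U.ι rfl
    have h3 : H5.PicLaw.pbHom U.ι c = 1 := by
      rw [← clsOf_rep c, pbHom_clsOf U.ι _ (isInvertible_rep c)]
      exact (clsOf_eq_one_iff (isInvertible_pullback U.ι (isInvertible_rep c))).mpr
        ⟨((Scheme.Modules.restrictFunctorIsoPullback U.ι).app (rep c)).symm ≪≫ φ⟩
    rw [hz, ← pbHom_comp_apply, pbHom_congr (show (X ◁ j).left ≫ p₂ = (snd X U').left ≫ U.ι from by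
      rw [← Over.comp_left, whiskerLeft_snd, Over.comp_left]; rfl), pbHom_comp_apply, h3, map_one]
  · intro h
    have hN := isInvertible_rep (b * a⁻¹)
    obtain ⟨M, hM, ⟨ψ⟩⟩ := See.s12057 p₂ (bijective_snd_app X T) (rep (b * a⁻¹)) (fun s => by
      obtain ⟨U, hsU, hU⟩ := h s
      refine ⟨U, hsU, ?_⟩
      let U' : Over (Spec (CommRingCat.of k)) := Over.mk (U.ι ≫ T.hom)
      let j : U' ⟶ T := Over.homMk U.ι rfl
      rw [← clsOf_eq_one_iff (isInvertible_pullback _ hN), ← pbHom_clsOf _ _ hN, clsOf_rep]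
      let e' : (↑(p₂ ⁻¹ᵁ U) : Scheme.{u}) ⟶ (X ⊗ U').left :=
        pullback.lift ((p₂ ⁻¹ᵁ U).ι ≫ (fst X T).left) (p₂ ∣_ U) (by
          rw [Category.assoc]
          change _ ≫ pullback.fst X.hom T.hom ≫ X.hom = _
          rw [pullback.condition, ← Category.assoc]
          change _ = (p₂ ∣_ U) ≫ U.ι ≫ T.hom
          rw [← Category.assoc (p₂ ∣_ U)]
          congr 1
          exact (morphismRestrict_ι p₂ U).symm)
      have he' : e' ≫ (X ◁ j).left = (p₂ ⁻¹ᵁ U).ι := by
        apply pullback.hom_ext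
        · have : (X ◁ j).left ≫ pullback.fst X.hom T.hom = (fst X U').left := by
            change (X ◁ j).left ≫ (fst X T).left = _
            rw [← Over.comp_left, whiskerLeft_fst]
          rw [Category.assoc, this]
          exact pullback.lift_fst _ _ _
        · have : (X ◁ j).left ≫ pullback.snd X.hom T.hom = (snd X U').left ≫ U.ι := by
            change (X ◁ j).left ≫ (snd X T).left = _
            rw [← Over.comp_left, whiskerLeft_snd, Over.comp_left]; rfl
          rw [Category.assoc, this, ← Category.assoc]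
          have h4 : e' ≫ (snd X U').left = p₂ ∣_ U := pullback.lift_snd _ _ _
          rw [h4]
          exact morphismRestrict_ι p₂ U
      rw [pbHom_congr he'.symm, pbHom_comp_apply, hU, map_one])
    refine ⟨clsOf M, ?_⟩
    have h5 : b * a⁻¹ = H5.PicLaw.pbHom p₂ (clsOf M) := by
      rw [pbHom_clsOf _ _ hM, ← clsOf_iso ψ hN, clsOf_rep]
    rw [← h5, _root_.mul_comm b, mul_inv_cancel_left]

end Main

end Groth.Agent.H2.ThetaE
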