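import Groth.Agent.Lib.Helper2.ThetaD

/-!
# Cartesian arrows and fibre morphisms in the Grothendieck construction (helper2)

Abstract lemmas on `∫ᶜ F`: composition with morphisms of a fibre, arrows with invertible fibre
component are strongly cartesian, lifting of automorphisms along them.
-/

set_option autoImplicit false
set_option linter.style.haveILetI false
universe v₁ u₁ v₂ u₂

open CategoryTheory Opposite

namespace Groth.Agent.H2.ThetaF

open CategoryTheory.Pseudofunctor CategoryTheory.Pseudofunctor.CoGrothendieck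

variable {𝒮 : Type u₁} [Category.{v₁} 𝒮] {F : Pseudofunctor (LocallyDiscrete 𝒮ᵒᵖ) Cat.{v₂, u₂}}

/-- a morphism of the fibre over `S`, as a morphism of the Grothendieck construction. -/
def fib {S : 𝒮} {x y : F.obj ⟨op S⟩} (w : x ⟶ y) : (⟨S, x⟩ : ∫ᶜ F) ⟶ ⟨S, y⟩ :=
  ⟨𝟙 S, w ≫ (F.mapId ⟨op S⟩).inv.toNatTrans.app y⟩

theorem fib_eq {S : 𝒮} {x y : F.obj ⟨op S⟩} (w : x ⟶ y) : fib w = (ι F S).map w := rfl

theorem fib_base {S : 𝒮} {x y : F.obj ⟨op S⟩} (w : x ⟶ y) : (fib w).base = 𝟙 S := rfl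

theorem fib_id {S : 𝒮} (x : F.obj ⟨op S⟩) : fib (𝟙 x) = 𝟙 (⟨S, x⟩ : ∫ᶜ F) :=
  (ι F S).map_id x

theorem fib_comp {S : 𝒮} {x y z : F.obj ⟨op S⟩} (w : x ⟶ y) (w' : y ⟶ z) :
    fib w ≫ fib w' = fib (w ≫ w') :=
  ((ι F S).map_comp w w').symm

theorem fib_comp_base {S : 𝒮} {x y : F.obj ⟨op S⟩} (w : x ⟶ y) {b : ∫ᶜ F}
    (β : (⟨S, y⟩ : ∫ᶜ F) ⟶ b) : (fib w ≫ β).base = β.base :=
  Category.id_comp β.base

theorem fib_comp_fiber {S : 𝒮} {x y : F.obj ⟨op S⟩} (w : x ⟶ y) {b : ∫ᶜ F}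
    (β : (⟨S, y⟩ : ∫ᶜ F) ⟶ b) :
    (fib w ≫ β).fiber = w ≫ β.fiber ≫ eqToHom
        (congrArg (fun g => (F.map g.op.toLoc).toFunctor.obj b.fiber) (fib_comp_base w β)).symm := by
  have h := Hom.congr (Category.id_comp β)
  rw [categoryStruct_comp_fiber, categoryStruct_id_fiber] at h
  rw [categoryStruct_comp_fiber]
  change (w ≫ (F.mapId ⟨op S⟩).inv.toNatTrans.app y) ≫ _ = _
  rw [Category.assoc]
  exact congrArg (fun t => w ≫ t) h

theorem comp_fib_base {a : ∫ᶜ F} {S : 𝒮} {x y : F.obj ⟨op S⟩} (β : a ⟶ (⟨S, x⟩ : ∫ᶜ F))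
    (w : x ⟶ y) : (β ≫ fib w).base = β.base :=
  Category.comp_id β.base

theorem comp_fib_fiber {a : ∫ᶜ F} {S : 𝒮} {x y : F.obj ⟨op S⟩} (β : a ⟶ (⟨S, x⟩ : ∫ᶜ F))
    (w : x ⟶ y) :
    (β ≫ fib w).fiber = β.fiber ≫ (F.map β.base.op.toLoc).toFunctor.map w ≫ eqToHom
        (congrArg (fun g => (F.map g.op.toLoc).toFunctor.obj y) (comp_fib_base β w)).symm := by
  have h := Hom.congr (Category.comp_id (cartesianLift y β.base))
  rw [categoryStruct_comp_fiber, categoryStruct_id_fiber] at h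
  have h'' := (Category.id_comp _).symm.trans (h.trans (Category.id_comp _))
  rw [categoryStruct_comp_fiber]
  change β.fiber ≫ (F.map β.base.op.toLoc).toFunctor.map
    (w ≫ (F.mapId ⟨op S⟩).inv.toNatTrans.app y) ≫ _ = _
  rw [Functor.map_comp, Category.assoc]
  exact congrArg (fun t => β.fiber ≫ (F.map β.base.op.toLoc).toFunctor.map w ≫ t) h''

theorem fib_injective {S : 𝒮} {x y : F.obj ⟨op S⟩} {w w' : x ⟶ y}
    (h : (fib w : (⟨S, x⟩ : ∫ᶜ F) ⟶ ⟨S, y⟩) = fib w') : w = w' := by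
  unfold fib at h
  injection h with _ h2
  haveI : IsIso ((F.mapId ⟨op S⟩).inv.toNatTrans.app y) := inferInstance
  exact (cancel_mono ((F.mapId ⟨op S⟩).inv.toNatTrans.app y)).mp h2

theorem eqToHom_comp_comp_eqToHom {C : Type*} [Category C] {A B : C} (g : A ⟶ B) (p : A = A)
    (q : B = B) : eqToHom p ≫ g ≫ eqToHom q = g := by
  simp

/-- a morphism over the identity is a morphism of the fibre. -/
theorem exists_fib_eq {X : 𝒮} {M N : F.obj ⟨op X⟩} (α : (⟨X, M⟩ : ∫ᶜ F) ⟶ ⟨X, N⟩)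
    (h : α.base = 𝟙 X) : ∃ w : M ⟶ N, α = fib w := by
  obtain ⟨b, φ⟩ := α
  change b = 𝟙 X at h
  subst h
  refine ⟨φ ≫ (F.mapId ⟨op X⟩).hom.toNatTrans.app N, ?_⟩
  refine Hom.ext _ _ rfl ?_
  simp [fib, ← Cat.Hom₂.comp_app]

theorem isStronglyCartesian_congr {𝒳 : Type*} [Category 𝒳] (p : 𝒳 ⥤ 𝒮) {R S : 𝒮} {a b : 𝒳}
    {f f' : R ⟶ S} {φ φ' : a ⟶ b} (hf : f = f') (hφ : φ = φ')
    (h : Functor.IsStronglyCartesian p f φ) : Functor.IsStronglyCartesian p f' φ' := by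
  subst hf; subst hφ; exact h

theorem fib_comp_cartesianLift {a' a : ∫ᶜ F} (c : a' ⟶ a) :
    fib c.fiber ≫ cartesianLift a.fiber c.base = c := by
  refine Hom.ext _ _ (fib_comp_base c.fiber (cartesianLift a.fiber c.base)) ?_
  rw [fib_comp_fiber]
  simp

/-- an arrow whose fibre component is invertible is strongly cartesian. -/
theorem isStronglyCartesian_of_isIso_fiber {a' a : ∫ᶜ F} (c : a' ⟶ a) [IsIso c.fiber] :
    Functor.IsStronglyCartesian (forget F) c.base c := by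
  let cl : (⟨a'.base, (F.map c.base.op.toLoc).toFunctor.obj a.fiber⟩ : ∫ᶜ F) ⟶ ⟨a.base, a.fiber⟩ :=
    cartesianLift a.fiber c.base
  haveI hcl : Functor.IsStronglyCartesian (forget F) c.base cl :=
    isStronglyCartesian_homCartesianLift a.fiber c.base
  let m : (⟨a'.base, a'.fiber⟩ : ∫ᶜ F) ⟶ ⟨a'.base, (F.map c.base.op.toLoc).toFunctor.obj a.fiber⟩ :=
    fib c.fiber
  haveI : IsIso m := Functor.map_isIso (ι F a'.base) c.fiber
  haveI : Functor.IsHomLift (forget F) (𝟙 a'.base) m := IsHomLift.map (forget F) m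
  haveI hm : Functor.IsStronglyCartesian (forget F) (𝟙 a'.base) m :=
    Functor.IsStronglyCartesian.of_isIso (forget F) (𝟙 a'.base) m
  have hc : Functor.IsStronglyCartesian (forget F) (𝟙 a'.base ≫ c.base) (m ≫ cl) := inferInstance
  have e : m ≫ cl = c := fib_comp_cartesianLift c
  exact isStronglyCartesian_congr (forget F) (Category.id_comp _) e hc

/-- uniqueness of lifts along an arrow with invertible fibre component. -/
theorem lift_ext {a' a d : ∫ᶜ F} (c : a' ⟶ a) [IsIso c.fiber] (χ χ' : d ⟶ a')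
    (hb : χ.base = χ'.base) (h : χ ≫ c = χ' ≫ c) : χ = χ' := by
  haveI := isStronglyCartesian_of_isIso_fiber c
  haveI : Functor.IsHomLift (forget F) χ.base χ := IsHomLift.map (forget F) χ
  haveI : Functor.IsHomLift (forget F) χ.base χ' := by
    rw [hb]; exact IsHomLift.map (forget F) χ'
  exact Functor.IsStronglyCartesian.ext (forget F) c.base c χ.base h

/-- existence of lifts along an arrow with invertible fibre component. -/
theorem lift_exists {a' a d : ∫ᶜ F} (c : a' ⟶ a) [IsIso c.fiber] (ψ : d ⟶ a)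
    (g : d.base ⟶ a'.base) (h : ψ.base = g ≫ c.base) :
    ∃ χ : d ⟶ a', χ.base = g ∧ χ ≫ c = ψ := by
  haveI := isStronglyCartesian_of_isIso_fiber c
  haveI : Functor.IsHomLift (forget F) ψ.base ψ := IsHomLift.map (forget F) ψ
  refine ⟨Functor.IsStronglyCartesian.map (forget F) c.base c h ψ, ?_,
    Functor.IsStronglyCartesian.fac (forget F) c.base c h ψ⟩
  have := IsHomLift.fac' (forget F) g (Functor.IsStronglyCartesian.map (forget F) c.base c h ψ)
  exact this.trans (eqToHom_comp_comp_eqToHom g _ _)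

theorem iso_hom_inv_base {a : ∫ᶜ F} (α : a ≅ a) : α.hom.base ≫ α.inv.base = 𝟙 a.base :=
  congrArg Hom.base α.hom_inv_id

theorem iso_inv_hom_base {a : ∫ᶜ F} (α : a ≅ a) : α.inv.base ≫ α.hom.base = 𝟙 a.base :=
  congrArg Hom.base α.inv_hom_id

/-- automorphisms lift along arrows with invertible fibre component, over any compatible
automorphism of the base. -/
theorem exists_aut_lift {a' a : ∫ᶜ F} (c : a' ⟶ a) [IsIso c.fiber] (α : a ≅ a)
    (t : a'.base ⟶ a'.base) [IsIso t] (h : t ≫ c.base = c.base ≫ α.hom.base) :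
    ∃ α' : a' ≅ a', α'.hom.base = t ∧ α'.hom ≫ c = c ≫ α.hom := by
  have h' : inv t ≫ c.base = c.base ≫ α.inv.base := by
    rw [IsIso.inv_comp_eq, ← Category.assoc, h, Category.assoc, iso_hom_inv_base,
      Category.comp_id]
  obtain ⟨χ, hχb, hχ⟩ := lift_exists c (c ≫ α.hom) t h.symm
  obtain ⟨χ', hχ'b, hχ'⟩ := lift_exists c (c ≫ α.inv) (inv t) h'.symm
  have e1 : χ ≫ χ' = 𝟙 a' := by
    apply lift_ext c
    · change χ.base ≫ χ'.base = 𝟙 _
      rw [hχb, hχ'b, IsIso.hom_inv_id]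
    · rw [Category.assoc, hχ', ← Category.assoc, hχ, Category.assoc, Iso.hom_inv_id,
        Category.comp_id, Category.id_comp]
  have e2 : χ' ≫ χ = 𝟙 a' := by
    apply lift_ext c
    · change χ'.base ≫ χ.base = 𝟙 _
      rw [hχb, hχ'b, IsIso.inv_hom_id]
    · rw [Category.assoc, hχ, ← Category.assoc, hχ', Category.assoc, Iso.inv_hom_id,
        Category.comp_id, Category.id_comp]
  exact ⟨⟨χ, χ', e1, e2⟩, hχb, hχ⟩

/-- two automorphisms with the same base differ by an endomorphism of the fibre. -/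
theorem exists_fib_comp_eq {X : 𝒮} {M : F.obj ⟨op X⟩} (u v : (⟨X, M⟩ : ∫ᶜ F) ≅ ⟨X, M⟩)
    (h : u.hom.base = v.hom.base) : ∃ w : M ⟶ M, u.hom = fib w ≫ v.hom := by
  have hb : (u.hom ≫ v.inv).base = 𝟙 X := by
    change u.hom.base ≫ v.inv.base = 𝟙 X
    rw [h]
    exact iso_hom_inv_base v
  obtain ⟨w, hw⟩ := exists_fib_eq (u.hom ≫ v.inv) hb
  refine ⟨w, ?_⟩
  rw [← hw, Category.assoc, Iso.inv_hom_id, Category.comp_id]

end Groth.Agent.H2.ThetaF
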