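import Groth.Agent.Lib.Helper2.ThetaF
import Groth.Agent.Lib.Helper2.FormalPB
import Groth.Agent.Lib.Helper2.EndInv
import Groth.Agent.Lib.Lead.Ann.SmulEnd
import Groth.Prelude.Def_ThetaGrp

/-!
# Scalars in the Grothendieck construction of modules (helper2)

Multiplication by a global function as an endomorphism in `∫ᶜ modPF`; it commutes with every arrow
(up to pulling back the function), and is detected along arrows with invertible fibre component.
-/

set_option autoImplicit false
set_option linter.style.haveILetI false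
universe u

open CategoryTheory CategoryTheory.Limits AlgebraicGeometry Opposite TopologicalSpace

namespace Groth.Agent.H2.ThetaG

open CategoryTheory.Pseudofunctor CategoryTheory.Pseudofunctor.CoGrothendieck
open Groth.Agent.LD Groth.Agent.LD.QC Groth.Agent.LD.Ann Groth.Agent.H2.ThetaF

variable {X Y : Scheme.{u}}

theorem pullback_map_smulEnd (f : X ⟶ Y) (M : Y.Modules) (r : Γ(Y, ⊤)) :
    (Scheme.Modules.pullback f).map (smulEnd M r) =
      smulEnd ((Scheme.Modules.pullback f).obj M) (f.appTop.hom r) :=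
  Groth.Agent.H2.FormalPB.pullback_map_smulModΓ f M r

theorem smulEnd_one (M : X.Modules) : smulEnd M 1 = 𝟙 M := by
  apply Scheme.Modules.hom_ext
  intro U
  ext m
  rw [smulEnd_app, map_one, one_smul]
  rfl

theorem exists_smulEnd_eq (L : X.Modules) (hL : PicF.IsInvertible L) (v : L ⟶ L) :
    ∃ a : Γ(X, ⊤), v = smulEnd L a := by
  obtain ⟨a, ha⟩ := EndInv.exists_global_coord L hL v
  refine ⟨a, EndInv.hom_ext_of_bases hL _ _ (fun W e he => ?_)⟩
  rw [ha W e he, smulEnd_app]

theorem smulEnd_injective (L : X.Modules) (hL : PicF.IsInvertible L) {a b : Γ(X, ⊤)}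
    (h : smulEnd L a = smulEnd L b) : a = b := by
  let κ := {p : Σ W : X.Opens, Γ(L, W) // IsBasisOver L p.1 p.2}
  have hcov : (⊤ : X.Opens) ≤ ⨆ i : κ, i.1.1 := by
    intro x _
    obtain ⟨W, e, hxW, he⟩ := (isInvertible_iff_exists_isBasisOver L).1 hL x
    exact Opens.mem_iSup.mpr ⟨⟨⟨W, e⟩, he⟩, hxW⟩
  apply Groth.Agent.H5.Glue.fn_ext_of_cover (fun i : κ => i.1.1) ⊤ (fun _ => le_top) hcov
  intro i
  have h1 : (smulEnd L a).app i.1.1 i.1.2 = (smulEnd L b).app i.1.1 i.1.2 := by rw [h]
  rw [smulEnd_app, smulEnd_app] at h1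
  exact i.2.coord_injective h1

/-- the object `(X, M)` of the Grothendieck construction of modules. -/
noncomputable abbrev obj (X : Scheme.{u}) (M : X.Modules) : ∫ᶜ ThetaGrp.modPF.{u} := ⟨X, M⟩

/-- a morphism of modules on `X`, as a morphism of the Grothendieck construction. -/
noncomputable abbrev fibM {X : Scheme.{u}} {M N : X.Modules} (w : M ⟶ N) : obj X M ⟶ obj X N :=
  fib (F := ThetaGrp.modPF.{u}) (S := X) (x := M) (y := N) w

theorem comm_aux {C : Type*} [Category C] {A B D D' : C} (s : A ⟶ A) (φ : A ⟶ B) (P : B ⟶ B)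
    (E₁ : B ⟶ D) (E₂ : B ⟶ D') (E₃ : D' ⟶ D) (h : s ≫ φ = φ ≫ P) (hE : E₂ ≫ E₃ = E₁) :
    s ≫ φ ≫ E₁ = (φ ≫ P ≫ E₂) ≫ E₃ := by
  subst hE
  rw [Category.assoc, Category.assoc, ← Category.assoc s, h, Category.assoc]

/-- multiplication by a function commutes with every arrow of the Grothendieck construction. -/
theorem scalar_comm {M : X.Modules} {N : Y.Modules} (c : obj X M ⟶ obj Y N) (r : Γ(Y, ⊤)) :
    fibM (smulEnd M (c.base.appTop.hom r)) ≫ c = c ≫ fibM (smulEnd N r) := by
  refine Hom.ext _ _ ((fib_comp_base _ c).trans (comp_fib_base c _).symm) ?_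
  rw [fib_comp_fiber, comp_fib_fiber]
  have h1 : (ThetaGrp.modPF.map c.base.op.toLoc).toFunctor.map (smulEnd N r) =
      smulEnd ((Scheme.Modules.pullback c.base).obj N) (c.base.appTop.hom r) :=
    pullback_map_smulEnd c.base N r
  have h2 : smulEnd M (c.base.appTop.hom r) ≫ c.fiber =
      c.fiber ≫ (ThetaGrp.modPF.map c.base.op.toLoc).toFunctor.map (smulEnd N r) := by
    rw [h1]
    exact smulEnd_naturality c.fiber (c.base.appTop.hom r)
  exact comm_aux _ _ _ _ _ _ h2 (eqToHom_trans _ _)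

/-- a function acting trivially after an arrow with invertible fibre component pulls back to `1`. -/
theorem appTop_eq_one_of_comp_fib {M : X.Modules} {N : Y.Modules} (hM : PicF.IsInvertible M)
    (c : obj X M ⟶ obj Y N) [IsIso c.fiber] (r : Γ(Y, ⊤))
    (h : c ≫ fibM (smulEnd N r) = c) : c.base.appTop.hom r = 1 := by
  have h1 : fibM (smulEnd M (c.base.appTop.hom r)) ≫ c = fibM (𝟙 M) ≫ c := by
    rw [scalar_comm, h]
    exact ((congrArg (fun t => t ≫ c) (fib_id (F := ThetaGrp.modPF.{u}) (S := X) M)).trans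
      (Category.id_comp c)).symm
  have h2 := lift_ext c (fibM (smulEnd M (c.base.appTop.hom r))) (fibM (𝟙 M)) rfl h1
  have h3 : smulEnd M (c.base.appTop.hom r) = 𝟙 M := fib_injective h2
  rw [← smulEnd_one] at h3
  exact smulEnd_injective M hM h3

theorem appTop_eq_one_of_comp_eq {M : X.Modules} {N : Y.Modules} (hM : PicF.IsInvertible M)
    (c : obj X M ⟶ obj Y N) [IsIso c.fiber] (r : Γ(Y, ⊤)) (v : obj Y N ≅ obj Y N)
    (h : c ≫ fibM (smulEnd N r) ≫ v.hom = c ≫ v.hom) : c.base.appTop.hom r = 1 :=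
  appTop_eq_one_of_comp_fib hM c r ((cancel_mono v.hom).mp ((Category.assoc _ _ _).trans h))

/-- two automorphisms of `(X, M)`, `M` invertible, with the same base differ by a function. -/
theorem exists_smul_comp_eq {M : X.Modules} (hM : PicF.IsInvertible M) (u v : obj X M ≅ obj X M)
    (h : u.hom.base = v.hom.base) : ∃ r : Γ(X, ⊤), u.hom = fibM (smulEnd M r) ≫ v.hom := by
  obtain ⟨w, hw⟩ := exists_fib_comp_eq u v h
  obtain ⟨r, hr⟩ := exists_smulEnd_eq M hM w
  refine ⟨r, ?_⟩
  rw [← hr]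
  exact hw

theorem fibM_smulEnd_one (M : X.Modules) : fibM (smulEnd M 1) = 𝟙 (obj X M) := by
  rw [smulEnd_one]
  exact fib_id (F := ThetaGrp.modPF.{u}) (S := X) M

end Groth.Agent.H2.ThetaG
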