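import Groth.Agent.Lib.Helper2.ThetaG
import Groth.Agent.Lib.Helper2.ThetaE

/-!
# Base change, scalars and commutation in the theta group (helper2)
-/

set_option autoImplicit false
set_option linter.style.haveILetI false
universe u

open CategoryTheory CategoryTheory.Limits AlgebraicGeometry Opposite TopologicalSpace
open MonoidalCategory CartesianMonoidalCategory MonObj

namespace Groth.Agent.H2.ThetaH

open CategoryTheory.Pseudofunctor CategoryTheory.Pseudofunctor.CoGrothendieck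
open Groth.Agent.LD Groth.Agent.LD.QC Groth.Agent.LD.Ann Groth.Agent.H2.ThetaF Groth.Agent.H2.ThetaG
  Groth.Agent.H2.ThetaD Groth.Agent.H2.ThetaE

section Cat
variable {C : Type*} [Category C]

theorem comp_comm_of_lift {a' a : C} (c : a' ⟶ a) (ρ₁ ρ₂ : a' ⟶ a') (β₁ β₂ : a ⟶ a)
    (e1 : ρ₁ ≫ c = c ≫ β₁) (e2 : ρ₂ ≫ c = c ≫ β₂) (e3 : ρ₂ ≫ ρ₁ = ρ₁ ≫ ρ₂) :
    c ≫ β₂ ≫ β₁ = c ≫ β₁ ≫ β₂ :=
  calc c ≫ β₂ ≫ β₁ = (c ≫ β₂) ≫ β₁ := (Category.assoc _ _ _).symm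
    _ = (ρ₂ ≫ c) ≫ β₁ := by rw [e2]
    _ = ρ₂ ≫ (c ≫ β₁) := Category.assoc _ _ _
    _ = ρ₂ ≫ (ρ₁ ≫ c) := by rw [e1]
    _ = (ρ₂ ≫ ρ₁) ≫ c := (Category.assoc _ _ _).symm
    _ = (ρ₁ ≫ ρ₂) ≫ c := by rw [e3]
    _ = ρ₁ ≫ (ρ₂ ≫ c) := Category.assoc _ _ _
    _ = ρ₁ ≫ (c ≫ β₂) := by rw [e2]
    _ = (ρ₁ ≫ c) ≫ β₂ := (Category.assoc _ _ _).symm
    _ = (c ≫ β₁) ≫ β₂ := by rw [e1]
    _ = c ≫ β₁ ≫ β₂ := Category.assoc _ _ _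

theorem lift_comp_comm {a' a : C} (c : a' ⟶ a) (σ₁ σ₂ : a' ⟶ a') (γ₁ γ₂ : a ⟶ a)
    (e1 : σ₁ ≫ c = c ≫ γ₁) (e2 : σ₂ ≫ c = c ≫ γ₂) (e3 : γ₂ ≫ γ₁ = γ₁ ≫ γ₂) :
    (σ₂ ≫ σ₁) ≫ c = (σ₁ ≫ σ₂) ≫ c :=
  calc (σ₂ ≫ σ₁) ≫ c = σ₂ ≫ (σ₁ ≫ c) := Category.assoc _ _ _
    _ = σ₂ ≫ (c ≫ γ₁) := by rw [e1]
    _ = (σ₂ ≫ c) ≫ γ₁ := (Category.assoc _ _ _).symm
    _ = (c ≫ γ₂) ≫ γ₁ := by rw [e2]
    _ = c ≫ (γ₂ ≫ γ₁) := Category.assoc _ _ _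
    _ = c ≫ (γ₁ ≫ γ₂) := by rw [e3]
    _ = (c ≫ γ₁) ≫ γ₂ := (Category.assoc _ _ _).symm
    _ = (σ₁ ≫ c) ≫ γ₂ := by rw [e1]
    _ = σ₁ ≫ (c ≫ γ₂) := Category.assoc _ _ _
    _ = σ₁ ≫ (σ₂ ≫ c) := by rw [e2]
    _ = (σ₁ ≫ σ₂) ≫ c := (Category.assoc _ _ _).symm

theorem comm_of_central {a : C} (ρ₁ ρ₂ σ₁ σ₂ ζ₁ ζ₂ : a ⟶ a) (h1 : ρ₁ = ζ₁ ≫ σ₁)
    (h2 : ρ₂ = ζ₂ ≫ σ₂) (c1 : ζ₁ ≫ ρ₂ = ρ₂ ≫ ζ₁) (c2 : ζ₂ ≫ σ₁ = σ₁ ≫ ζ₂)
    (cs : σ₂ ≫ σ₁ = σ₁ ≫ σ₂) : ρ₂ ≫ ρ₁ = ρ₁ ≫ ρ₂ := by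
  have e1 : ρ₂ ≫ ρ₁ = ζ₁ ≫ ζ₂ ≫ σ₂ ≫ σ₁ :=
    calc ρ₂ ≫ ρ₁ = ρ₂ ≫ ζ₁ ≫ σ₁ := by rw [h1]
      _ = (ρ₂ ≫ ζ₁) ≫ σ₁ := (Category.assoc _ _ _).symm
      _ = (ζ₁ ≫ ρ₂) ≫ σ₁ := by rw [c1]
      _ = ζ₁ ≫ ρ₂ ≫ σ₁ := Category.assoc _ _ _
      _ = ζ₁ ≫ (ζ₂ ≫ σ₂) ≫ σ₁ := by rw [h2]
      _ = ζ₁ ≫ ζ₂ ≫ σ₂ ≫ σ₁ := by rw [Category.assoc]
  have e2 : ρ₁ ≫ ρ₂ = ζ₁ ≫ ζ₂ ≫ σ₂ ≫ σ₁ :=
    calc ρ₁ ≫ ρ₂ = (ζ₁ ≫ σ₁) ≫ ζ₂ ≫ σ₂ := by rw [h1, h2]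
      _ = ζ₁ ≫ (σ₁ ≫ ζ₂) ≫ σ₂ := by simp only [Category.assoc]
      _ = ζ₁ ≫ (ζ₂ ≫ σ₁) ≫ σ₂ := by rw [c2]
      _ = ζ₁ ≫ ζ₂ ≫ σ₁ ≫ σ₂ := by simp only [Category.assoc]
      _ = ζ₁ ≫ ζ₂ ≫ σ₂ ≫ σ₁ := by rw [cs]
  rw [e1, e2]

end Cat

section General
variable {S : Scheme.{u}} (A : Over S) [GrpObj A] (L : A.left.Modules)

instance isIso_bcLift_fiber {T G : Over S} (g : T ⟶ G) :
    IsIso (ThetaGrp.bcLift A L g).fiber := by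
  show IsIso (C := ((A ⊗ T).left).Modules)
    ((Scheme.Modules.pullbackCongr (f := (fst A T).left)
        (g := (A ◁ g).left ≫ (fst A G).left)
        (by rw [← Over.comp_left, whiskerLeft_fst])).hom.app L ≫
      (Scheme.Modules.pullbackComp (A ◁ g).left (fst A G).left).inv.app L)
  infer_instance

/-- restriction of automorphisms over translations along a base change. -/
theorem exists_restrict {T G : Over S} (g : T ⟶ G)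
    (α : ThetaGrp.thetaObj A L G ≅ ThetaGrp.thetaObj A L G) (x : G ⟶ A)
    (hα : α.hom.base = (ThetaGrp.transl A x).left) :
    ∃ α' : ThetaGrp.thetaObj A L T ≅ ThetaGrp.thetaObj A L T,
      α'.hom.base = (ThetaGrp.transl A (g ≫ x)).left ∧
        α'.hom ≫ ThetaGrp.bcLift A L g = ThetaGrp.bcLift A L g ≫ α.hom := by
  haveI := isIso_transl A (g ≫ x)
  refine exists_aut_lift (ThetaGrp.bcLift A L g) α (ThetaGrp.transl A (g ≫ x)).left ?_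
  rw [hα]
  change (ThetaGrp.transl A (g ≫ x)).left ≫ (A ◁ g).left =
    (A ◁ g).left ≫ (ThetaGrp.transl A x).left
  rw [← Over.comp_left, ← Over.comp_left, whisker_transl]

/-- base change of points of the theta group exists. -/
theorem exists_baseChange {T G : Over S} (g : T ⟶ G) (u : ThetaGrp.thetaPts A L G) (x : G ⟶ A)
    (hu : ThetaGrp.IsOverPt u x) :
    ∃ β : ThetaGrp.thetaPts A L T, ThetaGrp.IsOverPt β (g ≫ x) ∧ ThetaGrp.IsBaseChange β g u := by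
  obtain ⟨α', h1, h2⟩ := exists_restrict A L g u.1 x hu
  exact ⟨⟨α', ⟨g ≫ x, h1⟩⟩, h1, h2⟩

theorem trans_base_eq [IsCommMonObj A] (T : Over S)
    (β₁ β₂ : ThetaGrp.thetaObj A L T ≅ ThetaGrp.thetaObj A L T) (h₁ h₂ : T ⟶ A)
    (hβ₁ : β₁.hom.base = (ThetaGrp.transl A h₁).left)
    (hβ₂ : β₂.hom.base = (ThetaGrp.transl A h₂).left) :
    (β₂ ≪≫ β₁).hom.base = (β₁ ≪≫ β₂).hom.base := by
  change β₂.hom.base ≫ β₁.hom.base = β₁.hom.base ≫ β₂.hom.base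
  rw [hβ₁, hβ₂, ← Over.comp_left, ← Over.comp_left, ← ThetaGrp.transl_mul, ← ThetaGrp.transl_mul,
    _root_.mul_comm h₂ h₁]

end General

section Field
variable {k : Type u} [Field k] (X : Over (Spec (CommRingCat.of k))) [GrpObj X]
  [IsProper X.hom] [GeometricallyIntegral X.hom]

/-- translations act trivially on global functions of `X × T`. -/
theorem transl_appTop_eq (T : Over (Spec (CommRingCat.of k))) (h : T ⟶ X)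
    (r : Γ((X ⊗ T).left, ⊤)) : (ThetaGrp.transl X h).left.appTop.hom r = r := by
  obtain ⟨r₀, rfl⟩ := (bijective_snd_app X T ⊤).2 r
  have h1 : (ThetaGrp.transl X h).left ≫ (snd X T).left = (snd X T).left := by
    rw [← Over.comp_left, ThetaGrp.transl_snd]
  exact congrArg (fun φ : (X ⊗ T).left ⟶ T.left => φ.appTop.hom r₀) h1

/-- scalars are central among the automorphisms lying over translations. -/
theorem central (L : X.left.Modules) (T : Over (Spec (CommRingCat.of k)))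
    (τ : ThetaGrp.thetaObj X L T ⟶ ThetaGrp.thetaObj X L T) (h : T ⟶ X)
    (hτ : τ.base = (ThetaGrp.transl X h).left) (r : Γ((X ⊗ T).left, ⊤)) :
    fibM (smulEnd ((Scheme.Modules.pullback (fst X T).left).obj L) r) ≫ τ =
      τ ≫ fibM (smulEnd ((Scheme.Modules.pullback (fst X T).left).obj L) r) := by
  have h1 := scalar_comm τ r
  have h2 : τ.base.appTop.hom r = r := by
    rw [hτ]
    exact transl_appTop_eq X T h r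
  rw [h2] at h1
  exact h1

omit [GrpObj X] in
/-- a global function on `X × T` which is `1` on `X × U` for opens `U` covering `T` is `1`. -/
theorem fn_eq_one_of_cover (T : Over (Spec (CommRingCat.of k))) (r : Γ((X ⊗ T).left, ⊤))
    (h : ∀ t : T.left, ∃ U : T.left.Opens, t ∈ U ∧
      (X ◁ (Over.homMk U.ι rfl : Over.mk (U.ι ≫ T.hom) ⟶ T)).left.appTop.hom r = 1) : r = 1 := by
  obtain ⟨r₀, rfl⟩ := (bijective_snd_app X T ⊤).2 r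
  suffices hr : r₀ = 1 by
    rw [hr]
    exact map_one ((snd X T).left.app ⊤).hom
  choose U hU hr using h
  have hcov : (⊤ : T.left.Opens) ≤ ⨆ t : T.left, (U t).ι ''ᵁ ⊤ := by
    intro t _
    refine Opens.mem_iSup.mpr ⟨t, ?_⟩
    rw [Scheme.Opens.ι_image_top]
    exact hU t
  apply Groth.Agent.H5.Glue.fn_ext_of_cover (fun t : T.left => (U t).ι ''ᵁ ⊤) ⊤
    (fun _ => le_top) hcov
  intro t
  have h1 : (X ◁ (Over.homMk (U t).ι rfl : Over.mk ((U t).ι ≫ T.hom) ⟶ T)).left ≫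
      (snd X T).left = (snd X (Over.mk ((U t).ι ≫ T.hom))).left ≫ (U t).ι := by
    rw [← Over.comp_left, whiskerLeft_snd, Over.comp_left]
    rfl
  have h2 : (snd X (Over.mk ((U t).ι ≫ T.hom))).left.appTop.hom ((U t).ι.appTop.hom r₀) = 1 :=
    (congrArg (fun φ : (X ⊗ Over.mk ((U t).ι ≫ T.hom)).left ⟶ T.left => φ.appTop.hom r₀)
      h1).symm.trans (hr t)
  have h3 : (U t).ι.appTop.hom r₀ = 1 := by
    apply (bijective_snd_app X (Over.mk ((U t).ι ≫ T.hom)) ⊤).1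
    exact h2.trans (map_one ((snd X (Over.mk ((U t).ι ≫ T.hom))).left.app ⊤).hom).symm
  have h4 : (U t).ι.appTop.hom (1 : Γ(T.left, ⊤)) = 1 := map_one (U t).ι.appTop.hom
  exact h3.trans h4.symm

/-- automorphisms over translations commute if they commute locally on the base. -/
theorem comm_of_local [IsCommMonObj X] (L : X.left.Modules) (hL : PicF.IsInvertible L)
    (T : Over (Spec (CommRingCat.of k)))
    (β₁ β₂ : ThetaGrp.thetaObj X L T ≅ ThetaGrp.thetaObj X L T) (h₁ h₂ : T ⟶ X)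
    (hβ₁ : β₁.hom.base = (ThetaGrp.transl X h₁).left)
    (hβ₂ : β₂.hom.base = (ThetaGrp.transl X h₂).left)
    (hloc : ∀ t : T.left, ∃ U : T.left.Opens, t ∈ U ∧
      ∃ ρ₁ ρ₂ : ThetaGrp.thetaObj X L (Over.mk (U.ι ≫ T.hom)) ≅
          ThetaGrp.thetaObj X L (Over.mk (U.ι ≫ T.hom)),
        ρ₁.hom ≫ ThetaGrp.bcLift X L (Over.homMk U.ι rfl : Over.mk (U.ι ≫ T.hom) ⟶ T) =
            ThetaGrp.bcLift X L (Over.homMk U.ι rfl : Over.mk (U.ι ≫ T.hom) ⟶ T) ≫ β₁.hom ∧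
          ρ₂.hom ≫ ThetaGrp.bcLift X L (Over.homMk U.ι rfl : Over.mk (U.ι ≫ T.hom) ⟶ T) =
            ThetaGrp.bcLift X L (Over.homMk U.ι rfl : Over.mk (U.ι ≫ T.hom) ⟶ T) ≫ β₂.hom ∧
          ρ₂.hom ≫ ρ₁.hom = ρ₁.hom ≫ ρ₂.hom) :
    β₂.hom ≫ β₁.hom = β₁.hom ≫ β₂.hom := by
  have hM := isInvertible_pullback (fst X T).left hL
  obtain ⟨r, hr⟩ := exists_smul_comp_eq hM (β₂ ≪≫ β₁) (β₁ ≪≫ β₂)
    (trans_base_eq X L T β₁ β₂ h₁ h₂ hβ₁ hβ₂)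
  have hr1 : r = 1 := by
    apply fn_eq_one_of_cover X T r
    intro t
    obtain ⟨U, htU, ρ₁, ρ₂, e1, e2, e3⟩ := hloc t
    refine ⟨U, htU, ?_⟩
    have hMU := isInvertible_pullback (fst X (Over.mk (U.ι ≫ T.hom))).left hL
    have key : ThetaGrp.bcLift X L (Over.homMk U.ι rfl : Over.mk (U.ι ≫ T.hom) ⟶ T) ≫
          (β₂ ≪≫ β₁).hom =
        ThetaGrp.bcLift X L (Over.homMk U.ι rfl : Over.mk (U.ι ≫ T.hom) ⟶ T) ≫ (β₁ ≪≫ β₂).hom :=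
      comp_comm_of_lift _ ρ₁.hom ρ₂.hom β₁.hom β₂.hom e1 e2 e3
    rw [hr] at key
    exact appTop_eq_one_of_comp_eq hMU
      (ThetaGrp.bcLift X L (Over.homMk U.ι rfl : Over.mk (U.ι ≫ T.hom) ⟶ T)) r (β₁ ≪≫ β₂) key
  rw [hr1, fibM_smulEnd_one, Category.id_comp] at hr
  exact hr

end Field

end Groth.Agent.H2.ThetaH
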