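import Groth.Agent.Lib.Helper2.ThetaH

/-!
# The theta group of a pulled back module along a homomorphism (helper2)

For a homomorphism `f : A ⟶ B` of group schemes and a module `L` on `B`, the cartesian arrow
`(A × T, (f^*L)_T) ⟶ (B × T, L_T)`, lifting of points of the theta group along it, and the
comparison of the commutation of points of `G(L)` and `G(f^*L)`.
-/

set_option autoImplicit false
set_option linter.style.haveILetI false
universe u

open CategoryTheory CategoryTheory.Limits AlgebraicGeometry Opposite TopologicalSpace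
open MonoidalCategory CartesianMonoidalCategory MonObj

namespace Groth.Agent.H2.ThetaI

open CategoryTheory.Pseudofunctor CategoryTheory.Pseudofunctor.CoGrothendieck
open Groth.Agent.LD Groth.Agent.LD.QC Groth.Agent.LD.Ann Groth.Agent.H2.ThetaF Groth.Agent.H2.ThetaG
  Groth.Agent.H2.ThetaD Groth.Agent.H2.ThetaE Groth.Agent.H2.ThetaH

section General
variable {S : Scheme.{u}} (A B : Over S) [GrpObj A] [GrpObj B] (f : A ⟶ B) (L : B.left.Modules)

omit [GrpObj A] [GrpObj B] in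
theorem whiskerRight_fst_left (T : Over S) :
    (fst A T).left ≫ f.left = (f ▷ T).left ≫ (fst B T).left := by
  rw [← Over.comp_left, ← Over.comp_left, whiskerRight_fst]

/-- the arrow `(A × T, (f^*L)_T) ⟶ (B × T, L_T)` over `f × T`. -/
noncomputable def pullArrow (T : Over S) :
    ThetaGrp.thetaObj A ((Scheme.Modules.pullback f.left).obj L) T ⟶ ThetaGrp.thetaObj B L T where
  base := (f ▷ T).left
  fiber := (Scheme.Modules.pullbackComp (fst A T).left f.left).hom.app L ≫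
    (Scheme.Modules.pullbackCongr (whiskerRight_fst_left A B f T)).hom.app L ≫
    (Scheme.Modules.pullbackComp (f ▷ T).left (fst B T).left).inv.app L

instance isIso_pullArrow_fiber (T : Over S) : IsIso (pullArrow A B f L T).fiber := by
  show IsIso (C := ((A ⊗ T).left).Modules)
    ((Scheme.Modules.pullbackComp (fst A T).left f.left).hom.app L ≫
      (Scheme.Modules.pullbackCongr (whiskerRight_fst_left A B f T)).hom.app L ≫
      (Scheme.Modules.pullbackComp (f ▷ T).left (fst B T).left).inv.app L)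
  infer_instance

/-- translations commute with a homomorphism. -/
theorem transl_whiskerRight [IsMonHom f] (T : Over S) (h : T ⟶ A) :
    ThetaGrp.transl A h ≫ (f ▷ T) = (f ▷ T) ≫ ThetaGrp.transl B (h ≫ f) := by
  apply CartesianMonoidalCategory.hom_ext
  · have e1 : ThetaGrp.transl A h ≫ (f ▷ T) ≫ fst B T = (fst A T ≫ f) * (snd A T ≫ h ≫ f) := by
      rw [whiskerRight_fst, ← Category.assoc, ThetaGrp.transl_fst, MonObj.mul_comp, Category.assoc]
    have e2 : (f ▷ T) ≫ ThetaGrp.transl B (h ≫ f) ≫ fst B T =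
        (fst A T ≫ f) * (snd A T ≫ h ≫ f) := by
      rw [ThetaGrp.transl_fst, MonObj.comp_mul, whiskerRight_fst, whiskerRight_snd_assoc]
    rw [Category.assoc, Category.assoc, e1, e2]
  · rw [Category.assoc, Category.assoc, whiskerRight_snd, ThetaGrp.transl_snd, ThetaGrp.transl_snd,
      whiskerRight_snd]

/-- lifting automorphisms over translations along the cartesian arrow. -/
theorem exists_lift [IsMonHom f] (T : Over S)
    (γ₀ : ThetaGrp.thetaObj B L T ≅ ThetaGrp.thetaObj B L T) (h : T ⟶ A)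
    (hγ : γ₀.hom.base = (ThetaGrp.transl B (h ≫ f)).left) :
    ∃ σ : ThetaGrp.thetaObj A ((Scheme.Modules.pullback f.left).obj L) T ≅
        ThetaGrp.thetaObj A ((Scheme.Modules.pullback f.left).obj L) T,
      σ.hom.base = (ThetaGrp.transl A h).left ∧
        σ.hom ≫ pullArrow A B f L T = pullArrow A B f L T ≫ γ₀.hom := by
  haveI := isIso_transl A h
  refine exists_aut_lift (pullArrow A B f L T) γ₀ (ThetaGrp.transl A h).left ?_
  rw [hγ]
  change (ThetaGrp.transl A h).left ≫ (f ▷ T).left =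
    (f ▷ T).left ≫ (ThetaGrp.transl B (h ≫ f)).left
  rw [← Over.comp_left, ← Over.comp_left, transl_whiskerRight]

end General

section Field
variable {k : Type u} [Field k]
  (X : Over (Spec (CommRingCat.of k))) [GrpObj X] [IsProper X.hom] [GeometricallyIntegral X.hom]
  (Y : Over (Spec (CommRingCat.of k))) [GrpObj Y] [IsProper Y.hom] [GeometricallyIntegral Y.hom]
  (f : X ⟶ Y) (L : Y.left.Modules)

omit [GrpObj X] [GrpObj Y] in
/-- `f × T` is injective on global functions. -/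
theorem eq_one_of_whiskerRight_appTop (T : Over (Spec (CommRingCat.of k)))
    (r : Γ((Y ⊗ T).left, ⊤)) (hr : (f ▷ T).left.appTop.hom r = 1) : r = 1 := by
  obtain ⟨r₀, rfl⟩ := (bijective_snd_app Y T ⊤).2 r
  have h1 : (f ▷ T).left ≫ (snd Y T).left = (snd X T).left := by
    rw [← Over.comp_left, whiskerRight_snd]
  have h2 : (snd X T).left.appTop.hom r₀ = 1 :=
    (congrArg (fun φ : (X ⊗ T).left ⟶ T.left => φ.appTop.hom r₀) h1).symm.trans hr
  have h3 : r₀ = 1 := by
    apply (bijective_snd_app X T ⊤).1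
    exact h2.trans (map_one ((snd X T).left.app ⊤).hom).symm
  rw [h3]
  exact map_one ((snd Y T).left.app ⊤).hom

/-- on a fixed base: lifts of commuting points of `G(L)` commute, hence so do all points of
`G(f^*L)` over the same translations. -/
theorem local_comm [IsMonHom f] [IsCommMonObj X] (hL : PicF.IsInvertible L)
    (T : Over (Spec (CommRingCat.of k)))
    (ρ₁ ρ₂ : ThetaGrp.thetaObj X ((Scheme.Modules.pullback f.left).obj L) T ≅
      ThetaGrp.thetaObj X ((Scheme.Modules.pullback f.left).obj L) T)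
    (γ₁ γ₂ : ThetaGrp.thetaObj Y L T ≅ ThetaGrp.thetaObj Y L T) (h₁ h₂ : T ⟶ X)
    (hρ₁ : ρ₁.hom.base = (ThetaGrp.transl X h₁).left)
    (hρ₂ : ρ₂.hom.base = (ThetaGrp.transl X h₂).left)
    (hγ₁ : γ₁.hom.base = (ThetaGrp.transl Y (h₁ ≫ f)).left)
    (hγ₂ : γ₂.hom.base = (ThetaGrp.transl Y (h₂ ≫ f)).left)
    (hγ : γ₂.hom ≫ γ₁.hom = γ₁.hom ≫ γ₂.hom) :
    ρ₂.hom ≫ ρ₁.hom = ρ₁.hom ≫ ρ₂.hom := by
  have hL' : PicF.IsInvertible ((Scheme.Modules.pullback f.left).obj L) :=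
    isInvertible_pullback f.left hL
  have hM := isInvertible_pullback (fst X T).left hL'
  obtain ⟨σ₁, hσ₁b, hσ₁⟩ := exists_lift X Y f L T γ₁ h₁ hγ₁
  obtain ⟨σ₂, hσ₂b, hσ₂⟩ := exists_lift X Y f L T γ₂ h₂ hγ₂
  have hσ : σ₂.hom ≫ σ₁.hom = σ₁.hom ≫ σ₂.hom := by
    apply lift_ext (pullArrow X Y f L T)
    · exact trans_base_eq X _ T σ₁ σ₂ h₁ h₂ hσ₁b hσ₂b
    · exact lift_comp_comm _ _ _ _ _ hσ₁ hσ₂ hγ
  obtain ⟨r₁, hr₁⟩ := exists_smul_comp_eq hM ρ₁ σ₁ (hρ₁.trans hσ₁b.symm)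
  obtain ⟨r₂, hr₂⟩ := exists_smul_comp_eq hM ρ₂ σ₂ (hρ₂.trans hσ₂b.symm)
  exact comm_of_central ρ₁.hom ρ₂.hom σ₁.hom σ₂.hom _ _ hr₁ hr₂
    (central X _ T ρ₂.hom h₂ hρ₂ r₁) (central X _ T σ₁.hom h₁ hσ₁b r₂) hσ

omit [GrpObj X] in
/-- points of `G(L)` commute if lifts of them to `G(f^*L)` commute. -/
theorem comm_of_lift [IsCommMonObj Y] (hL : PicF.IsInvertible L)
    (T : Over (Spec (CommRingCat.of k)))
    (β₁ β₂ : ThetaGrp.thetaObj Y L T ≅ ThetaGrp.thetaObj Y L T)
    (σ₁ σ₂ : ThetaGrp.thetaObj X ((Scheme.Modules.pullback f.left).obj L) T ≅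
      ThetaGrp.thetaObj X ((Scheme.Modules.pullback f.left).obj L) T) (h₁ h₂ : T ⟶ Y)
    (hβ₁ : β₁.hom.base = (ThetaGrp.transl Y h₁).left)
    (hβ₂ : β₂.hom.base = (ThetaGrp.transl Y h₂).left)
    (hσ₁ : σ₁.hom ≫ pullArrow X Y f L T = pullArrow X Y f L T ≫ β₁.hom)
    (hσ₂ : σ₂.hom ≫ pullArrow X Y f L T = pullArrow X Y f L T ≫ β₂.hom)
    (hσ : σ₂.hom ≫ σ₁.hom = σ₁.hom ≫ σ₂.hom) :
    β₂.hom ≫ β₁.hom = β₁.hom ≫ β₂.hom := by
  have hM := isInvertible_pullback (fst Y T).left hL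
  have hM' := isInvertible_pullback (fst X T).left (isInvertible_pullback f.left hL)
  obtain ⟨r, hr⟩ := exists_smul_comp_eq hM (β₂ ≪≫ β₁) (β₁ ≪≫ β₂)
    (trans_base_eq Y L T β₁ β₂ h₁ h₂ hβ₁ hβ₂)
  have key : pullArrow X Y f L T ≫ (β₂ ≪≫ β₁).hom = pullArrow X Y f L T ≫ (β₁ ≪≫ β₂).hom :=
    comp_comm_of_lift _ σ₁.hom σ₂.hom β₁.hom β₂.hom hσ₁ hσ₂ hσ
  rw [hr] at key
  have h1 := appTop_eq_one_of_comp_eq hM' (pullArrow X Y f L T) r (β₁ ≪≫ β₂) key
  have hr1 : r = 1 := eq_one_of_whiskerRight_appTop X Y f T r h1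
  rw [hr1, fibM_smulEnd_one, Category.id_comp] at hr
  exact hr

end Field

end Groth.Agent.H2.ThetaI
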