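import Groth.Agent.Lib.Helper2.ThetaI
import Groth.Prelude.Def_AlgGrp

/-!
# Isotropy for `L` and for `f^*L` (helper2)
-/

set_option autoImplicit false
set_option linter.style.haveILetI false
universe u

open CategoryTheory CategoryTheory.Limits AlgebraicGeometry Opposite TopologicalSpace
open MonoidalCategory CartesianMonoidalCategory MonObj

namespace Groth.Agent.H2.ThetaJ

open Groth.Agent.H2.ThetaF Groth.Agent.H2.ThetaG Groth.Agent.H2.ThetaD Groth.Agent.H2.ThetaE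
  Groth.Agent.H2.ThetaH Groth.Agent.H2.ThetaI

variable {k : Type u} [Field k]
  (A : Over (Spec (CommRingCat.of k))) [GrpObj A] [IsCommMonObj A] [IsProper A.hom]
  [GeometricallyIntegral A.hom]
  (B : Over (Spec (CommRingCat.of k))) [GrpObj B] [IsCommMonObj B] [IsProper B.hom]
  [GeometricallyIntegral B.hom]
  (f : A ⟶ B) [IsMonHom f] (L : B.left.Modules) (hL : PicF.IsInvertible L)

omit [IsCommMonObj A] in
include hL in
theorem isotropic_of_pullback {H : Over (Spec (CommRingCat.of k))} (iH : H ⟶ A)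
    (hyp : ThetaGrp.IsIsotropic ((Scheme.Modules.pullback f.left).obj L) iH) :
    ThetaGrp.IsIsotropic L (iH ≫ f) := by
  intro T x y β₁ β₂ hβ₁ hβ₂
  have hβ₁' : β₁.1.hom.base = (ThetaGrp.transl B ((x ≫ iH) ≫ f)).left := by
    rw [Category.assoc]; exact hβ₁
  have hβ₂' : β₂.1.hom.base = (ThetaGrp.transl B ((y ≫ iH) ≫ f)).left := by
    rw [Category.assoc]; exact hβ₂
  obtain ⟨σ₁, hσ₁b, hσ₁⟩ := exists_lift A B f L T β₁.1 (x ≫ iH) hβ₁'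
  obtain ⟨σ₂, hσ₂b, hσ₂⟩ := exists_lift A B f L T β₂.1 (y ≫ iH) hβ₂'
  have hc := hyp T x y ⟨σ₁, ⟨x ≫ iH, hσ₁b⟩⟩ ⟨σ₂, ⟨y ≫ iH, hσ₂b⟩⟩ hσ₁b hσ₂b
  have hc' : σ₂.hom ≫ σ₁.hom = σ₁.hom ≫ σ₂.hom :=
    congrArg (fun z : ThetaGrp.thetaPts A ((Scheme.Modules.pullback f.left).obj L) T =>
      z.1.hom) hc
  have key := comm_of_lift A B f L hL T β₁.1 β₂.1 σ₁ σ₂ _ _ hβ₁' hβ₂' hσ₁ hσ₂ hc'
  apply Subtype.ext
  apply Iso.ext
  exact key

include hL in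
theorem isotropic_pullback {K : Over (Spec (CommRingCat.of k))} (iK : K ⟶ B)
    (hK : ThetaGrp.IsKL B L iK) {H : Over (Spec (CommRingCat.of k))} (iH : H ⟶ A)
    (hH : ∃ y : H ⟶ K, y ≫ iK = iH ≫ f) (hyp : ThetaGrp.IsIsotropic L (iH ≫ f)) :
    ThetaGrp.IsIsotropic ((Scheme.Modules.pullback f.left).obj L) iH := by
  intro T x y β₁ β₂ hβ₁ hβ₂
  obtain ⟨y₀, hy₀⟩ := hH
  have hL' : PicF.IsInvertible ((Scheme.Modules.pullback f.left).obj L) :=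
    Groth.Agent.LD.QC.isInvertible_pullback f.left hL
  have key := comm_of_local A ((Scheme.Modules.pullback f.left).obj L) hL' T β₁.1 β₂.1
    (x ≫ iH) (y ≫ iH) hβ₁ hβ₂ (fun t => ?_)
  · apply Subtype.ext
    apply Iso.ext
    exact key
  · have hx : ∃ y' : T ⟶ K, y' ≫ iK = x ≫ iH ≫ f := ⟨x ≫ y₀, by rw [Category.assoc, hy₀]⟩
    have hy : ∃ y' : T ⟶ K, y' ≫ iK = y ≫ iH ≫ f := ⟨y ≫ y₀, by rw [Category.assoc, hy₀]⟩
    obtain ⟨U₁, ht₁, γ₁', hγ₁'⟩ := (s19945 B L hL iK hK T (x ≫ iH ≫ f)).mp hx t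
    obtain ⟨U₂, ht₂, γ₂', hγ₂'⟩ := (s19945 B L hL iK hK T (y ≫ iH ≫ f)).mp hy t
    let U : T.left.Opens := U₁ ⊓ U₂
    let U' : Over (Spec (CommRingCat.of k)) := Over.mk (U.ι ≫ T.hom)
    let j : U' ⟶ T := Over.homMk U.ι rfl
    let i₁ : U' ⟶ Over.mk (U₁.ι ≫ T.hom) :=
      Over.homMk (T.left.homOfLE (inf_le_left : U₁ ⊓ U₂ ≤ U₁)) (by
        change T.left.homOfLE (inf_le_left : U₁ ⊓ U₂ ≤ U₁) ≫ U₁.ι ≫ T.hom = U.ι ≫ T.hom
        rw [← Category.assoc, Scheme.homOfLE_ι])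
    let i₂ : U' ⟶ Over.mk (U₂.ι ≫ T.hom) :=
      Over.homMk (T.left.homOfLE (inf_le_right : U₁ ⊓ U₂ ≤ U₂)) (by
        change T.left.homOfLE (inf_le_right : U₁ ⊓ U₂ ≤ U₂) ≫ U₂.ι ≫ T.hom = U.ι ≫ T.hom
        rw [← Category.assoc, Scheme.homOfLE_ι])
    have e₁ : i₁ ≫ (Over.homMk U₁.ι rfl : Over.mk (U₁.ι ≫ T.hom) ⟶ T) = j := by
      apply Over.OverMorphism.ext
      change T.left.homOfLE (inf_le_left : U₁ ⊓ U₂ ≤ U₁) ≫ U₁.ι = U.ι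
      exact Scheme.homOfLE_ι _ _
    have e₂ : i₂ ≫ (Over.homMk U₂.ι rfl : Over.mk (U₂.ι ≫ T.hom) ⟶ T) = j := by
      apply Over.OverMorphism.ext
      change T.left.homOfLE (inf_le_right : U₁ ⊓ U₂ ≤ U₂) ≫ U₂.ι = U.ι
      exact Scheme.homOfLE_ι _ _
    obtain ⟨γ₁, hγ₁, -⟩ := exists_baseChange B L i₁ γ₁' _ hγ₁'
    obtain ⟨γ₂, hγ₂, -⟩ := exists_baseChange B L i₂ γ₂' _ hγ₂'
    have hγ₁a : ThetaGrp.IsOverPt γ₁ ((j ≫ x) ≫ iH ≫ f) := by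
      rw [← e₁, Category.assoc, Category.assoc]
      exact hγ₁
    have hγ₂a : ThetaGrp.IsOverPt γ₂ ((j ≫ y) ≫ iH ≫ f) := by
      rw [← e₂, Category.assoc, Category.assoc]
      exact hγ₂
    have hcomm := hyp U' (j ≫ x) (j ≫ y) γ₁ γ₂ hγ₁a hγ₂a
    have hcomm' : γ₂.1.hom ≫ γ₁.1.hom = γ₁.1.hom ≫ γ₂.1.hom :=
      congrArg (fun z : ThetaGrp.thetaPts B L U' => z.1.hom) hcomm
    obtain ⟨ρ₁, hρ₁b, hρ₁⟩ := exists_restrict A ((Scheme.Modules.pullback f.left).obj L) j β₁.1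
      (x ≫ iH) hβ₁
    obtain ⟨ρ₂, hρ₂b, hρ₂⟩ := exists_restrict A ((Scheme.Modules.pullback f.left).obj L) j β₂.1
      (y ≫ iH) hβ₂
    have hγ₁b : γ₁.1.hom.base = (ThetaGrp.transl B ((j ≫ x ≫ iH) ≫ f)).left := by
      have := hγ₁a
      rw [Category.assoc] at this
      rw [Category.assoc, Category.assoc]
      exact this
    have hγ₂b : γ₂.1.hom.base = (ThetaGrp.transl B ((j ≫ y ≫ iH) ≫ f)).left := by
      have := hγ₂a
      rw [Category.assoc] at this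
      rw [Category.assoc, Category.assoc]
      exact this
    have hloc := local_comm A B f L hL U' ρ₁ ρ₂ γ₁.1 γ₂.1 (j ≫ x ≫ iH) (j ≫ y ≫ iH) hρ₁b hρ₂b
      hγ₁b hγ₂b hcomm'
    exact ⟨U, ⟨ht₁, ht₂⟩, ρ₁, ρ₂, hρ₁, hρ₂, hloc⟩

include hL in
/-- **S19954** -/
theorem s19954 {K : Over (Spec (CommRingCat.of k))} (iK : K ⟶ B)
    (hK : ThetaGrp.IsKL B L iK) {H : Over (Spec (CommRingCat.of k))} (iH : H ⟶ A)
    (hH : ∃ y : H ⟶ K, y ≫ iK = iH ≫ f) :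
    ThetaGrp.IsIsotropic L (iH ≫ f) ↔
      ThetaGrp.IsIsotropic ((Scheme.Modules.pullback f.left).obj L) iH :=
  ⟨isotropic_pullback A B f L hL iK hK iH hH, isotropic_of_pullback A B f L hL iH⟩

end Groth.Agent.H2.ThetaJ
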