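import Groth.Agent.Lib.Helper2.ThetaI

/-!
# Arrows with invertible fibre component differ by scalars; translations determine points (helper2)
-/

set_option autoImplicit false
set_option linter.style.haveILetI false
universe u v₁ u₁ v₂ u₂

open CategoryTheory CategoryTheory.Limits AlgebraicGeometry Opposite TopologicalSpace
open MonoidalCategory CartesianMonoidalCategory MonObj

namespace Groth.Agent.H2.ThetaK

open CategoryTheory.Pseudofunctor CategoryTheory.Pseudofunctor.CoGrothendieck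
open Groth.Agent.LD Groth.Agent.LD.QC Groth.Agent.LD.Ann Groth.Agent.H2.ThetaF Groth.Agent.H2.ThetaG
  Groth.Agent.H2.ThetaD Groth.Agent.H2.ThetaE Groth.Agent.H2.ThetaH Groth.Agent.H2.ThetaI

section Abstract
variable {𝒮 : Type u₁} [Category.{v₁} 𝒮] {F : Pseudofunctor (LocallyDiscrete 𝒮ᵒᵖ) Cat.{v₂, u₂}}

instance isIso_comp_fiber {a b c : ∫ᶜ F} (φ : a ⟶ b) (ψ : b ⟶ c) [IsIso φ.fiber] [IsIso ψ.fiber] :
    IsIso (φ ≫ ψ).fiber := by
  rw [categoryStruct_comp_fiber]
  have h2 : IsIso ((F.mapComp ψ.base.op.toLoc φ.base.op.toLoc).inv.toNatTrans.app c.fiber) :=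
    inferInstance
  have h1 : IsIso ((F.map φ.base.op.toLoc).toFunctor.map ψ.fiber) := Functor.map_isIso _ _
  exact IsIso.comp_isIso' inferInstance (IsIso.comp_isIso' h1 h2)

/-- two arrows with the same base, the second with invertible fibre component, differ by a
morphism of the fibre. -/
theorem exists_fib_comp_of_base_eq {X : 𝒮} {M : F.obj ⟨op X⟩} {a : ∫ᶜ F}
    (c c' : (⟨X, M⟩ : ∫ᶜ F) ⟶ a) [IsIso c'.fiber] (h : c.base = c'.base) :
    ∃ w : M ⟶ M, c = fib w ≫ c' := by
  obtain ⟨χ, hχb, hχ⟩ := lift_exists c' c (𝟙 X) (by rw [h]; exact (Category.id_comp _).symm)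
  obtain ⟨w, hw⟩ := exists_fib_eq χ hχb
  exact ⟨w, by rw [← hw, hχ]⟩

end Abstract

section Modules
variable {X Y : Scheme.{u}}

theorem exists_smul_comp_of_base_eq {M : X.Modules} {N : Y.Modules} (hM : PicF.IsInvertible M)
    (c c' : obj X M ⟶ obj Y N) [IsIso c'.fiber] (h : c.base = c'.base) :
    ∃ r : Γ(X, ⊤), c = fibM (smulEnd M r) ≫ c' := by
  obtain ⟨w, hw⟩ := exists_fib_comp_of_base_eq c c' h
  obtain ⟨r, hr⟩ := exists_smulEnd_eq M hM w
  refine ⟨r, ?_⟩
  rw [← hr]
  exact hw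

end Modules

section Transl
variable {S : Scheme.{u}} (A : Over S) [GrpObj A]

theorem transl_left_injective {T : Over S} (x y : T ⟶ A)
    (h : (ThetaGrp.transl A x).left = (ThetaGrp.transl A y).left) : x = y := by
  have h' : ThetaGrp.transl A x = ThetaGrp.transl A y := Over.OverMorphism.ext h
  have key : ∀ z : T ⟶ A, lift (1 : T ⟶ A) (𝟙 T) ≫ ThetaGrp.transl A z ≫ fst A T = z := by
    intro z
    rw [ThetaGrp.transl_fst, MonObj.comp_mul, lift_fst, ← Category.assoc, lift_snd,
      Category.id_comp, _root_.one_mul]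
  rw [← key x, ← key y, h']

end Transl

end Groth.Agent.H2.ThetaK
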