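import Groth.Agent.Lib.Helper2.ThetaK
import Groth.Prelude.Def_AlgGrp

/-!
# Level lifts over the kernel of a homomorphism (helper2)

For `f : A ⟶ B`, `i : N ⟶ A` its kernel, `M` on `B` and `e : f^*M ≅ L`: the canonical points of the
theta group of `L` over the points of `N` (those fixing the arrow `(A × T, L_T) ⟶ (B × T, M_T)`),
their uniqueness, multiplicativity and compatibility with base change; transitivity of base change.
-/

set_option autoImplicit false
set_option linter.style.haveILetI false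
universe u

open CategoryTheory CategoryTheory.Limits AlgebraicGeometry Opposite TopologicalSpace
open MonoidalCategory CartesianMonoidalCategory MonObj

namespace Groth.Agent.H2.ThetaL

open CategoryTheory.Pseudofunctor CategoryTheory.Pseudofunctor.CoGrothendieck
open Groth.Agent.LD Groth.Agent.LD.QC Groth.Agent.LD.Ann Groth.Agent.H2.ThetaF Groth.Agent.H2.ThetaG
  Groth.Agent.H2.ThetaD Groth.Agent.H2.ThetaE Groth.Agent.H2.ThetaH Groth.Agent.H2.ThetaI
  Groth.Agent.H2.ThetaK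

section Cat
variable {C : Type*} [Category C]

theorem fix_of_scalar {X' X Y' Y : C} (ρ ζ : X' ⟶ X') (bc : X' ⟶ X) (β : X ⟶ X) (D : X ⟶ Y)
    (D' : X' ⟶ Y') (bcB : Y' ⟶ Y) (hr : D' ≫ bcB = ζ ≫ bc ≫ D) (hc : ζ ≫ ρ = ρ ≫ ζ)
    (hρ : ρ ≫ bc = bc ≫ β) (hβ : β ≫ D = D) : (ρ ≫ D') ≫ bcB = D' ≫ bcB :=
  calc (ρ ≫ D') ≫ bcB = ρ ≫ (D' ≫ bcB) := Category.assoc _ _ _
    _ = ρ ≫ ζ ≫ bc ≫ D := by rw [hr]
    _ = (ρ ≫ ζ) ≫ bc ≫ D := (Category.assoc _ _ _).symm
    _ = (ζ ≫ ρ) ≫ bc ≫ D := by rw [hc]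
    _ = ζ ≫ (ρ ≫ bc) ≫ D := by simp only [Category.assoc]
    _ = ζ ≫ (bc ≫ β) ≫ D := by rw [hρ]
    _ = ζ ≫ bc ≫ (β ≫ D) := by simp only [Category.assoc]
    _ = ζ ≫ bc ≫ D := by rw [hβ]
    _ = D' ≫ bcB := hr.symm

theorem comp_of_scalar {X Y Z : C} (β ζ : X ⟶ X) (c : X ⟶ Z) (bn : X ⟶ Y) (bj : Y ⟶ Z)
    (βN : Y ⟶ Y) (u : Z ⟶ Z) (hcdef : c = ζ ≫ bn ≫ bj) (hc : ζ ≫ β = β ≫ ζ)
    (h1 : β ≫ bn = bn ≫ βN) (h2 : βN ≫ bj = bj ≫ u) : β ≫ c = c ≫ u :=
  calc β ≫ c = β ≫ ζ ≫ bn ≫ bj := by rw [hcdef]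
    _ = (β ≫ ζ) ≫ bn ≫ bj := (Category.assoc _ _ _).symm
    _ = (ζ ≫ β) ≫ bn ≫ bj := by rw [hc]
    _ = ζ ≫ (β ≫ bn) ≫ bj := by simp only [Category.assoc]
    _ = ζ ≫ (bn ≫ βN) ≫ bj := by rw [h1]
    _ = ζ ≫ bn ≫ (βN ≫ bj) := by simp only [Category.assoc]
    _ = ζ ≫ bn ≫ bj ≫ u := by rw [h2]
    _ = (ζ ≫ bn ≫ bj) ≫ u := by simp only [Category.assoc]
    _ = c ≫ u := by rw [hcdef]

end Cat

variable {k : Type u} [Field k]
  (A : Over (Spec (CommRingCat.of k))) [GrpObj A] [IsProper A.hom] [GeometricallyIntegral A.hom]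

section BaseChange
variable (L : A.left.Modules) (hL : PicF.IsInvertible L)

include hL in
/-- base change of points of the theta group is transitive. -/
theorem baseChange_comp {T N' G : Over (Spec (CommRingCat.of k))} (n : T ⟶ N') (j : N' ⟶ G)
    (β : ThetaGrp.thetaPts A L T) (βN : ThetaGrp.thetaPts A L N') (u : ThetaGrp.thetaPts A L G)
    (x : T ⟶ A) (hβ : ThetaGrp.IsOverPt β x) (h1 : ThetaGrp.IsBaseChange β n βN)
    (h2 : ThetaGrp.IsBaseChange βN j u) : ThetaGrp.IsBaseChange β (n ≫ j) u := by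
  have hbase : (ThetaGrp.bcLift A L (n ≫ j)).base =
      (ThetaGrp.bcLift A L n ≫ ThetaGrp.bcLift A L j).base := by
    change (A ◁ (n ≫ j)).left = (A ◁ n).left ≫ (A ◁ j).left
    rw [← Over.comp_left, MonoidalCategory.whiskerLeft_comp]
  haveI : IsIso (ThetaGrp.bcLift A L n ≫ ThetaGrp.bcLift A L j).fiber :=
    isIso_comp_fiber (ThetaGrp.bcLift A L n) (ThetaGrp.bcLift A L j)
  obtain ⟨r, hr⟩ := exists_smul_comp_of_base_eq (isInvertible_pullback (fst A T).left hL)
    (ThetaGrp.bcLift A L (n ≫ j)) (ThetaGrp.bcLift A L n ≫ ThetaGrp.bcLift A L j) hbase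
  exact comp_of_scalar β.1.hom _ _ _ _ βN.1.hom u.1.hom hr (central A L T β.1.hom x hβ r) h1 h2

end BaseChange

variable (B : Over (Spec (CommRingCat.of k))) [GrpObj B] (f : A ⟶ B) [IsMonHom f]
  (N : Over (Spec (CommRingCat.of k))) [GrpObj N] (i : N ⟶ A) [IsMonHom i]
  (hN : AlgGrp.IsKernel i f) (L : A.left.Modules) (hL : PicF.IsInvertible L) (M : B.left.Modules)
  (e : (Scheme.Modules.pullback f.left).obj M ≅ L)

omit [GrpObj A] [IsProper A.hom] [GeometricallyIntegral A.hom] [GrpObj B] [IsMonHom f] in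
/-- the arrow `(A × T, L_T) ⟶ (B × T, M_T)` over `f × T` given by `e : f^*M ≅ L`. -/
noncomputable def levArrow (T : Over (Spec (CommRingCat.of k))) :
    ThetaGrp.thetaObj A L T ⟶ ThetaGrp.thetaObj B M T where
  base := (f ▷ T).left
  fiber := (Scheme.Modules.pullback (fst A T).left).map e.inv ≫
    (Scheme.Modules.pullbackComp (fst A T).left f.left).hom.app M ≫
    (Scheme.Modules.pullbackCongr (whiskerRight_fst_left A B f T)).hom.app M ≫
    (Scheme.Modules.pullbackComp (f ▷ T).left (fst B T).left).inv.app M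

omit [GrpObj A] [IsProper A.hom] [GeometricallyIntegral A.hom] [GrpObj B] [IsMonHom f] in
instance isIso_levArrow_fiber (T : Over (Spec (CommRingCat.of k))) :
    IsIso (levArrow A B f L M e T).fiber := by
  show IsIso (C := ((A ⊗ T).left).Modules)
    ((Scheme.Modules.pullback (fst A T).left).map e.inv ≫
      (Scheme.Modules.pullbackComp (fst A T).left f.left).hom.app M ≫
      (Scheme.Modules.pullbackCongr (whiskerRight_fst_left A B f T)).hom.app M ≫
      (Scheme.Modules.pullbackComp (f ▷ T).left (fst B T).left).inv.app M)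
  infer_instance

omit [GrpObj A] [GrpObj N] [IsProper A.hom] [GeometricallyIntegral A.hom] [IsMonHom f]
  [IsMonHom i] in
include hN in
theorem comp_i_f {T : Over (Spec (CommRingCat.of k))} (n : T ⟶ N) : (n ≫ i) ≫ f = 1 := by
  rw [Category.assoc, hN.w, Hom.one_def, ← Category.assoc]
  congr 1
  exact toUnit_unique _ _

omit [IsProper A.hom] [GeometricallyIntegral A.hom] [IsMonHom i] in
include hN in
theorem transl_comp_lev {T : Over (Spec (CommRingCat.of k))} (n : T ⟶ N) :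
    (ThetaGrp.transl A (n ≫ i)).left ≫ (f ▷ T).left = (f ▷ T).left := by
  rw [← Over.comp_left, transl_whiskerRight, comp_i_f A B f N i hN n, ThetaGrp.transl_one,
    Category.comp_id]

/-- `β` is the level lift of the point `n` of the kernel. -/
def IsLev (T : Over (Spec (CommRingCat.of k))) (n : T ⟶ N)
    (β : ThetaGrp.thetaObj A L T ≅ ThetaGrp.thetaObj A L T) : Prop :=
  β.hom.base = (ThetaGrp.transl A (n ≫ i)).left ∧
    β.hom ≫ levArrow A B f L M e T = levArrow A B f L M e T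

omit [IsProper A.hom] [GeometricallyIntegral A.hom] [IsMonHom i] in
include hN in
theorem exists_isLev (T : Over (Spec (CommRingCat.of k))) (n : T ⟶ N) :
    ∃ β, IsLev A B f N i L M e T n β := by
  haveI := isIso_transl A (n ≫ i)
  obtain ⟨α', h1, h2⟩ := exists_aut_lift (levArrow A B f L M e T) (Iso.refl _)
    (ThetaGrp.transl A (n ≫ i)).left (by
      change (ThetaGrp.transl A (n ≫ i)).left ≫ (f ▷ T).left = (f ▷ T).left ≫ 𝟙 _
      rw [Category.comp_id]
      exact transl_comp_lev A B f N i hN n)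
  exact ⟨α', h1, h2.trans (Category.comp_id _)⟩

omit [IsProper A.hom] [GeometricallyIntegral A.hom] [GrpObj B] [IsMonHom f] [GrpObj N]
  [IsMonHom i] in
theorem isLev_unique (T : Over (Spec (CommRingCat.of k))) (n : T ⟶ N)
    (β β' : ThetaGrp.thetaObj A L T ≅ ThetaGrp.thetaObj A L T)
    (h : IsLev A B f N i L M e T n β) (h' : IsLev A B f N i L M e T n β') : β = β' := by
  apply Iso.ext
  exact lift_ext (levArrow A B f L M e T) _ _ (h.1.trans h'.1.symm) (h.2.trans h'.2.symm)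

omit [IsProper A.hom] [GeometricallyIntegral A.hom] [GrpObj B] [IsMonHom f] in
theorem isLev_mul (T : Over (Spec (CommRingCat.of k))) (n n' : T ⟶ N)
    (β β' : ThetaGrp.thetaObj A L T ≅ ThetaGrp.thetaObj A L T)
    (h : IsLev A B f N i L M e T n β) (h' : IsLev A B f N i L M e T n' β') :
    IsLev A B f N i L M e T (n * n') (β ≪≫ β') := by
  refine ⟨?_, ?_⟩
  · change β.hom.base ≫ β'.hom.base = _
    rw [h.1, h'.1, ← Over.comp_left, ← ThetaGrp.transl_mul, MonObj.mul_comp]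
  · change (β.hom ≫ β'.hom) ≫ _ = _
    rw [Category.assoc, h'.2, h.2]

include hL hN in
/-- level lifts are compatible with base change. -/
theorem isLev_baseChange {T' T : Over (Spec (CommRingCat.of k))} (g : T' ⟶ T) (n : T ⟶ N)
    (β : ThetaGrp.thetaObj A L T ≅ ThetaGrp.thetaObj A L T)
    (β' : ThetaGrp.thetaObj A L T' ≅ ThetaGrp.thetaObj A L T')
    (h : IsLev A B f N i L M e T n β) (h' : IsLev A B f N i L M e T' (g ≫ n) β') :
    β'.hom ≫ ThetaGrp.bcLift A L g = ThetaGrp.bcLift A L g ≫ β.hom := by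
  obtain ⟨ρ, hρb, hρ⟩ := exists_restrict A L g β (n ≫ i) h.1
  have hρb' : ρ.hom.base = (ThetaGrp.transl A ((g ≫ n) ≫ i)).left := by
    rw [Category.assoc]; exact hρb
  have hρlev : IsLev A B f N i L M e T' (g ≫ n) ρ := by
    refine ⟨hρb', ?_⟩
    have hbase : (levArrow A B f L M e T' ≫ ThetaGrp.bcLift B M g).base =
        (ThetaGrp.bcLift A L g ≫ levArrow A B f L M e T).base := by
      change (f ▷ T').left ≫ (B ◁ g).left = (A ◁ g).left ≫ (f ▷ T).left
      rw [← Over.comp_left, ← Over.comp_left, whisker_exchange]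
    haveI : IsIso (ThetaGrp.bcLift A L g ≫ levArrow A B f L M e T).fiber :=
      isIso_comp_fiber (ThetaGrp.bcLift A L g) (levArrow A B f L M e T)
    obtain ⟨r, hr⟩ := exists_smul_comp_of_base_eq (isInvertible_pullback (fst A T').left hL)
      (levArrow A B f L M e T' ≫ ThetaGrp.bcLift B M g)
      (ThetaGrp.bcLift A L g ≫ levArrow A B f L M e T) hbase
    apply lift_ext (ThetaGrp.bcLift B M g)
    · change ρ.hom.base ≫ (f ▷ T').left = (f ▷ T').left
      rw [hρb']
      exact transl_comp_lev A B f N i hN (g ≫ n)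
    · exact fix_of_scalar ρ.hom _ _ β.hom _ _ _ hr
        (central A L T' ρ.hom ((g ≫ n) ≫ i) hρb' r) hρ h.2
  rw [isLev_unique A B f N i L M e T' (g ≫ n) β' ρ h' hρlev]
  exact hρ

end Groth.Agent.H2.ThetaL
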