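import Groth.Agent.Lib.Helper2.ThetaL

/-!
# A level subgroup over the kernel of a homomorphism (helper2)
-/

set_option autoImplicit false
set_option linter.style.haveILetI false
universe u

open CategoryTheory CategoryTheory.Limits AlgebraicGeometry Opposite TopologicalSpace
open MonoidalCategory CartesianMonoidalCategory MonObj

namespace Groth.Agent.H2.ThetaM

open Groth.Agent.LD Groth.Agent.LD.QC Groth.Agent.H2.ThetaF Groth.Agent.H2.ThetaG
  Groth.Agent.H2.ThetaD Groth.Agent.H2.ThetaE Groth.Agent.H2.ThetaH Groth.Agent.H2.ThetaI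
  Groth.Agent.H2.ThetaK Groth.Agent.H2.ThetaL

variable {k : Type u} [Field k]
  (A : Over (Spec (CommRingCat.of k))) [GrpObj A] [IsCommMonObj A] [IsProper A.hom]
  [GeometricallyIntegral A.hom]
  (B : Over (Spec (CommRingCat.of k))) [GrpObj B] (f : A ⟶ B) [IsMonHom f]
  (N : Over (Spec (CommRingCat.of k))) [GrpObj N] (i : N ⟶ A) [IsMonHom i]
  (hN : AlgGrp.IsKernel i f) (L : A.left.Modules) (hL : PicF.IsInvertible L) (M : B.left.Modules)
  (e : (Scheme.Modules.pullback f.left).obj M ≅ L)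

omit [GrpObj A] [IsCommMonObj A] [IsProper A.hom] [GeometricallyIntegral A.hom] [IsMonHom f]
  [GrpObj N] [IsMonHom i] in
include hN in
theorem isImmersion_kernel : IsImmersion i.left := by
  have hη : IsImmersion (η[B] : 𝟙_ (Over (Spec (CommRingCat.of k))) ⟶ B).left := by
    haveI : IsImmersion ((η[B] : 𝟙_ (Over (Spec (CommRingCat.of k))) ⟶ B).left ≫ B.hom) := by
      rw [Over.w]
      show IsImmersion (𝟙 (Spec (CommRingCat.of k)))
      infer_instance
    exact IsImmersion.of_comp _ B.hom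
  have sq := (Functor.map_isPullback (Over.forget (Spec (CommRingCat.of k))) hN).flip
  exact MorphismProperty.of_isPullback (P := @IsImmersion) sq hη

omit [GrpObj A] [IsCommMonObj A] [IsProper A.hom] [GeometricallyIntegral A.hom] [IsMonHom f]
  [GrpObj N] [IsMonHom i] in
include hN in
theorem kernel_mono {T : Over (Spec (CommRingCat.of k))} (a b : T ⟶ N) (h : a ≫ i = b ≫ i) :
    a = b :=
  hN.hom_ext h (toUnit_unique _ _)

include hN hL e in
set_option maxHeartbeats 1600000 in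
/-- **S19953** -/
theorem s19953 (G : Over (Spec (CommRingCat.of k))) [GrpObj G] (u : ThetaGrp.thetaPts A L G)
    (hG : ThetaGrp.IsThetaGrpSch A L G u) :
    ∃ j : N ⟶ G, IsMonHom j ∧ ThetaGrp.IsLevelSubgrp u j ∧
      ∀ (T : Over (Spec (CommRingCat.of k))) (n : T ⟶ N) (β : ThetaGrp.thetaPts A L T),
        ThetaGrp.IsBaseChange β (n ≫ j) u → ThetaGrp.IsOverPt β (n ≫ i) := by
  obtain ⟨βN, hβN⟩ := exists_isLev A B f N i hN L M e N (𝟙 N)
  obtain ⟨bN, hbN⟩ : ∃ bN : ThetaGrp.thetaPts A L N, bN.1 = βN :=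
    ⟨⟨βN, ⟨𝟙 N ≫ i, hβN.1⟩⟩, rfl⟩
  obtain ⟨j, hj, -⟩ := hG.univ N bN
  have step3 : ∀ (T : Over (Spec (CommRingCat.of k))) (n : T ⟶ N)
      (b : ThetaGrp.thetaPts A L T), IsLev A B f N i L M e T n b.1 →
      ThetaGrp.IsBaseChange b (n ≫ j) u := by
    intro T n b hb
    have hb' : IsLev A B f N i L M e T (n ≫ 𝟙 N) b.1 := by
      rw [Category.comp_id]; exact hb
    have h1 : ThetaGrp.IsBaseChange b n bN := by
      have := isLev_baseChange A B f N i hN L hL M e n (𝟙 N) βN b.1 hβN hb'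
      change b.1.hom ≫ ThetaGrp.bcLift A L n = ThetaGrp.bcLift A L n ≫ bN.1.hom
      rw [hbN]
      exact this
    exact baseChange_comp A L hL n j b bN u (n ≫ i) hb.1 h1 hj
  have mkPt : ∀ (T : Over (Spec (CommRingCat.of k))) (n : T ⟶ N),
      ∃ b : ThetaGrp.thetaPts A L T, IsLev A B f N i L M e T n b.1 := by
    intro T n
    obtain ⟨β, hβ⟩ := exists_isLev A B f N i hN L M e T n
    exact ⟨⟨β, ⟨n ≫ i, hβ.1⟩⟩, hβ⟩
  have step4 : ∀ (T : Over (Spec (CommRingCat.of k))) (n : T ⟶ N)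
      (β : ThetaGrp.thetaPts A L T), ThetaGrp.IsBaseChange β (n ≫ j) u →
      ThetaGrp.IsOverPt β (n ≫ i) := by
    intro T n β hβ
    obtain ⟨b, hb⟩ := mkPt T n
    have h3 := step3 T n b hb
    have hEq := (hG.exists_bc T (n ≫ j)).unique hβ h3
    rw [hEq]
    exact hb.1
  have hmul : ∀ (T : Over (Spec (CommRingCat.of k))) (a b : T ⟶ N),
      (a * b) ≫ j = (a ≫ j) * (b ≫ j) := by
    intro T a b
    obtain ⟨ba, hba⟩ := mkPt T a
    obtain ⟨bb, hbb⟩ := mkPt T b
    have h1 := step3 T a ba hba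
    have h2 := step3 T b bb hbb
    have h3 := hG.mul T (a ≫ j) (b ≫ j) ba bb h1 h2
    have hlev : IsLev A B f N i L M e T (b * a) (ba * bb).1 :=
      isLev_mul A B f N i L M e T b a bb.1 ba.1 hbb hba
    have h4 := step3 T (b * a) (ba * bb) hlev
    have hcomm : b * a = a * b := by
      apply kernel_mono A B f N i hN
      rw [MonObj.mul_comp, MonObj.mul_comp, _root_.mul_comm]
    have hEq := (hG.univ T (ba * bb)).unique h4 h3
    rw [← hcomm]
    exact hEq
  have hone : (1 : 𝟙_ (Over (Spec (CommRingCat.of k))) ⟶ N) ≫ j = 1 := by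
    have h := hmul _ (1 : 𝟙_ (Over (Spec (CommRingCat.of k))) ⟶ N) 1
    rw [_root_.one_mul] at h
    exact mul_left_cancel (h.symm.trans (_root_.mul_one _).symm)
  have hηN : (η[N] : 𝟙_ (Over (Spec (CommRingCat.of k))) ⟶ N) = 1 := by
    rw [Hom.one_def, toUnit_unique (toUnit _) (𝟙 _), Category.id_comp]
  have hηG : (η[G] : 𝟙_ (Over (Spec (CommRingCat.of k))) ⟶ G) = 1 := by
    rw [Hom.one_def, toUnit_unique (toUnit _) (𝟙 _), Category.id_comp]
  have hμN : (μ[N] : N ⊗ N ⟶ N) = fst N N * snd N N := by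
    rw [Hom.mul_def, lift_fst_snd, Category.id_comp]
  have hmon : IsMonHom j :=
    { one_hom := by rw [hηN, hηG, hone]
      mul_hom := by
        rw [hμN, hmul, Hom.mul_def (fst N N ≫ j) (snd N N ≫ j), lift_fst_comp_snd_comp] }
  obtain ⟨π, hπ⟩ := u.2
  have hjπ : j ≫ π = i := by
    obtain ⟨β', hβ'o, hβ'bc⟩ := exists_baseChange A L j u π hπ
    have hEq := (hG.exists_bc N j).unique hβ'bc hj
    have h1 : (ThetaGrp.transl A (j ≫ π)).left = (ThetaGrp.transl A (𝟙 N ≫ i)).left := by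
      have h2 : β'.1.hom.base = (ThetaGrp.transl A (j ≫ π)).left := hβ'o
      rw [← h2, hEq, hbN]
      exact hβN.1
    have h3 := transl_left_injective A _ _ h1
    rw [Category.id_comp] at h3
    exact h3
  have himm : IsImmersion j.left := by
    haveI : IsImmersion (j.left ≫ π.left) := by
      rw [← Over.comp_left, hjπ]
      exact isImmersion_kernel A B f N i hN
    exact IsImmersion.of_comp j.left π.left
  refine ⟨j, hmon, ⟨himm, hmon, ?_⟩, step4⟩
  intro T h β hβ hβ1
  have h1 := step4 T h β hβ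
  have h2 : (ThetaGrp.transl A (h ≫ i)).left = (ThetaGrp.transl A (1 : T ⟶ A)).left :=
    h1.symm.trans hβ1
  have h3 := transl_left_injective A _ _ h2
  apply kernel_mono A B f N i hN
  rw [h3, MonObj.one_comp]

end Groth.Agent.H2.ThetaM
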