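import Groth.Agent.Lib.Helper2.ThetaL

/-!
# The commutator function of two points of the theta group (helper2)

For an abelian variety `X` over a field and an invertible `L`: two points `b₁, b₂` of `G(L)(T)`
commute up to a unique function on `T`; this function is compatible with base change and depends
only on the points of `X` under `b₁, b₂`.
-/

set_option autoImplicit false
set_option linter.style.haveILetI false
universe u

open CategoryTheory CategoryTheory.Limits AlgebraicGeometry Opposite TopologicalSpace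
open MonoidalCategory CartesianMonoidalCategory MonObj

namespace Groth.Agent.H2.ThetaN

open CategoryTheory.Pseudofunctor CategoryTheory.Pseudofunctor.CoGrothendieck
open Groth.Agent.LD Groth.Agent.LD.QC Groth.Agent.LD.Ann Groth.Agent.H2.ThetaF Groth.Agent.H2.ThetaG
  Groth.Agent.H2.ThetaD Groth.Agent.H2.ThetaE Groth.Agent.H2.ThetaH Groth.Agent.H2.ThetaI
  Groth.Agent.H2.ThetaK Groth.Agent.H2.ThetaL

section Cat
variable {C : Type*} [Category C]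

theorem comm_congr_aux {a : C} (b₁ b₂ ζ ξ : a ⟶ a) (h : b₂ ≫ b₁ = ξ ≫ b₁ ≫ b₂)
    (h1 : ζ ≫ b₂ = b₂ ≫ ζ) (h2 : ζ ≫ ξ = ξ ≫ ζ) :
    b₂ ≫ (ζ ≫ b₁) = ξ ≫ (ζ ≫ b₁) ≫ b₂ :=
  calc b₂ ≫ (ζ ≫ b₁) = (b₂ ≫ ζ) ≫ b₁ := (Category.assoc _ _ _).symm
    _ = (ζ ≫ b₂) ≫ b₁ := by rw [h1]
    _ = ζ ≫ (b₂ ≫ b₁) := Category.assoc _ _ _
    _ = ζ ≫ ξ ≫ b₁ ≫ b₂ := by rw [h]
    _ = (ζ ≫ ξ) ≫ b₁ ≫ b₂ := (Category.assoc _ _ _).symm
    _ = (ξ ≫ ζ) ≫ b₁ ≫ b₂ := by rw [h2]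
    _ = ξ ≫ (ζ ≫ b₁) ≫ b₂ := by simp only [Category.assoc]

theorem comm_bc_aux {a' a : C} (bc : a' ⟶ a) (ρ₁ ρ₂ ξ' : a' ⟶ a') (b₁ b₂ ξ : a ⟶ a)
    (e1 : ρ₁ ≫ bc = bc ≫ b₁) (e2 : ρ₂ ≫ bc = bc ≫ b₂) (eξ : ξ' ≫ bc = bc ≫ ξ)
    (h : b₂ ≫ b₁ = ξ ≫ b₁ ≫ b₂) : (ρ₂ ≫ ρ₁) ≫ bc = (ξ' ≫ ρ₁ ≫ ρ₂) ≫ bc :=
  calc (ρ₂ ≫ ρ₁) ≫ bc = ρ₂ ≫ (ρ₁ ≫ bc) := Category.assoc _ _ _
    _ = ρ₂ ≫ (bc ≫ b₁) := by rw [e1]
    _ = (ρ₂ ≫ bc) ≫ b₁ := (Category.assoc _ _ _).symm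
    _ = (bc ≫ b₂) ≫ b₁ := by rw [e2]
    _ = bc ≫ (b₂ ≫ b₁) := Category.assoc _ _ _
    _ = bc ≫ ξ ≫ b₁ ≫ b₂ := by rw [h]
    _ = (bc ≫ ξ) ≫ b₁ ≫ b₂ := (Category.assoc _ _ _).symm
    _ = (ξ' ≫ bc) ≫ b₁ ≫ b₂ := by rw [eξ]
    _ = ξ' ≫ (bc ≫ b₁) ≫ b₂ := by simp only [Category.assoc]
    _ = ξ' ≫ (ρ₁ ≫ bc) ≫ b₂ := by rw [e1]
    _ = ξ' ≫ ρ₁ ≫ (bc ≫ b₂) := by simp only [Category.assoc]
    _ = ξ' ≫ ρ₁ ≫ (ρ₂ ≫ bc) := by rw [e2]
    _ = (ξ' ≫ ρ₁ ≫ ρ₂) ≫ bc := by simp only [Category.assoc]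

end Cat

section Ext

theorem fn_ext_of_opens_cover {Y : Scheme.{u}} (a b : Γ(Y, ⊤))
    (h : ∀ y : Y, ∃ U : Y.Opens, y ∈ U ∧ U.ι.appTop.hom a = U.ι.appTop.hom b) : a = b := by
  choose U hU hr using h
  have hcov : (⊤ : Y.Opens) ≤ ⨆ t : Y, (U t).ι ''ᵁ ⊤ := by
    intro t _
    refine Opens.mem_iSup.mpr ⟨t, ?_⟩
    rw [Scheme.Opens.ι_image_top]
    exact hU t
  apply Groth.Agent.H5.Glue.fn_ext_of_cover (fun t : Y => (U t).ι ''ᵁ ⊤) ⊤ (fun _ => le_top) hcov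
  intro t
  exact hr t

end Ext

section General
variable {S : Scheme.{u}} (A : Over S) [GrpObj A] (L : A.left.Modules)

/-- base changes over a given point are unique. -/
theorem baseChange_unique {T' T : Over S} (g : T' ⟶ T) (u : ThetaGrp.thetaPts A L T)
    (ρ ρ' : ThetaGrp.thetaPts A L T') (x : T' ⟶ A) (hρ : ThetaGrp.IsOverPt ρ x)
    (hρ' : ThetaGrp.IsOverPt ρ' x) (h : ThetaGrp.IsBaseChange ρ g u)
    (h' : ThetaGrp.IsBaseChange ρ' g u) : ρ = ρ' :=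
  Subtype.ext (Iso.ext (lift_ext (ThetaGrp.bcLift A L g) _ _ (hρ.trans hρ'.symm)
    (h.trans h'.symm)))

end General

variable {k : Type u} [Field k] (X : Over (Spec (CommRingCat.of k))) [GrpObj X] [IsCommMonObj X]
  [IsProper X.hom] [GeometricallyIntegral X.hom] (L : X.left.Modules) (hL : PicF.IsInvertible L)

/-- the commutator of `b₁` and `b₂` is the function `r₀` on `T`. -/
def IsComm (T : Over (Spec (CommRingCat.of k))) (b₁ b₂ : ThetaGrp.thetaPts X L T)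
    (r₀ : Γ(T.left, ⊤)) : Prop :=
  b₂.1.hom ≫ b₁.1.hom =
    fibM (smulEnd ((Scheme.Modules.pullback (fst X T).left).obj L)
      ((snd X T).left.appTop.hom r₀)) ≫ b₁.1.hom ≫ b₂.1.hom

include hL in
theorem exists_isComm (T : Over (Spec (CommRingCat.of k))) (b₁ b₂ : ThetaGrp.thetaPts X L T) :
    ∃ r₀, IsComm X L T b₁ b₂ r₀ := by
  obtain ⟨h₁, hb₁⟩ := b₁.2
  obtain ⟨h₂, hb₂⟩ := b₂.2
  obtain ⟨r, hr⟩ := exists_smul_comp_eq (isInvertible_pullback (fst X T).left hL)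
    (b₂.1 ≪≫ b₁.1) (b₁.1 ≪≫ b₂.1) (trans_base_eq X L T b₁.1 b₂.1 h₁ h₂ hb₁ hb₂)
  obtain ⟨r₀, rfl⟩ := (bijective_snd_app X T ⊤).2 r
  exact ⟨r₀, hr⟩

omit [IsCommMonObj X] in
include hL in
theorem isComm_unique (T : Over (Spec (CommRingCat.of k))) (b₁ b₂ : ThetaGrp.thetaPts X L T)
    (r₀ r₀' : Γ(T.left, ⊤)) (h : IsComm X L T b₁ b₂ r₀) (h' : IsComm X L T b₁ b₂ r₀') :
    r₀ = r₀' := by
  have e := h.symm.trans h'
  have e' := (Iso.cancel_iso_hom_right _ _ (b₁.1 ≪≫ b₂.1)).mp e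
  have e'' := smulEnd_injective _ (isInvertible_pullback (fst X T).left hL) (fib_injective e')
  exact (bijective_snd_app X T ⊤).1 e''

omit [IsCommMonObj X] [IsProper X.hom] [GeometricallyIntegral X.hom] in
theorem isComm_one_left (T : Over (Spec (CommRingCat.of k))) (b₂ : ThetaGrp.thetaPts X L T) :
    IsComm X L T 1 b₂ 1 := by
  change b₂.1.hom ≫ 𝟙 _ = fibM (smulEnd _ ((snd X T).left.appTop.hom 1)) ≫ 𝟙 _ ≫ b₂.1.hom
  rw [map_one, fibM_smulEnd_one, Category.id_comp, Category.id_comp, Category.comp_id]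

omit [IsCommMonObj X] [IsProper X.hom] [GeometricallyIntegral X.hom] in
theorem comm_of_isComm_one (T : Over (Spec (CommRingCat.of k)))
    (b₁ b₂ : ThetaGrp.thetaPts X L T) (h : IsComm X L T b₁ b₂ 1) : b₁ * b₂ = b₂ * b₁ := by
  apply Subtype.ext
  apply Iso.ext
  change b₂.1.hom ≫ b₁.1.hom = b₁.1.hom ≫ b₂.1.hom
  have h' := h
  unfold IsComm at h'
  rw [map_one, fibM_smulEnd_one, Category.id_comp] at h'
  exact h'

omit [IsCommMonObj X] in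
include hL in
/-- the commutator function only depends on the point of `X` under `b₁`. -/
theorem isComm_congr_left (T : Over (Spec (CommRingCat.of k)))
    (b₁ b₁' b₂ : ThetaGrp.thetaPts X L T) (x : T ⟶ X) (h₁ : ThetaGrp.IsOverPt b₁ x)
    (h₁' : ThetaGrp.IsOverPt b₁' x) (r₀ : Γ(T.left, ⊤)) (h : IsComm X L T b₁ b₂ r₀) :
    IsComm X L T b₁' b₂ r₀ := by
  obtain ⟨h₂, hb₂⟩ := b₂.2
  obtain ⟨c, hc⟩ := exists_smul_comp_eq (isInvertible_pullback (fst X T).left hL) b₁'.1 b₁.1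
    (h₁'.trans h₁.symm)
  have hζb₂ := central X L T b₂.1.hom h₂ hb₂ c
  have hζξ := central X L T
    (fibM (smulEnd ((Scheme.Modules.pullback (fst X T).left).obj L)
      ((snd X T).left.appTop.hom r₀))) 1 (by rw [ThetaGrp.transl_one]; rfl) c
  unfold IsComm
  rw [hc]
  exact comm_congr_aux _ _ _ _ h hζb₂ hζξ

include hL in
/-- the commutator function is compatible with base change. -/
theorem isComm_baseChange {T' T : Over (Spec (CommRingCat.of k))} (g : T' ⟶ T)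
    (b₁ b₂ : ThetaGrp.thetaPts X L T) (ρ₁ ρ₂ : ThetaGrp.thetaPts X L T')
    (h1 : ThetaGrp.IsBaseChange ρ₁ g b₁) (h2 : ThetaGrp.IsBaseChange ρ₂ g b₂)
    (r₀ : Γ(T.left, ⊤)) (h : IsComm X L T b₁ b₂ r₀) :
    IsComm X L T' ρ₁ ρ₂ (g.left.appTop.hom r₀) := by
  obtain ⟨x₁, hρ₁⟩ := ρ₁.2
  obtain ⟨x₂, hρ₂⟩ := ρ₂.2
  have hsq : (X ◁ g).left ≫ (snd X T).left = (snd X T').left ≫ g.left := by
    rw [← Over.comp_left, whiskerLeft_snd, Over.comp_left]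
  have hfn : (ThetaGrp.bcLift X L g).base.appTop.hom ((snd X T).left.appTop.hom r₀) =
      (snd X T').left.appTop.hom (g.left.appTop.hom r₀) :=
    congrArg (fun φ : (X ⊗ T').left ⟶ T.left => φ.appTop.hom r₀) hsq
  have eξ := scalar_comm (ThetaGrp.bcLift X L g) ((snd X T).left.appTop.hom r₀)
  rw [hfn] at eξ
  unfold IsComm
  apply lift_ext (ThetaGrp.bcLift X L g)
  · exact (trans_base_eq X L T' ρ₁.1 ρ₂.1 x₁ x₂ hρ₁ hρ₂).trans (fib_comp_base _ _).symm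
  · exact comm_bc_aux _ _ _ _ _ _ _ h1 h2 eξ h

include hL in
/-- a point of the theta group is its own base change along the identity. -/
theorem isBaseChange_id (T : Over (Spec (CommRingCat.of k))) (β : ThetaGrp.thetaPts X L T) :
    ThetaGrp.IsBaseChange β (𝟙 T) β := by
  obtain ⟨x, hβ⟩ := β.2
  have hb : (ThetaGrp.bcLift X L (𝟙 T)).base = 𝟙 _ := by
    change (X ◁ 𝟙 T).left = 𝟙 _
    rw [MonoidalCategory.whiskerLeft_id]
    rfl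
  obtain ⟨w, hw⟩ := exists_fib_eq (ThetaGrp.bcLift X L (𝟙 T)) hb
  obtain ⟨r, hr⟩ := exists_smulEnd_eq _ (isInvertible_pullback (fst X T).left hL) w
  unfold ThetaGrp.IsBaseChange
  rw [hw, hr]
  exact (central X L T β.1.hom x hβ r).symm

end Groth.Agent.H2.ThetaN
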