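import Groth.Agent.Lib.Helper2.ThetaN

/-!
# The theta group of a module with `K(L) = X` is commutative (helper2)

The commutator functions of the local lifts of the universal point of `X × T` with a fixed point
of `G(L)(T)` glue to a global function on `X × T`, which comes from `T`; evaluating along the unit
section shows that it is `1`.
-/

set_option autoImplicit false
set_option linter.style.haveILetI false
universe u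

open CategoryTheory CategoryTheory.Limits AlgebraicGeometry Opposite TopologicalSpace
open MonoidalCategory CartesianMonoidalCategory MonObj

namespace Groth.Agent.H2.ThetaO

open Groth.Agent.LD Groth.Agent.LD.QC Groth.Agent.H2.ThetaF Groth.Agent.H2.ThetaG
  Groth.Agent.H2.ThetaD Groth.Agent.H2.ThetaE Groth.Agent.H2.ThetaH Groth.Agent.H2.ThetaI
  Groth.Agent.H2.ThetaK Groth.Agent.H2.ThetaL Groth.Agent.H2.ThetaN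

variable {k : Type u} [Field k] (X : Over (Spec (CommRingCat.of k))) [GrpObj X] [IsCommMonObj X]
  [IsProper X.hom] [GeometricallyIntegral X.hom] (L : X.left.Modules) (hL : PicF.IsInvertible L)

include hL in
/-- comparison of commutator functions after base change to a common scheme. -/
theorem cmp {T T₁ T₂ O : Over (Spec (CommRingCat.of k))} (β₂ : ThetaGrp.thetaPts X L T)
    (h₂ : T ⟶ X) (g₁ : T₁ ⟶ T) (g₂ : T₂ ⟶ T) (i₁ : O ⟶ T₁)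
    (i₂ : O ⟶ T₂) (hg : i₁ ≫ g₁ = i₂ ≫ g₂) (x₁ : T₁ ⟶ X) (x₂ : T₂ ⟶ X)
    (hx : i₁ ≫ x₁ = i₂ ≫ x₂) (lam₁ : ThetaGrp.thetaPts X L T₁) (lam₂ : ThetaGrp.thetaPts X L T₂)
    (hl₁ : ThetaGrp.IsOverPt lam₁ x₁) (hl₂ : ThetaGrp.IsOverPt lam₂ x₂)
    (b₁ : ThetaGrp.thetaPts X L T₁) (b₂ : ThetaGrp.thetaPts X L T₂)
    (hb₁o : ThetaGrp.IsOverPt b₁ (g₁ ≫ h₂)) (hb₂o : ThetaGrp.IsOverPt b₂ (g₂ ≫ h₂))
    (hb₁ : ThetaGrp.IsBaseChange b₁ g₁ β₂) (hb₂ : ThetaGrp.IsBaseChange b₂ g₂ β₂)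
    (s₁ : Γ(T₁.left, ⊤)) (s₂ : Γ(T₂.left, ⊤)) (hs₁ : IsComm X L T₁ lam₁ b₁ s₁)
    (hs₂ : IsComm X L T₂ lam₂ b₂ s₂) :
    i₁.left.appTop.hom s₁ = i₂.left.appTop.hom s₂ := by
  obtain ⟨l₁, hl₁o, hl₁b⟩ := exists_baseChange X L i₁ lam₁ x₁ hl₁
  obtain ⟨l₂, hl₂o, hl₂b⟩ := exists_baseChange X L i₂ lam₂ x₂ hl₂
  obtain ⟨c₁, hc₁o, hc₁b⟩ := exists_baseChange X L i₁ b₁ (g₁ ≫ h₂) hb₁o
  obtain ⟨c₂, hc₂o, hc₂b⟩ := exists_baseChange X L i₂ b₂ (g₂ ≫ h₂) hb₂o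
  have k₁ := isComm_baseChange X L hL i₁ lam₁ b₁ l₁ c₁ hl₁b hc₁b s₁ hs₁
  have k₂ := isComm_baseChange X L hL i₂ lam₂ b₂ l₂ c₂ hl₂b hc₂b s₂ hs₂
  have t₁ := baseChange_comp X L hL i₁ g₁ c₁ b₁ β₂ (i₁ ≫ g₁ ≫ h₂) hc₁o hc₁b hb₁
  have t₂ := baseChange_comp X L hL i₂ g₂ c₂ b₂ β₂ (i₂ ≫ g₂ ≫ h₂) hc₂o hc₂b hb₂
  rw [← hg] at t₂
  have hpt : i₂ ≫ g₂ ≫ h₂ = i₁ ≫ g₁ ≫ h₂ := by
    rw [← Category.assoc, ← hg, Category.assoc]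
  rw [hpt] at hc₂o
  have hc : c₁ = c₂ := baseChange_unique X L (i₁ ≫ g₁) β₂ c₁ c₂ _ hc₁o hc₂o t₁ t₂
  rw [← hx] at hl₂o
  have k₁' := isComm_congr_left X L hL O l₁ l₂ c₁ (i₁ ≫ x₁) hl₁o hl₂o _ k₁
  rw [hc] at k₁'
  exact isComm_unique X L hL O l₂ c₂ _ _ k₁' k₂

include hL in
set_option maxHeartbeats 3200000 in
/-- for a fixed point `β₂` of the theta group, the commutator function with `β₂` is the same for
all points `β₁`, provided `K(L) = X`. -/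
theorem exists_univ_fn (hK : ThetaGrp.IsKL X L (𝟙 X)) (T : Over (Spec (CommRingCat.of k)))
    (β₂ : ThetaGrp.thetaPts X L T) :
    ∃ e₀ : Γ(T.left, ⊤), ∀ β₁ : ThetaGrp.thetaPts X L T, IsComm X L T β₁ β₂ e₀ := by
  obtain ⟨h₂, hβ₂⟩ := β₂.2
  have hloc := (s19945 X L hL (𝟙 X) hK (X ⊗ T) (fst X T)).mp ⟨fst X T, Category.comp_id _⟩
  choose V hV lam hlam using hloc
  have hres : ∀ w : (X ⊗ T).left, ∃ b : ThetaGrp.thetaPts X L (Over.mk ((V w).ι ≫ (X ⊗ T).hom)),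
      ThetaGrp.IsOverPt b (((Over.homMk (V w).ι rfl :
        Over.mk ((V w).ι ≫ (X ⊗ T).hom) ⟶ X ⊗ T) ≫ snd X T) ≫ h₂) ∧
      ThetaGrp.IsBaseChange b ((Over.homMk (V w).ι rfl :
        Over.mk ((V w).ι ≫ (X ⊗ T).hom) ⟶ X ⊗ T) ≫ snd X T) β₂ :=
    fun w => exists_baseChange X L _ β₂ h₂ hβ₂
  choose b hbo hbb using hres
  have hfn : ∀ w : (X ⊗ T).left, ∃ s : Γ((Over.mk ((V w).ι ≫ (X ⊗ T).hom)).left, ⊤),
      IsComm X L _ (lam w) (b w) s := fun w => exists_isComm X L hL _ (lam w) (b w)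
  choose sfn hs using hfn
  have hcov : (⊤ : (X ⊗ T).left.Opens) ≤ ⨆ w : (X ⊗ T).left, (V w).ι ''ᵁ ⊤ := by
    intro w _
    refine Opens.mem_iSup.mpr ⟨w, ?_⟩
    rw [Scheme.Opens.ι_image_top]
    exact hV w
  have hcompat : ∀ w w' : (X ⊗ T).left,
      Groth.Agent.H5.Glue.res (inf_le_left : (V w).ι ''ᵁ ⊤ ⊓ (V w').ι ''ᵁ ⊤ ≤ (V w).ι ''ᵁ ⊤)
          (sfn w : Γ((X ⊗ T).left, (V w).ι ''ᵁ ⊤)) =
        Groth.Agent.H5.Glue.res (inf_le_right : (V w).ι ''ᵁ ⊤ ⊓ (V w').ι ''ᵁ ⊤ ≤ (V w').ι ''ᵁ ⊤)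
          (sfn w' : Γ((X ⊗ T).left, (V w').ι ''ᵁ ⊤)) := by
    intro w w'
    obtain ⟨O, hOdef⟩ : ∃ O : (X ⊗ T).left.Opens, O = (V w).ι ''ᵁ ⊤ ⊓ (V w').ι ''ᵁ ⊤ := ⟨_, rfl⟩
    have hO₁ : O ≤ V w := by
      rw [hOdef]; exact inf_le_left.trans (Scheme.Opens.ι_image_top (V w)).le
    have hO₂ : O ≤ V w' := by
      rw [hOdef]; exact inf_le_right.trans (Scheme.Opens.ι_image_top (V w')).le
    let i₁ : Over.mk (O.ι ≫ (X ⊗ T).hom) ⟶ Over.mk ((V w).ι ≫ (X ⊗ T).hom) :=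
      Over.homMk ((X ⊗ T).left.homOfLE hO₁) (by
        change (X ⊗ T).left.homOfLE hO₁ ≫ (V w).ι ≫ (X ⊗ T).hom = O.ι ≫ (X ⊗ T).hom
        rw [← Category.assoc, Scheme.homOfLE_ι])
    let i₂ : Over.mk (O.ι ≫ (X ⊗ T).hom) ⟶ Over.mk ((V w').ι ≫ (X ⊗ T).hom) :=
      Over.homMk ((X ⊗ T).left.homOfLE hO₂) (by
        change (X ⊗ T).left.homOfLE hO₂ ≫ (V w').ι ≫ (X ⊗ T).hom = O.ι ≫ (X ⊗ T).hom
        rw [← Category.assoc, Scheme.homOfLE_ι])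
    have e₁ : i₁ ≫ (Over.homMk (V w).ι rfl : Over.mk ((V w).ι ≫ (X ⊗ T).hom) ⟶ X ⊗ T) =
        (Over.homMk O.ι rfl : Over.mk (O.ι ≫ (X ⊗ T).hom) ⟶ X ⊗ T) := by
      apply Over.OverMorphism.ext
      change (X ⊗ T).left.homOfLE hO₁ ≫ (V w).ι = O.ι
      exact Scheme.homOfLE_ι _ _
    have e₂ : i₂ ≫ (Over.homMk (V w').ι rfl : Over.mk ((V w').ι ≫ (X ⊗ T).hom) ⟶ X ⊗ T) =
        (Over.homMk O.ι rfl : Over.mk (O.ι ≫ (X ⊗ T).hom) ⟶ X ⊗ T) := by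
      apply Over.OverMorphism.ext
      change (X ⊗ T).left.homOfLE hO₂ ≫ (V w').ι = O.ι
      exact Scheme.homOfLE_ι _ _
    have key := cmp X L hL β₂ h₂ _ _ i₁ i₂
      (by rw [← Category.assoc, ← Category.assoc, e₁, e₂]) _ _
      (by rw [← Category.assoc, ← Category.assoc, e₁, e₂])
      (lam w) (lam w') (hlam w) (hlam w') (b w) (b w') (hbo w) (hbo w') (hbb w) (hbb w')
      (sfn w) (sfn w') (hs w) (hs w')
    have k₁ : ((X ⊗ T).left.homOfLE hO₁).appTop.hom (sfn w) =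
        ((X ⊗ T).left.homOfLE hO₂).appTop.hom (sfn w') := key
    rw [Scheme.homOfLE_appTop, Scheme.homOfLE_appTop] at k₁
    subst hOdef
    apply Groth.Agent.H5.Glue.fn_ext_of_cover
      (fun _ : Unit => ((V w).ι ''ᵁ ⊤ ⊓ (V w').ι ''ᵁ ⊤).ι ''ᵁ ⊤) _
      (fun _ => (Scheme.Opens.ι_image_top _).le)
      (le_iSup_of_le () (Scheme.Opens.ι_image_top _).ge)
    intro _
    rw [Groth.Agent.H5.Glue.res_res, Groth.Agent.H5.Glue.res_res]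
    exact k₁
  obtain ⟨s, hsg, -⟩ := Groth.Agent.H5.Glue.existsUnique_glue_fn (fun w => (V w).ι ''ᵁ ⊤) ⊤
    (fun _ => le_top) hcov (fun w => (sfn w : Γ((X ⊗ T).left, (V w).ι ''ᵁ ⊤))) hcompat
  obtain ⟨e₀, he₀⟩ := (bijective_snd_app X T ⊤).2 s
  refine ⟨e₀, fun β₁ => ?_⟩
  obtain ⟨h₁, hβ₁⟩ := β₁.2
  obtain ⟨r', hr'⟩ := exists_isComm X L hL T β₁ β₂
  suffices hre : r' = e₀ by rw [← hre]; exact hr'
  obtain ⟨σ, hσdef⟩ : ∃ σ : T ⟶ X ⊗ T, σ = lift h₁ (𝟙 T) := ⟨_, rfl⟩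
  have hσ₁ : σ ≫ fst X T = h₁ := by rw [hσdef, lift_fst]
  have hσ₂ : σ ≫ snd X T = 𝟙 T := by rw [hσdef, lift_snd]
  apply fn_ext_of_opens_cover
  intro t
  obtain ⟨w, hwdef⟩ : ∃ w : (X ⊗ T).left, w = σ.left t := ⟨_, rfl⟩
  have htU : t ∈ σ.left ⁻¹ᵁ (V w) := by
    change σ.left t ∈ V w
    rw [← hwdef]
    exact hV w
  refine ⟨σ.left ⁻¹ᵁ (V w), htU, ?_⟩
  let gU : Over.mk ((σ.left ⁻¹ᵁ (V w)).ι ≫ T.hom) ⟶ Over.mk ((V w).ι ≫ (X ⊗ T).hom) :=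
    Over.homMk (σ.left ∣_ (V w)) (by
      change (σ.left ∣_ (V w)) ≫ (V w).ι ≫ (X ⊗ T).hom = (σ.left ⁻¹ᵁ (V w)).ι ≫ T.hom
      rw [← Category.assoc, morphismRestrict_ι, Category.assoc, Over.w σ])
  have hgU : gU ≫ (Over.homMk (V w).ι rfl : Over.mk ((V w).ι ≫ (X ⊗ T).hom) ⟶ X ⊗ T) =
      (Over.homMk (σ.left ⁻¹ᵁ (V w)).ι rfl : Over.mk ((σ.left ⁻¹ᵁ (V w)).ι ≫ T.hom) ⟶ T) ≫ σ := by
    apply Over.OverMorphism.ext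
    change (σ.left ∣_ (V w)) ≫ (V w).ι = (σ.left ⁻¹ᵁ (V w)).ι ≫ σ.left
    exact morphismRestrict_ι _ _
  have hβ₂' : ThetaGrp.IsOverPt β₂ (𝟙 T ≫ h₂) := by rw [Category.id_comp]; exact hβ₂
  have key := cmp X L hL β₂ h₂
    ((Over.homMk (V w).ι rfl : Over.mk ((V w).ι ≫ (X ⊗ T).hom) ⟶ X ⊗ T) ≫ snd X T) (𝟙 T) gU
    (Over.homMk (σ.left ⁻¹ᵁ (V w)).ι rfl : Over.mk ((σ.left ⁻¹ᵁ (V w)).ι ≫ T.hom) ⟶ T)
    (by rw [← Category.assoc, hgU, Category.assoc, hσ₂])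
    ((Over.homMk (V w).ι rfl : Over.mk ((V w).ι ≫ (X ⊗ T).hom) ⟶ X ⊗ T) ≫ fst X T) h₁
    (by rw [← Category.assoc, hgU, Category.assoc, hσ₁])
    (lam w) β₁ (hlam w) hβ₁ (b w) β₂ (hbo w) hβ₂' (hbb w) (isBaseChange_id X L hL T β₂)
    (sfn w) r' (hs w) hr'
  have k₁ : (σ.left ∣_ (V w)).appTop.hom (sfn w) = (σ.left ⁻¹ᵁ (V w)).ι.appTop.hom r' := key
  have hmor : (σ.left ∣_ (V w)) ≫ (V w).ι ≫ (snd X T).left = (σ.left ⁻¹ᵁ (V w)).ι := by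
    rw [← Category.assoc, morphismRestrict_ι, Category.assoc, ← Over.comp_left, hσ₂]
    exact Category.comp_id _
  have k₂ : (σ.left ∣_ (V w)).appTop.hom (sfn w) = (σ.left ⁻¹ᵁ (V w)).ι.appTop.hom e₀ := by
    have h1 : sfn w = (V w).ι.appTop.hom s := (hsg w).symm
    rw [h1, ← he₀]
    exact congrArg (fun φ : ((σ.left ⁻¹ᵁ (V w)) : Scheme.{u}) ⟶ T.left => φ.appTop.hom e₀) hmor
  exact k₁.symm.trans k₂

include hL in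
/-- **S19946** -/
theorem s19946 (hK : ThetaGrp.IsKL X L (𝟙 X)) (T : Over (Spec (CommRingCat.of k)))
    (β₁ β₂ : ThetaGrp.thetaPts X L T) : β₁ * β₂ = β₂ * β₁ := by
  obtain ⟨e₀, he₀⟩ := exists_univ_fn X L hL hK T β₂
  have h1 : e₀ = 1 := isComm_unique X L hL T 1 β₂ _ _ (he₀ 1) (isComm_one_left X L T β₂)
  have h2 := he₀ β₁
  rw [h1] at h2
  exact comm_of_isComm_one X L T β₁ β₂ h2

end Groth.Agent.H2.ThetaO
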