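import Mathlib
import Groth.Prelude.Def_MoreMor

/-!
# Thickenings and finiteness conditions (helper2)

* `ringHom_finiteType_of_comp`: `A → B → C`, `B → C` surjective with nilpotent f.g. kernel,
  `A → C` of finite type ⇒ `A → B` of finite type.
* `lft_iff` (S13997), `lfp_iff` (S14008).
-/

set_option autoImplicit false

namespace Groth.Agent.H2.Thick
open AlgebraicGeometry CategoryTheory

universe u

theorem finiteType_of_surjective_nilpotent {A B C : Type*} [CommRing A] [CommRing B] [CommRing C]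
    [Algebra A B] [Algebra A C] (π : B →ₐ[A] C) (hπ : Function.Surjective π)
    (hnil : IsNilpotent (RingHom.ker π.toRingHom)) (hfg : (RingHom.ker π.toRingHom).FG)
    (h : Algebra.FiniteType A C) : Algebra.FiniteType A B := by
  classical
  set J := RingHom.ker π.toRingHom with hJ
  obtain ⟨s, hs⟩ := h.out
  obtain ⟨m, g, hg⟩ := Submodule.fg_iff_exists_fin_generating_family.mp hfg
  let b : s → B := fun x => Function.surjInv hπ x.1
  have hb : ∀ x : s, π (b x) = x.1 := fun x => Function.surjInv_eq hπ _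
  let B' : Subalgebra A B := Algebra.adjoin A (Set.range b ∪ Set.range g)
  have hbB' : ∀ x, b x ∈ B' := fun x => Algebra.subset_adjoin (Or.inl ⟨x, rfl⟩)
  have hgB' : ∀ k, g k ∈ B' := fun k => Algebra.subset_adjoin (Or.inr ⟨k, rfl⟩)
  -- step 1
  have h1 : ∀ x : B, ∃ p ∈ B', x - p ∈ J ^ 1 := by
    intro x
    have hmap : B'.map π = ⊤ := by
      rw [eq_top_iff, ← hs]
      apply Algebra.adjoin_le
      intro c hc
      exact ⟨b ⟨c, hc⟩, hbB' _, hb _⟩
    have : π x ∈ B'.map π := hmap ▸ Algebra.mem_top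
    obtain ⟨p, hp, hpx⟩ := this
    refine ⟨p, hp, ?_⟩
    rw [pow_one, hJ, RingHom.mem_ker]
    change π (x - p) = 0
    have hpx' : π p = π x := hpx
    rw [map_sub, hpx', sub_self]
  have hstep : ∀ k : ℕ, k ≠ 0 → (∀ x : B, ∃ p ∈ B', x - p ∈ J ^ k) →
      ∀ x : B, ∃ p ∈ B', x - p ∈ J ^ (k + 1) := by
    intro k hk ih x
    obtain ⟨p, hp, hxp⟩ := ih x
    have hz : x - p ∈ Submodule.span B (Set.range g) := by
      rw [hg]; exact Ideal.pow_le_self hk hxp
    obtain ⟨c, hc⟩ := (Submodule.mem_span_range_iff_exists_fun B).mp hz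
    choose q hq hcq using fun i => ih (c i)
    refine ⟨p + ∑ i, q i * g i, B'.add_mem hp (B'.sum_mem fun i _ => B'.mul_mem (hq i) (hgB' i)), ?_⟩
    have : x - (p + ∑ i, q i * g i) = ∑ i, (c i - q i) * g i := by
      simp only [sub_mul, Finset.sum_sub_distrib]
      simp only [smul_eq_mul] at hc
      rw [hc]; ring
    rw [this, pow_succ]
    refine Ideal.sum_mem _ fun i _ => Ideal.mul_mem_mul (hcq i) ?_
    rw [← hg]
    exact Submodule.subset_span ⟨i, rfl⟩
  have hall : ∀ k : ℕ, k ≠ 0 → ∀ x : B, ∃ p ∈ B', x - p ∈ J ^ k := by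
    intro k hk
    induction k with
    | zero => exact absurd rfl hk
    | succ k ih =>
      rcases Nat.eq_zero_or_pos k with rfl | hk'
      · simpa using h1
      · exact hstep k hk'.ne' (ih hk'.ne')
  obtain ⟨n, hn⟩ := hnil
  have htop : B' = ⊤ := by
    rw [eq_top_iff]
    intro x _
    obtain ⟨p, hp, hxp⟩ := hall (n + 1) (Nat.succ_ne_zero n) x
    rw [pow_succ, hn, Ideal.zero_eq_bot, Ideal.bot_mul, Ideal.mem_bot, sub_eq_zero] at hxp
    rw [hxp]; exact hp
  exact ⟨Subalgebra.fg_def.mpr ⟨_, (Set.finite_range b).union (Set.finite_range g), htop⟩⟩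

theorem ringHom_finiteType_of_comp {A B C : Type*} [CommRing A] [CommRing B] [CommRing C]
    (φ : A →+* B) (π : B →+* C) (hπ : Function.Surjective π)
    (hnil : IsNilpotent (RingHom.ker π)) (hfg : (RingHom.ker π).FG)
    (h : (π.comp φ).FiniteType) : φ.FiniteType := by
  let _ := φ.toAlgebra
  let _ := (π.comp φ).toAlgebra
  let π' : B →ₐ[A] C := { π with commutes' := fun _ => rfl }
  exact finiteType_of_surjective_nilpotent π' hπ hnil hfg h

lemma appLE_of_eq {X Y : Scheme.{u}} {f g : X ⟶ Y} (h : f = g) (U : Y.Opens) (V : X.Opens)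
    (e : V ≤ f ⁻¹ᵁ U) : f.appLE U V e = g.appLE U V (h ▸ e) := by
  subst h; rfl

/-- S13997 -/
theorem lft_iff {X X₀ Y Y₀ : Scheme.{u}}
    (F : Y ⟶ X) (F₀ : Y₀ ⟶ X₀) (i : Y₀ ⟶ Y) (j : X₀ ⟶ X)
    (hi : MoreMor.IsThickening i) (hj : MoreMor.IsThickening j)
    (hinil : ∀ U : Y.affineOpens, IsNilpotent (i.ker.ideal U))
    (hfg : ∀ U : Y.affineOpens, (i.ker.ideal U).FG)
    (w : F₀ ≫ j = i ≫ F) :
    LocallyOfFiniteType F ↔ LocallyOfFiniteType F₀ := by
  have : IsClosedImmersion i := hi.1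
  have : IsClosedImmersion j := hj.1
  constructor
  · intro hF
    have : LocallyOfFiniteType (F₀ ≫ j) := by rw [w]; infer_instance
    exact locallyOfFiniteType_of_comp F₀ j
  · intro hF₀
    rw [HasRingHomProperty.iff_appLE (P := @LocallyOfFiniteType)]
    intro U V e
    -- U affine in X, V affine in Y
    have hV₀ : IsAffineOpen (i ⁻¹ᵁ V.1) := V.2.preimage i
    have hU₀ : IsAffineOpen (j ⁻¹ᵁ U.1) := U.2.preimage j
    have e₀ : i ⁻¹ᵁ V.1 ≤ F₀ ⁻¹ᵁ (j ⁻¹ᵁ U.1) := by
      intro y hy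
      change j (F₀ y) ∈ U.1
      have : j (F₀ y) = F (i y) := by
        rw [← Scheme.Hom.comp_apply, ← Scheme.Hom.comp_apply, w]
      rw [this]
      exact e hy
    have h₀ := HasRingHomProperty.appLE (P := @LocallyOfFiniteType) F₀ hF₀ ⟨_, hU₀⟩ ⟨_, hV₀⟩ e₀
    have hsq : F.appLE U.1 V.1 e ≫ i.app V.1 = j.app U.1 ≫ F₀.appLE (j ⁻¹ᵁ U.1) (i ⁻¹ᵁ V.1) e₀ := by
      rw [Scheme.Hom.app_eq_appLE, Scheme.Hom.app_eq_appLE, Scheme.Hom.appLE_comp_appLE,
        Scheme.Hom.appLE_comp_appLE]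
      exact (appLE_of_eq w _ _ _).symm
    refine ringHom_finiteType_of_comp _ (i.app V.1).hom (i.app_surjective V.1 V.2) ?_ ?_ ?_
    · rw [← Scheme.Hom.ker_apply i V]; exact hinil V
    · rw [← Scheme.Hom.ker_apply i V]; exact hfg V
    · rw [← CommRingCat.hom_comp, hsq, CommRingCat.hom_comp]
      exact RingHom.FiniteType.comp h₀ (RingHom.FiniteType.of_surjective _ (j.app_surjective U.1 U.2))

/-- S14008 -/
theorem lfp_iff {X X₀ Y Y₀ : Scheme.{u}} [IsLocallyNoetherian X]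
    (F : Y ⟶ X) (F₀ : Y₀ ⟶ X₀) (i : Y₀ ⟶ Y) (j : X₀ ⟶ X)
    (hi : MoreMor.IsThickening i) (hj : MoreMor.IsThickening j)
    (hinil : ∀ U : Y.affineOpens, IsNilpotent (i.ker.ideal U))
    (hfg : ∀ U : Y.affineOpens, (i.ker.ideal U).FG)
    (w : F₀ ≫ j = i ≫ F) :
    LocallyOfFinitePresentation F ↔ LocallyOfFinitePresentation F₀ := by
  have : IsClosedImmersion j := hj.1
  have : IsLocallyNoetherian X₀ := LocallyOfFiniteType.isLocallyNoetherian j
  rw [LocallyOfFinitePresentation.iff_locallyOfFiniteType,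
    LocallyOfFinitePresentation.iff_locallyOfFiniteType]
  exact lft_iff F F₀ i j hi hj hinil hfg w

end Groth.Agent.H2.Thick
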