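import Mathlib
import Groth.Prelude.Def_CohB1
import Groth.Agent.Lib.Helper2.FComplNear3
import Groth.Agent.Lib.Helper2.FSchAff
import Groth.Agent.Lib.Helper2.IdealComap

/-! # Morphisms from a proper scheme over a complete ring are determined by thickenings. -/

set_option autoImplicit false
universe u
open CategoryTheory CategoryTheory.Limits AlgebraicGeometry

namespace Groth.Agent.H2.ThickEq

open Groth.Agent.H2.FSchAff Groth.Agent.H2.FComplNear

/-- an immersion restricted over an open containing its range in which the range is closed is a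
closed immersion: here for the canonical open. -/
theorem isClosedImmersion_restrict_coborder {E X : Scheme.{u}} (e : E ⟶ X) [IsImmersion e] :
    IsClosedImmersion (e ∣_ e.coborderRange) := by
  have hι : IsClosedImmersion (e ⁻¹ᵁ e.coborderRange).ι := by
    apply IsClosedImmersion.of_isPreimmersion
    rw [Scheme.Opens.range_ι]
    have : (e ⁻¹ᵁ e.coborderRange : Set E) = Set.univ := by
      rw [Set.eq_univ_iff_forall]
      intro x
      exact subset_coborder ⟨x, rfl⟩
    rw [this]
    exact isClosed_univ
  have h1 : e ∣_ e.coborderRange = (e ⁻¹ᵁ e.coborderRange).ι ≫ e.liftCoborder := by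
    rw [← cancel_mono e.coborderRange.ι, Category.assoc, Scheme.Hom.liftCoborder_ι,
      morphismRestrict_ι]
  rw [h1]
  infer_instance

/-- the support of the ideal sheaf of `I` on `Spec A`. -/
theorem support_specIdeal {A : Type u} [CommRing A] (I : Ideal A) :
    ((specIdeal A I).support : Set (Spec (CommRingCat.of A))) = PrimeSpectrum.zeroLocus I := by
  have h1 : specIdeal A I = (Spec.map (CommRingCat.ofHom (Ideal.Quotient.mk I))).ker := by
    rw [ker_specMap, Ideal.mk_ker]
  rw [h1, Scheme.Hom.support_ker,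
    (Spec.map (CommRingCat.ofHom (Ideal.Quotient.mk I))).isClosedEmbedding.isClosed_range.closure_eq]
  have := range_comap_of_surjective _ (Ideal.Quotient.mk I)
    Ideal.Quotient.mk_surjective
  rw [Ideal.mk_ker] at this
  exact this

/-- an open of `Spec A` containing `V(I)` is everything when `I` is in the Jacobson radical. -/
theorem eq_top_of_zeroLocus_subset {A : Type u} [CommRing A] (I : Ideal A)
    (hI : I ≤ Ideal.jacobson ⊥) (U : (Spec (CommRingCat.of A)).Opens)
    (hU : PrimeSpectrum.zeroLocus (I : Set A) ⊆ (U : Set (Spec (CommRingCat.of A)))) : U = ⊤ := by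
  obtain ⟨J, hJ⟩ := (PrimeSpectrum.isClosed_iff_zeroLocus_ideal _).mp U.2.isClosed_compl
  have h1 : PrimeSpectrum.zeroLocus ((I ⊔ J : Ideal A) : Set A) = ∅ := by
    rw [PrimeSpectrum.zeroLocus_sup, ← hJ]
    rw [Set.eq_empty_iff_forall_notMem]
    rintro x ⟨hx1, hx2⟩
    exact hx2 (hU hx1)
  rw [PrimeSpectrum.zeroLocus_empty_iff_eq_top] at h1
  obtain ⟨i, hi, j, hj, hij⟩ := Submodule.mem_sup.mp ((Ideal.eq_top_iff_one _).mp h1)
  have hu : IsUnit j := by
    have : j = 1 - i := by rw [← hij]; ring
    rw [this]
    have h2 := (Ideal.mem_jacobson_bot.mp (hI hi)) (-1)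
    simpa [sub_eq_add_neg, add_comm] using h2
  have hJtop : J = ⊤ := Ideal.eq_top_of_isUnit_mem _ hj hu
  rw [hJtop] at hJ
  simp at hJ
  rw [eq_top_iff]
  rintro x -
  by_contra hx
  have : x ∈ (U : Set _)ᶜ := hx
  rw [hJ] at this
  exact this

/-- the kernel of the `n`-th thickening. -/
theorem ker_thickι {A : Type u} [CommRing A] (I : Ideal A) {X : Scheme.{u}}
    (f : X ⟶ Spec (CommRingCat.of A)) (n : ℕ) :
    (CohB1.thickι f I n).ker = ((specIdeal A I).comap f) ^ (n + 1) := by
  haveI : IsClosedImmersion (CohB1.specQuot I n) := by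
    unfold CohB1.specQuot; infer_instance
  have h1 : (CohB1.thickι f I n).ker = (CohB1.specQuot I n).ker.comap f :=
    Scheme.IdealSheafData.ker_fst_of_isClosedImmersion (CohB1.specQuot I n) f
  rw [h1, CohB1.specQuot, ker_specMap, Ideal.mk_ker, specIdeal_pow, comap_pow]

theorem main (A : Type u) [CommRing A] [IsNoetherianRing A]
    (I : Ideal A) [IsAdicComplete I A] {X Y : Scheme.{u}} (f : X ⟶ Spec (CommRingCat.of A))
    [IsProper f] (φ ψ : X ⟶ Y)
    (e : ∀ n : ℕ, CohB1.thickι f I n ≫ φ = CohB1.thickι f I n ≫ ψ) : φ = ψ := by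
  haveI : IsLocallyNoetherian X := LocallyOfFiniteType.isLocallyNoetherian f
  let ε := equalizer.ι φ ψ
  haveI : QuasiCompact ε := by
    have : ε = ε.liftCoborder ≫ ε.coborderRange.ι := (Scheme.Hom.liftCoborder_ι ε).symm
    rw [this]
    infer_instance
  set 𝓘 := (specIdeal A I).comap f with h𝓘
  have hfac : ∀ n, equalizer.lift (CohB1.thickι f I n) (e n) ≫ ε = CohB1.thickι f I n :=
    fun n => equalizer.lift_ι _ _
  have hK : ∀ n : ℕ, ε.ker ≤ 𝓘 ^ n := by
    intro n
    cases n with
    | zero => rw [pow_zero, Scheme.IdealSheafData.one_eq_top]; exact le_top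
    | succ n =>
      rw [← ker_thickι, ← hfac n]
      exact Scheme.Hom.le_ker_comp _ _
  have key := exists_open_of_forall_mem_support (P := MorphismProperty.isomorphisms Scheme.{u})
    ε f (specIdeal A I) (fun x hx => by
      have hx' : x ∈ 𝓘.support := by
        rw [← SetLike.mem_coe, Scheme.IdealSheafData.support_comap]
        exact hx
      have hxr : x ∈ Set.range ε := by
        have h1 : x ∈ ((𝓘 ^ (0 + 1)).support : Set X) := by
          rw [Scheme.IdealSheafData.support_pow_succ]; exact hx'
        haveI : IsClosedImmersion (CohB1.specQuot I 0) := by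
          unfold CohB1.specQuot; infer_instance
        haveI : IsClosedImmersion (CohB1.thickι f I 0) :=
          inferInstanceAs (IsClosedImmersion (pullback.fst f (CohB1.specQuot I 0)))
        haveI : QuasiCompact (CohB1.thickι f I 0) := inferInstance
        rw [← ker_thickι, Scheme.Hom.support_ker] at h1
        rw [(CohB1.thickι f I 0).isClosedEmbedding.isClosed_range.closure_eq] at h1
        obtain ⟨x₀, rfl⟩ := h1
        refine ⟨equalizer.lift (CohB1.thickι f I 0) (e 0) x₀, ?_⟩
        rw [← Scheme.Hom.comp_apply, hfac 0]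
      have hxW : x ∈ ε.coborderRange := subset_coborder hxr
      obtain ⟨W, hxW', hW⟩ := exists_isIso_nhd_of_ker_le ε 𝓘 hK x hx' ε.coborderRange hxW
        (isClosedImmersion_restrict_coborder ε)
      exact ⟨W, hxW', hW⟩)
  obtain ⟨U, hU, hiso⟩ := key
  have hUtop : U = ⊤ := by
    apply eq_top_of_zeroLocus_subset I (IsAdicComplete.le_jacobson_bot I) U
    rw [← support_specIdeal]
    exact hU
  subst hUtop
  have hε : IsIso ε := by
    have := (IsZariskiLocalAtTarget.iff_of_iSup_eq_top
      (P := MorphismProperty.isomorphisms Scheme.{u}) (f := ε) (ι := Unit)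
      (fun _ => f ⁻¹ᵁ ⊤) (by simp)).mpr (fun _ => hiso)
    exact this
  rw [← cancel_epi ε]
  exact equalizer.condition φ ψ

end Groth.Agent.H2.ThickEq
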