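import Mathlib
import Groth.Agent.Lib.Helper2.PencilI
import Groth.Agent.Lib.Lead.PN.RegExt
import Groth.Agent.Lib.Lead.CohLES.DimBound
import Groth.Agent.Lib.Helper5.AG.ProjProper

/-! Growth of the cohomology of negative twists on `P^n_k` (helper2, for S16148). -/

set_option autoImplicit false
set_option linter.style.haveILetI false
universe u
open CategoryTheory CategoryTheory.Limits AlgebraicGeometry TopologicalSpace Opposite

namespace Groth.Agent.H2.TopCoh

open Groth.Agent.LD Twist TW Groth.Agent.H2.HypId Groth.Agent.H2.Pencil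

variable {n : ℕ} {k : Type u} [Field k]

/-- over an infinite field, some linear form is a nonzerodivisor on a given coherent module. -/
theorem exists_mono_mu [Infinite k] (F : (Proj (CohB1.polyGrading n k)).Modules)
    (hF : Coh.IsCoh F) : ∃ g : CohB1.polyGrading n k 1, Mono (mu F g) := by
  haveI : F.IsQuasicoherent := hF.1
  have hfin : {x : (Proj (CohB1.polyGrading n k)) | Curv2.IsAssPoint F x}.Finite :=
    finite_assPoints F (fun i : Fin (n + 1) => LefPen.chart n k i)
      (fun i => isAffineOpen_chart n k i) (iSup_chart n k) hF.2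
  haveI : Finite {x : (Proj (CohB1.polyGrading n k)) | Curv2.IsAssPoint F x} := hfin.to_subtype
  obtain ⟨g, hg⟩ := exists_notMem
    (fun i : {x : (Proj (CohB1.polyGrading n k)) | Curv2.IsAssPoint F x} => Vx n k i.1)
    (fun i => Vx_ne_top n k i.1)
  refine ⟨g, ?_⟩
  apply mono_mu
  intro x hx hmem
  exact hg ⟨x, hx⟩ hmem

section step

variable (n k)

instance : IsProper (Proj (CohB1.polyGrading n k) ↘ Spec (CommRingCat.of k)) :=
  Groth.Agent.H5.AG.isProper_toSpec n k

variable {n k}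
variable (F : (Proj (CohB1.polyGrading n k)).Modules) (hF : Coh.IsCoh F)

include hF

theorem isCoh_coker (ι : CohB1.tensorMod F (twist (CohB1.polyGrading n k) (-1)) ⟶ F) :
    Coh.IsCoh (cokernel ι) :=
  QC.isCoh_cokernel ι (PN.isCoh_twist n k F hF (-1)) hF

theorem hh_twist_eq (j : ℤ) (i : ℕ) :
    CL.hh k (CohB1.tensorMod (CohB1.tensorMod F (twist (CohB1.polyGrading n k) (-1)))
      (twist (CohB1.polyGrading n k) j)) i = CL.hh k (PN.kG n k F (j - 1)) i := by
  haveI : F.IsQuasicoherent := hF.1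
  rw [CL.hh_def, CL.hh_def]
  have h2 := PN.finrank_HH_iso n k (PN.assocIso2 n k F (-1) j) i
  have h3 : (-1 : ℤ) + j = j - 1 := by ring
  rw [h3] at h2
  exact h2

theorem hh_step_zero (ι : CohB1.tensorMod F (twist (CohB1.polyGrading n k) (-1)) ⟶ F) [Mono ι]
    (j : ℤ) :
    CL.hh k (PN.kG n k F (j - 1)) 0 ≤ CL.hh k (PN.kG n k F j) 0 := by
  have hS := PN.shortExact_cokernel_twist n k ι j
  have h := CL.hh_left_zero_le k hS (PN.isCoh_twist n k F hF j)
  rw [← hh_twist_eq F hF j 0]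
  exact h

theorem hh_step_succ (ι : CohB1.tensorMod F (twist (CohB1.polyGrading n k) (-1)) ⟶ F) [Mono ι]
    (j : ℤ) (i : ℕ) :
    CL.hh k (PN.kG n k F (j - 1)) (i + 1) ≤
      CL.hh k (PN.kG n k (cokernel ι) j) i + CL.hh k (PN.kG n k F j) (i + 1) := by
  have hS := PN.shortExact_cokernel_twist n k ι j
  have h := CL.hh_left_succ_le k hS (PN.isCoh_twist n k F hF j)
    (PN.isCoh_twist n k _ (isCoh_coker F hF ι) j) i
  rw [← hh_twist_eq F hF j (i + 1)]
  exact h

end step

theorem pow_add_pow_le (N i : ℕ) : (N + 1) ^ i + (N + 1) ^ (i + 1) ≤ (N + 2) ^ (i + 1) := by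
  have h1 : (N + 1) ^ i ≤ (N + 2) ^ i := Nat.pow_le_pow_left (by omega) i
  calc (N + 1) ^ i + (N + 1) ^ (i + 1) = (N + 2) * (N + 1) ^ i := by ring
    _ ≤ (N + 2) * (N + 2) ^ i := Nat.mul_le_mul_left _ h1
    _ = (N + 2) ^ (i + 1) := by ring

/-- **growth**: `hⁱ(F(-N)) = O(Nⁱ)` for every coherent module on `P^n_k`, `k` infinite. -/
theorem growth [Infinite k] : ∀ (i : ℕ) (F : (Proj (CohB1.polyGrading n k)).Modules),
    Coh.IsCoh F → ∃ C : ℕ, ∀ N : ℕ,
      CL.hh k (PN.kG n k F (-(N : ℤ))) i ≤ C * (N + 1) ^ i := by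
  intro i
  induction i with
  | zero =>
    intro F hF
    obtain ⟨g, hg⟩ := exists_mono_mu F hF
    haveI : Mono (mu F g : CohB1.tensorMod F (twist (CohB1.polyGrading n k) (-1)) ⟶ F) := hg
    refine ⟨CL.hh k (PN.kG n k F 0) 0, fun N => ?_⟩
    rw [pow_zero, mul_one]
    induction N with
    | zero => simp
    | succ N ih =>
      have h := hh_step_zero F hF (mu F g) (-(N : ℤ))
      have e : -(N : ℤ) - 1 = -((N + 1 : ℕ) : ℤ) := by push_cast; ring
      rw [e] at h
      exact h.trans ih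
  | succ i IH =>
    intro F hF
    obtain ⟨g, hg⟩ := exists_mono_mu F hF
    haveI : Mono (mu F g : CohB1.tensorMod F (twist (CohB1.polyGrading n k) (-1)) ⟶ F) := hg
    obtain ⟨CQ, hCQ⟩ := IH (cokernel (mu F g :
      CohB1.tensorMod F (twist (CohB1.polyGrading n k) (-1)) ⟶ F)) (isCoh_coker F hF _)
    refine ⟨CL.hh k (PN.kG n k F 0) (i + 1) + CQ, fun N => ?_⟩
    induction N with
    | zero => simp
    | succ N ih =>
      have h := hh_step_succ F hF (mu F g) (-(N : ℤ)) i
      have e : -(N : ℤ) - 1 = -((N + 1 : ℕ) : ℤ) := by push_cast; ring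
      rw [e] at h
      have h2 := hCQ N
      have h3 := pow_add_pow_le N i
      set A := CL.hh k (PN.kG n k F 0) (i + 1) + CQ with hA
      have hCA : CQ ≤ A := Nat.le_add_left _ _
      calc CL.hh k (PN.kG n k F (-((N + 1 : ℕ) : ℤ))) (i + 1)
          ≤ CQ * (N + 1) ^ i + A * (N + 1) ^ (i + 1) := h.trans (Nat.add_le_add h2 ih)
        _ ≤ A * (N + 1) ^ i + A * (N + 1) ^ (i + 1) :=
            Nat.add_le_add_right (Nat.mul_le_mul_right _ hCA) _
        _ = A * ((N + 1) ^ i + (N + 1) ^ (i + 1)) := by ring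
        _ ≤ A * (N + 2) ^ (i + 1) := Nat.mul_le_mul_left _ h3
        _ = A * ((N + 1 : ℕ) + 1) ^ (i + 1) := by norm_num [add_assoc]

end Groth.Agent.H2.TopCoh
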