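import Mathlib
import Groth.Agent.Lib.Helper2.TopCohA
import Groth.Agent.Lib.Helper2.HilbDegB
import Groth.Agent.Lib.Lead.PN.HilbPoly
import Groth.Agent.Lib.Lead.PN.RegSupp
import Groth.Agent.Lib.Lead.QC.SuppSES

/-! Vanishing of cohomology above the dimension of the support on `P^n_k` (helper2, for S16148). -/

set_option autoImplicit false
set_option linter.style.haveILetI false
universe u
open CategoryTheory CategoryTheory.Limits AlgebraicGeometry TopologicalSpace Opposite

namespace Groth.Agent.H2.TopCoh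

open Groth.Agent.LD Twist TW Groth.Agent.H2.HypId Groth.Agent.H2.Pencil Polynomial

variable {n : ℕ} {k : Type u} [Field k]

theorem toNat_length_field' (M : Type*) [AddCommGroup M] [Module k M] :
    (Module.length k M).toNat = Module.finrank k M := by
  rw [Module.length_eq_rank, Cardinal.toNat_toENat]
  rfl

/-- the Euler characteristic of the lead's library in terms of dimensions. -/
theorem chi_eq_sum (M : (Proj (CohB1.polyGrading n k)).Modules) :
    ((PN.chi n k M : ℤ) : ℚ) = (Finset.range (n + 1)).sum fun j => (-1 : ℚ) ^ j *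
      (Module.finrank k (Coh.HH (Proj (CohB1.polyGrading n k)) M j) : ℚ) := by
  unfold PN.chi CL.chiLE Alg.len
  push_cast
  refine Finset.sum_congr rfl (fun j _ => ?_)
  rw [toNat_length_field']

/-- the difference polynomial. -/
noncomputable def dP (P : ℚ[X]) : ℚ[X] := P - P.comp (X - C 1)

theorem dP_eval (P : ℚ[X]) (x : ℚ) : (dP P).eval x = P.eval x - P.eval (x - 1) := by
  unfold dP
  simp

theorem natDegree_dP_le (P : ℚ[X]) : (dP P).natDegree ≤ P.natDegree - 1 := by
  have hc : P.comp (X - C 1) = taylor (-1) P := by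
    rw [taylor_apply, map_neg, sub_eq_add_neg]
  by_cases h0 : P.natDegree = 0
  · rw [natDegree_eq_zero] at h0
    obtain ⟨c, rfl⟩ := h0
    unfold dP
    simp
  · have hP0 : P ≠ 0 := by
      rintro rfl
      exact h0 natDegree_zero
    have hlt : (dP P).degree < P.degree := by
      unfold dP
      rw [hc]
      apply degree_sub_lt
      · rw [degree_taylor]
      · exact hP0
      · rw [leadingCoeff_taylor]
    by_cases hd : dP P = 0
    · rw [hd, natDegree_zero]; exact Nat.zero_le _
    · have := (natDegree_lt_natDegree_iff hd).2 hlt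
      omega

omit [Field k] in
theorem dim_empty_support {X : Scheme.{u}} {M : X.Modules} (h : IsZero M) :
    topologicalKrullDim ↥(CohB1.support M) = ⊥ := by
  have he := QC.support_eq_empty_of_isZero h
  haveI : IsEmpty ↥(CohB1.support M) := by
    rw [he]; infer_instance
  haveI : IsEmpty (IrreducibleCloseds ↥(CohB1.support M)) :=
    ⟨fun Z => by
      obtain ⟨x, _⟩ := Z.isIrreducible.nonempty
      exact isEmptyElim x⟩
  exact Order.krullDim_eq_bot

section coker

variable (F : (Proj (CohB1.polyGrading n k)).Modules) (hF : Coh.IsCoh F)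

include hF

theorem hilb_coker (ι : CohB1.tensorMod F (twist (CohB1.polyGrading n k) (-1)) ⟶ F) [Mono ι]
    (P : ℚ[X]) (hP : ∀ m : ℤ, ((PN.chi n k (PN.kG n k F m) : ℤ) : ℚ) = P.eval (m : ℚ)) (m : ℤ) :
    ((PN.chi n k (PN.kG n k (cokernel ι) m) : ℤ) : ℚ) = (dP P).eval (m : ℚ) := by
  haveI : F.IsQuasicoherent := hF.1
  have hS := PN.shortExact_cokernel_twist n k ι m
  have hadd := PN.chi_add n k hS (PN.isCoh_twist n k _ (PN.isCoh_twist n k F hF (-1)) m)
    (PN.isCoh_twist n k F hF m) (PN.isCoh_twist n k _ (isCoh_coker F hF ι) m)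
  have hiso := PN.chi_iso n k (PN.assocIso2 n k F (-1) m)
  have h3 : (-1 : ℤ) + m = m - 1 := by ring
  rw [h3] at hiso
  have h1 := hP m
  have h2 := hP (m - 1)
  rw [dP_eval, ← h1]
  push_cast at h2
  rw [← h2]
  change ((PN.chi n k (PN.kG n k F m) : ℤ) : ℚ) = _ at h1
  have : PN.chi n k (PN.kG n k (cokernel ι) m) =
      PN.chi n k (PN.kG n k F m) - PN.chi n k (PN.kG n k F (m - 1)) := by
    have hadd' : PN.chi n k (PN.kG n k F m) =
        PN.chi n k (CohB1.tensorMod (CohB1.tensorMod F (twist (CohB1.polyGrading n k) (-1)))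
          (twist (CohB1.polyGrading n k) m)) + PN.chi n k (PN.kG n k (cokernel ι) m) := hadd
    rw [hadd', hiso]
    change _ = PN.chi n k (PN.kG n k F (m - 1)) + _ - PN.chi n k (PN.kG n k F (m - 1))
    ring
  rw [this]
  push_cast
  rfl

/-- the support of a hyperplane section drops in dimension. -/
theorem dim_coker_le (ι : CohB1.tensorMod F (twist (CohB1.polyGrading n k) (-1)) ⟶ F) [Mono ι]
    (d : ℕ) (hd : topologicalKrullDim ↥(CohB1.support F) ≤ ((d + 1 : ℕ) : WithBot ℕ∞)) :
    topologicalKrullDim ↥(CohB1.support (cokernel ι)) ≤ ((d : ℕ) : WithBot ℕ∞) := by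
  by_cases hQ0 : IsZero (cokernel ι)
  · rw [dim_empty_support hQ0]
    exact bot_le
  · have hF0 : ¬ IsZero F := by
      intro hz
      apply hQ0
      have : cokernel.π ι = 0 := hz.eq_of_src _ _
      haveI : Epi (0 : F ⟶ cokernel ι) := this ▸ inferInstance
      exact IsZero.of_epi_eq_zero (0 : F ⟶ cokernel ι) rfl
    obtain ⟨P, hP⟩ := PN.exists_hilbert_polynomial n k F hF
    have h1 := Groth.Agent.H2.HilbDeg.natDegree_hilb k n F hF hF0 P
      (fun m => (chi_eq_sum (PN.kG n k F m)).symm.trans (hP m))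
    have h2 := Groth.Agent.H2.HilbDeg.natDegree_hilb k n (cokernel ι) (isCoh_coker F hF ι) hQ0
      (dP P) (fun m => (chi_eq_sum (PN.kG n k (cokernel ι) m)).symm.trans
        (hilb_coker F hF ι P hP m))
    have hd1 : ((P.natDegree : ℕ) : WithBot ℕ∞) ≤ ((d + 1 : ℕ) : WithBot ℕ∞) :=
      (le_of_eq h1.symm).trans hd
    have hd' : P.natDegree ≤ d + 1 := by exact_mod_cast hd1
    have := natDegree_dP_le P
    have h3 : (dP P).natDegree ≤ d := by omega
    exact (le_of_eq h2).trans (by exact_mod_cast h3)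

end coker

/-- **vanishing above the dimension of the support** for twists of coherent modules on `P^n_k`. -/
theorem vanish [Infinite k] : ∀ (d : ℕ) (F : (Proj (CohB1.polyGrading n k)).Modules),
    Coh.IsCoh F → topologicalKrullDim ↥(CohB1.support F) ≤ ((d : ℕ) : WithBot ℕ∞) →
    ∀ (i : ℕ), d < i → ∀ j : ℤ, CL.hh k (PN.kG n k F j) i = 0 := by
  intro d
  induction d with
  | zero =>
    intro F hF hd i hi j
    rw [CL.hh_def]
    haveI : Subsingleton (Coh.HH (Proj (CohB1.polyGrading n k)) (PN.kG n k F j) i) :=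
      PN.subsingleton_HH_twist_of_dim_zero n k F hF (by simpa using hd) j i hi
    exact Module.finrank_zero_of_subsingleton
  | succ d IH =>
    intro F hF hd i hi j
    obtain ⟨g, hg⟩ := exists_mono_mu F hF
    haveI : Mono (mu F g : CohB1.tensorMod F (twist (CohB1.polyGrading n k) (-1)) ⟶ F) := hg
    have hQd := dim_coker_le F hF (mu F g) d hd
    obtain ⟨i', rfl⟩ : ∃ i', i = i' + 1 := ⟨i - 1, by omega⟩
    have hQ := IH _ (isCoh_coker F hF (mu F g :
      CohB1.tensorMod F (twist (CohB1.polyGrading n k) (-1)) ⟶ F)) hQd i' (by omega)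
    have step : ∀ j : ℤ, CL.hh k (PN.kG n k F (j - 1)) (i' + 1) ≤
        CL.hh k (PN.kG n k F j) (i' + 1) := by
      intro j
      have h := hh_step_succ F hF (mu F g) j i'
      rw [hQ j, zero_add] at h
      exact h
    have chain : ∀ (t : ℕ) (j : ℤ), CL.hh k (PN.kG n k F j) (i' + 1) ≤
        CL.hh k (PN.kG n k F (j + t)) (i' + 1) := by
      intro t
      induction t with
      | zero => intro j; simp
      | succ t ih =>
        intro j
        have h := step (j + ((t + 1 : ℕ) : ℤ))
        have e : j + ((t + 1 : ℕ) : ℤ) - 1 = j + (t : ℤ) := by push_cast; ring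
        rw [e] at h
        exact (ih j).trans h
    obtain ⟨d₀, hd₀⟩ := PN.serre_vanishing' n k F hF
    have h := chain (d₀ - j).toNat j
    have hle : d₀ ≤ j + ((d₀ - j).toNat : ℤ) := by
      have := Int.self_le_toNat (d₀ - j)
      omega
    haveI : Subsingleton (Coh.HH (Proj (CohB1.polyGrading n k))
        (PN.kG n k F (j + ((d₀ - j).toNat : ℤ))) (i' + 1)) := hd₀ _ hle (i' + 1) (Nat.succ_pos _)
    have hz : CL.hh k (PN.kG n k F (j + ((d₀ - j).toNat : ℤ))) (i' + 1) = 0 := by
      rw [CL.hh_def]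
      exact Module.finrank_zero_of_subsingleton
    omega

end Groth.Agent.H2.TopCoh
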