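import Mathlib
import Groth.Agent.Lib.Helper2.TopCohB

/-! Non-vanishing of the top cohomology of some twist on `P^n_k` (helper2, S16148). -/

set_option autoImplicit false
set_option linter.style.haveILetI false
universe u
open CategoryTheory CategoryTheory.Limits AlgebraicGeometry TopologicalSpace Opposite

namespace Groth.Agent.H2.TopCoh

open Groth.Agent.LD Twist TW Groth.Agent.H2.HypId Groth.Agent.H2.Pencil Polynomial

/-- a polynomial which is `O(N^e)` along the negative integers has degree at most `e`. -/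
theorem natDegree_le_of_bound (P : ℚ[X]) (e K : ℕ)
    (h : ∀ N : ℕ, |P.eval (-(N : ℚ))| ≤ (K : ℚ) * ((N : ℚ) + 1) ^ e) : P.natDegree ≤ e := by
  by_contra hlt
  push Not at hlt
  set R : ℚ[X] := P.comp (-X) with hRdef
  have hR : ∀ x : ℚ, R.eval x = P.eval (-x) := fun x => by simp [hRdef]
  have hRd : R.natDegree = P.natDegree := by
    rw [hRdef, natDegree_comp, natDegree_neg, natDegree_X, mul_one]
  set Q : ℚ[X] := (X + C 1) ^ e with hQdef
  have hQd : Q.natDegree = e := by
    rw [hQdef, natDegree_pow, natDegree_X_add_C, mul_one]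
  have hQ0 : Q ≠ 0 := pow_ne_zero _ (X_add_C_ne_zero 1)
  have hR0 : R ≠ 0 := by
    intro h0
    rw [h0, natDegree_zero] at hRd
    omega
  have hdeg : Q.degree < R.degree := by
    rw [degree_eq_natDegree hQ0, degree_eq_natDegree hR0, hQd, hRd]
    exact_mod_cast hlt
  have ht := Polynomial.abs_div_tendsto_atTop_atTop_of_degree_gt R Q hdeg hQ0
  obtain ⟨x₀, hx₀⟩ := Filter.eventually_atTop.1
    (ht.eventually (Filter.eventually_gt_atTop (K : ℚ)))
  obtain ⟨N, hN⟩ := exists_nat_ge x₀
  have h1 := hx₀ N hN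
  have hQN : Q.eval (N : ℚ) = ((N : ℚ) + 1) ^ e := by simp [hQdef]
  have hpos : (0 : ℚ) < ((N : ℚ) + 1) ^ e := by positivity
  rw [hQN, abs_div, abs_of_pos hpos, hR, lt_div_iff₀ hpos] at h1
  exact absurd (h N) (not_le.2 h1)

variable {n : ℕ} {k : Type u} [Field k]

/-- **S16148** on `Proj`. -/
theorem exists_nontrivial_top [Infinite k] (G : (Proj (CohB1.polyGrading n k)).Modules)
    (hG : Coh.IsCoh G) (a : ℕ) (ha : 1 ≤ a)
    (hdim : topologicalKrullDim ↥(CohB1.support G) = ((a : ℕ) : WithBot ℕ∞)) :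
    ∃ m : ℤ, Nontrivial (Coh.HH (Proj (CohB1.polyGrading n k)) (PN.kG n k G m) a) := by
  by_contra hne
  push Not at hne
  have hsub : ∀ m : ℤ, CL.hh k (PN.kG n k G m) a = 0 := by
    intro m
    haveI : Subsingleton (Coh.HH (Proj (CohB1.polyGrading n k)) (PN.kG n k G m) a) := hne m
    rw [CL.hh_def]
    exact Module.finrank_zero_of_subsingleton
  have hG0 : ¬ IsZero G := by
    intro hz
    rw [dim_empty_support hz] at hdim
    exact absurd hdim (by simp)
  obtain ⟨P, hP⟩ := PN.exists_hilbert_polynomial n k G hG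
  have h1 := Groth.Agent.H2.HilbDeg.natDegree_hilb k n G hG hG0 P
    (fun m => (chi_eq_sum (PN.kG n k G m)).symm.trans (hP m))
  have hPa : P.natDegree = a := by
    have : ((a : ℕ) : WithBot ℕ∞) = ((P.natDegree : ℕ) : WithBot ℕ∞) := hdim.symm.trans h1
    exact_mod_cast this.symm
  choose Cj hCj using fun j : ℕ => growth (n := n) (k := k) j G hG
  have hvan := vanish a G hG (le_of_eq hdim)
  have hbound : ∀ N : ℕ, |P.eval (-(N : ℚ))| ≤
      (((Finset.range (n + 1)).sum Cj : ℕ) : ℚ) * ((N : ℚ) + 1) ^ (a - 1) := by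
    intro N
    have e1 := hP (-(N : ℤ))
    rw [chi_eq_sum] at e1
    push_cast at e1
    rw [← e1]
    refine (Finset.abs_sum_le_sum_abs _ _).trans ?_
    push_cast
    rw [Finset.sum_mul]
    refine Finset.sum_le_sum (fun j _ => ?_)
    rw [abs_mul, abs_pow, abs_neg, abs_one, one_pow, one_mul, Nat.abs_cast]
    have hj : CL.hh k (PN.kG n k G (-(N : ℤ))) j ≤ Cj j * (N + 1) ^ (a - 1) := by
      rcases lt_trichotomy j a with hlt | heq | hgt
      · refine (hCj j N).trans (Nat.mul_le_mul_left _ ?_)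
        exact Nat.pow_le_pow_right (by omega) (by omega)
      · rw [heq, hsub]; exact Nat.zero_le _
      · rw [hvan j hgt]; exact Nat.zero_le _
    rw [CL.hh_def] at hj
    exact_mod_cast hj
  have := natDegree_le_of_bound P (a - 1) _ hbound
  omega

end Groth.Agent.H2.TopCoh
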