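import Mathlib

/-! Top exterior power of `R^n / R a`: annihilator and free locus. (helper2, for S19573) -/

namespace Groth.Agent.H2.TopExtQuot

open scoped TensorProduct

universe u

variable {R : Type u} [CommRing R] {n : ℕ} (a : Fin n → R)

/-- images of the standard basis vectors -/
noncomputable def ebar (k : Fin n) : (Fin n → R) ⧸ Submodule.span R {a} :=
  Submodule.Quotient.mk (Pi.single k 1)

lemma span_ebar : Submodule.span R (Set.range (ebar a)) = ⊤ := by
  have h1 : Submodule.span R (Set.range (fun k : Fin n => (Pi.single k 1 : Fin n → R))) = ⊤ := by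
    have := (Pi.basisFun R (Fin n)).span_eq
    have h : (⇑(Pi.basisFun R (Fin n))) = (fun k : Fin n => (Pi.single k 1 : Fin n → R)) := by
      ext k; simp [Pi.basisFun_apply]
    rw [h] at this
    exact this
  have h2 : Set.range (ebar a) =
      (Submodule.span R {a}).mkQ '' Set.range (fun k : Fin n => (Pi.single k 1 : Fin n → R)) := by
    ext x
    simp [ebar]
  rw [h2, ← Submodule.map_span, h1, Submodule.map_top, Submodule.range_mkQ]

lemma sum_ebar : ∑ k, a k • ebar a k = 0 := by
  have : ∑ k, a k • ebar a k = Submodule.Quotient.mk (p := Submodule.span R {a}) a := by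
    simp only [ebar, ← Submodule.Quotient.mk_smul]
    simp only [← Submodule.mkQ_apply, ← map_sum]
    congr 1
    ext j
    simp [Finset.sum_apply, Pi.single_apply]
  rw [this]
  exact (Submodule.Quotient.mk_eq_zero _).mpr (Submodule.subset_span rfl)

/-- an alternating map kills `a_i •` when one of the arguments family is `ebar ∘ bijection` -/
lemma smul_alt_eq_zero {N : Type*} [AddCommGroup N] [Module R N]
    (g : ((Fin n → R) ⧸ Submodule.span R {a}) [⋀^Fin n]→ₗ[R] N)
    (e : Fin n → Fin n) (he : Function.Bijective e) (i : Fin n) :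
    a i • g (ebar a ∘ e) = 0 := by
  classical
  obtain ⟨j, rfl⟩ := he.2 i
  set w := ebar a ∘ e with hw
  have hsum : ∑ l, a (e l) • w l = 0 := by
    have := sum_ebar a
    rw [← (Equiv.ofBijective e he).sum_comp] at this
    simpa [hw] using this
  have h1 : a (e j) • w j = ∑ l ∈ Finset.univ.erase j, (-(a (e l))) • w l := by
    rw [← Finset.add_sum_erase _ _ (Finset.mem_univ j)] at hsum
    simp only [neg_smul, Finset.sum_neg_distrib]
    exact eq_neg_of_add_eq_zero_left hsum
  calc a (e j) • g w = g (Function.update w j (a (e j) • w j)) := by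
        rw [AlternatingMap.map_update_smul, Function.update_eq_self]
    _ = ∑ l ∈ Finset.univ.erase j, g (Function.update w j ((-(a (e l))) • w l)) := by
        rw [h1, AlternatingMap.map_update_sum]
    _ = 0 := by
        apply Finset.sum_eq_zero
        intro l hl
        rw [AlternatingMap.map_update_smul,
          AlternatingMap.map_update_self _ _ (Finset.ne_of_mem_erase hl).symm, smul_zero]

lemma le_annihilator :
    Ideal.span (Set.range a) ≤ (⋀[R]^n ((Fin n → R) ⧸ Submodule.span R {a})).annihilator := by
  classical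
  rw [Ideal.span_le]
  rintro _ ⟨i, rfl⟩
  rw [SetLike.mem_coe, Submodule.mem_annihilator]
  intro x hx
  rw [← exteriorPower.ιMulti_family_span_fixedDegree_of_span R (n := n) (span_ebar a)] at hx
  induction hx using Submodule.span_induction with
  | mem x hx =>
    obtain ⟨s, rfl⟩ := hx
    have hbij : Function.Bijective (⇑(Set.powersetCard.ofFinEmbEquiv.symm s) : Fin n → Fin n) :=
      (Finite.injective_iff_bijective).mp (Set.powersetCard.ofFinEmbEquiv.symm s).injective
    exact smul_alt_eq_zero a (ExteriorAlgebra.ιMulti R n) _ hbij i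
  | zero => simp
  | add x y _ _ hx hy => rw [smul_add, hx, hy, add_zero]
  | smul r x _ hx => rw [smul_comm, hx, smul_zero]

/-- reduction map `F → (R/I)^n` -/
noncomputable def q : ((Fin n → R) ⧸ Submodule.span R {a}) →ₗ[R]
    (Fin n → R ⧸ Ideal.span (Set.range a)) :=
  (Submodule.span R {a}).liftQ
    (LinearMap.pi fun k => (Algebra.linearMap R (R ⧸ Ideal.span (Set.range a))) ∘ₗ
      (LinearMap.proj k : (Fin n → R) →ₗ[R] R)) (by
    rw [Submodule.span_le, Set.singleton_subset_iff, SetLike.mem_coe, LinearMap.mem_ker]
    ext k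
    simp only [LinearMap.pi_apply, LinearMap.comp_apply, LinearMap.proj_apply,
      Algebra.linearMap_apply, Pi.zero_apply, Ideal.Quotient.algebraMap_eq]
    exact Ideal.Quotient.eq_zero_iff_mem.mpr (Ideal.subset_span ⟨k, rfl⟩))

lemma q_ebar (k l : Fin n) : q a (ebar a k) l = if l = k then 1 else 0 := by
  simp only [q, ebar]
  erw [Submodule.liftQ_apply]
  simp [Pi.single_apply]

/-- the determinant alternating map `F^n → R/I` -/
noncomputable def D : ((Fin n → R) ⧸ Submodule.span R {a}) [⋀^Fin n]→ₗ[R]
    (R ⧸ Ideal.span (Set.range a)) :=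
  { ((Matrix.detRowAlternating (R := R ⧸ Ideal.span (Set.range a)) (n := Fin n)).toMultilinearMap.restrictScalars
      R).compLinearMap (fun _ => q a) with
    map_eq_zero_of_eq' := by
      intro v i j hv hij
      exact (Matrix.detRowAlternating (R := R ⧸ Ideal.span (Set.range a)) (n := Fin n)).map_eq_zero_of_eq
        (fun k => q a (v k)) (by rw [hv]) hij }

lemma D_apply (v : Fin n → (Fin n → R) ⧸ Submodule.span R {a}) :
    D a v = Matrix.det (Matrix.of fun k l => q a (v k) l) := rfl

lemma D_ebar : D a (ebar a) = 1 := by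
  classical
  rw [D_apply]
  have : (Matrix.of fun k l => q a (ebar a k) l) =
      (1 : Matrix (Fin n) (Fin n) (R ⧸ Ideal.span (Set.range a))) := by
    ext k l
    rw [Matrix.of_apply, q_ebar, Matrix.one_apply]
    by_cases h : k = l
    · simp [h]
    · simp [h, Ne.symm h]
  rw [this, Matrix.det_one]

lemma annihilator_le :
    (⋀[R]^n ((Fin n → R) ⧸ Submodule.span R {a})).annihilator ≤ Ideal.span (Set.range a) := by
  intro r hr
  rw [Submodule.mem_annihilator] at hr
  have h1 := hr (exteriorPower.ιMulti R n (ebar a) : ExteriorAlgebra R _)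
    (exteriorPower.ιMulti R n (ebar a)).2
  have h2 : r • exteriorPower.ιMulti R n (ebar a) = 0 := by
    apply Subtype.ext
    simpa using h1
  have h3 := congrArg (exteriorPower.alternatingMapLinearEquiv (D a)) h2
  rw [map_smul, exteriorPower.alternatingMapLinearEquiv_apply_ιMulti, D_ebar, map_zero] at h3
  rw [← Ideal.Quotient.eq_zero_iff_mem]
  simpa [Algebra.smul_def] using h3

theorem annihilator_eq :
    (⋀[R]^n ((Fin n → R) ⧸ Submodule.span R {a})).annihilator = Ideal.span (Set.range a) :=
  le_antisymm (annihilator_le a) (le_annihilator a)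

section Free

variable {S : Type u} [CommRing S] [Algebra R S] (i : Fin n) (uinv : S)

/-- `v ↦ (v_j - v_i a_j / a_i)_{j ≠ i}` -/
noncomputable def g₀ : (Fin n → R) →ₗ[R] ({j : Fin n // j ≠ i} → S) :=
  LinearMap.pi fun j => (Algebra.linearMap R S) ∘ₗ (LinearMap.proj (j : Fin n) : (Fin n → R) →ₗ[R] R)
     - (uinv * algebraMap R S (a j)) •
      ((Algebra.linearMap R S) ∘ₗ (LinearMap.proj i : (Fin n → R) →ₗ[R] R))

lemma g₀_apply (v : Fin n → R) (j : {j : Fin n // j ≠ i}) :
    g₀ a i uinv v j = algebraMap R S (v j) - uinv * algebraMap R S (a j) * algebraMap R S (v i) := by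
  simp [g₀]

variable (hu : uinv * algebraMap R S (a i) = 1)
include hu

lemma g₀_a : g₀ a i uinv a = 0 := by
  ext j
  rw [g₀_apply, Pi.zero_apply, mul_right_comm, hu, one_mul, sub_self]

/-- induced map on the quotient -/
noncomputable def g : ((Fin n → R) ⧸ Submodule.span R {a}) →ₗ[R] ({j : Fin n // j ≠ i} → S) :=
  (Submodule.span R {a}).liftQ (g₀ a i uinv) (by
    rw [Submodule.span_le, Set.singleton_subset_iff, SetLike.mem_coe, LinearMap.mem_ker]
    exact g₀_a a i uinv hu)

lemma g_ebar (k : Fin n) (j : {j : Fin n // j ≠ i}) :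
    g a i uinv hu (ebar a k) j =
      (if (j : Fin n) = k then 1 else 0) - uinv * algebraMap R S (a j) * (if i = k then 1 else 0) := by
  classical
  simp only [g, ebar]
  erw [Submodule.liftQ_apply]
  rw [g₀_apply]
  simp only [Pi.single_apply]
  split_ifs <;> simp

omit hu in
lemma sum_ebar_ne : ∑ j : {j : Fin n // j ≠ i}, a j • ebar a (j : Fin n) = -(a i • ebar a i) := by
  classical
  have := sum_ebar a
  rw [Fintype.sum_eq_add_sum_subtype_ne _ i] at this
  exact eq_neg_of_add_eq_zero_right this

/-- the equivalence `S ⊗ F ≃ S^{n-1}` -/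
noncomputable def equiv : (S ⊗[R] ((Fin n → R) ⧸ Submodule.span R {a})) ≃ₗ[S]
    ({j : Fin n // j ≠ i} → S) := by
  classical
  refine LinearEquiv.ofLinear ((g a i uinv hu).liftBaseChange S)
    (Fintype.linearCombination S (fun j : {j : Fin n // j ≠ i} =>
      (1 : S) ⊗ₜ[R] ebar a (j : Fin n))) ?_ ?_
  · -- φ ∘ ψ = id
    apply LinearMap.pi_ext'
    intro j
    ext j'
    simp only [LinearMap.comp_apply, LinearMap.coe_single, LinearMap.id_apply]
    rw [Fintype.linearCombination_apply_single, one_smul, LinearMap.liftBaseChange_tmul, one_smul]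
    rw [g_ebar, Pi.single_apply]
    have hji : i ≠ (j : Fin n) := fun h => j.2 h.symm
    simp only [hji, if_false, mul_zero, sub_zero]
    by_cases h : j' = j
    · simp [h]
    · have : (j' : Fin n) ≠ (j : Fin n) := fun h' => h (Subtype.ext h')
      simp [h, this]
  · -- ψ ∘ φ = id
    have key : ∀ k : Fin n,
        (Fintype.linearCombination S (fun j : {j : Fin n // j ≠ i} =>
          (1 : S) ⊗ₜ[R] ebar a (j : Fin n))) (g a i uinv hu (ebar a k)) = (1 : S) ⊗ₜ[R] ebar a k := by
      intro k
      rw [Fintype.linearCombination_apply]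
      simp only [g_ebar]
      by_cases hk : i = k
      · subst hk
        have h1 : ∀ j : {j : Fin n // j ≠ i}, ((j : Fin n) = i) = False := fun j => eq_false j.2
        simp only [h1, if_false, if_true, mul_one, zero_sub]
        have h2 : ∀ j : {j : Fin n // j ≠ i},
            (-(uinv * algebraMap R S (a j))) • ((1 : S) ⊗ₜ[R] ebar a (j : Fin n)) =
              (-uinv) • ((1 : S) ⊗ₜ[R] (a j • ebar a (j : Fin n))) := by
          intro j
          rw [TensorProduct.tmul_smul, ← algebraMap_smul S (a j), smul_smul, neg_mul]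
        rw [Finset.sum_congr rfl (fun j _ => h2 j), ← Finset.smul_sum, ← TensorProduct.tmul_sum,
          sum_ebar_ne, TensorProduct.tmul_neg, smul_neg, neg_smul, neg_neg,
          TensorProduct.tmul_smul, ← algebraMap_smul S (a i), smul_smul, hu, one_smul]
      · simp only [hk, if_false, mul_zero, sub_zero]
        rw [Finset.sum_eq_single ⟨k, fun h => hk h.symm⟩]
        · simp
        · intro j _ hj
          have : (j : Fin n) ≠ k := fun h => hj (Subtype.ext h)
          simp [this]
        · intro h; exact absurd (Finset.mem_univ _) h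
    apply TensorProduct.AlgebraTensorModule.ext
    intro s x
    have hx : x ∈ Submodule.span R (Set.range (ebar a)) := by rw [span_ebar]; trivial
    induction hx using Submodule.span_induction with
    | mem x hx =>
      obtain ⟨k, rfl⟩ := hx
      have : s ⊗ₜ[R] ebar a k = s • ((1 : S) ⊗ₜ[R] ebar a k) := by
        rw [TensorProduct.smul_tmul', smul_eq_mul, mul_one]
      rw [this, map_smul, map_smul]
      congr 1
      simp only [LinearMap.comp_apply, LinearMap.id_apply]
      rw [LinearMap.liftBaseChange_tmul, one_smul]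
      exact key k
    | zero => simp
    | add x y _ _ hx hy => rw [TensorProduct.tmul_add, map_add, map_add, hx, hy]
    | smul r x _ hx =>
      rw [TensorProduct.tmul_smul, LinearMap.map_smul_of_tower, LinearMap.map_smul_of_tower, hx]

end Free

end Groth.Agent.H2.TopExtQuot
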