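import Groth.Prelude.Def_SGA4c
import Mathlib.CategoryTheory.Sites.LocallySurjective
import Mathlib.CategoryTheory.Sites.LocallyBijective

set_option autoImplicit false
universe u w w'
open CategoryTheory CategoryTheory.Limits Opposite

namespace Groth.Agent.H2.TF

variable {C : Type u} [SmallCategory C] {J : GrothendieckTopology C}

/-- Sections of a sheaf over `V` as morphisms from the associated representable sheaf. -/
noncomputable def secEquiv (F : ToposFin.Sh J) (V : C) :
    (ToposFin.eps J V ⟶ F) ≃ F.obj.obj (op V) :=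
  ((sheafificationAdjunction J (Type u)).homEquiv (yoneda.obj V) F).trans yonedaEquiv

/-- The map `eps V' ⟶ eps V` induced by `f : V' ⟶ V`. -/
noncomputable abbrev epsMap {V' V : C} (f : V' ⟶ V) : ToposFin.eps J V' ⟶ ToposFin.eps J V :=
  (presheafToSheaf J (Type u)).map (yoneda.map f)

lemma secEquiv_comp {F G : ToposFin.Sh J} (V : C) (m : ToposFin.eps J V ⟶ F) (φ : F ⟶ G) :
    secEquiv G V (m ≫ φ) = φ.hom.app (op V) (secEquiv F V m) := by
  simp only [secEquiv, Equiv.trans_apply, Adjunction.homEquiv_naturality_right]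
  rfl

lemma secEquiv_symm_comp {F G : ToposFin.Sh J} (V : C) (s : F.obj.obj (op V)) (φ : F ⟶ G) :
    (secEquiv F V).symm s ≫ φ = (secEquiv G V).symm (φ.hom.app (op V) s) := by
  apply (secEquiv G V).injective
  rw [secEquiv_comp, Equiv.apply_symm_apply, Equiv.apply_symm_apply]

lemma secEquiv_map {F : ToposFin.Sh J} {V V' : C} (f : V' ⟶ V) (m : ToposFin.eps J V ⟶ F) :
    secEquiv F V' (epsMap f ≫ m) = F.obj.map f.op (secEquiv F V m) := by
  simp only [secEquiv, Equiv.trans_apply, Adjunction.homEquiv_naturality_left]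
  exact (yonedaEquiv_naturality _ f).symm

/-- A family of morphisms with common target is jointly epimorphic. -/
def JEpi {D : Type*} [Category D] {ι : Type*} {F : ι → D} {X : D} (π : ∀ i, F i ⟶ X) : Prop :=
  ∀ ⦃Z : D⦄ (a b : X ⟶ Z), (∀ i, π i ≫ a = π i ≫ b) → a = b

lemma epi_sigmaDesc_iff {D : Type*} [Category D] {ι : Type*} {F : ι → D} {X : D}
    [HasCoproduct F] (π : ∀ i, F i ⟶ X) : Epi (Sigma.desc π) ↔ JEpi π := by
  constructor
  · intro h Z a b hab
    rw [← cancel_epi (Sigma.desc π)]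
    ext i
    simpa using hab i
  · intro h
    constructor
    intro Z a b hab
    apply h
    intro i
    have := congrArg (fun m => Sigma.ι F i ≫ m) hab
    simpa using this

/-- Morphisms out of a sheaf are determined on sections. -/
lemma hom_ext_eps {X Z : ToposFin.Sh J} (a b : X ⟶ Z)
    (h : ∀ (U : C) (s : ToposFin.eps J U ⟶ X), s ≫ a = s ≫ b) : a = b := by
  apply Sheaf.hom_ext
  ext ⟨U⟩ x
  have := h U ((secEquiv X U).symm x)
  have h2 := congrArg (secEquiv Z U) this
  rw [secEquiv_comp, secEquiv_comp, Equiv.apply_symm_apply] at h2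
  exact h2

/-- Morphisms out of `eps U` are determined on a covering sieve. -/
lemma eps_hom_ext_of_cover {U : C} {Z : ToposFin.Sh J} (S : Sieve U) (hS : S ∈ J U)
    (a b : ToposFin.eps J U ⟶ Z)
    (h : ∀ ⦃V : C⦄ (f : V ⟶ U), S f → epsMap f ≫ a = epsMap f ≫ b) : a = b := by
  apply (secEquiv Z U).injective
  apply (((isSheaf_iff_isSheaf_of_type _ _).1 Z.property).isSeparated _ hS).ext
  intro V f hf
  rw [← secEquiv_map, ← secEquiv_map, h f hf]

/-- Morphism-phrased local surjectivity of a family. -/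
def JLS {ι : Type*} {F : ι → ToposFin.Sh J} {X : ToposFin.Sh J} (π : ∀ i, F i ⟶ X) : Prop :=
  ∀ (U : C) (s : ToposFin.eps J U ⟶ X), ∃ S ∈ J U, ∀ ⦃V : C⦄ (f : V ⟶ U), S f →
    ∃ (i : ι) (t : ToposFin.eps J V ⟶ F i), t ≫ π i = epsMap f ≫ s

lemma JLS.jepi {ι : Type*} {F : ι → ToposFin.Sh J} {X : ToposFin.Sh J} {π : ∀ i, F i ⟶ X}
    (h : JLS π) : JEpi π := by
  intro Z a b hab
  apply hom_ext_eps
  intro U s
  obtain ⟨S, hS, hS'⟩ := h U s
  apply eps_hom_ext_of_cover S hS
  intro V f hf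
  obtain ⟨i, t, ht⟩ := hS' f hf
  rw [← Category.assoc, ← Category.assoc, ← ht, Category.assoc, Category.assoc, hab i]

lemma JEpi.jls {ι : Type*} {F : ι → ToposFin.Sh J} {X : ToposFin.Sh J} {π : ∀ i, F i ⟶ X}
    (h : JEpi π) : JLS π := by
  classical
  let G₀ : Subfunctor X.obj := ⨆ i, Subfunctor.range (π i).hom
  let G : Subfunctor X.obj := G₀.sheafify J
  have hGsh : Presheaf.IsSheaf J G.toFunctor :=
    (isSheaf_iff_isSheaf_of_type _ _).2
      (Subfunctor.sheafify_isSheaf _ ((isSheaf_iff_isSheaf_of_type _ _).1 X.property))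
  let GS : ToposFin.Sh J := ⟨G.toFunctor, hGsh⟩
  let ιG : GS ⟶ X := ObjectProperty.homMk G.ι
  have hle : ∀ i, Subfunctor.range (π i).hom ≤ G := fun i =>
    (le_iSup (fun i => Subfunctor.range (π i).hom) i).trans (G₀.le_sheafify J)
  let l : ∀ i, F i ⟶ GS := fun i => ObjectProperty.homMk (Subfunctor.lift (π i).hom (hle i))
  have hl : ∀ i, l i ≫ ιG = π i := fun i => by
    apply Sheaf.hom_ext
    rfl
  have : Mono ιG := (sheafToPresheaf J _).mono_of_mono_map (by
    change Mono G.ι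
    infer_instance)
  have : Epi ιG := by
    constructor
    intro Z a b hab
    apply h
    intro i
    rw [← hl i, Category.assoc, Category.assoc, hab]
  have : IsIso ιG := isIso_of_mono_of_epi ιG
  have hiso : IsIso G.ι := by
    have : IsIso ((sheafToPresheaf J _).map ιG) := inferInstance
    exact this
  have htop : G = ⊤ := (Subfunctor.eq_top_iff_isIso G).2 hiso
  intro U s
  have hx : secEquiv X U s ∈ G.obj (op U) := by rw [htop]; trivial
  refine ⟨G₀.sieveOfSection (secEquiv X U s), hx, ?_⟩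
  intro V f hf
  have hf' : X.obj.map f.op (secEquiv X U s) ∈ G₀.obj (op V) := hf
  simp only [G₀, Subfunctor.iSup_obj, Set.mem_iUnion] at hf'
  obtain ⟨i, t₀, ht₀⟩ := hf'
  refine ⟨i, (secEquiv (F i) V).symm t₀, ?_⟩
  apply (secEquiv X V).injective
  rw [secEquiv_comp, secEquiv_map, Equiv.apply_symm_apply]
  exact ht₀

lemma jepi_iff_jls {ι : Type*} {F : ι → ToposFin.Sh J} {X : ToposFin.Sh J} (π : ∀ i, F i ⟶ X) :
    JEpi π ↔ JLS π := ⟨JEpi.jls, JLS.jepi⟩




/-- Jointly epimorphic families are stable under base change. -/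
lemma JEpi.of_isPullback {ι : Type w} {F : ι → ToposFin.Sh J} {X Y : ToposFin.Sh J}
    {π : ∀ i, F i ⟶ X} (h : JEpi π) (g : Y ⟶ X) {P : ι → ToposFin.Sh J}
    (p₁ : ∀ i, P i ⟶ F i) (p₂ : ∀ i, P i ⟶ Y) (hP : ∀ i, IsPullback (p₁ i) (p₂ i) (π i) g) :
    JEpi p₂ := by
  apply JLS.jepi
  intro U s
  obtain ⟨S, hS, hS'⟩ := h.jls U (s ≫ g)
  refine ⟨S, hS, ?_⟩
  intro V f hf
  obtain ⟨i, t, ht⟩ := hS' f hf
  refine ⟨i, (hP i).lift t (epsMap f ≫ s) (by rw [ht, Category.assoc]), ?_⟩
  exact (hP i).lift_snd _ _ _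

lemma JEpi.pullback_snd {ι : Type w} {F : ι → ToposFin.Sh J} {X Y : ToposFin.Sh J}
    {π : ∀ i, F i ⟶ X} (h : JEpi π) (g : Y ⟶ X) :
    JEpi (fun i => pullback.snd (π i) g) :=
  h.of_isPullback g _ _ (fun i => IsPullback.of_hasPullback (π i) g)

lemma JEpi.pullback_fst {ι : Type w} {F : ι → ToposFin.Sh J} {X Y : ToposFin.Sh J}
    {π : ∀ i, F i ⟶ X} (h : JEpi π) (g : Y ⟶ X) :
    JEpi (fun i => pullback.fst g (π i)) :=
  h.of_isPullback g _ _ (fun i => (IsPullback.of_hasPullback g (π i)).flip)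



section General
variable {D : Type*} [Category D]

lemma JEpi.comp {ι : Type*} {κ : ι → Type*} {F : ι → D} {X : D} {π : ∀ i, F i ⟶ X}
    {G : ∀ i, κ i → D} {ρ : ∀ i (k : κ i), G i k ⟶ F i}
    (h : JEpi π) (h' : ∀ i, JEpi (ρ i)) :
    JEpi (fun x : Σ i, κ i => ρ x.1 x.2 ≫ π x.1) := by
  intro Z a b hab
  apply h
  intro i
  apply h' i
  intro k
  simpa using hab ⟨i, k⟩

/-- If every member of a jointly epimorphic family factors through some member of another family,
the latter is jointly epimorphic. -/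
lemma JEpi.of_factor {ι κ : Type*} {F : ι → D} {G : κ → D} {X : D} {π : ∀ i, F i ⟶ X}
    {ρ : ∀ k, G k ⟶ X} (h : JEpi π) (hf : ∀ i, ∃ (k : κ) (t : F i ⟶ G k), t ≫ ρ k = π i) :
    JEpi ρ := by
  intro Z a b hab
  apply h
  intro i
  obtain ⟨k, t, ht⟩ := hf i
  rw [← ht, Category.assoc, Category.assoc, hab k]

lemma JEpi.reindex {ι κ : Type*} {F : ι → D} {X : D} {π : ∀ i, F i ⟶ X}
    (h : JEpi π) (e : κ → ι) (he : Function.Surjective e) : JEpi (fun k => π (e k)) := by
  intro Z a b hab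
  apply h
  intro i
  obtain ⟨k, rfl⟩ := he i
  exact hab k

lemma JEpi.of_reindex {ι κ : Type*} {F : ι → D} {X : D} {π : ∀ i, F i ⟶ X}
    (e : κ → ι) (h : JEpi (fun k => π (e k))) : JEpi π := by
  intro Z a b hab
  apply h
  intro k
  exact hab (e k)

lemma jepi_const_iff {ι : Type*} [Nonempty ι] {X Y : D} (f : X ⟶ Y) :
    JEpi (fun _ : ι => f) ↔ Epi f := by
  constructor
  · intro h
    constructor
    intro Z a b hab
    exact h a b (fun _ => hab)
  · intro h Z a b hab
    rw [← cancel_epi f]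
    exact hab (Classical.arbitrary ι)

lemma jepi_single_iff {X Y : D} (f : X ⟶ Y) : JEpi (fun _ : Unit => f) ↔ Epi f :=
  jepi_const_iff f

lemma JEpi.of_postcomp {ι : Type*} {F : ι → D} {X Y : D} {π : ∀ i, F i ⟶ X} (g : X ⟶ Y)
    (h : JEpi (fun i => π i ≫ g)) : Epi g := by
  constructor
  intro Z a b hab
  apply h
  intro i
  simp only [Category.assoc, hab]

lemma JEpi.postcomp_epi {ι : Type*} {F : ι → D} {X Y : D} {π : ∀ i, F i ⟶ X} (h : JEpi π)
    (g : X ⟶ Y) [Epi g] : JEpi (fun i => π i ≫ g) := by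
  intro Z a b hab
  rw [← cancel_epi g]
  apply h
  intro i
  simpa using hab i

/-- Members with initial source can be discarded. -/
lemma JEpi.of_isInitial {ι : Type*} {F : ι → D} {X : D} {π : ∀ i, F i ⟶ X} (h : JEpi π)
    (s : Set ι) (hs : ∀ i, i ∉ s → Nonempty (IsInitial (F i))) :
    JEpi (fun i : s => π i) := by
  intro Z a b hab
  apply h
  intro i
  by_cases hi : i ∈ s
  · exact hab ⟨i, hi⟩
  · obtain ⟨hI⟩ := hs i hi
    exact hI.hom_ext _ _

end General

variable {C : Type u} [SmallCategory C] {J : GrothendieckTopology C}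

lemma isQC_iff (X : ToposFin.Sh J) : ToposFin.IsQC X ↔
    ∀ (ι : Type u) (F : ι → ToposFin.Sh J) (π : ∀ i, F i ⟶ X), JEpi π →
      ∃ s : Finset ι, JEpi (fun i : s => π i) := by
  unfold ToposFin.IsQC
  simp only [epi_sigmaDesc_iff]

/-- Quasi-compactness, for families indexed by an arbitrary `u`-small type. -/
lemma IsQC.exists_finset {X : ToposFin.Sh J} (hX : ToposFin.IsQC X) {ι : Type w} [Small.{u} ι]
    {F : ι → ToposFin.Sh J} (π : ∀ i, F i ⟶ X) (h : JEpi π) :
    ∃ s : Finset ι, JEpi (fun i : s => π i) := by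
  classical
  obtain ⟨s, hs⟩ := (isQC_iff X).1 hX (Shrink.{u} ι) (fun k => F ((equivShrink ι).symm k))
    (fun k => π ((equivShrink ι).symm k)) (h.reindex _ (equivShrink ι).symm.surjective)
  refine ⟨s.image (equivShrink ι).symm, ?_⟩
  intro Z a b hab
  apply hs
  intro k
  exact hab ⟨(equivShrink ι).symm k, Finset.mem_image_of_mem _ k.2⟩

lemma IsQC.of_iso {X Y : ToposFin.Sh J} (e : X ≅ Y) (hX : ToposFin.IsQC X) : ToposFin.IsQC Y := by
  rw [isQC_iff] at hX ⊢
  intro ι F π hπ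
  obtain ⟨s, hs⟩ := hX ι F (fun i => π i ≫ e.inv) (hπ.postcomp_epi e.inv)
  refine ⟨s, ?_⟩
  intro Z a b hab
  have := hs (e.hom ≫ a) (e.hom ≫ b) (fun i => by simpa using hab i)
  exact (cancel_epi e.hom).1 this

/-- A finite jointly epimorphic family with quasi-compact sources has quasi-compact target. -/
lemma IsQC.of_finite_jepi {X : ToposFin.Sh J} {κ : Type w} [Finite κ] {F : κ → ToposFin.Sh J}
    (π : ∀ k, F k ⟶ X) (hπ : JEpi π) (hF : ∀ k, ToposFin.IsQC (F k)) : ToposFin.IsQC X := by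
  classical
  rw [isQC_iff]
  intro ι G ρ hρ
  have key : ∀ k, ∃ s : Finset ι, JEpi (fun i : s => pullback.snd (ρ i) (π k)) := fun k =>
    IsQC.exists_finset (hF k) _ (hρ.pullback_snd (π k))
  choose s hs using key
  have := Fintype.ofFinite κ
  refine ⟨Finset.univ.biUnion s, ?_⟩
  intro Z a b hab
  apply hπ
  intro k
  apply hs k
  rintro ⟨i, hi⟩
  have hi' : i ∈ Finset.univ.biUnion s := Finset.mem_biUnion.2 ⟨k, Finset.mem_univ _, hi⟩
  have := hab ⟨i, hi'⟩
  dsimp only at this ⊢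
  rw [← Category.assoc, ← pullback.condition, Category.assoc, this, ← Category.assoc,
    pullback.condition, Category.assoc]

lemma IsQC.of_epi {X Y : ToposFin.Sh J} (f : X ⟶ Y) [Epi f] (hX : ToposFin.IsQC X) :
    ToposFin.IsQC Y :=
  IsQC.of_finite_jepi (fun _ : Unit => f) ((jepi_single_iff f).2 inferInstance) (fun _ => hX)

end Groth.Agent.H2.TF
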