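import Groth.Agent.Lib.Helper2.ToposFinAlg0

set_option autoImplicit false
universe u w w'
open CategoryTheory CategoryTheory.Limits Opposite

namespace Groth.Agent.H2.TF

section Cat
variable {D : Type*} [Category D] [HasPullbacks D]

set_option backward.isDefEq.respectTransparency false in
/-- An equalizer of `a, b` is the pullback of the diagonal along `(a, b)`. -/
lemma isPullback_of_fork {L Z K P : D} (f : L ⟶ Z) (a b : K ⟶ L) (hab : a ≫ f = b ≫ f)
    (e : P ⟶ K) (w : e ≫ a = e ≫ b) (hlim : IsLimit (Fork.ofι e w)) :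
    IsPullback (e ≫ a) e (pullback.diagonal f) (pullback.lift a b hab) := by
  have key1 : ∀ c : PullbackCone (pullback.diagonal f) (pullback.lift a b hab),
      c.fst = c.snd ≫ a := fun c => by
    have := congrArg (fun m => m ≫ pullback.fst f f) c.condition
    simpa using this
  have key2 : ∀ c : PullbackCone (pullback.diagonal f) (pullback.lift a b hab),
      c.fst = c.snd ≫ b := fun c => by
    have := congrArg (fun m => m ≫ pullback.snd f f) c.condition
    simpa using this
  have key : ∀ c : PullbackCone (pullback.diagonal f) (pullback.lift a b hab),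
      c.snd ≫ a = c.snd ≫ b := fun c => (key1 c).symm.trans (key2 c)
  refine ⟨⟨?_⟩, ⟨PullbackCone.IsLimit.mk _
    (fun c => (Fork.IsLimit.lift' hlim c.snd (key c)).1) ?_ ?_ ?_⟩⟩
  · apply pullback.hom_ext
    · simp
    · simp [w]
  · intro c
    have := (Fork.IsLimit.lift' hlim c.snd (key c)).2
    simp only [Fork.ι_ofι] at this
    rw [← Category.assoc, this, key1 c]
  · intro c
    have := (Fork.IsLimit.lift' hlim c.snd (key c)).2
    simpa using this
  · intro c m _ hm2
    apply Fork.IsLimit.hom_ext hlim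
    have := (Fork.IsLimit.lift' hlim c.snd (key c)).2
    simp only [Fork.ι_ofι] at this ⊢
    rw [hm2, this]

end Cat

variable {C : Type u} [SmallCategory C] {J : GrothendieckTopology C}

/-- In an algebraic topos, generators are quasi-separated over the final object. -/
lemma isQSHom_terminal_of_mem {S : Set (ToposFin.Sh J)}
    (hgen : ToposFin.IsGenerating S) (heq : ToposFin.ClosedUnderEqualizers S)
    (hqc : ∀ K ∈ S, ToposFin.IsQC K)
    {L : ToposFin.Sh J} (hL : L ∈ S) : ToposFin.IsQSHom (terminal.from L) := by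
  refine isQCHom_of_gen (gen_of_isGenerating hgen) _ ?_
  intro K s hK
  have hab : (s ≫ pullback.fst _ _) ≫ terminal.from L = (s ≫ pullback.snd _ _) ≫ terminal.from L :=
    terminal.hom_ext _ _
  obtain ⟨P, e, w, hP, ⟨hlim⟩⟩ := heq (s ≫ pullback.fst _ _) (s ≫ pullback.snd _ _) hK hL
  have hs : s = pullback.lift (s ≫ pullback.fst _ _) (s ≫ pullback.snd _ _) hab := by
    apply pullback.hom_ext
    · exact (pullback.lift_fst _ _ _).symm
    · exact (pullback.lift_snd _ _ _).symm
  have sq := isPullback_of_fork (terminal.from L) _ _ hab e w hlim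
  rw [← hs] at sq
  exact IsQC.of_iso sq.isoPullback (hqc P hP)

/-- In an algebraic topos, every morphism out of a quasi-separated object is quasi-separated. -/
lemma isQSHom_of_isQS_of_isAlgebraic (hE : ToposFin.IsAlgebraic J) {X Y : ToposFin.Sh J}
    (f : X ⟶ Y) (hX : ToposFin.IsQS X) : ToposFin.IsQSHom f := by
  obtain ⟨S, hqc, hgen, hpb, heq⟩ := hE
  have hgen' := gen_of_isGenerating hgen
  have hgenQC : Gen (J := J) ToposFin.IsQC := hgen'.mono hqc
  suffices h : ToposFin.IsQSHom (terminal.from X) by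
    have e : f ≫ terminal.from Y = terminal.from X := terminal.hom_ext _ _
    rw [← e] at h
    exact IsQSHom.of_comp f _ h
  obtain ⟨ι, L, g, hL, hg⟩ := hgen' X
  refine isQSHom_of_cover_source hgenQC _ g hg (fun i j => ?_)
  refine IsQCHom.of_isQC_of_isQS _ (hX _ _ (g i) (g j) (hqc _ (hL i)) (hqc _ (hL j))) ?_
  refine isQS_of_isQSHom (pullback.snd (g i ≫ terminal.from X) (g j ≫ terminal.from X)) ?_
    (isCoherent_of_mem hqc hgen hpb (hL j)).2
  refine IsQSHom.of_isPullback (IsPullback.of_hasPullback _ _) ?_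
  have e : g i ≫ terminal.from X = terminal.from (L i) := terminal.hom_ext _ _
  rw [e]
  exact isQSHom_terminal_of_mem hgen heq hqc (hL i)

lemma gen_isQC_of_isAlgebraic (hE : ToposFin.IsAlgebraic J) : Gen (J := J) ToposFin.IsQC := by
  obtain ⟨S, hqc, hgen, hpb, heq⟩ := hE
  exact (gen_of_isGenerating hgen).mono hqc


/-- An exact left adjoint preserving quasi-compact objects sends quasi-compact morphisms to
quasi-compact morphisms, provided the target is covered by objects whose images are
quasi-separated. -/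
lemma map_isQCHom {D : Type u} [SmallCategory D] {K : GrothendieckTopology D}
    {F : ToposFin.Sh K ⥤ ToposFin.Sh J} {R : ToposFin.Sh J ⥤ ToposFin.Sh K} (adj : F ⊣ R)
    [PreservesFiniteLimits F] (hgenJ : Gen (J := J) ToposFin.IsQC)
    (hFqc : ∀ X : ToposFin.Sh K, ToposFin.IsQC X → ToposFin.IsQC (F.obj X))
    {X Y : ToposFin.Sh K} (v : X ⟶ Y) (hv : ToposFin.IsQCHom v)
    {ι : Type u} {Yi : ι → ToposFin.Sh K} (g : ∀ i, Yi i ⟶ Y) (hg : JEpi g)
    (hYqc : ∀ i, ToposFin.IsQC (Yi i)) (hFY : ∀ i, ToposFin.IsQS (F.obj (Yi i))) :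
    ToposFin.IsQCHom (F.map v) :=
  IsQCHom.of_local hgenJ (F.map v) (fun i => F.map (g i)) (hg.map_of_adj adj)
    (fun i => F.map (pullback.fst v (g i))) (fun i => F.map (pullback.snd v (g i)))
    (fun i => (IsPullback.of_hasPullback v (g i)).map F)
    (fun i => IsQCHom.of_isQC_of_isQS _ (hFqc _ (hv _ (g i) (hYqc i))) (hFY i))

/-- An exact left adjoint preserving quasi-compact objects preserves quasi-separatedness of
objects covered by quasi-compact objects with quasi-separated images. -/
lemma map_isQS {D : Type u} [SmallCategory D] {K : GrothendieckTopology D}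
    {F : ToposFin.Sh K ⥤ ToposFin.Sh J} {R : ToposFin.Sh J ⥤ ToposFin.Sh K} (adj : F ⊣ R)
    [PreservesFiniteLimits F] (hgenJ : Gen (J := J) ToposFin.IsQC)
    (hFqc : ∀ X : ToposFin.Sh K, ToposFin.IsQC X → ToposFin.IsQC (F.obj X))
    {X : ToposFin.Sh K} (hX : ToposFin.IsQS X)
    {ι : Type u} {Xi : ι → ToposFin.Sh K} (g : ∀ i, Xi i ⟶ X) (hg : JEpi g)
    (hXqc : ∀ i, ToposFin.IsQC (Xi i)) (hFX : ∀ i, ToposFin.IsQS (F.obj (Xi i))) :
    ToposFin.IsQS (F.obj X) :=
  isQS_of_cover (fun i => F.map (g i)) (hg.map_of_adj adj) hFX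
    (fun i => map_isQCHom adj hgenJ hFqc (g i)
      (IsQCHom.of_isQC_of_isQS (g i) (hXqc i) hX) g hg hXqc hFX)

/-- An exact left adjoint sends quasi-compact objects to quasi-compact objects as soon as it does
so on a generating class. -/
lemma map_isQC {D : Type u} [SmallCategory D] {K : GrothendieckTopology D}
    {F : ToposFin.Sh K ⥤ ToposFin.Sh J} {R : ToposFin.Sh J ⥤ ToposFin.Sh K} (adj : F ⊣ R)
    {𝒢 : ToposFin.Sh K → Prop} (hgen : Gen 𝒢) (h : ∀ X, 𝒢 X → ToposFin.IsQC (F.obj X))
    {X : ToposFin.Sh K} (hX : ToposFin.IsQC X) : ToposFin.IsQC (F.obj X) := by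
  obtain ⟨κ, hκ, Q, q, hQ, hq⟩ := hgen.exists_finite_cover hX
  exact IsQC.of_finite_jepi (fun k => F.map (q k)) (hq.map_of_adj adj) (fun k => h _ (hQ k))

end Groth.Agent.H2.TF
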