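import Groth.Agent.Lib.Helper2.ToposFinCoprod2
import Groth.Prelude.Def_ToposFin2

set_option autoImplicit false
universe u w w'
open CategoryTheory CategoryTheory.Limits Opposite

namespace Groth.Agent.H2.TF

variable {C : Type u} [SmallCategory C] {J : GrothendieckTopology C}

lemma gen_of_isGenerating {S : Set (ToposFin.Sh J)} (hgen : ToposFin.IsGenerating S) :
    Gen (J := J) (· ∈ S) := by
  intro X
  obtain ⟨ι, F, π, hF, hπ⟩ := hgen X
  exact ⟨ι, F, π, hF, hπ⟩

lemma IsQS.of_iso {X Y : ToposFin.Sh J} (e : X ≅ Y) (hX : ToposFin.IsQS X) : ToposFin.IsQS Y := by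
  have : Mono e.inv := inferInstance
  exact isQS_of_mono e.inv hX

/-- Generator criterion for quasi-compact morphisms. -/
lemma isQCHom_of_gen {𝒢 : ToposFin.Sh J → Prop} (hgen : Gen 𝒢) {X Y : ToposFin.Sh J}
    (f : X ⟶ Y) (h : ∀ (K : ToposFin.Sh J) (s : K ⟶ Y), 𝒢 K → ToposFin.IsQC (pullback f s)) :
    ToposFin.IsQCHom f := by
  intro Y' g hY'
  obtain ⟨κ, hκ, Q, q, hQ, hq⟩ := hgen.exists_finite_cover hY'
  exact isQC_pullback_of_finite_cover_right f g q hq (fun k => h _ _ (hQ k))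

/-- Generator criterion for quasi-separated objects. -/
lemma isQS_of_gen {𝒢 : ToposFin.Sh J → Prop} (hgen : Gen 𝒢) {Y : ToposFin.Sh J}
    (h : ∀ (K L : ToposFin.Sh J) (a : K ⟶ Y) (b : L ⟶ Y), 𝒢 K → 𝒢 L →
      ToposFin.IsQC (pullback a b)) : ToposFin.IsQS Y := by
  intro A B a b hA hB
  obtain ⟨κ, hκ, Q, q, hQ, hq⟩ := hgen.exists_finite_cover hA
  obtain ⟨κ', hκ', R, r, hR, hr⟩ := hgen.exists_finite_cover hB
  refine isQC_pullback_of_finite_cover_left a b q hq (fun k => ?_)
  exact isQC_pullback_of_finite_cover_right _ b r hr (fun l => h _ _ _ _ (hQ k) (hR l))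

/-- In a locally coherent topos (generating set of quasi-compact objects closed under fibre
products), the generators are coherent. -/
lemma isCoherent_of_mem {S : Set (ToposFin.Sh J)} (hqc : ∀ K ∈ S, ToposFin.IsQC K)
    (hgen : ToposFin.IsGenerating S) (hpb : ToposFin.ClosedUnderPullbacks S)
    {K : ToposFin.Sh J} (hK : K ∈ S) : ToposFin.IsCoherent K := by
  refine ⟨hqc K hK, isQS_of_gen (gen_of_isGenerating hgen) ?_⟩
  intro A B a b hA hB
  obtain ⟨P, p, q, hP, sq⟩ := hpb a b hA hB hK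
  exact IsQC.of_iso sq.isoPullback (hqc P hP)

/-- In a locally coherent topos, a morphism from a quasi-separated object to a generator is
quasi-separated. -/
lemma isQSHom_to_mem {S : Set (ToposFin.Sh J)} (hqc : ∀ K ∈ S, ToposFin.IsQC K)
    (hgen : ToposFin.IsGenerating S) (hpb : ToposFin.ClosedUnderPullbacks S)
    {X K : ToposFin.Sh J} (hK : K ∈ S) (f : X ⟶ K) (hX : ToposFin.IsQS X) :
    ToposFin.IsQSHom f := by
  have hgen' := gen_of_isGenerating hgen
  have hgenQC : Gen (J := J) ToposFin.IsQC := hgen'.mono hqc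
  obtain ⟨ι, L, g, hL, hg⟩ := hgen' X
  refine isQSHom_of_cover_source hgenQC f g hg (fun i j => ?_)
  refine IsQCHom.of_isQC_of_isQS _ (hX _ _ (g i) (g j) (hqc _ (hL i)) (hqc _ (hL j))) ?_
  obtain ⟨P, p, q, hP, sq⟩ := hpb (g i ≫ f) (g j ≫ f) (hL i) (hL j) hK
  exact IsQS.of_iso sq.isoPullback (isCoherent_of_mem hqc hgen hpb hP).2

/-- Left adjoints preserve jointly epimorphic families. -/
lemma JEpi.map_of_adj {D E : Type*} [Category D] [Category E] {F : D ⥤ E} {R : E ⥤ D}
    (adj : F ⊣ R) {ι : Type*} {G : ι → D} {X : D} {π : ∀ i, G i ⟶ X} (h : JEpi π) :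
    JEpi (fun i => F.map (π i)) := by
  intro Z a b hab
  apply (adj.homEquiv X Z).injective
  apply h
  intro i
  rw [← Adjunction.homEquiv_naturality_left, ← Adjunction.homEquiv_naturality_left, hab i]

end Groth.Agent.H2.TF
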