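import Groth.Agent.Lib.Helper2.ToposFinLocal2
import Mathlib.CategoryTheory.Extensive
import Mathlib.CategoryTheory.Limits.MonoCoprod
import Mathlib.CategoryTheory.Limits.EssentiallySmall

set_option autoImplicit false
universe u w w'
open CategoryTheory CategoryTheory.Limits Opposite

namespace Groth.Agent.H2.TF

variable {C : Type u} [SmallCategory C] {J : GrothendieckTopology C}

/-- An object covered by initial objects is initial. -/
lemma isInitial_of_jepi_initial {ι : Type w} {F : ι → ToposFin.Sh J} {X : ToposFin.Sh J}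
    (π : ∀ i, F i ⟶ X) (hπ : JEpi π) (hF : ∀ i, Nonempty (IsInitial (F i))) :
    Nonempty (IsInitial X) := by
  have hepi : Epi (initial.to X) := by
    constructor
    intro Z a b _
    apply hπ
    intro i
    obtain ⟨hI⟩ := hF i
    exact hI.hom_ext _ _
  have : IsIso (initial.to X) := isIso_of_mono_of_epi _
  exact ⟨IsInitial.ofIso initialIsInitial (asIso (initial.to X))⟩

/-- Initial objects are quasi-compact. -/
lemma isQC_of_isInitial {X : ToposFin.Sh J} (hX : IsInitial X) : ToposFin.IsQC X := by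
  rw [isQC_iff]
  intro ι F π _
  exact ⟨∅, fun Z a b _ => hX.hom_ext _ _⟩

/-- Anything mapping to an initial object is initial. -/
lemma isInitial_of_hom {X Y : ToposFin.Sh J} (f : X ⟶ Y) (hY : IsInitial Y) :
    Nonempty (IsInitial X) :=
  ⟨IsInitial.ofStrict f hY⟩

/-- A jointly epimorphic family of pairwise disjoint subobjects. -/
structure IsDisjointCover {ι : Type w} {T' : ι → ToposFin.Sh J} {T : ToposFin.Sh J}
    (u : ∀ k, T' k ⟶ T) : Prop where
  jepi : JEpi u
  mono : ∀ k, Mono (u k)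
  disj : ∀ k l, k ≠ l → ∀ {P : ToposFin.Sh J} (p₁ : P ⟶ T' k) (p₂ : P ⟶ T' l),
    p₁ ≫ u k = p₂ ≫ u l → Nonempty (IsInitial P)

/-- Coprojections of a coproduct are monomorphisms. -/
lemma mono_cofan_inj {ι : Type w} [Small.{u} ι] {F : ι → ToposFin.Sh J} (c : Cofan F)
    (hc : IsColimit c) (i : ι) : Mono (c.inj i) := by
  have := hasCoproductsOfShape_of_small.{u} (ToposFin.Sh J)
    ((Set.range (fun _ : Unit ↦ i))ᶜ : Set ι)
  exact MonoCoprod.mono_inj F c hc i

/-- Distinct coprojections of a coproduct are disjoint. -/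
lemma isInitial_of_cofan_inj {ι : Type w} {F : ι → ToposFin.Sh J} (c : Cofan F)
    (hc : IsColimit c) {i j : ι} (hij : i ≠ j) {P : ToposFin.Sh J} (p₁ : P ⟶ F i)
    (p₂ : P ⟶ F j) (h : p₁ ≫ c.inj i = p₂ ≫ c.inj j) : Nonempty (IsInitial P) := by
  classical
  let T : ToposFin.Sh J := ⊤_ _
  let χ : c.pt ⟶ T ⨿ T := Cofan.IsColimit.desc hc
    (fun k => if k = i then terminal.from (F k) ≫ coprod.inl else terminal.from (F k) ≫ coprod.inr)
  have h1 : c.inj i ≫ χ = terminal.from (F i) ≫ coprod.inl := by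
    simp [χ]
  have h2 : c.inj j ≫ χ = terminal.from (F j) ≫ coprod.inr := by
    simp [χ, hij.symm]
  have hpb := FinitaryExtensive.isPullback_initial_to_binaryCofan
    (coprodIsCoprod T T)
  have e : (p₁ ≫ terminal.from (F i)) ≫ coprod.inl = (p₂ ≫ terminal.from (F j)) ≫ coprod.inr := by
    rw [Category.assoc, Category.assoc, ← h1, ← h2, ← Category.assoc, ← Category.assoc, h]
  exact isInitial_of_hom (hpb.lift _ _ e) initialIsInitial

lemma isDisjointCover_cofan {ι : Type w} [Small.{u} ι] {F : ι → ToposFin.Sh J} (c : Cofan F)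
    (hc : IsColimit c) : IsDisjointCover c.inj where
  jepi := fun _ a b hab => Cofan.IsColimit.hom_ext hc a b hab
  mono := mono_cofan_inj c hc
  disj := fun _ _ hkl _ p₁ p₂ h => isInitial_of_cofan_inj c hc hkl p₁ p₂ h

lemma IsDisjointCover.pullback {ι : Type w} {T' : ι → ToposFin.Sh J} {T S : ToposFin.Sh J}
    {u : ∀ k, T' k ⟶ T} (hu : IsDisjointCover u) (t : S ⟶ T) :
    IsDisjointCover (fun k => pullback.snd (u k) t) where
  jepi := hu.jepi.pullback_snd t
  mono := fun k => by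
    have := hu.mono k
    infer_instance
  disj := fun k l hkl P p₁ p₂ h => by
    refine hu.disj k l hkl (p₁ ≫ pullback.fst _ _) (p₂ ≫ pullback.fst _ _) ?_
    rw [Category.assoc, Category.assoc, pullback.condition, pullback.condition,
      ← Category.assoc, ← Category.assoc, h]

/-- The family on a sum type assembled from two families. -/
def sumFam {D : Type*} [Category D] {ι₁ : Type*} {ι₂ : Type*} {F₁ : ι₁ → D} {F₂ : ι₂ → D} {X : D}
    (π₁ : ∀ i, F₁ i ⟶ X) (π₂ : ∀ i, F₂ i ⟶ X) : ∀ x : ι₁ ⊕ ι₂, Sum.elim F₁ F₂ x ⟶ X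
  | Sum.inl i => π₁ i
  | Sum.inr i => π₂ i

lemma jepi_sumFam_iff {D : Type*} [Category D] {ι₁ : Type*} {ι₂ : Type*} {F₁ : ι₁ → D}
    {F₂ : ι₂ → D} {X : D} (π₁ : ∀ i, F₁ i ⟶ X) (π₂ : ∀ i, F₂ i ⟶ X) :
    JEpi (sumFam π₁ π₂) ↔ ∀ ⦃Z : D⦄ (a b : X ⟶ Z), (∀ i, π₁ i ≫ a = π₁ i ≫ b) →
      (∀ i, π₂ i ≫ a = π₂ i ≫ b) → a = b := by
  constructor
  · intro h Z a b h₁ h₂
    apply h
    rintro (i | i)
    · exact h₁ i
    · exact h₂ i
  · intro h Z a b hab
    exact h a b (fun i => hab (Sum.inl i)) (fun i => hab (Sum.inr i))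

/-- Members of a disjoint cover of a quasi-compact object are quasi-compact. -/
lemma IsDisjointCover.isQC {ι : Type w} [Small.{u} ι] {T' : ι → ToposFin.Sh J}
    {T : ToposFin.Sh J} {u : ∀ k, T' k ⟶ T} (hu : IsDisjointCover u) (hT : ToposFin.IsQC T)
    (k : ι) : ToposFin.IsQC (T' k) := by
  classical
  rw [isQC_iff]
  intro ι' G ρ hρ
  have hφ : JEpi (sumFam (fun m => ρ m ≫ u k) (fun l : {l : ι // l ≠ k} => u l.1)) := by
    rw [jepi_sumFam_iff]
    intro Z a b h₁ h₂
    apply hu.jepi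
    intro l
    by_cases hl : l = k
    · subst hl
      apply hρ
      intro m
      simpa using h₁ m
    · exact h₂ ⟨l, hl⟩
  obtain ⟨s, hs⟩ := IsQC.exists_finset hT _ hφ
  refine ⟨s.toLeft, ?_⟩
  intro Z a b hab
  have hψ := hs.pullback_snd (u k)
  apply hψ
  have := hu.mono k
  rintro ⟨x | x, hx⟩
  · change pullback.snd (ρ x ≫ u k) (u k) ≫ a = pullback.snd (ρ x ≫ u k) (u k) ≫ b
    have e : pullback.fst (ρ x ≫ u k) (u k) ≫ ρ x = pullback.snd (ρ x ≫ u k) (u k) := by
      rw [← cancel_mono (u k), Category.assoc]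
      exact pullback.condition
    have hm : x ∈ s.toLeft := Finset.mem_toLeft.2 hx
    have := hab ⟨x, hm⟩
    dsimp only at this
    rw [← e, Category.assoc, Category.assoc, this]
  · change pullback.snd (u x.1) (u k) ≫ a = pullback.snd (u x.1) (u k) ≫ b
    obtain ⟨hI⟩ := hu.disj x.1 k x.2 (pullback.fst (u x.1) (u k))
      (pullback.snd (u x.1) (u k)) pullback.condition
    exact hI.hom_ext _ _

end Groth.Agent.H2.TF
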