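import Groth.Agent.Lib.Helper2.ToposFinCoprod

set_option autoImplicit false
universe u w w'
open CategoryTheory CategoryTheory.Limits Opposite

namespace Groth.Agent.H2.TF

variable {C : Type u} [SmallCategory C] {J : GrothendieckTopology C}

/-- `f` quasi-separated and `Y` quasi-separated imply `X` quasi-separated. -/
lemma isQS_of_isQSHom {X Y : ToposFin.Sh J} (f : X ⟶ Y) (hf : ToposFin.IsQSHom f)
    (hY : ToposFin.IsQS Y) : ToposFin.IsQS X := by
  intro A B a b hA hB
  exact IsQCHom.isQC_of_isPullback hf (pullback_map_diagonal_isPullback a b f)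
    (hY A B (a ≫ f) (b ≫ f) hA hB)

/-- A subobject of a quasi-separated object is quasi-separated. -/
lemma isQS_of_mono {X Y : ToposFin.Sh J} (i : X ⟶ Y) [Mono i] (hY : ToposFin.IsQS Y) :
    ToposFin.IsQS X :=
  isQS_of_isQSHom i (IsQSHom.of_mono i) hY

/-- Fibre products over a subobject. -/
noncomputable def pullbackCompMonoIso {A B X Y : ToposFin.Sh J} (a : A ⟶ X) (b : B ⟶ X)
    (i : X ⟶ Y) [Mono i] : pullback a b ≅ pullback (a ≫ i) (b ≫ i) :=
  (pullbackIsPullbackOfCompMono a b i).conePointUniqueUpToIso (pullback.isLimit _ _)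

/-- Quasi-compactness of a coproduct. -/
lemma isQC_sigma_iff {ι : Type u} (F : ι → ToposFin.Sh J) :
    ToposFin.IsQC (∐ F) ↔
      (∀ i, ToposFin.IsQC (F i)) ∧ {i | IsEmpty (F i ≅ ⊥_ (ToposFin.Sh J))}.Finite := by
  classical
  have hcov : IsDisjointCover (Sigma.ι F) :=
    isDisjointCover_cofan (Cofan.mk (∐ F) (Sigma.ι F)) (coproductIsCoproduct F)
  constructor
  · intro h
    refine ⟨fun i => hcov.isQC h i, ?_⟩
    obtain ⟨s, hs⟩ := IsQC.exists_finset h _ hcov.jepi
    refine s.finite_toSet.subset ?_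
    intro i hi
    by_contra his
    have his' : i ∉ s := his
    have hi' : IsEmpty (F i ≅ ⊥_ (ToposFin.Sh J)) := hi
    rw [← not_nonempty_iff] at hi'
    apply hi'
    obtain ⟨hI⟩ := isInitial_of_jepi_initial _ (hs.pullback_snd (Sigma.ι F i)) (fun k => by
      refine hcov.disj k.1 i ?_ (pullback.fst _ _) (pullback.snd _ _) pullback.condition
      rintro rfl
      exact his' k.2)
    exact ⟨hI.uniqueUpToIso initialIsInitial⟩
  · rintro ⟨hqc, hfin⟩
    have : Finite {i | IsEmpty (F i ≅ ⊥_ (ToposFin.Sh J))} := hfin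
    refine IsQC.of_finite_jepi (fun i : {i | IsEmpty (F i ≅ ⊥_ (ToposFin.Sh J))} => Sigma.ι F i)
      ?_ (fun i => hqc i)
    refine hcov.jepi.of_isInitial _ ?_
    intro i hi
    have hi' : ¬ IsEmpty (F i ≅ ⊥_ (ToposFin.Sh J)) := hi
    rw [not_isEmpty_iff] at hi'
    obtain ⟨e⟩ := hi'
    exact ⟨IsInitial.ofIso initialIsInitial e.symm⟩


set_option backward.isDefEq.respectTransparency false in
/-- Fibre products of disjoint covers are disjoint covers. -/
lemma IsDisjointCover.pullback_map {ι : Type w} {κ : Type w'} {T' : ι → ToposFin.Sh J}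
    {S' : κ → ToposFin.Sh J} {T S Z : ToposFin.Sh J} {u : ∀ k, T' k ⟶ T} {v : ∀ l, S' l ⟶ S}
    (hu : IsDisjointCover u) (hv : IsDisjointCover v) (a : T ⟶ Z) (b : S ⟶ Z) :
    IsDisjointCover (fun x : ι × κ => pullback.map (u x.1 ≫ a) (v x.2 ≫ b) a b (u x.1) (v x.2)
      (𝟙 Z) (Category.comp_id _) (Category.comp_id _)) where
  jepi := hu.jepi.pullback_map hv.jepi a b
  mono := fun x => by
    have := hu.mono x.1
    have := hv.mono x.2
    constructor
    intro P y z hyz
    apply pullback.hom_ext
    · rw [← cancel_mono (u x.1)]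
      have := congrArg (fun m => m ≫ pullback.fst a b) hyz
      simpa using this
    · rw [← cancel_mono (v x.2)]
      have := congrArg (fun m => m ≫ pullback.snd a b) hyz
      simpa using this
  disj := fun x y hxy P p₁ p₂ h => by
    by_cases h1 : x.1 = y.1
    · have h2 : x.2 ≠ y.2 := fun h2 => hxy (Prod.ext h1 h2)
      refine hv.disj x.2 y.2 h2 (p₁ ≫ pullback.snd _ _) (p₂ ≫ pullback.snd _ _) ?_
      have := congrArg (fun m => m ≫ pullback.snd a b) h
      simpa using this
    · refine hu.disj x.1 y.1 h1 (p₁ ≫ pullback.fst _ _) (p₂ ≫ pullback.fst _ _) ?_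
      have := congrArg (fun m => m ≫ pullback.fst a b) h
      simpa using this

/-- An object with a disjoint cover by quasi-separated objects is quasi-separated. -/
lemma IsDisjointCover.isQS {ι : Type w} [Small.{u} ι] {X' : ι → ToposFin.Sh J}
    {X : ToposFin.Sh J} {u : ∀ k, X' k ⟶ X} (hu : IsDisjointCover u)
    (hX : ∀ k, ToposFin.IsQS (X' k)) : ToposFin.IsQS X := by
  intro A B a b hA hB
  have hcA := hu.pullback a
  have hcB := hu.pullback b
  obtain ⟨sA, hsA⟩ := IsQC.exists_finset hA _ hcA.jepi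
  obtain ⟨sB, hsB⟩ := IsQC.exists_finset hB _ hcB.jepi
  refine isQC_pullback_of_finite_cover_left a b _ hsA ?_
  rintro ⟨k, hk⟩
  refine isQC_pullback_of_finite_cover_right _ b _ hsB ?_
  rintro ⟨l, hl⟩
  refine IsQC.of_iso (pullback.congrHom (pullback.condition (f := u k) (g := a))
    (pullback.condition (f := u l) (g := b))) ?_
  by_cases hkl : k = l
  · subst hkl
    have := hu.mono k
    exact IsQC.of_iso (pullbackCompMonoIso _ _ (u k)) (hX k _ _ _ _ (hcA.isQC hA k) (hcB.isQC hB k))
  · obtain ⟨hI⟩ := hu.disj k l hkl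
      (pullback.fst (pullback.fst (u k) a ≫ u k) (pullback.fst (u l) b ≫ u l) ≫ pullback.fst _ _)
      (pullback.snd (pullback.fst (u k) a ≫ u k) (pullback.fst (u l) b ≫ u l) ≫ pullback.fst _ _)
      (by simpa using pullback.condition)
    exact isQC_of_isInitial hI

set_option backward.isDefEq.respectTransparency false in
/-- A morphism out of an object with a disjoint cover is quasi-separated as soon as its
restrictions to the members are. -/
lemma IsDisjointCover.isQSHom {ι : Type w} [Small.{u} ι] {X' : ι → ToposFin.Sh J}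
    {X Y : ToposFin.Sh J} {u : ∀ k, X' k ⟶ X} (hu : IsDisjointCover u) (f : X ⟶ Y)
    (h : ∀ k, ToposFin.IsQSHom (u k ≫ f)) : ToposFin.IsQSHom f := by
  intro T t hT
  have hD := (hu.pullback_map hu f f).pullback t
  obtain ⟨s, hs⟩ := IsQC.exists_finset hT _ hD.jepi
  refine isQC_pullback_of_finite_cover_right (pullback.diagonal f) t _ hs ?_
  rintro ⟨⟨i, j⟩, hx⟩
  dsimp only
  set c := pullback.map (u i ≫ f) (u j ≫ f) f f (u i) (u j) (𝟙 Y)
    (Category.comp_id _) (Category.comp_id _) with hc
  refine IsQC.of_iso (pullback.congrHom rfl (pullback.condition (f := c) (g := t))) ?_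
  set m := pullback.map (u i) (u j) (u i ≫ f) (u j ≫ f) (𝟙 _) (𝟙 _) f
    (Category.id_comp _).symm (Category.id_comp _).symm with hm
  have sqd : IsPullback (pullback.fst (u i) (u j) ≫ u i) m (pullback.diagonal f) c :=
    pullback_map_diagonal_isPullback (u i) (u j) f
  have hW := ((IsPullback.of_hasPullback m (pullback.fst c t)).flip.paste_vert sqd.flip).flip
  refine IsQC.of_iso hW.isoPullback ?_
  have hTx : ToposFin.IsQC (Limits.pullback c t) := hD.isQC hT (i, j)
  by_cases hij : i = j
  · subst hij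
    have := hu.mono i
    have e : m = inv (pullback.diagonal (u i)) ≫ pullback.diagonal (u i ≫ f) := by
      rw [IsIso.eq_inv_comp]
      ext <;> simp [hm]
    have hmqc : ToposFin.IsQCHom m := by
      rw [e]
      exact IsQCHom.comp (IsQCHom.of_isIso _) (h i)
    exact hmqc _ _ hTx
  · obtain ⟨hI⟩ := hu.disj i j hij (pullback.fst m (pullback.fst c t) ≫ pullback.fst _ _)
      (pullback.fst m (pullback.fst c t) ≫ pullback.snd _ _)
      (by simp [pullback.condition])
    exact isQC_of_isInitial hI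

end Groth.Agent.H2.TF
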