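import Groth.Agent.Lib.Helper2.ToposFinSite2
import Mathlib.CategoryTheory.Limits.Types.Filtered

set_option autoImplicit false
universe u w w'
open CategoryTheory CategoryTheory.Limits Opposite

namespace Groth.Agent.H2.TF

section Post
variable {E : Type (u+1)} [Category.{u} E] {I : Type u} [SmallCategory I]
  (D : I ⥤ E) [HasColimit D] (X : E)

lemma post_coyoneda_ι (i : I) (a : X ⟶ D.obj i) :
    colimit.post D (coyoneda.obj (op X)) (colimit.ι (D ⋙ coyoneda.obj (op X)) i a) =
      a ≫ colimit.ι D i := by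
  have := congrArg (fun (m : (D ⋙ coyoneda.obj (op X)).obj i ⟶ _) => m a)
    (colimit.ι_post D (coyoneda.obj (op X)) i)
  exact this

variable [IsFiltered I]

lemma post_coyoneda_injective_iff :
    Function.Injective (colimit.post D (coyoneda.obj (op X))) ↔
      ∀ (i : I) (a b : X ⟶ D.obj i), a ≫ colimit.ι D i = b ≫ colimit.ι D i →
        ∃ (k : I) (f : i ⟶ k), a ≫ D.map f = b ≫ D.map f := by
  constructor
  · intro h i a b hab
    have : colimit.ι (D ⋙ coyoneda.obj (op X)) i a = colimit.ι (D ⋙ coyoneda.obj (op X)) i b := by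
      apply h
      rw [post_coyoneda_ι, post_coyoneda_ι, hab]
    exact (Types.FilteredColimit.isColimit_eq_iff' (colimit.isColimit (D ⋙ coyoneda.obj (op X))) a b).1 this
  · intro h x y hxy
    obtain ⟨i, a, b, rfl, rfl⟩ :=
      Types.FilteredColimit.jointly_surjective_of_isColimit₂ (colimit.isColimit _) x y
    change colimit.post D (coyoneda.obj (op X)) (colimit.ι (D ⋙ coyoneda.obj (op X)) i a) =
      colimit.post D (coyoneda.obj (op X)) (colimit.ι (D ⋙ coyoneda.obj (op X)) i b) at hxy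
    rw [post_coyoneda_ι, post_coyoneda_ι] at hxy
    obtain ⟨k, f, hf⟩ := h i a b hxy
    exact (Types.FilteredColimit.isColimit_eq_iff' (colimit.isColimit (D ⋙ coyoneda.obj (op X))) a b).2 ⟨k, f, hf⟩

omit [IsFiltered I] in
lemma post_coyoneda_surjective_iff :
    Function.Surjective (colimit.post D (coyoneda.obj (op X))) ↔
      ∀ m : X ⟶ colimit D, ∃ (i : I) (a : X ⟶ D.obj i), a ≫ colimit.ι D i = m := by
  constructor
  · intro h m
    obtain ⟨x, hx⟩ := h m
    obtain ⟨i, a, rfl⟩ := Types.jointly_surjective' x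
    exact ⟨i, a, by rw [← post_coyoneda_ι]; exact hx⟩
  · intro h m
    obtain ⟨i, a, ha⟩ := h m
    exact ⟨colimit.ι (D ⋙ coyoneda.obj (op X)) i a, by rw [post_coyoneda_ι]; exact ha⟩

end Post


variable {C : Type u} [SmallCategory C] {J : GrothendieckTopology C}

/-- Two sections of a member of a filtered diagram of sheaves with the same image in the colimit
become equal locally at a later stage. -/
lemma exists_cover_map_eq {I : Type u} [SmallCategory I] [IsFiltered I] (D : I ⥤ ToposFin.Sh J)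
    (c : Cocone D) (hc : IsColimit c) {i : I} {U : C} (x y : (D.obj i).obj.obj (op U))
    (h : (c.ι.app i).hom.app (op U) x = (c.ι.app i).hom.app (op U) y) :
    ∃ S ∈ J U, ∀ ⦃V : C⦄ (f : V ⟶ U), S f → ∃ (k : I) (φ : i ⟶ k),
      (D.map φ).hom.app (op V) ((D.obj i).obj.map f.op x) =
        (D.map φ).hom.app (op V) ((D.obj i).obj.map f.op y) := by
  let cP := colimit.cocone (D ⋙ sheafToPresheaf J (Type u))
  let E := Sheaf.sheafifyCocone cP
  have hE : IsColimit E := Sheaf.isColimitSheafifyCocone cP (colimit.isColimit _)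
  let e := hc.coconePointUniqueUpToIso hE
  have he : c.ι.app i ≫ e.hom = E.ι.app i := IsColimit.comp_coconePointUniqueUpToIso_hom hc hE i
  have h1 : (E.ι.app i).hom.app (op U) x = (E.ι.app i).hom.app (op U) y := by
    rw [← he]
    exact congrArg (e.hom.hom.app (op U)) h
  rw [Sheaf.sheafifyCocone_ι_app_val] at h1
  have h2 : (toSheafify J cP.pt).app (op U) ((cP.ι.app i).app (op U) x) =
      (toSheafify J cP.pt).app (op U) ((cP.ι.app i).app (op U) y) := h1
  refine ⟨_, Presheaf.equalizerSieve_mem J (toSheafify J cP.pt) _ _ h2, ?_⟩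
  intro V f hf
  have hf' : cP.pt.map f.op ((cP.ι.app i).app (op U) x) =
      cP.pt.map f.op ((cP.ι.app i).app (op U) y) := hf
  have n1 : ∀ z : (D.obj i).obj.obj (op U), cP.pt.map f.op ((cP.ι.app i).app (op U) z) =
      (cP.ι.app i).app (op V) ((D.obj i).obj.map f.op z) := fun z =>
    (NatTrans.naturality_apply (cP.ι.app i) f.op z).symm
  rw [n1, n1] at hf'
  have hev := isColimitOfPreserves ((evaluation Cᵒᵖ (Type u)).obj (op V)) (colimit.isColimit
    (D ⋙ sheafToPresheaf J (Type u)))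
  exact (Types.FilteredColimit.isColimit_eq_iff' hev _ _).1 hf'


/-- In a filtered category, finitely many arrows out of `i` are dominated by a single one. -/
lemma exists_dominating {I : Type u} [SmallCategory I] [IsFiltered I] {i : I}
    (s : Finset (Σ k : I, (i ⟶ k))) :
    ∃ (k₀ : I) (φ₀ : i ⟶ k₀), ∀ x ∈ s, ∃ ψ : x.1 ⟶ k₀, x.2 ≫ ψ = φ₀ := by
  classical
  induction s using Finset.induction_on with
  | empty => exact ⟨i, 𝟙 i, by simp⟩
  | insert x s _ ih =>
    obtain ⟨k₀, φ₀, h⟩ := ih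
    obtain ⟨Z, u', v, huv⟩ := IsFiltered.span φ₀ x.2
    refine ⟨Z, φ₀ ≫ u', ?_⟩
    intro y hy
    rcases Finset.mem_insert.1 hy with rfl | hy
    · exact ⟨v, huv.symm⟩
    · obtain ⟨ψ, hψ⟩ := h y hy
      exact ⟨ψ ≫ u', by rw [← Category.assoc, hψ]⟩

/-- For a quasi-compact object `X`, two morphisms `X ⟶ D i` with the same image in the filtered
colimit become equal at a later stage. -/
lemma exists_map_eq_of_isQC {X : ToposFin.Sh J} (hX : ToposFin.IsQC X) {I : Type u}
    [SmallCategory I] [IsFiltered I] (D : I ⥤ ToposFin.Sh J) (c : Cocone D) (hc : IsColimit c)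
    {i : I} (a b : X ⟶ D.obj i) (hab : a ≫ c.ι.app i = b ≫ c.ι.app i) :
    ∃ (k : I) (f : i ⟶ k), a ≫ D.map f = b ≫ D.map f := by
  classical
  have hjepi : JEpi (fun x : Σ k : I, (i ⟶ k) =>
      equalizer.ι (a ≫ D.map x.2) (b ≫ D.map x.2)) := by
    apply JLS.jepi
    intro U s
    have h0 : (c.ι.app i).hom.app (op U) (a.hom.app (op U) (secEquiv X U s)) =
        (c.ι.app i).hom.app (op U) (b.hom.app (op U) (secEquiv X U s)) :=
      congrArg (fun m : X ⟶ c.pt => m.hom.app (op U) (secEquiv X U s)) hab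
    obtain ⟨S, hS, hS'⟩ := exists_cover_map_eq D c hc _ _ h0
    refine ⟨S, hS, ?_⟩
    intro V f hf
    obtain ⟨k, φ, hφ⟩ := hS' f hf
    refine ⟨⟨k, φ⟩, equalizer.lift (epsMap f ≫ s) ?_, equalizer.lift_ι _ _⟩
    apply (secEquiv _ V).injective
    have key : ∀ (ψ : X ⟶ D.obj k), secEquiv (D.obj k) V ((epsMap f ≫ s) ≫ ψ) =
        ψ.hom.app (op V) (X.obj.map f.op (secEquiv X U s)) := fun ψ => by
      rw [secEquiv_comp, secEquiv_map]
    rw [key (a ≫ D.map φ), key (b ≫ D.map φ)]
    change (D.map φ).hom.app (op V) (a.hom.app (op V) (X.obj.map f.op (secEquiv X U s))) =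
      (D.map φ).hom.app (op V) (b.hom.app (op V) (X.obj.map f.op (secEquiv X U s)))
    have n1 := NatTrans.naturality_apply a.hom f.op (secEquiv X U s)
    have n2 := NatTrans.naturality_apply b.hom f.op (secEquiv X U s)
    rw [n1, n2]
    exact hφ
  obtain ⟨s₀, hs₀⟩ := IsQC.exists_finset hX _ hjepi
  obtain ⟨k₀, φ₀, hdom⟩ := exists_dominating s₀
  refine ⟨k₀, φ₀, ?_⟩
  apply hs₀
  rintro ⟨x, hx⟩
  obtain ⟨ψ, hψ⟩ := hdom x hx
  dsimp only
  have hc' := equalizer.condition (a ≫ D.map x.2) (b ≫ D.map x.2)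
  calc equalizer.ι (a ≫ D.map x.2) (b ≫ D.map x.2) ≫ a ≫ D.map φ₀
      = (equalizer.ι (a ≫ D.map x.2) (b ≫ D.map x.2) ≫ (a ≫ D.map x.2)) ≫ D.map ψ := by
        rw [← hψ, D.map_comp]; simp only [Category.assoc]
    _ = (equalizer.ι (a ≫ D.map x.2) (b ≫ D.map x.2) ≫ (b ≫ D.map x.2)) ≫ D.map ψ := by rw [hc']
    _ = equalizer.ι (a ≫ D.map x.2) (b ≫ D.map x.2) ≫ b ≫ D.map φ₀ := by
        rw [← hψ, D.map_comp]; simp only [Category.assoc]

end Groth.Agent.H2.TF
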