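import Groth.Agent.Lib.Helper2.ToposFinFiltered

set_option autoImplicit false
universe u w w'
open CategoryTheory CategoryTheory.Limits Opposite

namespace Groth.Agent.H2.TF

namespace CokerPair

variable {E : Type (u+1)} [Category.{u} E] [HasColimitsOfSize.{u, u} E]
  {ι : Type u} {F : ι → E} {X : E} (π : ∀ i, F i ⟶ X)

/-- The map from the coproduct of a finite subfamily. -/
noncomputable def p (s : Finset ι) : (∐ fun i : s => F i) ⟶ X := Sigma.desc (fun i => π i)

/-- Two copies of `X` glued along the images of the members of `s`. -/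
noncomputable def Ds (s : Finset ι) : E :=
  coequalizer (p π s ≫ (coprod.inl : X ⟶ X ⨿ X)) (p π s ≫ coprod.inr)

noncomputable def q (s : Finset ι) : X ⨿ X ⟶ Ds π s := coequalizer.π _ _

noncomputable def al (s : Finset ι) : X ⟶ Ds π s := coprod.inl ≫ q π s
noncomputable def be (s : Finset ι) : X ⟶ Ds π s := coprod.inr ≫ q π s

lemma rel (s : Finset ι) (i : ι) (hi : i ∈ s) : π i ≫ al π s = π i ≫ be π s := by
  have h := coequalizer.condition (p π s ≫ (coprod.inl : X ⟶ X ⨿ X)) (p π s ≫ coprod.inr)
  have h' := congrArg (fun m => Sigma.ι (fun i : s => F i) ⟨i, hi⟩ ≫ m) h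
  simp only [p, Category.assoc, colimit.ι_desc_assoc, Cofan.mk_ι_app] at h'
  exact h'

lemma jepi_of_al_eq_be (s : Finset ι) (h : al π s = be π s) : JEpi (fun i : s => π i) := by
  intro Z u v huv
  have hc : (p π s ≫ (coprod.inl : X ⟶ X ⨿ X)) ≫ coprod.desc u v =
      (p π s ≫ coprod.inr) ≫ coprod.desc u v := by
    apply Sigma.hom_ext
    intro i
    simp only [p, Category.assoc, colimit.ι_desc_assoc, Cofan.mk_ι_app, coprod.inl_desc,
      coprod.inr_desc]
    exact huv i
  have h1 : q π s ≫ coequalizer.desc (coprod.desc u v) hc = coprod.desc u v :=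
    coequalizer.π_desc _ _
  calc u = coprod.inl ≫ coprod.desc u v := (coprod.inl_desc u v).symm
    _ = al π s ≫ coequalizer.desc (coprod.desc u v) hc := by
        rw [al, Category.assoc, h1]
    _ = be π s ≫ coequalizer.desc (coprod.desc u v) hc := by rw [h]
    _ = coprod.inr ≫ coprod.desc u v := by rw [be, Category.assoc, h1]
    _ = v := coprod.inr_desc u v

lemma q_cond {s t : Finset ι} (hst : s ≤ t) :
    (p π s ≫ (coprod.inl : X ⟶ X ⨿ X)) ≫ q π t = (p π s ≫ coprod.inr) ≫ q π t := by
  apply Sigma.hom_ext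
  intro i
  simp only [p, Category.assoc, colimit.ι_desc_assoc, Cofan.mk_ι_app]
  exact rel π t i (hst i.2)

/-- Transition maps. -/
noncomputable def Dmap {s t : Finset ι} (hst : s ≤ t) : Ds π s ⟶ Ds π t :=
  coequalizer.desc (q π t) (q_cond π hst)

lemma q_Dmap {s t : Finset ι} (hst : s ≤ t) : q π s ≫ Dmap π hst = q π t :=
  coequalizer.π_desc _ _

lemma al_Dmap {s t : Finset ι} (hst : s ≤ t) : al π s ≫ Dmap π hst = al π t := by
  rw [al, Category.assoc, q_Dmap, al]

lemma be_Dmap {s t : Finset ι} (hst : s ≤ t) : be π s ≫ Dmap π hst = be π t := by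
  rw [be, Category.assoc, q_Dmap, be]

/-- The diagram. -/
noncomputable def D : Finset ι ⥤ E where
  obj s := Ds π s
  map f := Dmap π (leOfHom f)
  map_id s := by
    apply coequalizer.hom_ext
    change q π s ≫ Dmap π _ = q π s ≫ 𝟙 _
    rw [q_Dmap, Category.comp_id]
  map_comp f g := by
    apply coequalizer.hom_ext
    change q π _ ≫ Dmap π _ = q π _ ≫ Dmap π _ ≫ Dmap π _
    rw [q_Dmap, ← Category.assoc, q_Dmap, q_Dmap]

end CokerPair


variable {C : Type u} [SmallCategory C] {J : GrothendieckTopology C}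

/-- An object is quasi-compact iff `Hom(X, -)` turns filtered colimits into injective comparison
maps. -/
theorem isQC_iff_post_injective (X : ToposFin.Sh J) :
    ToposFin.IsQC X ↔ ∀ (I : Type u) [SmallCategory I] [IsFiltered I] (D : I ⥤ ToposFin.Sh J),
      Function.Injective (colimit.post D (coyoneda.obj (op X))) := by
  classical
  constructor
  · intro hX I _ _ D
    rw [post_coyoneda_injective_iff]
    intro i a b hab
    exact exists_map_eq_of_isQC hX D (colimit.cocone D) (colimit.isColimit D) a b hab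
  · intro h
    rw [isQC_iff]
    intro ι F π hπ
    have hinj := h (Finset ι) (CokerPair.D π)
    rw [post_coyoneda_injective_iff] at hinj
    have hab : CokerPair.al π ∅ ≫ colimit.ι (CokerPair.D π) ∅ =
        CokerPair.be π ∅ ≫ colimit.ι (CokerPair.D π) ∅ := by
      apply hπ
      intro i
      have hle : (∅ : Finset ι) ≤ {i} := Finset.empty_subset _
      have hw := colimit.w (CokerPair.D π) (homOfLE hle)
      rw [← hw]
      change π i ≫ CokerPair.al π ∅ ≫ CokerPair.Dmap π hle ≫ _ =
        π i ≫ CokerPair.be π ∅ ≫ CokerPair.Dmap π hle ≫ _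
      rw [← Category.assoc (CokerPair.al π ∅), ← Category.assoc (CokerPair.be π ∅),
        CokerPair.al_Dmap, CokerPair.be_Dmap, ← Category.assoc, ← Category.assoc,
        CokerPair.rel π {i} i (Finset.mem_singleton_self i)]
    obtain ⟨k, f, hf⟩ := hinj ∅ _ _ hab
    refine ⟨k, CokerPair.jepi_of_al_eq_be π k ?_⟩
    have h1 : CokerPair.al π ∅ ≫ (CokerPair.D π).map f = CokerPair.al π k :=
      CokerPair.al_Dmap π (leOfHom f)
    have h2 : CokerPair.be π ∅ ≫ (CokerPair.D π).map f = CokerPair.be π k :=
      CokerPair.be_Dmap π (leOfHom f)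
    exact h1.symm.trans (hf.trans h2)

end Groth.Agent.H2.TF
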