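import Groth.Agent.Lib.Helper2.ToposFinFiltered2
import Mathlib.CategoryTheory.Sites.RegularEpi

set_option autoImplicit false
universe u w w'
open CategoryTheory CategoryTheory.Limits Opposite

namespace Groth.Agent.H2.TF

variable {C : Type u} [SmallCategory C] {J : GrothendieckTopology C}

/-- Epimorphisms of sheaves of sets are effective: a morphism coequalizing the kernel pair
descends. -/
lemma exists_desc_of_epi {Q X W : ToposFin.Sh J} (e : Q ⟶ X) [Epi e] (r : Q ⟶ W)
    (h : pullback.fst e e ≫ r = pullback.snd e e ≫ r) : ∃ a : X ⟶ W, e ≫ a = r := by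
  have hreg : IsRegularEpi e := IsRegularEpiCategory.regularEpiOfEpi e
  have : EffectiveEpi e := (isRegularEpi_iff_effectiveEpi e).1 hreg
  have key : ∀ {Z : ToposFin.Sh J} (g₁ g₂ : Z ⟶ Q), g₁ ≫ e = g₂ ≫ e → g₁ ≫ r = g₂ ≫ r := by
    intro Z g₁ g₂ hg
    have h1 : pullback.lift g₁ g₂ hg ≫ pullback.fst e e = g₁ := pullback.lift_fst _ _ _
    have h2 : pullback.lift g₁ g₂ hg ≫ pullback.snd e e = g₂ := pullback.lift_snd _ _ _
    calc g₁ ≫ r = (pullback.lift g₁ g₂ hg ≫ pullback.fst e e) ≫ r := by rw [h1]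
      _ = (pullback.lift g₁ g₂ hg ≫ pullback.snd e e) ≫ r := by
        rw [Category.assoc, Category.assoc, h]
      _ = g₂ ≫ r := by rw [h2]
  exact ⟨EffectiveEpi.desc e r key, EffectiveEpi.fac e r key⟩

/-- In a filtered category, finitely many objects map to a common object. -/
lemma exists_common_target {I : Type u} [SmallCategory I] [IsFiltered I] {κ : Type w}
    [Finite κ] (i : κ → I) : ∃ (i₀ : I), ∀ k, Nonempty (i k ⟶ i₀) := by
  classical
  have := Fintype.ofFinite κ
  obtain ⟨S, hS⟩ := IsFiltered.sup_objs_exists (Finset.univ.image i)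
  exact ⟨S, fun k => hS (Finset.mem_image_of_mem _ (Finset.mem_univ _))⟩

/-- A coherent object is finitely presentable, provided there are enough quasi-compact
objects. -/
theorem post_bijective_of_isCoherent (hgen : Gen (J := J) ToposFin.IsQC) (X : ToposFin.Sh J)
    (hX : ToposFin.IsCoherent X) (I : Type u) [SmallCategory I] [IsFiltered I]
    (D : I ⥤ ToposFin.Sh J) :
    Function.Bijective (colimit.post D (coyoneda.obj (op X))) := by
  classical
  refine ⟨(isQC_iff_post_injective X).1 hX.1 I D, ?_⟩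
  rw [post_coyoneda_surjective_iff]
  intro m
  have hι : JEpi (fun i => colimit.ι D i) := fun Z a b hab => colimit.hom_ext hab
  obtain ⟨κ, hκ, Q, i, q, hQ, hq⟩ := hgen.exists_finite_refinement hX.1
    (fun i => pullback.snd (colimit.ι D i) m) (hι.pullback_snd m)
  obtain ⟨i₀, hi₀⟩ := exists_common_target i
  choose φ _ using fun k => (hi₀ k).elim (fun f => (⟨f, trivial⟩ : ∃ _ : i k ⟶ i₀, True))
  let r' : ∀ k, Q k ⟶ D.obj i₀ := fun k => q k ≫ pullback.fst (colimit.ι D (i k)) m ≫ D.map (φ k)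
  have hr' : ∀ k, r' k ≫ colimit.ι D i₀ = (q k ≫ pullback.snd (colimit.ι D (i k)) m) ≫ m := by
    intro k
    simp only [r', Category.assoc, colimit.w, pullback.condition]
  let e : (∐ Q) ⟶ X := Sigma.desc (fun k => q k ≫ pullback.snd (colimit.ι D (i k)) m)
  have he : Epi e := (epi_sigmaDesc_iff _).2 hq
  let r : (∐ Q) ⟶ D.obj i₀ := Sigma.desc r'
  have hr : r ≫ colimit.ι D i₀ = e ≫ m := by
    apply Sigma.hom_ext
    intro k
    simp only [r, e, colimit.ι_desc_assoc, Cofan.mk_ι_app]
    exact hr' k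
  have hQqc : ToposFin.IsQC (∐ Q) :=
    IsQC.of_finite_jepi (Sigma.ι Q) (fun Z a b hab => Sigma.hom_ext _ _ hab) hQ
  have hK : ToposFin.IsQC (pullback e e) := hX.2 _ _ e e hQqc hQqc
  have hab : (pullback.fst e e ≫ r) ≫ colimit.ι D i₀ = (pullback.snd e e ≫ r) ≫ colimit.ι D i₀ := by
    rw [Category.assoc, Category.assoc, hr, ← Category.assoc, ← Category.assoc, pullback.condition]
  obtain ⟨i₁, ψ, hψ⟩ := exists_map_eq_of_isQC hK D (colimit.cocone D) (colimit.isColimit D) _ _ hab
  obtain ⟨a, ha⟩ := exists_desc_of_epi e (r ≫ D.map ψ) (by simpa only [Category.assoc] using hψ)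
  refine ⟨i₁, a, ?_⟩
  rw [← cancel_epi e, ← Category.assoc, ha, Category.assoc, colimit.w, hr]

end Groth.Agent.H2.TF
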