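import Groth.Agent.Lib.Helper2.ToposFinFiltered3
import Mathlib.CategoryTheory.Limits.FunctorCategory.Basic

set_option autoImplicit false
universe u w w'
open CategoryTheory CategoryTheory.Limits Opposite

namespace Groth.Agent.H2.TF

variable {C : Type u} [SmallCategory C] {J : GrothendieckTopology C}

/-- In a site with fibre products whose objects are quasi-compact, filtered colimits of sheaves
are computed objectwise. -/
theorem preservesColimitsOfShape_sheafToPresheaf [HasPullbacks C]
    (hJ : ∀ U : C, ToposFin.IsQCSite J U) (I : Type u) [SmallCategory I] [IsFiltered I] :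
    PreservesColimitsOfShape I (sheafToPresheaf J (Type u)) := by
  constructor
  intro D
  apply preservesColimit_of_preserves_colimit_cocone (colimit.isColimit D)
  apply evaluationJointlyReflectsColimits
  intro U
  have hbij := post_bijective_of_isCoherent (gen_isQC_of_site hJ) _ (isCoherent_eps hJ U.unop) I D
  apply Types.FilteredColimit.isColimitOf'
  · intro x
    obtain ⟨i, a, ha⟩ := (post_coyoneda_surjective_iff D _).1 hbij.2
      ((secEquiv (colimit D) U.unop).symm x)
    refine ⟨i, secEquiv (D.obj i) U.unop a, ?_⟩
    have := secEquiv_comp U.unop a (colimit.ι D i)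
    rw [ha, Equiv.apply_symm_apply] at this
    exact this
  · intro i x y hxy
    have hab : (secEquiv (D.obj i) U.unop).symm x ≫ colimit.ι D i =
        (secEquiv (D.obj i) U.unop).symm y ≫ colimit.ι D i := by
      rw [secEquiv_symm_comp, secEquiv_symm_comp]
      exact congrArg _ hxy
    obtain ⟨k, f, hf⟩ := exists_map_eq_of_isQC (isQC_eps hJ U.unop) D (colimit.cocone D)
      (colimit.isColimit D) _ _ hab
    refine ⟨k, f, ?_⟩
    rw [secEquiv_symm_comp, secEquiv_symm_comp] at hf
    exact (secEquiv (D.obj k) U.unop).symm.injective hf

end Groth.Agent.H2.TF
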