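import Groth.Agent.Lib.Helper2.ToposFinHom

set_option autoImplicit false
universe u w w'
open CategoryTheory CategoryTheory.Limits Opposite

namespace Groth.Agent.H2.TF

variable {C : Type u} [SmallCategory C] {J : GrothendieckTopology C}

/-- The class `𝒢` of objects is generating: every object receives a small jointly epimorphic
family from members of `𝒢`. -/
def Gen (𝒢 : ToposFin.Sh J → Prop) : Prop :=
  ∀ X : ToposFin.Sh J, ∃ (ι : Type u) (F : ι → ToposFin.Sh J) (π : ∀ i, F i ⟶ X),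
    (∀ i, 𝒢 (F i)) ∧ JEpi π

lemma Gen.mono {𝒢 𝒢' : ToposFin.Sh J → Prop} (h : Gen 𝒢) (hle : ∀ X, 𝒢 X → 𝒢' X) : Gen 𝒢' := by
  intro X
  obtain ⟨ι, F, π, hF, hπ⟩ := h X
  exact ⟨ι, F, π, fun i => hle _ (hF i), hπ⟩

lemma gen_of_hasQCGenerators (hE : ToposFin.HasQCGenerators J) : Gen (J := J) ToposFin.IsQC := by
  intro X
  obtain ⟨ι, F, π, hF, hπ⟩ := hE X
  exact ⟨ι, F, π, hF, (epi_sigmaDesc_iff π).1 hπ⟩

lemma hasQCGenerators_of_gen {𝒢 : ToposFin.Sh J → Prop} (h : Gen 𝒢)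
    (hqc : ∀ X, 𝒢 X → ToposFin.IsQC X) : ToposFin.HasQCGenerators J := by
  intro X
  obtain ⟨ι, F, π, hF, hπ⟩ := h X
  exact ⟨ι, F, π, fun i => hqc _ (hF i), (epi_sigmaDesc_iff π).2 hπ⟩

lemma gen_of_family {α : Type u} (G : α → ToposFin.Sh J)
    (hgen : ∀ X : ToposFin.Sh J, ∃ (ι : Type u) (a : ι → α) (π : ∀ i, G (a i) ⟶ X),
      Epi (Sigma.desc π)) : Gen (J := J) (fun Z => ∃ a, Z = G a) := by
  intro X
  obtain ⟨ι, a, π, hπ⟩ := hgen X
  exact ⟨ι, fun i => G (a i), π, fun i => ⟨a i, rfl⟩, (epi_sigmaDesc_iff π).1 hπ⟩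

/-- A quasi-compact object admits a finite cover by generators refining any given cover. -/
lemma Gen.exists_finite_refinement {𝒢 : ToposFin.Sh J → Prop} (hgen : Gen 𝒢)
    {Y : ToposFin.Sh J} (hY : ToposFin.IsQC Y) {ι : Type u} {Yi : ι → ToposFin.Sh J}
    (g : ∀ i, Yi i ⟶ Y) (hg : JEpi g) :
    ∃ (κ : Type u) (_ : Fintype κ) (Q : κ → ToposFin.Sh J) (i : κ → ι) (q : ∀ k, Q k ⟶ Yi (i k)),
      (∀ k, 𝒢 (Q k)) ∧ JEpi (fun k => q k ≫ g (i k)) := by
  classical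
  choose κ F π hF hπ using fun i => hgen (Yi i)
  obtain ⟨s, hs⟩ := IsQC.exists_finset hY (fun x : Σ i, κ i => π x.1 x.2 ≫ g x.1) (hg.comp hπ)
  exact ⟨s, inferInstance, fun k => F k.1.1 k.1.2, fun k => k.1.1, fun k => π k.1.1 k.1.2,
    fun k => hF _ _, hs⟩

/-- A quasi-compact object admits a finite cover by generators. -/
lemma Gen.exists_finite_cover {𝒢 : ToposFin.Sh J → Prop} (hgen : Gen 𝒢)
    {Y : ToposFin.Sh J} (hY : ToposFin.IsQC Y) :
    ∃ (κ : Type u) (_ : Fintype κ) (Q : κ → ToposFin.Sh J) (q : ∀ k, Q k ⟶ Y),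
      (∀ k, 𝒢 (Q k)) ∧ JEpi q := by
  obtain ⟨κ, hκ, Q, i, q, hQ, hq⟩ := hgen.exists_finite_refinement hY (fun _ : PUnit.{u+1} => 𝟙 Y)
    ((jepi_const_iff (𝟙 Y)).2 inferInstance)
  exact ⟨κ, hκ, Q, fun k => q k ≫ 𝟙 Y, hQ, hq⟩

/-- Quasi-compactness of a fibre product can be checked on a finite cover of the second factor. -/
lemma isQC_pullback_of_finite_cover_right {κ : Type w} [Finite κ] {X Y Y' : ToposFin.Sh J}
    (f : X ⟶ Y) (g : Y' ⟶ Y) {Q : κ → ToposFin.Sh J} (q : ∀ k, Q k ⟶ Y') (hq : JEpi q)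
    (h : ∀ k, ToposFin.IsQC (pullback f (q k ≫ g))) : ToposFin.IsQC (pullback f g) :=
  IsQC.of_finite_jepi _ (hq.pullback_fst (pullback.snd f g))
    (fun k => IsQC.of_iso (pullbackLeftPullbackSndIso f g (q k)).symm (h k))

/-- Quasi-compactness of a fibre product can be checked on a finite cover of the first factor. -/
lemma isQC_pullback_of_finite_cover_left {κ : Type w} [Finite κ] {X Y Y' : ToposFin.Sh J}
    (f : X ⟶ Y) (g : Y' ⟶ Y) {Q : κ → ToposFin.Sh J} (q : ∀ k, Q k ⟶ X) (hq : JEpi q)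
    (h : ∀ k, ToposFin.IsQC (pullback (q k ≫ f) g)) : ToposFin.IsQC (pullback f g) :=
  IsQC.of_finite_jepi _ (hq.pullback_snd (pullback.fst f g))
    (fun k => IsQC.of_iso (pullbackRightPullbackFstIso f g (q k)).symm (h k))

end Groth.Agent.H2.TF
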