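import Groth.Agent.Lib.Helper2.ToposFin
import Mathlib.CategoryTheory.MorphismProperty.Limits

set_option autoImplicit false
universe u w w'
open CategoryTheory CategoryTheory.Limits Opposite

namespace Groth.Agent.H2.TF

variable {C : Type u} [SmallCategory C] {J : GrothendieckTopology C}

/-- Quasi-compact morphisms as a morphism property. -/
def qcHom : MorphismProperty (ToposFin.Sh J) := fun _ _ f => ToposFin.IsQCHom f

lemma qcHom_iff {X Y : ToposFin.Sh J} (f : X ⟶ Y) : qcHom f ↔ ToposFin.IsQCHom f := Iff.rfl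

lemma qsHom_iff {X Y : ToposFin.Sh J} (f : X ⟶ Y) :
    (qcHom (J := J)).diagonal f ↔ ToposFin.IsQSHom f := Iff.rfl

lemma IsQCHom.isQC_of_isPullback {X Y P Y' : ToposFin.Sh J} {f : X ⟶ Y} (hf : ToposFin.IsQCHom f)
    {p₁ : P ⟶ X} {p₂ : P ⟶ Y'} {g : Y' ⟶ Y} (sq : IsPullback p₁ p₂ f g)
    (hY' : ToposFin.IsQC Y') : ToposFin.IsQC P :=
  IsQC.of_iso sq.isoPullback.symm (hf Y' g hY')

lemma IsQCHom.isQC_of_isPullback' {X Y P Y' : ToposFin.Sh J} {f : X ⟶ Y} (hf : ToposFin.IsQCHom f)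
    {p₁ : P ⟶ Y'} {p₂ : P ⟶ X} {g : Y' ⟶ Y} (sq : IsPullback p₁ p₂ g f)
    (hY' : ToposFin.IsQC Y') : ToposFin.IsQC P :=
  IsQCHom.isQC_of_isPullback hf sq.flip hY'

/-- A quasi-compact morphism with quasi-compact target has quasi-compact source. -/
lemma IsQCHom.isQC_source {X Y : ToposFin.Sh J} {f : X ⟶ Y} (hf : ToposFin.IsQCHom f)
    (hY : ToposFin.IsQC Y) : ToposFin.IsQC X :=
  IsQCHom.isQC_of_isPullback hf (IsPullback.of_horiz_isIso ⟨by simp⟩ : IsPullback (𝟙 X) f f (𝟙 Y)) hY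

instance : (qcHom (J := J)).IsStableUnderBaseChange where
  of_isPullback {X Y Y' S f g f' g'} sq hg := by
    intro T t hT
    have h1 : IsPullback (pullback.snd g' t) (pullback.fst g' t) t g' :=
      (IsPullback.of_hasPullback g' t).flip
    have h2 := (h1.paste_vert sq.flip).flip
    exact IsQCHom.isQC_of_isPullback hg h2 hT

instance : (qcHom (J := J)).ContainsIdentities where
  id_mem X := by
    intro T t hT
    exact IsQC.of_iso (asIso (pullback.snd (𝟙 X) t)).symm hT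

instance : (qcHom (J := J)).IsStableUnderComposition where
  comp_mem {X Y Z} f g hf hg := by
    intro T t hT
    have hG : ToposFin.IsQC (pullback g t) := hg T t hT
    let l : pullback (f ≫ g) t ⟶ pullback g t :=
      pullback.lift (pullback.fst (f ≫ g) t ≫ f) (pullback.snd (f ≫ g) t)
        (by rw [Category.assoc, pullback.condition])
    have hbig : IsPullback (l ≫ pullback.snd g t) (pullback.fst (f ≫ g) t) t (f ≫ g) := by
      have : l ≫ pullback.snd g t = pullback.snd (f ≫ g) t := pullback.lift_snd _ _ _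
      rw [this]
      exact (IsPullback.of_hasPullback (f ≫ g) t).flip
    have hleft := IsPullback.of_right hbig (pullback.lift_fst _ _ _)
      (IsPullback.of_hasPullback g t).flip
    exact IsQCHom.isQC_of_isPullback hf hleft.flip hG

instance : (qcHom (J := J)).IsMultiplicative where

lemma IsQCHom.comp {X Y Z : ToposFin.Sh J} {f : X ⟶ Y} {g : Y ⟶ Z} (hf : ToposFin.IsQCHom f)
    (hg : ToposFin.IsQCHom g) : ToposFin.IsQCHom (f ≫ g) :=
  (qcHom (J := J)).comp_mem f g hf hg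

lemma IsQCHom.of_isIso {X Y : ToposFin.Sh J} (f : X ⟶ Y) [IsIso f] : ToposFin.IsQCHom f :=
  (qcHom (J := J)).of_isIso f

lemma IsQCHom.of_isPullback {X Y Y' S : ToposFin.Sh J} {f : X ⟶ S} {g : Y ⟶ S} {f' : Y' ⟶ Y}
    {g' : Y' ⟶ X} (sq : IsPullback f' g' g f) (hg : ToposFin.IsQCHom g) : ToposFin.IsQCHom g' :=
  (qcHom (J := J)).of_isPullback sq hg

lemma IsQSHom.of_isPullback {X Y Y' S : ToposFin.Sh J} {f : X ⟶ S} {g : Y ⟶ S} {f' : Y' ⟶ Y}
    {g' : Y' ⟶ X} (sq : IsPullback f' g' g f) (hg : ToposFin.IsQSHom g) : ToposFin.IsQSHom g' :=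
  (qcHom (J := J)).diagonal.of_isPullback sq hg

lemma IsQSHom.comp {X Y Z : ToposFin.Sh J} {f : X ⟶ Y} {g : Y ⟶ Z} (hf : ToposFin.IsQSHom f)
    (hg : ToposFin.IsQSHom g) : ToposFin.IsQSHom (f ≫ g) :=
  (qcHom (J := J)).diagonal.comp_mem f g hf hg

/-- Every monomorphism is quasi-separated. -/
lemma IsQSHom.of_mono {X Y : ToposFin.Sh J} (f : X ⟶ Y) [Mono f] : ToposFin.IsQSHom f :=
  IsQCHom.of_isIso (pullback.diagonal f)

/-- If `f ≫ g` is quasi-separated then so is `f`. -/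
lemma IsQSHom.of_comp {X Y Z : ToposFin.Sh J} (f : X ⟶ Y) (g : Y ⟶ Z)
    (h : ToposFin.IsQSHom (f ≫ g)) : ToposFin.IsQSHom f := by
  have key : (qcHom (J := J)).diagonal.HasOfPostcompProperty ⊤ := by
    rw [MorphismProperty.hasOfPostcompProperty_iff_le_diagonal]
    intro A B m _
    exact IsQSHom.of_mono (pullback.diagonal m)
  exact key.of_postcomp f g trivial h

/-- If `g` is quasi-separated and `f ≫ g` is quasi-compact then `f` is quasi-compact. -/
lemma IsQCHom.of_comp {X Y Z : ToposFin.Sh J} (f : X ⟶ Y) (g : Y ⟶ Z)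
    (hg : ToposFin.IsQSHom g) (h : ToposFin.IsQCHom (f ≫ g)) : ToposFin.IsQCHom f := by
  have key : (qcHom (J := J)).HasOfPostcompProperty (qcHom (J := J)).diagonal := by
    rw [MorphismProperty.hasOfPostcompProperty_iff_le_diagonal]
  exact key.of_postcomp f g hg h

end Groth.Agent.H2.TF
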