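import Groth.Agent.Lib.Helper2.ToposFinGen

set_option autoImplicit false
universe u w w'
open CategoryTheory CategoryTheory.Limits Opposite

namespace Groth.Agent.H2.TF

section Cat
variable {D : Type*} [Category D] [HasPullbacks D]
variable {X' X Y' Y : D} {p : X' ⟶ X} {f' : X' ⟶ Y'} {f : X ⟶ Y} {g : Y' ⟶ Y}

/-- The map induced on kernel pairs by a commutative square. -/
noncomputable abbrev kpMap (sq : IsPullback p f' f g) : pullback f' f' ⟶ pullback f f :=
  pullback.map f' f' f f p p g sq.w.symm sq.w.symm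

set_option backward.isDefEq.respectTransparency false in
lemma isPullback_kpMap_fst (sq : IsPullback p f' f g) :
    IsPullback (kpMap sq) (pullback.fst f' f') (pullback.fst f f) p := by
  have h1 : IsPullback (pullback.fst f' f') (pullback.snd f' f' ≫ p) (f' ≫ g) f :=
    (IsPullback.of_hasPullback f' f').paste_vert sq.flip
  have hout : IsPullback (kpMap sq ≫ pullback.snd f f) (pullback.fst f' f') f (p ≫ f) := by
    have e1 : kpMap sq ≫ pullback.snd f f = pullback.snd f' f' ≫ p := by simp [kpMap]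
    rw [e1, sq.w]
    exact h1.flip
  exact IsPullback.of_right hout (by simp [kpMap]) (IsPullback.of_hasPullback f f).flip

lemma isPullback_kpMap_base (sq : IsPullback p f' f g) :
    IsPullback (kpMap sq) (pullback.fst f' f' ≫ f') (pullback.fst f f ≫ f) g :=
  (isPullback_kpMap_fst sq).paste_vert sq

set_option backward.isDefEq.respectTransparency false in
lemma isPullback_diagonal_kpMap (sq : IsPullback p f' f g) :
    IsPullback (pullback.diagonal f') p (kpMap sq) (pullback.diagonal f) := by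
  have hout : IsPullback (pullback.diagonal f' ≫ pullback.fst f' f') p p
      (pullback.diagonal f ≫ pullback.fst f f) := by
    rw [pullback.diagonal_fst, pullback.diagonal_fst]
    exact IsPullback.of_horiz_isIso ⟨by simp⟩
  refine IsPullback.of_right hout ?_ (isPullback_kpMap_fst sq).flip
  ext <;> simp [kpMap]

end Cat

variable {C : Type u} [SmallCategory C] {J : GrothendieckTopology C}

set_option backward.isDefEq.respectTransparency false in
/-- Fibre products of jointly epimorphic families are jointly epimorphic. -/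
lemma JEpi.pullback_map {ι : Type w} {κ : Type w'} {X : ι → ToposFin.Sh J}
    {X' : κ → ToposFin.Sh J} {Y Y' Z : ToposFin.Sh J} {f : ∀ i, X i ⟶ Y} {f' : ∀ k, X' k ⟶ Y'}
    (hf : JEpi f) (hf' : JEpi f') (a : Y ⟶ Z) (b : Y' ⟶ Z) :
    JEpi (fun x : ι × κ => pullback.map (f x.1 ≫ a) (f' x.2 ≫ b) a b (f x.1) (f' x.2) (𝟙 Z)
      (Category.comp_id _) (Category.comp_id _)) := by
  apply JLS.jepi
  intro U s
  obtain ⟨S₁, hS₁, h₁⟩ := hf.jls U (s ≫ pullback.fst a b)
  obtain ⟨S₂, hS₂, h₂⟩ := hf'.jls U (s ≫ pullback.snd a b)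
  refine ⟨S₁ ⊓ S₂, J.intersection_covering hS₁ hS₂, ?_⟩
  intro V m hm
  obtain ⟨i, t₁, ht₁⟩ := h₁ m hm.1
  obtain ⟨k, t₂, ht₂⟩ := h₂ m hm.2
  refine ⟨(i, k), pullback.lift t₁ t₂ ?_, ?_⟩
  · rw [← Category.assoc, ← Category.assoc, ht₁, ht₂]
    simp [pullback.condition]
  · apply pullback.hom_ext
    · simp [ht₁]
    · simp [ht₂]

/-- A morphism from a quasi-compact object to a quasi-separated object is quasi-compact. -/
lemma IsQCHom.of_isQC_of_isQS {A B : ToposFin.Sh J} (m : A ⟶ B) (hA : ToposFin.IsQC A)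
    (hB : ToposFin.IsQS B) : ToposFin.IsQCHom m :=
  fun T t hT => hB A T m t hA hT

/-- Quasi-compactness of a morphism is local on the target (when there are enough
quasi-compact objects). -/
lemma IsQCHom.of_local (hgen : Gen (J := J) ToposFin.IsQC) {X Y : ToposFin.Sh J} (f : X ⟶ Y)
    {ι : Type u} {Yi : ι → ToposFin.Sh J} (g : ∀ i, Yi i ⟶ Y) (hg : JEpi g)
    {P : ι → ToposFin.Sh J} (p : ∀ i, P i ⟶ X) (f' : ∀ i, P i ⟶ Yi i)
    (sq : ∀ i, IsPullback (p i) (f' i) f (g i)) (h : ∀ i, ToposFin.IsQCHom (f' i)) :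
    ToposFin.IsQCHom f := by
  intro T t hT
  obtain ⟨κ, hκ, Q, i, q, hQ, hq⟩ := hgen.exists_finite_refinement hT
    (fun i => pullback.snd (g i) t) (hg.pullback_snd t)
  refine isQC_pullback_of_finite_cover_right f t _ hq ?_
  intro k
  have e : (q k ≫ pullback.snd (g (i k)) t) ≫ t = (q k ≫ pullback.fst (g (i k)) t) ≫ g (i k) := by
    simp [pullback.condition]
  refine IsQC.of_iso (pullback.congrHom rfl e).symm ?_
  have h1 : IsPullback (pullback.fst f ((q k ≫ pullback.fst (g (i k)) t) ≫ g (i k)))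
      (pullback.snd f ((q k ≫ pullback.fst (g (i k)) t) ≫ g (i k))) f
      ((q k ≫ pullback.fst (g (i k)) t) ≫ g (i k)) := IsPullback.of_hasPullback _ _
  let l : pullback f ((q k ≫ pullback.fst (g (i k)) t) ≫ g (i k)) ⟶ P (i k) :=
    (sq (i k)).lift (pullback.fst _ _) (pullback.snd _ _ ≫ q k ≫ pullback.fst (g (i k)) t)
      (by rw [pullback.condition]; simp)
  have h2 : IsPullback l (pullback.snd f ((q k ≫ pullback.fst (g (i k)) t) ≫ g (i k)))
      (f' (i k)) (q k ≫ pullback.fst (g (i k)) t) := by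
    have hl : l ≫ p (i k) = pullback.fst _ _ := (sq (i k)).lift_fst _ _ _
    have hbig : IsPullback (pullback.snd f ((q k ≫ pullback.fst (g (i k)) t) ≫ g (i k)))
        (l ≫ p (i k)) ((q k ≫ pullback.fst (g (i k)) t) ≫ g (i k)) f := by
      rw [hl]
      exact h1.flip
    exact (IsPullback.of_bot hbig ((sq (i k)).lift_snd _ _ _).symm (sq (i k)).flip).flip
  exact IsQCHom.isQC_of_isPullback (h (i k)) h2 (hQ k)

/-- Quasi-separatedness of a morphism is local on the target (when there are enough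
quasi-compact objects). -/
lemma IsQSHom.of_local (hgen : Gen (J := J) ToposFin.IsQC) {X Y : ToposFin.Sh J} (f : X ⟶ Y)
    {ι : Type u} {Yi : ι → ToposFin.Sh J} (g : ∀ i, Yi i ⟶ Y) (hg : JEpi g)
    {P : ι → ToposFin.Sh J} (p : ∀ i, P i ⟶ X) (f' : ∀ i, P i ⟶ Yi i)
    (sq : ∀ i, IsPullback (p i) (f' i) f (g i)) (h : ∀ i, ToposFin.IsQSHom (f' i)) :
    ToposFin.IsQSHom f := by
  refine IsQCHom.of_local hgen (pullback.diagonal f) (fun i => kpMap (sq i)) ?_
    p (fun i => pullback.diagonal (f' i)) (fun i => (isPullback_diagonal_kpMap (sq i)).flip) h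
  exact hg.of_isPullback (pullback.fst f f ≫ f) _ _ (fun i => (isPullback_kpMap_base (sq i)).flip)

end Groth.Agent.H2.TF
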