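import Groth.Agent.Lib.Helper2.ToposFinLocal

set_option autoImplicit false
universe u w w'
open CategoryTheory CategoryTheory.Limits Opposite

namespace Groth.Agent.H2.TF

variable {C : Type u} [SmallCategory C] {J : GrothendieckTopology C}

/-- If `Y` is covered by quasi-separated objects along quasi-compact morphisms, `Y` is
quasi-separated. -/
lemma isQS_of_cover {Y : ToposFin.Sh J} {ι : Type w} [Small.{u} ι] {Yi : ι → ToposFin.Sh J}
    (g : ∀ i, Yi i ⟶ Y) (hg : JEpi g) (hqs : ∀ i, ToposFin.IsQS (Yi i))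
    (hqc : ∀ i, ToposFin.IsQCHom (g i)) : ToposFin.IsQS Y := by
  intro A B a b hA hB
  obtain ⟨s, hs⟩ := IsQC.exists_finset hA _ (hg.pullback_snd a)
  refine isQC_pullback_of_finite_cover_left a b _ hs ?_
  rintro ⟨i, hi⟩
  have e : pullback.snd (g i) a ≫ a = pullback.fst (g i) a ≫ g i := pullback.condition.symm
  refine IsQC.of_iso (pullback.congrHom e rfl).symm ?_
  refine IsQC.of_iso (pullbackRightPullbackFstIso (g i) b (pullback.fst (g i) a)) ?_
  exact hqs i _ _ _ _ (hqc i A a hA) (hqc i B b hB)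


/-- Local criterion for quasi-separatedness of a morphism in terms of a cover of the source. -/
lemma isQSHom_of_cover_source (hgen : Gen (J := J) ToposFin.IsQC) {X Y : ToposFin.Sh J}
    (f : X ⟶ Y) {ι : Type u} {Xi : ι → ToposFin.Sh J} (g : ∀ i, Xi i ⟶ X) (hg : JEpi g)
    (h : ∀ i j, ToposFin.IsQCHom (pullback.map (g i) (g j) (g i ≫ f) (g j ≫ f) (𝟙 _) (𝟙 _) f
      (Category.id_comp _).symm (Category.id_comp _).symm)) :
    ToposFin.IsQSHom f :=
  IsQCHom.of_local hgen (pullback.diagonal f)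
    (fun x : ι × ι => pullback.map (g x.1 ≫ f) (g x.2 ≫ f) f f (g x.1) (g x.2) (𝟙 Y)
      (Category.comp_id _) (Category.comp_id _))
    (hg.pullback_map hg f f) _ _
    (fun x => pullback_map_diagonal_isPullback (g x.1) (g x.2) f) (fun x => h x.1 x.2)


/-- If `g ∘ f_i` is quasi-separated for a jointly epimorphic family of quasi-compact morphisms
`f_i`, then `g` is quasi-separated. -/
lemma isQSHom_of_cover_qc (hgen : Gen (J := J) ToposFin.IsQC) {Y Z : ToposFin.Sh J}
    (g : Y ⟶ Z) {ι : Type u} {X : ι → ToposFin.Sh J} (f : ∀ i, X i ⟶ Y) (hf : JEpi f)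
    (hqc : ∀ i, ToposFin.IsQCHom (f i)) (hqs : ∀ i, ToposFin.IsQSHom (f i ≫ g)) :
    ToposFin.IsQSHom g := by
  refine isQSHom_of_cover_source hgen g f hf (fun i j => ?_)
  refine IsQCHom.of_comp _ (pullback.snd (f i ≫ g) (f j ≫ g)) ?_ ?_
  · exact IsQSHom.of_isPullback (IsPullback.of_hasPullback (f i ≫ g) (f j ≫ g)) (hqs i)
  · have e : pullback.map (f i) (f j) (f i ≫ g) (f j ≫ g) (𝟙 _) (𝟙 _) g
        (Category.id_comp _).symm (Category.id_comp _).symm ≫ pullback.snd (f i ≫ g) (f j ≫ g) =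
        pullback.snd (f i) (f j) := by
      rw [pullback.lift_snd, Category.comp_id]
    rw [e]
    exact IsQCHom.of_isPullback (IsPullback.of_hasPullback (f i) (f j)) (hqc i)

end Groth.Agent.H2.TF
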