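import Groth.Agent.Lib.Helper2.ToposFinFiltered4

set_option autoImplicit false
universe u w w'
open CategoryTheory CategoryTheory.Limits Opposite

namespace Groth.Agent.H2.TF

/-- Generators and relations for an object. -/
structure Pres {E : Type (u+1)} [Category.{u} E] (X : E) where
  ι : Type u
  G : ι → E
  π : ∀ i, G i ⟶ X
  Λ : Type u
  H : Λ → E
  src : Λ → ι
  tgt : Λ → ι
  s : ∀ l, H l ⟶ G (src l)
  t : ∀ l, H l ⟶ G (tgt l)
  w : ∀ l, s l ≫ π (src l) = t l ≫ π (tgt l)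

namespace Pres

variable {E : Type (u+1)} [Category.{u} E] [HasColimitsOfSize.{u, u} E] {X : E} (P : Pres X)

/-- The index poset: finite sets of generators and relations. -/
abbrev Idx : Type u :=
  {AB : Finset P.ι × Finset P.Λ // ∀ l ∈ AB.2, P.src l ∈ AB.1 ∧ P.tgt l ∈ AB.1}

instance : Nonempty P.Idx := ⟨⟨(∅, ∅), by simp⟩⟩

instance : IsDirected P.Idx (· ≤ ·) where
  directed a b := by
    classical
    refine ⟨⟨(a.1.1 ∪ b.1.1, a.1.2 ∪ b.1.2), ?_⟩, ?_, ?_⟩
    · intro l hl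
      rcases Finset.mem_union.1 hl with h | h
      · exact ⟨Finset.mem_union_left _ (a.2 l h).1, Finset.mem_union_left _ (a.2 l h).2⟩
      · exact ⟨Finset.mem_union_right _ (b.2 l h).1, Finset.mem_union_right _ (b.2 l h).2⟩
    · exact ⟨Finset.subset_union_left, Finset.subset_union_left⟩
    · exact ⟨Finset.subset_union_right, Finset.subset_union_right⟩

/-- Coproduct of the selected generators. -/
noncomputable abbrev GA (a : P.Idx) : E := ∐ (fun i : a.1.1 => P.G i)
/-- Coproduct of the selected relations. -/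
noncomputable abbrev HB (a : P.Idx) : E := ∐ (fun l : a.1.2 => P.H l)

noncomputable def σ (a : P.Idx) : P.HB a ⟶ P.GA a :=
  Sigma.desc (fun l : a.1.2 => P.s l ≫ Sigma.ι (fun i : a.1.1 => P.G i) ⟨P.src l, (a.2 l l.2).1⟩)

noncomputable def τ (a : P.Idx) : P.HB a ⟶ P.GA a :=
  Sigma.desc (fun l : a.1.2 => P.t l ≫ Sigma.ι (fun i : a.1.1 => P.G i) ⟨P.tgt l, (a.2 l l.2).2⟩)

/-- The finitely presented approximation. -/
noncomputable abbrev Dobj (a : P.Idx) : E := coequalizer (P.σ a) (P.τ a)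

noncomputable def inj (a : P.Idx) (i : P.ι) (hi : i ∈ a.1.1) : P.G i ⟶ P.Dobj a :=
  Sigma.ι (fun i : a.1.1 => P.G i) ⟨i, hi⟩ ≫ coequalizer.π (P.σ a) (P.τ a)

lemma rel (a : P.Idx) (l : P.Λ) (hl : l ∈ a.1.2) :
    P.s l ≫ P.inj a (P.src l) (a.2 l hl).1 = P.t l ≫ P.inj a (P.tgt l) (a.2 l hl).2 := by
  have h := coequalizer.condition (P.σ a) (P.τ a)
  have h' := congrArg (fun m => Sigma.ι (fun l : a.1.2 => P.H l) ⟨l, hl⟩ ≫ m) h
  dsimp only [σ, τ] at h'
  rw [Sigma.ι_desc_assoc, Sigma.ι_desc_assoc, Category.assoc, Category.assoc] at h'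
  exact h'

lemma hom_ext (a : P.Idx) {Z : E} (f g : P.Dobj a ⟶ Z)
    (h : ∀ i hi, P.inj a i hi ≫ f = P.inj a i hi ≫ g) : f = g := by
  apply coequalizer.hom_ext
  apply Sigma.hom_ext
  rintro ⟨i, hi⟩
  have := h i hi
  dsimp only [inj] at this
  rw [Category.assoc, Category.assoc] at this
  exact this

/-- Morphisms out of the approximation. -/
noncomputable def desc (a : P.Idx) {Z : E} (g : ∀ i, i ∈ a.1.1 → (P.G i ⟶ Z))
    (hg : ∀ l (hl : l ∈ a.1.2), P.s l ≫ g _ (a.2 l hl).1 = P.t l ≫ g _ (a.2 l hl).2) :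
    P.Dobj a ⟶ Z :=
  coequalizer.desc (Sigma.desc (fun i : a.1.1 => g i i.2)) (by
    apply Sigma.hom_ext
    rintro ⟨l, hl⟩
    dsimp only [σ, τ]
    rw [Sigma.ι_desc_assoc, Sigma.ι_desc_assoc, Category.assoc, Category.assoc,
      Sigma.ι_desc, Sigma.ι_desc]
    exact hg l hl)

lemma inj_desc (a : P.Idx) {Z : E} (g : ∀ i, i ∈ a.1.1 → (P.G i ⟶ Z))
    (hg : ∀ l (hl : l ∈ a.1.2), P.s l ≫ g _ (a.2 l hl).1 = P.t l ≫ g _ (a.2 l hl).2)
    (i : P.ι) (hi : i ∈ a.1.1) : P.inj a i hi ≫ P.desc a g hg = g i hi := by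
  dsimp only [inj, desc]
  rw [Category.assoc, coequalizer.π_desc, Sigma.ι_desc]

/-- Transition maps. -/
noncomputable def Dmap {a b : P.Idx} (h : a ≤ b) : P.Dobj a ⟶ P.Dobj b :=
  P.desc a (fun i hi => P.inj b i (h.1 hi)) (fun l hl => P.rel b l (h.2 hl))

lemma inj_Dmap {a b : P.Idx} (h : a ≤ b) (i : P.ι) (hi : i ∈ a.1.1) :
    P.inj a i hi ≫ P.Dmap h = P.inj b i (h.1 hi) := P.inj_desc a _ _ i hi

/-- The filtered diagram of approximations. -/
noncomputable def D : P.Idx ⥤ E where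
  obj a := P.Dobj a
  map f := P.Dmap (leOfHom f)
  map_id a := by
    apply P.hom_ext
    intro i hi
    rw [inj_Dmap, Category.comp_id]
  map_comp f g := by
    apply P.hom_ext
    intro i hi
    rw [inj_Dmap, ← Category.assoc, inj_Dmap, inj_Dmap]

/-- The map to `X`. -/
noncomputable def toX (a : P.Idx) : P.Dobj a ⟶ X :=
  P.desc a (fun i _ => P.π i) (fun l _ => P.w l)

lemma inj_toX (a : P.Idx) (i : P.ι) (hi : i ∈ a.1.1) : P.inj a i hi ≫ P.toX a = P.π i :=
  P.inj_desc a _ _ i hi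

/-- The cocone over the diagram of approximations with point `X`. -/
noncomputable def cocone : Cocone P.D where
  pt := X
  ι := { app := fun a => P.toX a
         naturality := fun a b f => by
          apply P.hom_ext
          intro i hi
          change P.inj a i hi ≫ P.Dmap (leOfHom f) ≫ P.toX b = P.inj a i hi ≫ P.toX a ≫ 𝟙 X
          rw [← Category.assoc, inj_Dmap, inj_toX, Category.comp_id, inj_toX] }

end Pres

end Groth.Agent.H2.TF
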