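import Groth.Agent.Lib.Helper2.ToposFinPres

set_option autoImplicit false
universe u w w'
open CategoryTheory CategoryTheory.Limits Opposite

namespace Groth.Agent.H2.TF

variable {C : Type u} [SmallCategory C] {J : GrothendieckTopology C}

set_option backward.isDefEq.respectTransparency false in
/-- A jointly epimorphic family is effective: compatible families of morphisms descend. -/
lemma exists_desc_of_jepi {ι : Type u} {G : ι → ToposFin.Sh J} {X Z : ToposFin.Sh J}
    (π : ∀ i, G i ⟶ X) (hπ : JEpi π) (g : ∀ i, G i ⟶ Z)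
    (hg : ∀ {T : ToposFin.Sh J} (i i' : ι) (x : T ⟶ G i) (y : T ⟶ G i'),
      x ≫ π i = y ≫ π i' → x ≫ g i = y ≫ g i') :
    ∃ a : X ⟶ Z, ∀ i, π i ≫ a = g i := by
  have he : Epi (Sigma.desc π) := (epi_sigmaDesc_iff π).2 hπ
  have hι : JEpi (Sigma.ι G) := fun Z a b hab => Sigma.hom_ext _ _ hab
  have hcond : pullback.fst (Sigma.desc π) (Sigma.desc π) ≫ Sigma.desc g =
      pullback.snd (Sigma.desc π) (Sigma.desc π) ≫ Sigma.desc g := by
    apply hι.pullback_map hι (Sigma.desc π) (Sigma.desc π)
    rintro ⟨i, i'⟩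
    dsimp only
    have e1 : Sigma.ι G i ≫ Sigma.desc g = g i := Sigma.ι_desc _ _
    have e2 : Sigma.ι G i' ≫ Sigma.desc g = g i' := Sigma.ι_desc _ _
    rw [← Category.assoc, ← Category.assoc, pullback.lift_fst, pullback.lift_snd,
      Category.assoc, Category.assoc, e1, e2]
    apply hg
    have := pullback.condition (f := Sigma.ι G i ≫ Sigma.desc π) (g := Sigma.ι G i' ≫ Sigma.desc π)
    have e3 : Sigma.ι G i ≫ Sigma.desc π = π i := Sigma.ι_desc _ _
    have e4 : Sigma.ι G i' ≫ Sigma.desc π = π i' := Sigma.ι_desc _ _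
    calc _ = pullback.fst (Sigma.ι G i ≫ Sigma.desc π) (Sigma.ι G i' ≫ Sigma.desc π) ≫
          Sigma.ι G i ≫ Sigma.desc π := congrArg _ e3.symm
      _ = _ := this
      _ = _ := congrArg _ e4
  obtain ⟨a, ha⟩ := exists_desc_of_epi (Sigma.desc π) (Sigma.desc g) hcond
  refine ⟨a, fun i => ?_⟩
  have := congrArg (fun m => Sigma.ι G i ≫ m) ha
  simp only [Sigma.ι_desc_assoc, Sigma.ι_desc] at this
  exact this

/-- A presentation is good if its generators cover and its relations generate all relations. -/
structure Pres.IsGood {X : ToposFin.Sh J} (P : Pres X) : Prop where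
  jepi : JEpi P.π
  descent : ∀ {Z : ToposFin.Sh J} (g : ∀ i, P.G i ⟶ Z),
    (∀ l, P.s l ≫ g (P.src l) = P.t l ≫ g (P.tgt l)) →
    ∀ {T : ToposFin.Sh J} (i i' : P.ι) (x : T ⟶ P.G i) (y : T ⟶ P.G i'),
      x ≫ P.π i = y ≫ P.π i' → x ≫ g i = y ≫ g i'

namespace Pres

variable {X : ToposFin.Sh J} (P : Pres X)

/-- The index of the approximation with the single generator `i`. -/
def single (i : P.ι) : P.Idx := ⟨({i}, ∅), by simp⟩

/-- The index of the approximation with the single relation `l`. -/
noncomputable def singleRel (l : P.Λ) : P.Idx := by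
  classical
  exact ⟨({P.src l, P.tgt l}, {l}), by
    intro l' hl'
    rw [Finset.mem_singleton] at hl'
    subst hl'
    simp⟩

/-- For a good presentation, `X` is the colimit of its finite approximations. -/
noncomputable def isColimitCocone (hP : P.IsGood) : IsColimit P.cocone := by
  classical
  have gcompat : ∀ (c : Cocone P.D) (a : P.Idx) (i : P.ι) (hi : i ∈ a.1.1),
      P.inj a i hi ≫ c.ι.app a =
        P.inj (P.single i) i (Finset.mem_singleton_self i) ≫ c.ι.app (P.single i) := by
    intro c a i hi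
    have hle : P.single i ≤ a :=
      ⟨Finset.singleton_subset_iff.2 hi, Finset.empty_subset _⟩
    have hw := c.w (homOfLE hle)
    rw [← hw]
    change _ = P.inj (P.single i) i _ ≫ P.Dmap hle ≫ _
    rw [← Category.assoc, P.inj_Dmap]
  have hrel : ∀ (c : Cocone P.D) (l : P.Λ),
      P.s l ≫ P.inj (P.single (P.src l)) _ (Finset.mem_singleton_self _) ≫
          c.ι.app (P.single (P.src l)) =
        P.t l ≫ P.inj (P.single (P.tgt l)) _ (Finset.mem_singleton_self _) ≫
          c.ι.app (P.single (P.tgt l)) := by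
    intro c l
    have hl : l ∈ (P.singleRel l).1.2 := Finset.mem_singleton_self l
    rw [← gcompat c (P.singleRel l) (P.src l) ((P.singleRel l).2 l hl).1,
      ← gcompat c (P.singleRel l) (P.tgt l) ((P.singleRel l).2 l hl).2,
      ← Category.assoc, ← Category.assoc, P.rel (P.singleRel l) l hl]
  have hex : ∀ c : Cocone P.D, ∃ a : X ⟶ c.pt, ∀ i, P.π i ≫ a =
      P.inj (P.single i) i (Finset.mem_singleton_self i) ≫ c.ι.app (P.single i) := fun c =>
    exists_desc_of_jepi P.π hP.jepi _ (hP.descent _ (hrel c))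
  exact
    { desc := fun c => (hex c).choose
      fac := fun c a => by
        apply P.hom_ext
        intro i hi
        change P.inj a i hi ≫ P.toX a ≫ _ = _
        rw [← Category.assoc, P.inj_toX, (hex c).choose_spec i, gcompat c a i hi]
      uniq := fun c m hm => by
        apply hP.jepi
        intro i
        rw [(hex c).choose_spec i, ← hm (P.single i)]
        change _ = _ ≫ P.toX _ ≫ m
        rw [← Category.assoc, P.inj_toX] }

end Pres

end Groth.Agent.H2.TF
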