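import Groth.Agent.Lib.Helper2.ToposFinPres2

set_option autoImplicit false
universe u w w'
open CategoryTheory CategoryTheory.Limits Opposite

namespace Groth.Agent.H2.TF

variable {C : Type u} [SmallCategory C] {J : GrothendieckTopology C}

/-- Finite coproducts of coherent objects are coherent. -/
lemma isCoherent_sigma_finite {κ : Type u} [Finite κ] (F : κ → ToposFin.Sh J)
    (h : ∀ k, ToposFin.IsCoherent (F k)) : ToposFin.IsCoherent (∐ F) :=
  ⟨IsQC.of_finite_jepi (Sigma.ι F) (fun _ _ _ hab => Sigma.hom_ext _ _ hab) (fun k => (h k).1),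
    (isDisjointCover_cofan (Cofan.mk (∐ F) (Sigma.ι F)) (coproductIsCoproduct F)).isQS
      (fun k => (h k).2)⟩

/-- A retract of a coherent object is coherent. -/
lemma isCoherent_of_retract {X W : ToposFin.Sh J} (i : X ⟶ W) (p : W ⟶ X) (h : i ≫ p = 𝟙 X)
    (hW : ToposFin.IsCoherent W) : ToposFin.IsCoherent X := by
  have : IsSplitEpi p := ⟨⟨i, h⟩⟩
  have : IsSplitMono i := ⟨⟨p, h⟩⟩
  exact ⟨IsQC.of_epi p hW.1, isQS_of_mono i hW.2⟩

/-- Every object has a good presentation by objects of a generating class. -/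
lemma exists_good_pres {𝒢 : ToposFin.Sh J → Prop} (hgen : Gen 𝒢) (X : ToposFin.Sh J) :
    ∃ P : Pres X, P.IsGood ∧ (∀ i, 𝒢 (P.G i)) ∧ (∀ l, 𝒢 (P.H l)) := by
  obtain ⟨ι, G, π, hG, hπ⟩ := hgen X
  choose κ H ρ hH hρ using fun p : ι × ι => hgen (pullback (π p.1) (π p.2))
  refine ⟨{ ι := ι, G := G, π := π, Λ := Σ p : ι × ι, κ p, H := fun l => H l.1 l.2,
            src := fun l => l.1.1, tgt := fun l => l.1.2,
            s := fun l => ρ l.1 l.2 ≫ pullback.fst _ _,
            t := fun l => ρ l.1 l.2 ≫ pullback.snd _ _,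
            w := fun l => by rw [Category.assoc, Category.assoc, pullback.condition] },
    ⟨hπ, ?_⟩, hG, fun l => hH l.1 l.2⟩
  intro Z g hg T i i' x y hxy
  have key : pullback.fst (π i) (π i') ≫ g i = pullback.snd (π i) (π i') ≫ g i' := by
    apply hρ (i, i')
    intro k
    have := hg ⟨(i, i'), k⟩
    simpa only [Category.assoc] using this
  have h1 : pullback.lift x y hxy ≫ pullback.fst (π i) (π i') = x := pullback.lift_fst _ _ _
  have h2 : pullback.lift x y hxy ≫ pullback.snd (π i) (π i') = y := pullback.lift_snd _ _ _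
  calc x ≫ g i = (pullback.lift x y hxy ≫ pullback.fst (π i) (π i')) ≫ g i := by rw [h1]
    _ = (pullback.lift x y hxy ≫ pullback.snd (π i) (π i')) ≫ g i' := by
      rw [Category.assoc, Category.assoc, key]
    _ = y ≫ g i' := by rw [h2]

section FP

lemma isFP_iff (X : ToposFin.Sh J) : ToposFin.IsFP X ↔
    ∀ (I : Type u) [SmallCategory I] [IsFiltered I] (D : I ⥤ ToposFin.Sh J),
      (∀ (i : I) (a b : X ⟶ D.obj i), a ≫ colimit.ι D i = b ≫ colimit.ι D i →
        ∃ (k : I) (f : i ⟶ k), a ≫ D.map f = b ≫ D.map f) ∧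
      (∀ m : X ⟶ colimit D, ∃ (i : I) (a : X ⟶ D.obj i), a ≫ colimit.ι D i = m) := by
  unfold ToposFin.IsFP
  constructor
  · intro h I _ _ D
    exact ⟨(post_coyoneda_injective_iff D X).1 (h I D).1,
      (post_coyoneda_surjective_iff D X).1 (h I D).2⟩
  · intro h I _ _ D
    exact ⟨(post_coyoneda_injective_iff D X).2 (h I D).1,
      (post_coyoneda_surjective_iff D X).2 (h I D).2⟩

lemma isFP_of_isCoherent (hgen : Gen (J := J) ToposFin.IsQC) {X : ToposFin.Sh J}
    (hX : ToposFin.IsCoherent X) : ToposFin.IsFP X :=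
  fun I _ _ D => post_bijective_of_isCoherent hgen X hX I D

/-- A coequalizer of finitely presentable objects is finitely presentable. -/
lemma isFP_coequalizer {X₀ X₁ : ToposFin.Sh J} (h₀ : ToposFin.IsFP X₀) (h₁ : ToposFin.IsFP X₁)
    (a b : X₁ ⟶ X₀) : ToposFin.IsFP (coequalizer a b) := by
  rw [isFP_iff] at h₀ h₁ ⊢
  intro I _ _ D
  constructor
  · intro i u v huv
    obtain ⟨k, f, hf⟩ := (h₀ I D).1 i (coequalizer.π a b ≫ u) (coequalizer.π a b ≫ v)
      (by rw [Category.assoc, Category.assoc, huv])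
    refine ⟨k, f, ?_⟩
    rw [← cancel_epi (coequalizer.π a b)]
    simpa only [Category.assoc] using hf
  · intro m
    obtain ⟨i, n, hn⟩ := (h₀ I D).2 (coequalizer.π a b ≫ m)
    obtain ⟨k, f, hf⟩ := (h₁ I D).1 i (a ≫ n) (b ≫ n)
      (by rw [Category.assoc, Category.assoc, hn, ← Category.assoc, ← Category.assoc,
        coequalizer.condition])
    refine ⟨k, coequalizer.desc (n ≫ D.map f) (by simpa only [Category.assoc] using hf), ?_⟩
    rw [← cancel_epi (coequalizer.π a b), ← Category.assoc, coequalizer.π_desc, Category.assoc,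
      colimit.w, hn]

/-- A retract of a finitely presentable object is finitely presentable. -/
lemma isFP_of_retract {X W : ToposFin.Sh J} (i : X ⟶ W) (p : W ⟶ X) (h : i ≫ p = 𝟙 X)
    (hW : ToposFin.IsFP W) : ToposFin.IsFP X := by
  rw [isFP_iff] at hW ⊢
  intro I _ _ D
  constructor
  · intro j u v huv
    obtain ⟨k, f, hf⟩ := (hW I D).1 j (p ≫ u) (p ≫ v)
      (by rw [Category.assoc, Category.assoc, huv])
    refine ⟨k, f, ?_⟩
    have := congrArg (fun m => i ≫ m) hf
    simpa only [← Category.assoc, h, Category.id_comp] using this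
  · intro m
    obtain ⟨j, n, hn⟩ := (hW I D).2 (p ≫ m)
    exact ⟨j, i ≫ n, by rw [Category.assoc, hn, ← Category.assoc, h, Category.id_comp]⟩

/-- A finitely presentable object which is a filtered colimit is a retract of a member. -/
lemma exists_retract_of_isFP {X : ToposFin.Sh J} (hX : ToposFin.IsFP X) {I : Type u}
    [SmallCategory I] [IsFiltered I] (D : I ⥤ ToposFin.Sh J) (c : Cocone D) (hc : IsColimit c)
    (e : X ≅ c.pt) : ∃ (i : I) (n : X ⟶ D.obj i), n ≫ c.ι.app i ≫ e.inv = 𝟙 X := by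
  rw [isFP_iff] at hX
  let e' : colimit D ≅ c.pt := colimit.isoColimitCocone ⟨c, hc⟩
  obtain ⟨i, n, hn⟩ := (hX I D).2 (e.hom ≫ e'.inv)
  refine ⟨i, n, ?_⟩
  have h1 : colimit.ι D i ≫ e'.hom = c.ι.app i := colimit.isoColimitCocone_ι_hom ⟨c, hc⟩ i
  rw [← h1, ← Category.assoc, ← Category.assoc, hn]
  simp

end FP

end Groth.Agent.H2.TF
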