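import Groth.Agent.Lib.Helper2.ToposFinPres3

set_option autoImplicit false
universe u w w'
open CategoryTheory CategoryTheory.Limits Opposite

namespace Groth.Agent.H2.TF

variable {C : Type u} [SmallCategory C] {J : GrothendieckTopology C}

lemma gen_of_hasCoherentGenerators (hE : ToposFin.HasCoherentGenerators J) :
    Gen (J := J) ToposFin.IsCoherent := by
  intro X
  obtain ⟨ι, F, π, hF, hπ⟩ := hE X
  exact ⟨ι, F, π, hF, (epi_sigmaDesc_iff π).1 hπ⟩

/-- A finitely presentable object is a retract of a coequalizer of generators (for a generating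
class stable under finite coproducts). -/
lemma exists_retract_coequalizer {𝒢 : ToposFin.Sh J → Prop} (hgen : Gen 𝒢)
    (hsum : ∀ {κ : Type u} [Finite κ] (F : κ → ToposFin.Sh J), (∀ k, 𝒢 (F k)) → 𝒢 (∐ F))
    {X : ToposFin.Sh J} (hX : ToposFin.IsFP X) :
    ∃ (X₀ X₁ : ToposFin.Sh J) (a b : X₁ ⟶ X₀) (i : X ⟶ coequalizer a b)
      (p : coequalizer a b ⟶ X), 𝒢 X₀ ∧ 𝒢 X₁ ∧ i ≫ p = 𝟙 X := by
  obtain ⟨P, hP, hG, hH⟩ := exists_good_pres hgen X
  obtain ⟨a, n, hn⟩ := exists_retract_of_isFP hX P.D P.cocone (P.isColimitCocone hP) (Iso.refl X)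
  refine ⟨P.GA a, P.HB a, P.σ a, P.τ a, n, P.toX a, hsum _ (fun k => hG k), hsum _ (fun k => hH k), ?_⟩
  have hn' : n ≫ P.toX a ≫ 𝟙 X = 𝟙 X := hn
  rw [Category.comp_id] at hn'
  exact hn'

/-- Every object is a small filtered colimit of coequalizers of generators. -/
lemma exists_filtered_presentation {𝒢 : ToposFin.Sh J → Prop} (hgen : Gen 𝒢)
    (hsum : ∀ {κ : Type u} [Finite κ] (F : κ → ToposFin.Sh J), (∀ k, 𝒢 (F k)) → 𝒢 (∐ F))
    (X : ToposFin.Sh J) :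
    ∃ (I : Type u) (_ : SmallCategory I) (_ : IsFiltered I) (D : I ⥤ ToposFin.Sh J),
      (∀ i, ∃ (X₀ X₁ : ToposFin.Sh J) (a b : X₁ ⟶ X₀), 𝒢 X₀ ∧ 𝒢 X₁ ∧
        D.obj i = coequalizer a b) ∧ Nonempty (X ≅ colimit D) := by
  obtain ⟨P, hP, hG, hH⟩ := exists_good_pres hgen X
  refine ⟨P.Idx, inferInstance, inferInstance, P.D, fun a => ?_, ?_⟩
  · exact ⟨P.GA a, P.HB a, P.σ a, P.τ a, hsum _ (fun k => hG k), hsum _ (fun k => hH k), rfl⟩
  · exact ⟨(colimit.isoColimitCocone ⟨P.cocone, P.isColimitCocone hP⟩).symm⟩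

theorem isFP_iff_retract (hE : ToposFin.HasCoherentGenerators J) (X : ToposFin.Sh J) :
    ToposFin.IsFP X ↔ ∃ (X₀ X₁ : ToposFin.Sh J) (a b : X₁ ⟶ X₀) (i : X ⟶ coequalizer a b)
      (p : coequalizer a b ⟶ X), ToposFin.IsCoherent X₀ ∧ ToposFin.IsCoherent X₁ ∧ i ≫ p = 𝟙 X := by
  have hgen := gen_of_hasCoherentGenerators hE
  have hgenQC : Gen (J := J) ToposFin.IsQC := hgen.mono (fun _ h => h.1)
  constructor
  · intro hX
    exact exists_retract_coequalizer hgen (fun F hF => isCoherent_sigma_finite F hF) hX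
  · rintro ⟨X₀, X₁, a, b, i, p, h₀, h₁, h⟩
    exact isFP_of_retract i p h
      (isFP_coequalizer (isFP_of_isCoherent hgenQC h₀) (isFP_of_isCoherent hgenQC h₁) a b)

end Groth.Agent.H2.TF
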