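import Groth.Agent.Lib.Helper2.ToposFinPres4

set_option autoImplicit false
universe u w w'
open CategoryTheory CategoryTheory.Limits Opposite

namespace Groth.Agent.H2.TF

variable {C : Type u} [SmallCategory C] {J : GrothendieckTopology C}

/-- A quasi-compact object is a quotient of a finite coproduct (indexed by `Fin n`) of generators. -/
lemma Gen.exists_fin_cover {𝒢 : ToposFin.Sh J → Prop} (hgen : Gen 𝒢) {Y : ToposFin.Sh J}
    (hY : ToposFin.IsQC Y) :
    ∃ (n : ℕ) (Q : Fin n → ToposFin.Sh J) (q : ∀ k, Q k ⟶ Y), (∀ k, 𝒢 (Q k)) ∧ JEpi q := by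
  obtain ⟨κ, hκ, Q, q, hQ, hq⟩ := hgen.exists_finite_cover hY
  exact ⟨Fintype.card κ, fun k => Q ((Fintype.equivFin κ).symm k),
    fun k => q ((Fintype.equivFin κ).symm k), fun k => hQ _,
    hq.reindex _ (Fintype.equivFin κ).symm.surjective⟩

/-- An effective epimorphism is the coequalizer of any pair covering its kernel pair. -/
lemma exists_iso_coequalizer {Q X R : ToposFin.Sh J} (e : Q ⟶ X) [Epi e]
    (r : R ⟶ pullback e e) [Epi r] :
    Nonempty (coequalizer (r ≫ pullback.fst e e) (r ≫ pullback.snd e e) ≅ X) := by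
  have hc : (r ≫ pullback.fst e e) ≫ e = (r ≫ pullback.snd e e) ≫ e := by
    rw [Category.assoc, Category.assoc, pullback.condition]
  obtain ⟨a, ha⟩ := exists_desc_of_epi e
    (coequalizer.π (r ≫ pullback.fst e e) (r ≫ pullback.snd e e)) (by
      rw [← cancel_epi r, ← Category.assoc, ← Category.assoc]
      exact coequalizer.condition _ _)
  refine ⟨⟨coequalizer.desc e hc, a, ?_, ?_⟩⟩
  · apply coequalizer.hom_ext
    rw [← Category.assoc, coequalizer.π_desc, ha, Category.comp_id]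
  · rw [← cancel_epi e, ← Category.assoc, ha, coequalizer.π_desc, Category.comp_id]

theorem mem_iff_isCoherent_of_closed (S : Set (ToposFin.Sh J)) (hqc : ∀ K ∈ S, ToposFin.IsQC K)
    (hiso : ∀ ⦃K L : ToposFin.Sh J⦄, K ∈ S → Nonempty (K ≅ L) → L ∈ S)
    (hgen : ToposFin.IsGenerating S) (hpb : ToposFin.ClosedUnderPullbacks S)
    (hcolim : ∀ (K : Type) [SmallCategory K] [FinCategory K] (D : K ⥤ ToposFin.Sh J),
      (∀ k, D.obj k ∈ S) → colimit D ∈ S) :
    (∀ X : ToposFin.Sh J, X ∈ S ↔ ToposFin.IsCoherent X) ∧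
    (∀ X : ToposFin.Sh J, ToposFin.IsFP X → ToposFin.IsCoherent X) := by
  have hgenS := gen_of_isGenerating hgen
  have hsum : ∀ {n : ℕ} (Q : Fin n → ToposFin.Sh J), (∀ k, Q k ∈ S) → (∐ Q) ∈ S :=
    fun Q hQ => hcolim (Discrete (Fin _)) (Discrete.functor Q) (fun k => hQ k.as)
  have hcoeq : ∀ {X₀ X₁ : ToposFin.Sh J} (a b : X₁ ⟶ X₀), X₀ ∈ S → X₁ ∈ S →
      coequalizer a b ∈ S := fun a b h₀ h₁ =>
    hcolim WalkingParallelPair (parallelPair a b) (by rintro (_ | _) <;> assumption)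
  have h1 : ∀ X : ToposFin.Sh J, X ∈ S ↔ ToposFin.IsCoherent X := by
    intro X
    constructor
    · exact fun h => isCoherent_of_mem hqc hgen hpb h
    · intro hX
      obtain ⟨n, Q, q, hQ, hq⟩ := hgenS.exists_fin_cover hX.1
      have hQ₀ : (∐ Q) ∈ S := hsum Q hQ
      have he : Epi (Sigma.desc q) := (epi_sigmaDesc_iff q).2 hq
      have hK : ToposFin.IsQC (pullback (Sigma.desc q) (Sigma.desc q)) :=
        hX.2 _ _ _ _ (hqc _ hQ₀) (hqc _ hQ₀)
      obtain ⟨n', R, r, hR, hr⟩ := hgenS.exists_fin_cover hK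
      have hR₀ : (∐ R) ∈ S := hsum R hR
      have hr' : Epi (Sigma.desc r) := (epi_sigmaDesc_iff r).2 hr
      exact hiso (hcoeq _ _ hQ₀ hR₀) (exists_iso_coequalizer (Sigma.desc q) (Sigma.desc r))
  refine ⟨h1, fun X hX => ?_⟩
  have hgenC : Gen (J := J) ToposFin.IsCoherent := hgenS.mono (fun Z hZ => (h1 Z).1 hZ)
  obtain ⟨X₀, X₁, a, b, i, p, h₀, h₁, h⟩ := exists_retract_coequalizer hgenC
    (fun F hF => isCoherent_sigma_finite F hF) hX
  exact isCoherent_of_retract i p h ((h1 _).1 (hcoeq a b ((h1 _).2 h₀) ((h1 _).2 h₁)))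

end Groth.Agent.H2.TF
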