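import Groth.Agent.Lib.Helper2.ToposFinAlg

set_option autoImplicit false
universe u w w'
open CategoryTheory CategoryTheory.Limits Opposite

namespace Groth.Agent.H2.TF

variable {C : Type u} [SmallCategory C] {J : GrothendieckTopology C}

lemma secEquiv_apply (F : ToposFin.Sh J) (V : C) (m : ToposFin.eps J V ⟶ F) :
    secEquiv F V m = m.hom.app (op V) ((toSheafify J (yoneda.obj V)).app (op V) (𝟙 V)) := by
  simp only [secEquiv, Equiv.trans_apply, Adjunction.homEquiv_unit, yonedaEquiv_apply]
  rfl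

/-- The section of `eps X` over `V` given by `h : V ⟶ X`. -/
lemma secEquiv_epsMap {V X : C} (h : V ⟶ X) :
    secEquiv (ToposFin.eps J X) V (epsMap h) = (toSheafify J (yoneda.obj X)).app (op V) h := by
  rw [secEquiv_apply]
  calc _ = (toSheafify J (yoneda.obj V) ≫ sheafifyMap J (yoneda.map h)).app (op V) (𝟙 V) := rfl
    _ = (yoneda.map h ≫ toSheafify J (yoneda.obj X)).app (op V) (𝟙 V) := by
      rw [toSheafify_naturality]
    _ = (toSheafify J (yoneda.obj X)).app (op V) ((yoneda.map h).app (op V) (𝟙 V)) := rfl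
    _ = _ := by
      have e : (yoneda.map h).app (op V) (𝟙 V) = h := by simp
      rw [e]


lemma epsMap_comp {U V W : C} (f : U ⟶ V) (g : V ⟶ W) :
    epsMap (J := J) (f ≫ g) = epsMap f ≫ epsMap g := by
  simp only [epsMap, Functor.map_comp]

/-- Morphisms between associated sheaves of representables are locally induced by morphisms of
the site. -/
lemma exists_cover_epsMap {V X : C} (t : ToposFin.eps J V ⟶ ToposFin.eps J X) :
    ∃ R ∈ J V, ∀ ⦃W : C⦄ (r : W ⟶ V), R r → ∃ h : W ⟶ X, epsMap r ≫ t = epsMap h := by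
  refine ⟨Presheaf.imageSieve (toSheafify J (yoneda.obj X)) (secEquiv _ V t),
    Presheaf.imageSieve_mem J (toSheafify J (yoneda.obj X)) (secEquiv _ V t), ?_⟩
  rintro W r ⟨h, hh⟩
  refine ⟨h, ?_⟩
  apply (secEquiv _ W).injective
  rw [secEquiv_map, secEquiv_epsMap]
  exact hh.symm

/-- Two morphisms of the site inducing the same morphism of associated sheaves agree locally. -/
lemma exists_cover_of_epsMap_eq {W X : C} (h₁ h₂ : W ⟶ X)
    (e : epsMap (J := J) h₁ = epsMap h₂) :
    ∃ R ∈ J W, ∀ ⦃W' : C⦄ (r : W' ⟶ W), R r → r ≫ h₁ = r ≫ h₂ := by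
  have e' : (toSheafify J (yoneda.obj X)).app (op W) h₁ =
      (toSheafify J (yoneda.obj X)).app (op W) h₂ := by
    rw [← secEquiv_epsMap, ← secEquiv_epsMap, e]
  refine ⟨Presheaf.equalizerSieve (F := yoneda.obj X) h₁ h₂,
    Presheaf.equalizerSieve_mem J (toSheafify J (yoneda.obj X)) h₁ h₂ e', ?_⟩
  intro W' r hr
  exact hr

/-- The family of `epsMap f` for `f` in a covering sieve is jointly epimorphic. -/
lemma jepi_of_cover {X : C} (S : Sieve X) (hS : S ∈ J X) :
    JEpi (fun f : Σ V : C, {f : V ⟶ X // S f} => epsMap (J := J) f.2.1) := by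
  intro Z a b hab
  exact eps_hom_ext_of_cover S hS a b (fun V f hf => hab ⟨V, f, hf⟩)

/-- A family of arrows generates a covering sieve iff the associated family of morphisms of
sheaves is jointly epimorphic. -/
lemma ofArrows_mem_iff_jepi {X : C} {κ : Type w} (V : κ → C) (g : ∀ k, V k ⟶ X) :
    Sieve.ofArrows V g ∈ J X ↔ JEpi (fun k => epsMap (J := J) (g k)) := by
  constructor
  · intro h Z a b hab
    refine eps_hom_ext_of_cover _ h a b ?_
    rintro W f ⟨W', m, _, ⟨k⟩, rfl⟩
    rw [epsMap_comp, Category.assoc, Category.assoc]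
    exact congrArg _ (hab k)
  · intro h
    obtain ⟨T, hT, hT'⟩ := h.jls X (𝟙 _)
    refine J.transitive hT _ ?_
    intro W f hf
    obtain ⟨k, t, ht⟩ := hT' f hf
    rw [Category.comp_id] at ht
    obtain ⟨R, hR, hR'⟩ := exists_cover_epsMap t
    refine J.transitive hR _ ?_
    intro W' r hr
    obtain ⟨m, hm⟩ := hR' r hr
    have e : epsMap (J := J) (m ≫ g k) = epsMap (r ≫ f) := by
      rw [epsMap_comp, epsMap_comp, ← hm, Category.assoc]
      exact congrArg _ ht
    obtain ⟨R', hR', hR''⟩ := exists_cover_of_epsMap_eq _ _ e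
    refine J.superset_covering ?_ hR'
    intro W'' r' hr'
    change Sieve.ofArrows V g ((r' ≫ r) ≫ f)
    have := hR'' r' hr'
    rw [Category.assoc, ← this, ← Category.assoc]
    exact Sieve.downward_closed _ (Sieve.ofArrows_mk V g k) _


/-- Site-level quasi-compactness of `X` is quasi-compactness of `eps X`. -/
lemma isQCSite_iff_isQC_eps (X : C) : ToposFin.IsQCSite J X ↔ ToposFin.IsQC (ToposFin.eps J X) := by
  classical
  constructor
  · intro hX
    rw [isQC_iff]
    intro ι F π hπ
    obtain ⟨T, hT, hT'⟩ := hπ.jls X (𝟙 _)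
    obtain ⟨n, V, g, hg, hcov⟩ := hX T hT
    choose i t ht using fun k => hT' (g k) (hg k)
    refine ⟨Finset.univ.image i, ?_⟩
    intro Z a b hab
    apply (ofArrows_mem_iff_jepi V g).1 hcov
    intro k
    have hk := ht k
    rw [Category.comp_id] at hk
    dsimp only
    rw [← hk, Category.assoc, Category.assoc]
    exact congrArg _ (hab ⟨i k, Finset.mem_image_of_mem _ (Finset.mem_univ _)⟩)
  · intro hqc S hS
    obtain ⟨s, hs⟩ := IsQC.exists_finset hqc _ (jepi_of_cover S hS)
    refine ⟨s.card, fun k => (s.equivFin.symm k).1.1, fun k => (s.equivFin.symm k).1.2.1,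
      fun k => (s.equivFin.symm k).1.2.2, ?_⟩
    rw [ofArrows_mem_iff_jepi]
    exact hs.reindex _ s.equivFin.symm.surjective

end Groth.Agent.H2.TF
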