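import Groth.Agent.Lib.Helper2.ToposFinSite

set_option autoImplicit false
universe u w w'
open CategoryTheory CategoryTheory.Limits Opposite

namespace Groth.Agent.H2.TF

variable {C : Type u} [SmallCategory C] {J : GrothendieckTopology C}

/-- The associated sheaves of representables generate. -/
lemma gen_eps : Gen (J := J) (fun Z => ∃ U : C, Z = ToposFin.eps J U) := by
  intro X
  refine ⟨Σ U : C, (ToposFin.eps J U ⟶ X), fun x => ToposFin.eps J x.1, fun x => x.2,
    fun x => ⟨x.1, rfl⟩, ?_⟩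
  intro Z a b hab
  exact hom_ext_eps a b (fun U s => hab ⟨U, s⟩)

/-- `eps` preserves fibre products. -/
lemma isPullback_epsMap [HasPullbacks C] {U V X : C} (h : U ⟶ X) (h' : V ⟶ X) :
    IsPullback (epsMap (J := J) (pullback.fst h h')) (epsMap (pullback.snd h h'))
      (epsMap h) (epsMap h') :=
  (IsPullback.of_hasPullback h h').map (yoneda ⋙ presheafToSheaf J (Type u))

/-- In a site whose objects are quasi-compact, a quasi-compact-object cover of `U` adapted to
a morphism `eps U ⟶ eps X`. -/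
lemma exists_finite_cover_epsMap (hC : ∀ X : C, ToposFin.IsQCSite J X) {U X : C}
    (a : ToposFin.eps J U ⟶ ToposFin.eps J X) :
    ∃ (n : ℕ) (W : Fin n → C) (g : ∀ k, W k ⟶ U) (h : ∀ k, W k ⟶ X),
      JEpi (fun k => epsMap (J := J) (g k)) ∧ ∀ k, epsMap (g k) ≫ a = epsMap (h k) := by
  obtain ⟨R, hR, hR'⟩ := exists_cover_epsMap a
  obtain ⟨n, W, g, hg, hcov⟩ := hC U R hR
  choose h hh using fun k => hR' (g k) (hg k)
  exact ⟨n, W, g, h, (ofArrows_mem_iff_jepi W g).1 hcov, hh⟩

lemma isQC_eps (hC : ∀ X : C, ToposFin.IsQCSite J X) (X : C) : ToposFin.IsQC (ToposFin.eps J X) :=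
  (isQCSite_iff_isQC_eps X).1 (hC X)

/-- Fibre products of associated sheaves of representables are quasi-compact. -/
lemma isQC_pullback_eps [HasPullbacks C] (hC : ∀ X : C, ToposFin.IsQCSite J X) {U V X : C}
    (a : ToposFin.eps J U ⟶ ToposFin.eps J X) (b : ToposFin.eps J V ⟶ ToposFin.eps J X) :
    ToposFin.IsQC (pullback a b) := by
  obtain ⟨n, W, g, h, hg, hh⟩ := exists_finite_cover_epsMap hC a
  obtain ⟨n', W', g', h', hg', hh'⟩ := exists_finite_cover_epsMap hC b
  refine isQC_pullback_of_finite_cover_left a b _ hg (fun k => ?_)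
  refine isQC_pullback_of_finite_cover_right _ b _ hg' (fun l => ?_)
  refine IsQC.of_iso (pullback.congrHom (hh k) (hh' l)).symm ?_
  exact IsQC.of_iso (isPullback_epsMap (h k) (h' l)).isoPullback (isQC_eps hC _)

/-- The associated sheaf of a representable is coherent. -/
lemma isCoherent_eps [HasPullbacks C] (hC : ∀ X : C, ToposFin.IsQCSite J X) (X : C) :
    ToposFin.IsCoherent (ToposFin.eps J X) := by
  refine ⟨isQC_eps hC X, isQS_of_gen gen_eps ?_⟩
  rintro K L a b ⟨U, rfl⟩ ⟨V, rfl⟩
  exact isQC_pullback_eps hC a b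


/-- A morphism between associated sheaves of representables is quasi-compact. -/
lemma isQCHom_eps [HasPullbacks C] (hC : ∀ X : C, ToposFin.IsQCSite J X) {U X : C}
    (a : ToposFin.eps J U ⟶ ToposFin.eps J X) : ToposFin.IsQCHom a :=
  IsQCHom.of_isQC_of_isQS a (isQC_eps hC U) (isCoherent_eps hC X).2

/-- Fibre products of associated sheaves of representables are quasi-separated. -/
lemma isQS_pullback_eps [HasPullbacks C] (hC : ∀ X : C, ToposFin.IsQCSite J X) {U V X : C}
    (a : ToposFin.eps J U ⟶ ToposFin.eps J X) (b : ToposFin.eps J V ⟶ ToposFin.eps J X) :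
    ToposFin.IsQS (pullback a b) := by
  obtain ⟨n, W, g, h, hg, hh⟩ := exists_finite_cover_epsMap hC a
  obtain ⟨n', W', g', h', hg', hh'⟩ := exists_finite_cover_epsMap hC b
  refine isQS_of_cover _ (hg.pullback_map hg' a b) (fun x => ?_) (fun x => ?_)
  · refine IsQS.of_iso (pullback.congrHom (hh x.1) (hh' x.2)).symm ?_
    exact IsQS.of_iso (isPullback_epsMap (h x.1) (h' x.2)).isoPullback (isCoherent_eps hC _).2
  · exact (qcHom (J := J)).pullbackMap (isQCHom_eps hC _) (isQCHom_eps hC _) rfl rfl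

lemma gen_isQC_of_site (hC : ∀ X : C, ToposFin.IsQCSite J X) : Gen (J := J) ToposFin.IsQC :=
  gen_eps.mono (fun Z hZ => by obtain ⟨U, rfl⟩ := hZ; exact isQC_eps hC U)

/-- Any morphism from a quasi-separated object to the associated sheaf of a representable is
quasi-separated. -/
lemma isQSHom_to_eps [HasPullbacks C] (hC : ∀ X : C, ToposFin.IsQCSite J X) {G : ToposFin.Sh J}
    {X : C} (g : G ⟶ ToposFin.eps J X) (hG : ToposFin.IsQS G) : ToposFin.IsQSHom g := by
  obtain ⟨ι, F, π, hF, hπ⟩ := gen_eps (J := J) G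
  refine isQSHom_of_cover_source (gen_isQC_of_site hC) g π hπ (fun i j => ?_)
  have key : ∀ (A B : ToposFin.Sh J) (hA : ∃ U, A = ToposFin.eps J U)
      (hB : ∃ U, B = ToposFin.eps J U) (a : A ⟶ G) (b : B ⟶ G),
      ToposFin.IsQCHom (pullback.map a b (a ≫ g) (b ≫ g) (𝟙 _) (𝟙 _) g
        (Category.id_comp _).symm (Category.id_comp _).symm) := by
    rintro A B ⟨U, rfl⟩ ⟨V, rfl⟩ a b
    exact IsQCHom.of_isQC_of_isQS _ (hG _ _ a b (isQC_eps hC U) (isQC_eps hC V))
      (isQS_pullback_eps hC _ _)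
  exact key _ _ (hF i) (hF j) _ _

/-- Fibre products of quasi-separated objects over the associated sheaf of a representable are
quasi-separated. -/
lemma isQS_pullback_over_eps [HasPullbacks C] (hC : ∀ X : C, ToposFin.IsQCSite J X)
    {G H : ToposFin.Sh J} {X : C} (g : G ⟶ ToposFin.eps J X) (h : H ⟶ ToposFin.eps J X)
    (hG : ToposFin.IsQS G) (hH : ToposFin.IsQS H) : ToposFin.IsQS (pullback g h) :=
  isQS_of_isQSHom (pullback.snd g h)
    (IsQSHom.of_isPullback (IsPullback.of_hasPullback g h) (isQSHom_to_eps hC g hG)) hH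

set_option backward.isDefEq.respectTransparency false in
lemma mono_pullback_mapDesc {A B X Y : ToposFin.Sh J} (a : A ⟶ X) (b : B ⟶ X) (w : X ⟶ Y) :
    Mono (pullback.map a b (a ≫ w) (b ≫ w) (𝟙 _) (𝟙 _) w
      (Category.id_comp _).symm (Category.id_comp _).symm) := by
  constructor
  intro P y z hyz
  apply pullback.hom_ext
  · have := congrArg (fun m => m ≫ pullback.fst (a ≫ w) (b ≫ w)) hyz
    simpa using this
  · have := congrArg (fun m => m ≫ pullback.snd (a ≫ w) (b ≫ w)) hyz
    simpa using this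

end Groth.Agent.H2.TF
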