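import Groth.Agent.Lib.Helper2.ToposFinSite2
import Mathlib.CategoryTheory.Sites.Pullback

set_option autoImplicit false
universe u w w'
open CategoryTheory CategoryTheory.Limits Opposite

namespace Groth.Agent.H2.TF

variable {C : Type u} [SmallCategory C] {J : GrothendieckTopology C}

variable {D : Type u} [SmallCategory D] {K : GrothendieckTopology D}

/-- Sections of the direct image. -/
def pushEquiv (G : C ⥤ D) [Functor.IsContinuous G J K] (U : C) (Z : ToposFin.Sh K) :
    ((G.sheafPushforwardContinuous (Type u) J K).obj Z).obj.obj (op U) ≃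
      Z.obj.obj (op (G.obj U)) := Equiv.refl _

lemma pushEquiv_map (G : C ⥤ D) [Functor.IsContinuous G J K] (U : C) {Z Z' : ToposFin.Sh K}
    (g : Z ⟶ Z') (x : ((G.sheafPushforwardContinuous (Type u) J K).obj Z).obj.obj (op U)) :
    pushEquiv G U Z' (((G.sheafPushforwardContinuous (Type u) J K).map g).hom.app (op U) x) =
      g.hom.app (op (G.obj U)) (pushEquiv G U Z x) := rfl

/-- Morphisms out of the inverse image of `eps U` are sections over `G U`. -/
noncomputable def pullbackEpsHomEquiv (G : C ⥤ D) [Functor.IsContinuous G J K] (U : C)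
    (Z : ToposFin.Sh K) :
    ((G.sheafPullback (Type u) J K).obj (ToposFin.eps J U) ⟶ Z) ≃
      (ToposFin.eps K (G.obj U) ⟶ Z) :=
  ((G.sheafAdjunctionContinuous (Type u) J K).homEquiv _ Z).trans
    ((secEquiv ((G.sheafPushforwardContinuous (Type u) J K).obj Z) U).trans
      ((pushEquiv G U Z).trans (secEquiv Z (G.obj U)).symm))

lemma pullbackEpsHomEquiv_comp (G : C ⥤ D) [Functor.IsContinuous G J K] (U : C)
    {Z Z' : ToposFin.Sh K}
    (m : (G.sheafPullback (Type u) J K).obj (ToposFin.eps J U) ⟶ Z) (g : Z ⟶ Z') :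
    pullbackEpsHomEquiv G U Z' (m ≫ g) = pullbackEpsHomEquiv G U Z m ≫ g := by
  simp only [pullbackEpsHomEquiv, Equiv.trans_apply, Adjunction.homEquiv_naturality_right]
  rw [secEquiv_symm_comp, secEquiv_comp, pushEquiv_map]

/-- The inverse image of `eps U` is `eps (G U)`. -/
noncomputable def pullbackEpsIso (G : C ⥤ D) [Functor.IsContinuous G J K] (U : C) :
    (G.sheafPullback (Type u) J K).obj (ToposFin.eps J U) ≅ ToposFin.eps K (G.obj U) :=
  Coyoneda.ext _ _ (fun {Z} => pullbackEpsHomEquiv G U Z)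
    (fun {Z} => (pullbackEpsHomEquiv G U Z).symm)
    (fun f => Equiv.symm_apply_apply _ f) (fun f => Equiv.apply_symm_apply _ f)
    (fun {Z Z'} f g => by
      apply (pullbackEpsHomEquiv G U Z').injective
      rw [Equiv.apply_symm_apply, pullbackEpsHomEquiv_comp, Equiv.apply_symm_apply])

/-- A morphism of sites between sites with quasi-compact objects and fibre products induces a
coherent morphism of topoi. -/
lemma sheafPullback_coherent [HasPullbacks C] [HasPullbacks D]
    (hC : ∀ X : C, ToposFin.IsQCSite J X) (hD : ∀ Y : D, ToposFin.IsQCSite K Y)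
    (G : C ⥤ D) [Functor.IsContinuous G J K]
    [PreservesFiniteLimits (G.sheafPullback (Type u) J K)] :
    (∀ X : ToposFin.Sh J, ToposFin.IsQC X →
      ToposFin.IsQC ((G.sheafPullback (Type u) J K).obj X)) ∧
    (∀ X : ToposFin.Sh J, ToposFin.IsQS X →
      ToposFin.IsQS ((G.sheafPullback (Type u) J K).obj X)) := by
  have adj := G.sheafAdjunctionContinuous (Type u) J K
  have hcoh : ∀ Z : ToposFin.Sh J, (∃ U, Z = ToposFin.eps J U) →
      ToposFin.IsCoherent ((G.sheafPullback (Type u) J K).obj Z) := by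
    rintro Z ⟨U, rfl⟩
    have h := isCoherent_eps hD (G.obj U)
    exact ⟨IsQC.of_iso (pullbackEpsIso G U).symm h.1, IsQS.of_iso (pullbackEpsIso G U).symm h.2⟩
  have hFqc : ∀ X : ToposFin.Sh J, ToposFin.IsQC X →
      ToposFin.IsQC ((G.sheafPullback (Type u) J K).obj X) :=
    fun X hX => map_isQC adj gen_eps (fun Z hZ => (hcoh Z hZ).1) hX
  refine ⟨hFqc, fun X hX => ?_⟩
  obtain ⟨ι, Q, g, hQ, hg⟩ := gen_eps (J := J) X
  refine map_isQS adj (gen_isQC_of_site hD) hFqc hX g hg (fun i => ?_) (fun i => (hcoh _ (hQ i)).2)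
  obtain ⟨U, hU⟩ := hQ i
  rw [hU]
  exact isQC_eps hC U

end Groth.Agent.H2.TF
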