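import Mathlib
import Groth.Agent.Lib.Helper2.TorLin
import Groth.Agent.Lib.Helper2.TorBalNatMod

/-! Uniform Artin–Rees for `Tor`, part 1: vanishing of `Tor_i(X, f)` read on lifts of `f` to
projective resolutions, and the dimension shift in the first variable. -/

universe u

namespace Groth.Agent.H2.TorAR

open CategoryTheory CategoryTheory.Limits Category HomologicalComplex MonoidalCategory
open Groth.Agent.H2.TorBal

variable {R : Type u} [CommRing R]

/-- `Tor_i(X, f) = 0` iff the lift of `f` to resolutions induces zero on `H_i(X ⊗ -)`. -/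
theorem tor_map_eq_zero_iff (X : ModuleCat.{u} R) {N N' : ModuleCat.{u} R} (f : N ⟶ N')
    (Q : ProjectiveResolution N) (Q' : ProjectiveResolution N') (g : Q.complex ⟶ Q'.complex)
    (hg : g.f 0 ≫ Q'.π.f 0 = Q.π.f 0 ≫ f) (i : ℕ) :
    ((Tor (ModuleCat.{u} R) i).obj X).map f = 0 ↔
      homologyMap ((tensorCxMap g).app X) i = 0 := by
  have h1 := ProjectiveResolution.isoLeftDerivedObj_hom_naturality f Q Q' g hg (tensorLeft X) i
  have h1' : ((Tor (ModuleCat.{u} R) i).obj X).map f ≫ (torIsoTensorCx X Q' i).hom =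
      (torIsoTensorCx X Q i).hom ≫ homologyMap ((tensorCxMap g).app X) i := h1
  constructor
  · intro h
    rw [h, zero_comp] at h1'
    rw [← cancel_epi (torIsoTensorCx X Q i).hom, ← h1', comp_zero]
  · intro h
    rw [h, comp_zero] at h1'
    rw [← cancel_mono (torIsoTensorCx X Q' i).hom, h1', zero_comp]

/-- Complex-level dimension shift. -/
theorem homologyMap_shift {Q Q' Q'' : ChainComplex (ModuleCat.{u} R) ℕ}
    (hQ : ∀ j, Module.Flat R (Q.X j)) (hQ' : ∀ j, Module.Flat R (Q'.X j))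
    (hQ'' : ∀ j, Module.Flat R (Q''.X j))
    (g : Q ⟶ Q') (g' : Q' ⟶ Q'') (S : ShortComplex (ModuleCat.{u} R)) (hS : S.ShortExact) (i : ℕ)
    (h1 : homologyMap ((tensorCxMap g).app S.X₁) i = 0)
    (h2 : homologyMap ((tensorCxMap g').app S.X₂) (i + 1) = 0) :
    homologyMap ((tensorCxMap (g ≫ g')).app S.X₃) (i + 1) = 0 := by
  have e1 := tensorCx_shortExact Q hQ S hS
  have e2 := tensorCx_shortExact Q' hQ' S hS
  have e3 := tensorCx_shortExact Q'' hQ'' S hS
  have hij : (ComplexShape.down ℕ).Rel (i + 1) i := by simp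
  have hnat := HomologicalComplex.HomologySequence.δ_naturality
    (S.mapNatTrans (tensorCxMap g)) e1 e2 (i + 1) i hij
  have hcomp : (tensorCxMap (g ≫ g')).app S.X₃ =
      (tensorCxMap g).app S.X₃ ≫ (tensorCxMap g').app S.X₃ := by
    ext j : 1
    simp
  rw [hcomp, homologyMap_comp]
  -- the image of `H(X₃ ⊗ g)` lies in the image of `H(S.g ⊗ Q')`
  have hz : homologyMap ((tensorCxMap g).app S.X₃) (i + 1) ≫ e2.δ (i + 1) i hij = 0 := by
    have : homologyMap ((S.mapNatTrans (tensorCxMap g)).τ₃) (i + 1) ≫ e2.δ (i + 1) i hij = 0 := by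
      rw [← hnat]
      show _ ≫ homologyMap ((tensorCxMap g).app S.X₁) i = 0
      rw [h1, comp_zero]
    exact this
  have hex := e2.homology_exact₃ (i + 1) i hij
  -- lift through `H(S.g ⊗ Q')`
  have hexact := hex.exact_up_to_refinements
    (homologyMap ((tensorCxMap g).app S.X₃) (i + 1)) hz
  obtain ⟨A', π, hπ, x₁, hx₁⟩ := hexact
  let x₁' : A' ⟶ homology ((tensorCx Q').obj S.X₂) (i + 1) := x₁
  have hx₁' : π ≫ homologyMap ((tensorCxMap g).app S.X₃) (i + 1) =
      x₁' ≫ homologyMap ((tensorCx Q').map S.g) (i + 1) := hx₁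
  rw [← cancel_epi π, comp_zero, ← assoc, hx₁', assoc]
  have hn : homologyMap ((tensorCx Q').map S.g) (i + 1) ≫
      homologyMap ((tensorCxMap g').app S.X₃) (i + 1) =
      homologyMap ((tensorCxMap g').app S.X₂) (i + 1) ≫
        homologyMap ((tensorCx Q'').map S.g) (i + 1) := by
    rw [← homologyMap_comp, ← homologyMap_comp]
    congr 1
    exact (tensorCxMap g').naturality S.g
  rw [hn, h2, zero_comp, comp_zero]

/-- Dimension shift for `Tor` in the first variable. -/
theorem tor_shift (S : ShortComplex (ModuleCat.{u} R)) (hS : S.ShortExact)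
    {N N' N'' : ModuleCat.{u} R} (f : N ⟶ N') (f' : N' ⟶ N'') (i : ℕ)
    (h1 : ((Tor (ModuleCat.{u} R) i).obj S.X₁).map f = 0)
    (h2 : ((Tor (ModuleCat.{u} R) (i + 1)).obj S.X₂).map f' = 0) :
    ((Tor (ModuleCat.{u} R) (i + 1)).obj S.X₃).map (f ≫ f') = 0 := by
  let Q := projectiveResolution N
  let Q' := projectiveResolution N'
  let Q'' := projectiveResolution N''
  obtain ⟨g, hg⟩ : ∃ g : Q.complex ⟶ Q'.complex, g.f 0 ≫ Q'.π.f 0 = Q.π.f 0 ≫ f :=
    ⟨_, ProjectiveResolution.lift_commutes_zero f Q Q'⟩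
  obtain ⟨g', hg'⟩ : ∃ g' : Q'.complex ⟶ Q''.complex, g'.f 0 ≫ Q''.π.f 0 = Q'.π.f 0 ≫ f' :=
    ⟨_, ProjectiveResolution.lift_commutes_zero f' Q' Q''⟩
  have hgg : (g ≫ g').f 0 ≫ Q''.π.f 0 = Q.π.f 0 ≫ (f ≫ f') := by
    rw [HomologicalComplex.comp_f, assoc, hg']
    exact (reassoc_of% hg) f'
  rw [tor_map_eq_zero_iff S.X₃ (f ≫ f') Q Q'' (g ≫ g') hgg]
  refine homologyMap_shift
    (fun j => haveI := Q.projective j; flat_of_projective _)
    (fun j => haveI := Q'.projective j; flat_of_projective _)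
    (fun j => haveI := Q''.projective j; flat_of_projective _) g g' S hS i ?_ ?_
  · exact (tor_map_eq_zero_iff S.X₁ f Q Q' g hg i).1 h1
  · exact (tor_map_eq_zero_iff S.X₂ f' Q' Q'' g' hg' (i + 1)).1 h2

end Groth.Agent.H2.TorAR
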