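import Mathlib
import Groth.Agent.Lib.Helper2.TorAR1

/-! Uniform Artin–Rees for `Tor`, part 2: vanishing of `Tor_i(X, f)` passes to `Tor_i(G ⊗ X, f)`
for flat `G`. -/

universe u

namespace Groth.Agent.H2.TorAR

open CategoryTheory CategoryTheory.Limits Category HomologicalComplex MonoidalCategory
open Groth.Agent.H2.TorBal

variable {R : Type u} [CommRing R]

/-- `(G ⊗ X) ⊗ Q ≅ G ⊗ (X ⊗ Q)` for a complex `Q`. -/
noncomputable def tensorCxAssoc (G X : ModuleCat.{u} R) (Q : ChainComplex (ModuleCat.{u} R) ℕ) :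
    (tensorCx Q).obj (G ⊗ X) ≅
      ((tensorLeft G).mapHomologicalComplex (ComplexShape.down ℕ)).obj ((tensorCx Q).obj X) :=
  HomologicalComplex.Hom.isoOfComponents (fun j => α_ G X (Q.X j)) (fun i j _ =>
    (associator_naturality_right G X (Q.d i j)).symm)

@[simp]
lemma tensorCxAssoc_hom_f (G X : ModuleCat.{u} R) (Q : ChainComplex (ModuleCat.{u} R) ℕ) (j : ℕ) :
    (tensorCxAssoc G X Q).hom.f j = (α_ G X (Q.X j)).hom := rfl

lemma tensorCxAssoc_naturality (G X : ModuleCat.{u} R) {Q Q' : ChainComplex (ModuleCat.{u} R) ℕ}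
    (g : Q ⟶ Q') :
    (tensorCxMap g).app (G ⊗ X) ≫ (tensorCxAssoc G X Q').hom =
      (tensorCxAssoc G X Q).hom ≫
        ((tensorLeft G).mapHomologicalComplex (ComplexShape.down ℕ)).map
          ((tensorCxMap g).app X) := by
  ext j : 1
  exact associator_naturality_right G X (g.f j)

theorem homologyMap_tensor_eq_zero (G X : ModuleCat.{u} R) [Module.Flat R G]
    {Q Q' : ChainComplex (ModuleCat.{u} R) ℕ} (g : Q ⟶ Q') (i : ℕ)
    (h : homologyMap ((tensorCxMap g).app X) i = 0) :
    homologyMap ((tensorCxMap g).app (G ⊗ X)) i = 0 := by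
  haveI : (tensorLeft G).PreservesHomology := {}
  have h1 : homologyMap (((tensorLeft G).mapHomologicalComplex (ComplexShape.down ℕ)).map
      ((tensorCxMap g).app X)) i = 0 := by
    have hn := ShortComplex.mapHomologyIso_hom_naturality
      ((shortComplexFunctor _ _ i).map ((tensorCxMap g).app X)) (tensorLeft G)
    have h' : ShortComplex.homologyMap
        ((shortComplexFunctor _ _ i).map ((tensorCxMap g).app X)) = 0 := h
    rw [h', Functor.map_zero, comp_zero] at hn
    have hn' := (cancel_mono _).1 (hn.trans zero_comp.symm)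
    exact hn'
  have h2 := congrArg (fun φ => homologyMap φ i) (tensorCxAssoc_naturality G X g)
  simp only [homologyMap_comp] at h2
  rw [h1, comp_zero] at h2
  have hiso : IsIso (homologyMap (tensorCxAssoc G X Q').hom i) :=
    ((homologyFunctor _ _ i).mapIso (tensorCxAssoc G X Q')).isIso_hom
  exact (cancel_mono _).1 (h2.trans zero_comp.symm)

/-- Vanishing of `Tor_i(X, f)` passes to `Tor_i(G ⊗ X, f)` for flat `G`. -/
theorem tor_map_tensor_eq_zero (G X : ModuleCat.{u} R) [Module.Flat R G]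
    {N N' : ModuleCat.{u} R} (f : N ⟶ N') (i : ℕ)
    (h : ((Tor (ModuleCat.{u} R) i).obj X).map f = 0) :
    ((Tor (ModuleCat.{u} R) i).obj (G ⊗ X)).map f = 0 := by
  obtain ⟨g, hg⟩ : ∃ g : (projectiveResolution N).complex ⟶ (projectiveResolution N').complex,
      g.f 0 ≫ (projectiveResolution N').π.f 0 = (projectiveResolution N).π.f 0 ≫ f :=
    ⟨_, ProjectiveResolution.lift_commutes_zero f _ _⟩
  rw [tor_map_eq_zero_iff _ f _ _ g hg] at h ⊢
  exact homologyMap_tensor_eq_zero G X g i h

/-- Vanishing of `Tor_i(X, f)` transports along isomorphisms of the first variable. -/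
theorem tor_map_eq_zero_of_iso {X Y : ModuleCat.{u} R} (e : X ≅ Y)
    {N N' : ModuleCat.{u} R} (f : N ⟶ N') (i : ℕ)
    (h : ((Tor (ModuleCat.{u} R) i).obj X).map f = 0) :
    ((Tor (ModuleCat.{u} R) i).obj Y).map f = 0 := by
  have hn := ((Tor (ModuleCat.{u} R) i).map e.hom).naturality f
  rw [h, zero_comp] at hn
  have : IsIso (((Tor (ModuleCat.{u} R) i).map e.hom).app N) :=
    (((Tor (ModuleCat.{u} R) i).mapIso e).app N).isIso_hom
  exact (cancel_epi _).1 (hn.symm.trans comp_zero.symm)

end Groth.Agent.H2.TorAR
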