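import Mathlib

/-! Uniform Artin–Rees for `Tor`, part 3: the elementwise Artin–Rees argument. -/

universe u

namespace Groth.Agent.H2.TorAR

open TensorProduct

variable {R : Type u} [CommRing R]

lemma exists_tmul_one {B : Type*} [AddCommGroup B] [Module R B] (J : Ideal R)
    (z : B ⊗[R] (R ⧸ J)) : ∃ b : B, z = b ⊗ₜ[R] (1 : R ⧸ J) := by
  obtain ⟨b, hb⟩ := Submodule.Quotient.mk_surjective _ (tensorQuotEquivQuotSMul B J z)
  refine ⟨b, ?_⟩
  apply (tensorQuotEquivQuotSMul B J).injective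
  have h1 := tensorQuotEquivQuotSMul_tmul_mk J b (1 : R)
  rw [one_smul] at h1
  rw [← hb]
  exact h1.symm

lemma tmul_one_eq_zero_iff {B : Type*} [AddCommGroup B] [Module R B] (J : Ideal R) (b : B) :
    b ⊗ₜ[R] (1 : R ⧸ J) = 0 ↔ b ∈ J • (⊤ : Submodule R B) := by
  have h1 := tensorQuotEquivQuotSMul_tmul_mk J b (1 : R)
  rw [one_smul] at h1
  constructor
  · intro h
    have h1' : tensorQuotEquivQuotSMul B J (b ⊗ₜ[R] (1 : R ⧸ J)) = Submodule.Quotient.mk b := h1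
    rw [h, map_zero] at h1'
    exact (Submodule.Quotient.mk_eq_zero _).1 h1'.symm
  · intro h
    apply (tensorQuotEquivQuotSMul B J).injective
    rw [map_zero]
    exact h1.trans ((Submodule.Quotient.mk_eq_zero _).2 h)

/-- The elementwise Artin–Rees argument: cycles of `B ⊗ R/Iⁿ` become boundaries in
`B ⊗ R/I^{n-k}`. -/
theorem exists_ar [IsNoetherianRing R] (I : Ideal R) {A B C : Type*}
    [AddCommGroup A] [Module R A] [AddCommGroup B] [Module R B] [AddCommGroup C] [Module R C]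
    [Module.Finite R C] (d₂ : A →ₗ[R] B) (d₁ : B →ₗ[R] C) (hex : Function.Exact d₂ d₁) :
    ∃ k : ℕ, ∀ n : ℕ, k ≤ n → ∀ z : B ⊗[R] (R ⧸ I ^ n),
      LinearMap.rTensor (R ⧸ I ^ n) d₁ z = 0 →
      ∃ y : A ⊗[R] (R ⧸ I ^ (n - k)), LinearMap.rTensor (R ⧸ I ^ (n - k)) d₂ y =
        LinearMap.lTensor B (Submodule.mapQ (I ^ n) (I ^ (n - k)) LinearMap.id
          (Ideal.pow_le_pow_right (Nat.sub_le n k))) z := by
  obtain ⟨k, hk⟩ := Ideal.exists_pow_inf_eq_pow_smul I (LinearMap.range d₁)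
  refine ⟨k, fun n hn z hz => ?_⟩
  obtain ⟨b, rfl⟩ := exists_tmul_one (I ^ n) z
  rw [LinearMap.rTensor_tmul, tmul_one_eq_zero_iff] at hz
  have h1 : d₁ b ∈ I ^ n • (⊤ : Submodule R C) ⊓ LinearMap.range d₁ := ⟨hz, ⟨b, rfl⟩⟩
  rw [hk n hn] at h1
  have h2 : d₁ b ∈ I ^ (n - k) • LinearMap.range d₁ :=
    Submodule.smul_mono le_rfl inf_le_right h1
  rw [LinearMap.range_eq_map, ← Submodule.map_smul''] at h2
  obtain ⟨w, hw, hwb⟩ := h2
  have h3 : b - w ∈ LinearMap.ker d₁ := by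
    rw [LinearMap.mem_ker, map_sub, hwb, sub_self]
  rw [hex.linearMap_ker_eq] at h3
  obtain ⟨a, ha⟩ := h3
  refine ⟨a ⊗ₜ[R] 1, ?_⟩
  rw [LinearMap.rTensor_tmul, LinearMap.lTensor_tmul, ha, sub_tmul,
    (tmul_one_eq_zero_iff (I ^ (n - k)) w).2 hw, sub_zero]
  congr 1

end Groth.Agent.H2.TorAR
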