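import Groth.Agent.Lib.Helper2.TorBalGen
import Mathlib.Algebra.Homology.HomologySequenceLemmas

/-! Abstract balancing as a definite isomorphism, and its naturality in the pair `(Φ, G)`. -/

universe v u v' u'

namespace Groth.Agent.H2.TorBal

open CategoryTheory CategoryTheory.Limits Category HomologicalComplex

variable {C : Type u} [Category.{v} C] [Abelian C] {D : Type u'} [Category.{v'} D] [Abelian D]

/-- Kernels of isomorphic arrows are isomorphic (as a definition). -/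
noncomputable def isoOfIsLimitKernelFork {A A' B B' E E' : D} {i : A ⟶ B} {f : B ⟶ B'}
    (w : i ≫ f = 0) (hA : IsLimit (KernelFork.ofι i w)) {i' : A' ⟶ E} {f' : E ⟶ E'}
    (w' : i' ≫ f' = 0) (hA' : IsLimit (KernelFork.ofι i' w')) (p : B ≅ E) (q : B' ≅ E')
    (comm : f ≫ q.hom = p.hom ≫ f') : A ≅ A' :=
  (IsLimit.conePointUniqueUpToIso hA (kernelIsKernel f)) ≪≫ kernel.mapIso f f' p q comm ≪≫
    (IsLimit.conePointUniqueUpToIso hA' (kernelIsKernel f')).symm

@[reassoc]
lemma isoOfIsLimitKernelFork_hom_comp {A A' B B' E E' : D} {i : A ⟶ B} {f : B ⟶ B'}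
    (w : i ≫ f = 0) (hA : IsLimit (KernelFork.ofι i w)) {i' : A' ⟶ E} {f' : E ⟶ E'}
    (w' : i' ≫ f' = 0) (hA' : IsLimit (KernelFork.ofι i' w')) (p : B ≅ E) (q : B' ≅ E')
    (comm : f ≫ q.hom = p.hom ≫ f') :
    (isoOfIsLimitKernelFork w hA w' hA' p q comm).hom ≫ i' = i ≫ p.hom := by
  have h1 : (IsLimit.conePointUniqueUpToIso hA' (kernelIsKernel f')).inv ≫ i' = kernel.ι f' :=
    IsLimit.conePointUniqueUpToIso_inv_comp hA' (kernelIsKernel f') WalkingParallelPair.zero
  have h2 : (IsLimit.conePointUniqueUpToIso hA (kernelIsKernel f)).hom ≫ kernel.ι f = i :=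
    IsLimit.conePointUniqueUpToIso_hom_comp hA (kernelIsKernel f) WalkingParallelPair.zero
  simp only [isoOfIsLimitKernelFork, Iso.trans_hom, Iso.symm_hom, assoc, h1, kernel.mapIso_hom,
    kernel.lift_ι]
  rw [← assoc, h2]

section Sc'

variable {ι : Type*} {c : ComplexShape ι} {K K' : HomologicalComplex D c} (ψ : K ⟶ K')
  (i j k : ι) (hi : c.prev j = i) (hk : c.next j = k)

lemma homologyIsoSc'_hom_naturality :
    homologyMap ψ j ≫ (K'.homologyIsoSc' i j k hi hk).hom =
      (K.homologyIsoSc' i j k hi hk).hom ≫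
        ShortComplex.homologyMap ((shortComplexFunctor' D c i j k).map ψ) := by
  have h := (natIsoSc' D c i j k hi hk).hom.naturality ψ
  show ShortComplex.homologyMap ((shortComplexFunctor D c j).map ψ) ≫
    ShortComplex.homologyMap (K'.isoSc' i j k hi hk).hom =
    ShortComplex.homologyMap (K.isoSc' i j k hi hk).hom ≫
      ShortComplex.homologyMap ((shortComplexFunctor' D c i j k).map ψ)
  rw [← ShortComplex.homologyMap_comp, ← ShortComplex.homologyMap_comp]
  have e1 : (K.isoSc' i j k hi hk).hom = (natIsoSc' D c i j k hi hk).hom.app K := rfl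
  have e2 : (K'.isoSc' i j k hi hk).hom = (natIsoSc' D c i j k hi hk).hom.app K' := rfl
  rw [e1, e2, h]

lemma homologyIsoSc'_inv_naturality :
    ShortComplex.homologyMap ((shortComplexFunctor' D c i j k).map ψ) ≫
      (K'.homologyIsoSc' i j k hi hk).inv =
      (K.homologyIsoSc' i j k hi hk).inv ≫ homologyMap ψ j := by
  rw [Iso.comp_inv_eq, assoc, Iso.eq_inv_comp, homologyIsoSc'_hom_naturality]

end Sc'

omit [Abelian D] in
lemma comp_iso_aux {X X' Y Y' Z Z' : D} (a : X ⟶ X') (f : X ≅ Y) (f' : X' ≅ Y') (b : Y ⟶ Y')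
    (g : Z ≅ Y) (g' : Z' ≅ Y') (c : Z ⟶ Z') (h1 : a ≫ f'.hom = f.hom ≫ b)
    (h2 : b ≫ g'.inv = g.inv ≫ c) : a ≫ (f' ≪≫ g'.symm).hom = (f ≪≫ g.symm).hom ≫ c := by
  simp only [Iso.trans_hom, Iso.symm_hom, assoc]
  rw [← h2, ← assoc, h1, assoc]

omit [Abelian D] in
lemma sq_comp₂ {X X' Y Y' Z Z' : D} {α : X ⟶ X'} {f₁ : X ⟶ Y} {f₁' : X' ⟶ Y'} {β : Y ⟶ Y'}
    {f₂ : Y ⟶ Z} {f₂' : Y' ⟶ Z'} {γ : Z ⟶ Z'} (h1 : α ≫ f₁' = f₁ ≫ β)
    (h2 : β ≫ f₂' = f₂ ≫ γ) : α ≫ f₁' ≫ f₂' = (f₁ ≫ f₂) ≫ γ := by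
  rw [← assoc, h1, assoc, h2, assoc]

omit [Abelian D] in
lemma sq_comp₃ {X X' Y Y' Z Z' W W' : D} {α : X ⟶ X'} {f₁ : X ⟶ Y} {f₁' : X' ⟶ Y'}
    {β : Y ⟶ Y'} {f₂ : Y ⟶ Z} {f₂' : Y' ⟶ Z'} {γ : Z ⟶ Z'} {f₃ : Z ⟶ W} {f₃' : Z' ⟶ W'}
    {δ : W ⟶ W'} (h1 : α ≫ f₁' = f₁ ≫ β) (h2 : β ≫ f₂' = f₂ ≫ γ) (h3 : γ ≫ f₃' = f₃ ≫ δ) :
    α ≫ f₁' ≫ f₂' ≫ f₃' = (f₁ ≫ f₂ ≫ f₃) ≫ δ := by
  rw [← assoc, h1, assoc, ← assoc β, h2, assoc, h3, assoc, assoc]

omit [Abelian D] in
lemma sq_of_mono {A A' B B' E E' H H' : D} {α : A ⟶ A'} {u : A ⟶ H} {u' : A' ⟶ H'}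
    {η : H ⟶ H'} {i : H ⟶ E} {i' : H' ⟶ E'} [Mono i'] {γ : E ⟶ E'} {d : A ⟶ B} {d' : A' ⟶ B'}
    {β : B ⟶ B'} {p : B ⟶ E} {p' : B' ⟶ E'} (h1 : u' ≫ i' = d' ≫ p') (h2 : u ≫ i = d ≫ p)
    (h3 : α ≫ d' = d ≫ β) (h4 : β ≫ p' = p ≫ γ) (h5 : η ≫ i' = i ≫ γ) : α ≫ u' = u ≫ η := by
  rw [← cancel_mono i', assoc, assoc, h1, h5, ← assoc, ← assoc, h2, h3, assoc, assoc, h4]

section TruncNat

variable {L L' : ChainComplex D ℕ} (φ : L ⟶ L')

lemma truncOpcyclesIso_hom_naturality :
    opcyclesMap φ 1 ≫ (truncOpcyclesIso L').hom =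
      (truncOpcyclesIso L).hom ≫ opcyclesMap (ChainComplex.truncate.map φ) 0 := by
  rw [← cancel_epi (L.pOpcycles 1), p_opcyclesMap_assoc, p_truncOpcyclesIso_hom,
    p_truncOpcyclesIso_hom_assoc]
  exact (p_opcyclesMap (ChainComplex.truncate.map φ) 0).symm

lemma truncOpcyclesIso_inv_naturality :
    opcyclesMap (ChainComplex.truncate.map φ) 0 ≫ (truncOpcyclesIso L').inv =
      (truncOpcyclesIso L).inv ≫ opcyclesMap φ 1 := by
  rw [Iso.comp_inv_eq, assoc, Iso.eq_inv_comp, truncOpcyclesIso_hom_naturality]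

lemma truncHomologyIso_hom_naturality (n : ℕ) :
    homologyMap (ChainComplex.truncate.map φ) (n + 1) ≫ (truncHomologyIso L' n).hom =
      (truncHomologyIso L n).hom ≫ homologyMap φ (n + 2) := by
  have h1 := homologyIsoSc'_hom_naturality (ChainComplex.truncate.map φ) (n + 2) (n + 1) n
    (by simp only [ChainComplex.prev]; rfl) (by simp)
  have h2 := homologyIsoSc'_inv_naturality φ (n + 3) (n + 2) (n + 1)
    (by simp only [ChainComplex.prev]; rfl) (by simp)
  exact comp_iso_aux _ _ _ _ _ _ _ h1 h2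

end TruncNat

section IsoDef

variable {Φ : C ⥤ ChainComplex D ℕ} [Φ.PreservesZeroMorphisms] {G : C ⥤ D}
  (h : DeltaData Φ G) [G.Additive] [PreservesFiniteColimits G] [HasProjectiveResolutions C]

set_option linter.unusedSectionVars false

/-- Degree `0` balancing iso. -/
noncomputable def DeltaData.iso₀ {M : C} (P : ProjectiveResolution M) :
    (Φ.obj M).homology 0 ≅ ((G.mapHomologicalComplex _).obj P.complex).homology 0 :=
  h.e.app M ≪≫ (asIso (P.fromLeftDerivedZero' G)).symm ≪≫ (ChainComplex.isoHomologyι₀ _).symm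

lemma DeltaData.iso₀_hom {M : C} (P : ProjectiveResolution M) :
    (h.iso₀ P).hom = h.e.hom.app M ≫ inv (P.fromLeftDerivedZero' G) ≫
      (ChainComplex.isoHomologyι₀ _).inv := rfl

/-- the iso `H₀(Φ K) ≅ coker (G P₂ ⟶ G P₁)`. -/
noncomputable def DeltaData.pIso {M : C} (P : ProjectiveResolution M) :
    (Φ.obj (syz P)).homology 0 ≅
      ((G.mapHomologicalComplex (ComplexShape.down ℕ)).obj P.complex).opcycles 1 :=
  h.e.app (syz P) ≪≫ (opcyclesSyzIso (G := G) P).symm ≪≫
    (truncOpcyclesIso ((G.mapHomologicalComplex (ComplexShape.down ℕ)).obj P.complex)).symm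

lemma DeltaData.pIso_comm {M : C} (P : ProjectiveResolution M) :
    homologyMap (Φ.map (syzι P)) 0 ≫ (h.e.app (P.complex.X 0)).hom =
      (h.pIso P).hom ≫
        ((G.mapHomologicalComplex (ComplexShape.down ℕ)).obj P.complex).fromOpcycles 1 0 := by
  let L := (G.mapHomologicalComplex (ComplexShape.down ℕ)).obj P.complex
  have hnat := h.e.hom.naturality (syzι P)
  have h1 := opcyclesSyzIso_hom_map (G := G) P
  have h2 := truncOpcyclesIso_hom_truncFromOpcycles L
  have h5 : (opcyclesSyzIso (G := G) P).inv ≫ (truncOpcyclesIso L).inv ≫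
      L.fromOpcycles 1 0 = G.map (syzι P) :=
    (Iso.inv_comp_eq _).2 ((Iso.inv_comp_eq _).2
      (h2.symm.trans (congrArg ((truncOpcyclesIso L).hom ≫ ·) h1.symm)))
  calc _ = h.e.hom.app (syz P) ≫ G.map (syzι P) := hnat
    _ = h.e.hom.app (syz P) ≫ ((opcyclesSyzIso (G := G) P).inv ≫
          (truncOpcyclesIso L).inv ≫ L.fromOpcycles 1 0) :=
        congrArg (h.e.hom.app (syz P) ≫ ·) h5.symm
    _ = _ := by
        simp only [DeltaData.pIso, Iso.trans_hom, Iso.app_hom, Iso.symm_hom]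
        exact ((assoc _ _ _).trans (congrArg (h.e.hom.app (syz P) ≫ ·) (assoc _ _ _))).symm

/-- Degree `1` balancing iso. -/
noncomputable def DeltaData.iso₁ {M : C} (P : ProjectiveResolution M) :
    (Φ.obj M).homology 1 ≅ ((G.mapHomologicalComplex _).obj P.complex).homology 1 :=
  haveI : Mono ((h.syz_shortExact P).δ 1 0 rfl) :=
    (h.syz_shortExact P).mono_δ 1 0 rfl (h.isZero_proj _ (P.projective 0) 0)
  isoOfIsLimitKernelFork _ ((h.syz_shortExact P).homology_exact₁ 1 0 rfl).fIsKernel _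
    (((G.mapHomologicalComplex (ComplexShape.down ℕ)).obj P.complex).homologyIsKernel 1 0 (by simp))
    (h.pIso P) (h.e.app (P.complex.X 0)) (h.pIso_comm P)

lemma DeltaData.iso₁_hom_comp {M : C} (P : ProjectiveResolution M) :
    (h.iso₁ P).hom ≫
        ((G.mapHomologicalComplex (ComplexShape.down ℕ)).obj P.complex).homologyι 1 =
      (h.syz_shortExact P).δ 1 0 rfl ≫ (h.pIso P).hom := by
  haveI : Mono ((h.syz_shortExact P).δ 1 0 rfl) :=
    (h.syz_shortExact P).mono_δ 1 0 rfl (h.isZero_proj _ (P.projective 0) 0)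
  exact isoOfIsLimitKernelFork_hom_comp _
    ((h.syz_shortExact P).homology_exact₁ 1 0 rfl).fIsKernel _
    (((G.mapHomologicalComplex (ComplexShape.down ℕ)).obj P.complex).homologyIsKernel 1 0
      (by simp))
    (h.pIso P) (h.e.app (P.complex.X 0)) (h.pIso_comm P)

/-- Abstract balancing, as a definite isomorphism. -/
noncomputable def DeltaData.iso : ∀ (n : ℕ) {M : C} (P : ProjectiveResolution M),
    (Φ.obj M).homology n ≅ ((G.mapHomologicalComplex (ComplexShape.down ℕ)).obj P.complex).homology n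
  | 0, _, P => h.iso₀ P
  | 1, _, P => h.iso₁ P
  | n + 2, _, P => h.shiftIso P n ≪≫ DeltaData.iso (n + 1) (syzRes P) ≪≫
      truncHomologyIso ((G.mapHomologicalComplex (ComplexShape.down ℕ)).obj P.complex) n

lemma DeltaData.iso_zero {M : C} (P : ProjectiveResolution M) : h.iso 0 P = h.iso₀ P := rfl

lemma DeltaData.iso_one {M : C} (P : ProjectiveResolution M) : h.iso 1 P = h.iso₁ P := rfl

lemma DeltaData.iso_add_two (n : ℕ) {M : C} (P : ProjectiveResolution M) :
    h.iso (n + 2) P = h.shiftIso P n ≪≫ h.iso (n + 1) (syzRes P) ≪≫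
      truncHomologyIso ((G.mapHomologicalComplex (ComplexShape.down ℕ)).obj P.complex) n := rfl

end IsoDef

section Nat

variable {Φ Φ' : C ⥤ ChainComplex D ℕ} [Φ.PreservesZeroMorphisms] [Φ'.PreservesZeroMorphisms]
  {G G' : C ⥤ D} (h : DeltaData Φ G) (h' : DeltaData Φ' G')
  [G.Additive] [G'.Additive] [PreservesFiniteColimits G] [PreservesFiniteColimits G']
  [HasProjectiveResolutions C] (a : Φ ⟶ Φ') (b : G ⟶ G')

set_option linter.unusedSectionVars false

/-- the map of complexes `G P ⟶ G' P` induced by `b`. -/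
noncomputable abbrev mapRes {M : C} (P : ProjectiveResolution M) :
    (G.mapHomologicalComplex (ComplexShape.down ℕ)).obj P.complex ⟶
      (G'.mapHomologicalComplex (ComplexShape.down ℕ)).obj P.complex :=
  (NatTrans.mapHomologicalComplex b (ComplexShape.down ℕ)).app P.complex

lemma fromLeftDerivedZero'_natTrans {M : C} (P : ProjectiveResolution M) :
    P.fromLeftDerivedZero' G ≫ b.app M =
      opcyclesMap (mapRes b P) 0 ≫ P.fromLeftDerivedZero' G' := by
  rw [← cancel_epi (HomologicalComplex.pOpcycles _ _),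
    ProjectiveResolution.pOpcycles_comp_fromLeftDerivedZero'_assoc,
    HomologicalComplex.p_opcyclesMap_assoc,
    ProjectiveResolution.pOpcycles_comp_fromLeftDerivedZero']
  exact b.naturality (P.π.f 0)

lemma inv_fromLeftDerivedZero'_natTrans {M : C} (P : ProjectiveResolution M) :
    b.app M ≫ inv (P.fromLeftDerivedZero' G') =
      inv (P.fromLeftDerivedZero' G) ≫ opcyclesMap (mapRes b P) 0 := by
  rw [IsIso.comp_inv_eq, assoc, IsIso.eq_inv_comp, fromLeftDerivedZero'_natTrans]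

variable (hab : ∀ X, homologyMap (a.app X) 0 ≫ h'.e.hom.app X = h.e.hom.app X ≫ b.app X)

include hab

lemma DeltaData.iso₀_naturality {M : C} (P : ProjectiveResolution M) :
    homologyMap (a.app M) 0 ≫ (h'.iso₀ P).hom =
      (h.iso₀ P).hom ≫ homologyMap (mapRes b P) 0 := by
  exact sq_comp₃ (hab M) (inv_fromLeftDerivedZero'_natTrans b P)
    (ChainComplex.isoHomologyι₀_inv_naturality (mapRes b P)).symm

lemma DeltaData.pIso_naturality {M : C} (P : ProjectiveResolution M) :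
    homologyMap (a.app (syz P)) 0 ≫ (h'.pIso P).hom =
      (h.pIso P).hom ≫ opcyclesMap (mapRes b P) 1 := by
  have h1 := hab (syz P)
  have h2 := inv_fromLeftDerivedZero'_natTrans b (syzRes P)
  have h3 := truncOpcyclesIso_inv_naturality (mapRes b P)
  exact sq_comp₃ h1 h2 h3

omit hab in
lemma DeltaData.δ_naturality {M : C} (P : ProjectiveResolution M) (i j : ℕ)
    (hij : (ComplexShape.down ℕ).Rel i j) :
    homologyMap (a.app M) i ≫ (h'.syz_shortExact P).δ i j hij =
      (h.syz_shortExact P).δ i j hij ≫ homologyMap (a.app (syz P)) j :=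
  (HomologicalComplex.HomologySequence.δ_naturality ((syzSC P).mapNatTrans a)
    (h.syz_shortExact P) (h'.syz_shortExact P) i j hij).symm

lemma DeltaData.iso₁_naturality {M : C} (P : ProjectiveResolution M) :
    homologyMap (a.app M) 1 ≫ (h'.iso₁ P).hom =
      (h.iso₁ P).hom ≫ homologyMap (mapRes b P) 1 := by
  have h1 := h'.iso₁_hom_comp P
  have h2 := h.iso₁_hom_comp P
  have h3 := DeltaData.δ_naturality h h' a P 1 0 rfl
  have h4 := DeltaData.pIso_naturality h h' a b hab P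
  have h5 := HomologicalComplex.homologyι_naturality (mapRes b P) 1
  exact sq_of_mono h1 h2 h3 h4 h5

lemma DeltaData.iso_naturality : ∀ (n : ℕ) {M : C} (P : ProjectiveResolution M),
    homologyMap (a.app M) n ≫ (h'.iso n P).hom =
      (h.iso n P).hom ≫ homologyMap (mapRes b P) n
  | 0, _, P => DeltaData.iso₀_naturality h h' a b hab P
  | 1, _, P => DeltaData.iso₁_naturality h h' a b hab P
  | n + 2, _, P => by
    have ih := DeltaData.iso_naturality (n + 1) (syzRes P)
    have h3 := DeltaData.δ_naturality h h' a P (n + 2) (n + 1) rfl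
    have h4 := truncHomologyIso_hom_naturality (mapRes b P) n
    exact sq_comp₃ h3 ih h4

end Nat

end Groth.Agent.H2.TorBal

namespace Groth.Agent.H2.TorBal

open CategoryTheory CategoryTheory.Limits Category HomologicalComplex

variable {C : Type u} [Category.{v} C] [Abelian C] {D : Type u'} [Category.{v'} D] [Abelian D]

section SyzMap

variable {M M' : C} (f : M ⟶ M') (P : ProjectiveResolution M) (P' : ProjectiveResolution M')
  (φ : P.complex ⟶ P'.complex) (comm : φ.f 0 ≫ P'.π.f 0 = P.π.f 0 ≫ f)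

/-- The map induced on first syzygies by a map of resolutions. -/
noncomputable def syzMap : syz P ⟶ syz P' :=
  kernel.map _ _ (φ.f 0) f comm.symm

@[reassoc (attr := simp)]
lemma syzMap_ι : syzMap f P P' φ comm ≫ syzι P' = syzι P ≫ φ.f 0 :=
  kernel.lift_ι _ _ _

@[reassoc]
lemma dSyz_syzMap : dSyz P ≫ syzMap f P P' φ comm = φ.f 1 ≫ dSyz P' := by
  rw [← cancel_mono (syzι P'), assoc, syzMap_ι, dSyz_ι_assoc, assoc, dSyz_ι, φ.comm]

/-- The map of short exact sequences `(K → P₀ → M) ⟶ (K' → P'₀ → M')`. -/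
noncomputable def syzSCMap : syzSC P ⟶ syzSC P' where
  τ₁ := syzMap f P P' φ comm
  τ₂ := φ.f 0
  τ₃ := f
  comm₁₂ := syzMap_ι f P P' φ comm
  comm₂₃ := comm

lemma syzRes_comm : (ChainComplex.truncate.map φ).f 0 ≫ (syzRes P').π.f 0 =
    (syzRes P).π.f 0 ≫ syzMap f P P' φ comm := by
  rw [syzRes_π_f_zero, syzRes_π_f_zero]
  exact (dSyz_syzMap f P P' φ comm).symm

end SyzMap

section Nat₂

variable {Φ : C ⥤ ChainComplex D ℕ} [Φ.PreservesZeroMorphisms] {G : C ⥤ D}
  (h : DeltaData Φ G) [G.Additive] [PreservesFiniteColimits G] [HasProjectiveResolutions C]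

set_option linter.unusedSectionVars false

lemma inv_fromLeftDerivedZero'_naturality {M M' : C} (f : M ⟶ M') (P : ProjectiveResolution M)
    (P' : ProjectiveResolution M') (φ : P.complex ⟶ P'.complex)
    (comm : φ.f 0 ≫ P'.π.f 0 = P.π.f 0 ≫ f) :
    G.map f ≫ inv (P'.fromLeftDerivedZero' G) =
      inv (P.fromLeftDerivedZero' G) ≫
        opcyclesMap ((G.mapHomologicalComplex (ComplexShape.down ℕ)).map φ) 0 := by
  rw [IsIso.comp_inv_eq, assoc, IsIso.eq_inv_comp,
    ProjectiveResolution.fromLeftDerivedZero'_naturality f P P' φ comm G]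

lemma DeltaData.iso₀_naturality₂ {M M' : C} (f : M ⟶ M') (P : ProjectiveResolution M)
    (P' : ProjectiveResolution M') (φ : P.complex ⟶ P'.complex)
    (comm : φ.f 0 ≫ P'.π.f 0 = P.π.f 0 ≫ f) :
    homologyMap (Φ.map f) 0 ≫ (h.iso₀ P').hom =
      (h.iso₀ P).hom ≫ homologyMap ((G.mapHomologicalComplex (ComplexShape.down ℕ)).map φ) 0 :=
  sq_comp₃ (h.e.hom.naturality f) (inv_fromLeftDerivedZero'_naturality f P P' φ comm)
    (ChainComplex.isoHomologyι₀_inv_naturality
      ((G.mapHomologicalComplex (ComplexShape.down ℕ)).map φ)).symm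

lemma DeltaData.pIso_naturality₂ {M M' : C} (f : M ⟶ M') (P : ProjectiveResolution M)
    (P' : ProjectiveResolution M') (φ : P.complex ⟶ P'.complex)
    (comm : φ.f 0 ≫ P'.π.f 0 = P.π.f 0 ≫ f) :
    homologyMap (Φ.map (syzMap f P P' φ comm)) 0 ≫ (h.pIso P').hom =
      (h.pIso P).hom ≫ opcyclesMap ((G.mapHomologicalComplex (ComplexShape.down ℕ)).map φ) 1 := by
  have h1 := h.e.hom.naturality (syzMap f P P' φ comm)
  have h2 := inv_fromLeftDerivedZero'_naturality (G := G) (syzMap f P P' φ comm) (syzRes P)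
    (syzRes P') (ChainComplex.truncate.map φ) (syzRes_comm f P P' φ comm)
  have h3 := truncOpcyclesIso_inv_naturality
    ((G.mapHomologicalComplex (ComplexShape.down ℕ)).map φ)
  exact sq_comp₃ h1 h2 h3

lemma DeltaData.δ_naturality₂ {M M' : C} (f : M ⟶ M') (P : ProjectiveResolution M)
    (P' : ProjectiveResolution M') (φ : P.complex ⟶ P'.complex)
    (comm : φ.f 0 ≫ P'.π.f 0 = P.π.f 0 ≫ f) (i j : ℕ)
    (hij : (ComplexShape.down ℕ).Rel i j) :
    homologyMap (Φ.map f) i ≫ (h.syz_shortExact P').δ i j hij =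
      (h.syz_shortExact P).δ i j hij ≫ homologyMap (Φ.map (syzMap f P P' φ comm)) j :=
  (HomologicalComplex.HomologySequence.δ_naturality
    (Φ.mapShortComplex.map (syzSCMap f P P' φ comm))
    (h.syz_shortExact P) (h.syz_shortExact P') i j hij).symm

lemma DeltaData.iso₁_naturality₂ {M M' : C} (f : M ⟶ M') (P : ProjectiveResolution M)
    (P' : ProjectiveResolution M') (φ : P.complex ⟶ P'.complex)
    (comm : φ.f 0 ≫ P'.π.f 0 = P.π.f 0 ≫ f) :
    homologyMap (Φ.map f) 1 ≫ (h.iso₁ P').hom =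
      (h.iso₁ P).hom ≫ homologyMap ((G.mapHomologicalComplex (ComplexShape.down ℕ)).map φ) 1 := by
  have h1 := h.iso₁_hom_comp P'
  have h2 := h.iso₁_hom_comp P
  have h3 := DeltaData.δ_naturality₂ h f P P' φ comm 1 0 rfl
  have h4 := DeltaData.pIso_naturality₂ h f P P' φ comm
  have h5 := HomologicalComplex.homologyι_naturality
    ((G.mapHomologicalComplex (ComplexShape.down ℕ)).map φ) 1
  exact sq_of_mono h1 h2 h3 h4 h5

/-- Naturality of the balancing isomorphism with respect to maps of resolutions. -/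
lemma DeltaData.iso_naturality₂ : ∀ (n : ℕ) {M M' : C} (f : M ⟶ M') (P : ProjectiveResolution M)
    (P' : ProjectiveResolution M') (φ : P.complex ⟶ P'.complex)
    (comm : φ.f 0 ≫ P'.π.f 0 = P.π.f 0 ≫ f),
    homologyMap (Φ.map f) n ≫ (h.iso n P').hom =
      (h.iso n P).hom ≫ homologyMap ((G.mapHomologicalComplex (ComplexShape.down ℕ)).map φ) n
  | 0, _, _, f, P, P', φ, comm => h.iso₀_naturality₂ f P P' φ comm
  | 1, _, _, f, P, P', φ, comm => h.iso₁_naturality₂ f P P' φ comm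
  | n + 2, _, _, f, P, P', φ, comm => by
    have ih := DeltaData.iso_naturality₂ (n + 1) (syzMap f P P' φ comm) (syzRes P) (syzRes P')
      (ChainComplex.truncate.map φ) (syzRes_comm f P P' φ comm)
    have h3 := DeltaData.δ_naturality₂ h f P P' φ comm (n + 2) (n + 1) rfl
    have h4 := truncHomologyIso_hom_naturality
      ((G.mapHomologicalComplex (ComplexShape.down ℕ)).map φ) n
    exact sq_comp₃ h3 ih h4

end Nat₂

end Groth.Agent.H2.TorBal
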