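import Mathlib
import Groth.Agent.Lib.Helper2.TorAR2
import Groth.Agent.Lib.Helper2.TorAR3
import Groth.Agent.Lib.Helper2.ARGhost1
import Groth.Agent.Lib.Helper2.FinFreeRes
import Groth.Agent.Lib.Helper2.TorBalNat

/-! Uniform Artin–Rees for `Tor`, part 4: Artin–Rees for `Tor_i(N, R/Iⁿ)`, `N` finite. -/

universe u

namespace Groth.Agent.H2.TorAR

open CategoryTheory CategoryTheory.Limits Category HomologicalComplex MonoidalCategory
open Groth.Agent.H2.TorBal

variable {R : Type u} [CommRing R]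

/-- The projection `R/Iⁿ ⟶ R/I^{n'}` for `n' ≤ n`. -/
noncomputable def pi (I : Ideal R) {n n' : ℕ} (h : n' ≤ n) :
    ModuleCat.of R (R ⧸ I ^ n) ⟶ ModuleCat.of R (R ⧸ I ^ n') :=
  ModuleCat.ofHom (Submodule.mapQ (I ^ n) (I ^ n') LinearMap.id (Ideal.pow_le_pow_right h))

lemma pi_comp (I : Ideal R) {n n' n'' : ℕ} (h : n' ≤ n) (h' : n'' ≤ n') :
    pi I h ≫ pi I h' = pi I (h'.trans h) := by
  apply ModuleCat.hom_ext
  apply Submodule.linearMap_qext
  rfl

theorem tor_map_eq_zero_finite [IsNoetherianRing R] (I : Ideal R) (N : Type u) [AddCommGroup N]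
    [Module R N] [Module.Finite R N] (j : ℕ) :
    ∃ c : ℕ, ∀ (n n' : ℕ) (h : n' + c ≤ n),
      ((Tor (ModuleCat.{u} R) (j + 1)).obj (ModuleCat.of R N)).map
        (pi I ((Nat.le_add_right n' c).trans h)) = 0 := by
  obtain ⟨P, hP⟩ := Groth.Agent.H2.FinFreeRes.exists_projectiveResolution R N
  haveI := (hP j).1
  have hex : Function.Exact (P.complex.d (j + 2) (j + 1)).hom (P.complex.d (j + 1) j).hom :=
    (ShortComplex.ShortExact.moduleCat_exact_iff_function_exact _).1 (P.exact_succ j)
  obtain ⟨k, hk⟩ := exists_ar I _ _ hex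
  refine ⟨k, fun n n' h => ?_⟩
  have hkn : k ≤ n := (Nat.le_add_left k n').trans h
  have hn' : n' ≤ n - k := Nat.le_sub_of_add_le h
  rw [← pi_comp I (Nat.sub_le n k) hn', Functor.map_comp]
  have h0 : ((Tor (ModuleCat.{u} R) (j + 1)).obj (ModuleCat.of R N)).map
      (pi I (Nat.sub_le n k)) = 0 := by
    let τ := torIsoR (ModuleCat.of R N) P (j + 1)
    have h1 : ((Tor (ModuleCat.{u} R) (j + 1)).obj (ModuleCat.of R N)).map (pi I (Nat.sub_le n k)) =
        τ.hom.app _ ≫ homologyMap ((tensorCxR P.complex).map (pi I (Nat.sub_le n k))) (j + 1) ≫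
          τ.inv.app _ := (NatIso.naturality_2 τ _).symm
    rw [h1]
    have h2 : homologyMap ((tensorCxR P.complex).map (pi I (Nat.sub_le n k))) (j + 1) = 0 := by
      have hnat := homologyIsoSc'_hom_naturality
        ((tensorCxR P.complex).map (pi I (Nat.sub_le n k))) (j + 2) (j + 1) j (by simp) (by simp)
      have hz : ShortComplex.homologyMap
          ((shortComplexFunctor' _ _ (j + 2) (j + 1) j).map
            ((tensorCxR P.complex).map (pi I (Nat.sub_le n k)))) = 0 := by
        apply Groth.Agent.H2.ARGhost.homologyMap_eq_zero_of_forall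
        intro x hx
        exact hk n hkn x hx
      rw [hz, comp_zero] at hnat
      exact (cancel_mono _).1 (hnat.trans zero_comp.symm)
    rw [h2]
    erw [zero_comp]
    exact comp_zero
  rw [h0, zero_comp]

end Groth.Agent.H2.TorAR
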