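import Mathlib
import Groth.Agent.Lib.Helper2.TorAR4
import Groth.Agent.Lib.Helper2.TorFiltered
import Groth.Agent.Lib.Helper2.TorBalLin

/-! Uniform Artin–Rees for `Tor`, part 5: modules killed by `I^m`. -/

universe u

namespace Groth.Agent.H2.TorAR

open CategoryTheory CategoryTheory.Limits Category HomologicalComplex MonoidalCategory
open Groth.Agent.H2.TorBal TensorProduct

variable {R : Type u} [CommRing R]

section cover

variable (I : Ideal R) (m : ℕ) (M : Type u) [AddCommGroup M] [Module R M]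

/-- The cover `(M →₀ R) / I^m → M` of a module killed by `I^m`. -/
noncomputable def cov (hM : ∀ a ∈ I ^ m, ∀ x : M, a • x = 0) :
    ((M →₀ R) ⧸ (I ^ m • ⊤ : Submodule R (M →₀ R))) →ₗ[R] M :=
  (I ^ m • (⊤ : Submodule R (M →₀ R))).liftQ (Finsupp.linearCombination R id) (by
      rw [Submodule.smul_le]
      intro a ha g _
      rw [LinearMap.mem_ker, map_smul]
      exact hM a ha _)

lemma cov_surjective (hM : ∀ a ∈ I ^ m, ∀ x : M, a • x = 0) :
    Function.Surjective (cov I m M hM) := by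
  intro x
  refine ⟨Submodule.Quotient.mk (Finsupp.single x 1), ?_⟩
  simp only [cov]
  rw [Submodule.liftQ_apply, Finsupp.linearCombination_single, one_smul]
  rfl

omit [AddCommGroup M] [Module R M] in
lemma smul_cover_eq_zero (a : R) (ha : a ∈ I ^ m)
    (x : (M →₀ R) ⧸ (I ^ m • ⊤ : Submodule R (M →₀ R))) : a • x = 0 := by
  obtain ⟨g, rfl⟩ := Submodule.Quotient.mk_surjective _ x
  rw [← Submodule.Quotient.mk_smul, Submodule.Quotient.mk_eq_zero]
  exact Submodule.smul_mem_smul ha trivial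

end cover

lemma rTensor_injective_of_killed (J : Ideal R) {K F : Type*} [AddCommGroup K] [Module R K]
    [AddCommGroup F] [Module R F] (hF : ∀ a ∈ J, ∀ x : F, a • x = 0) (ι : K →ₗ[R] F)
    (hι : Function.Injective ι) : Function.Injective (LinearMap.rTensor (R ⧸ J) ι) := by
  rw [injective_iff_map_eq_zero]
  intro x hx
  obtain ⟨k, rfl⟩ := exists_tmul_one J x
  rw [LinearMap.rTensor_tmul, tmul_one_eq_zero_iff] at hx
  have hbot : J • (⊤ : Submodule R F) ≤ ⊥ := by
    rw [Submodule.smul_le]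
    intro a ha f _
    rw [Submodule.mem_bot]
    exact hF a ha f
  have h0 : ι k = 0 := (Submodule.mem_bot R).1 (hbot hx)
  have hk : k = 0 := hι (h0.trans (map_zero ι).symm)
  rw [hk, TensorProduct.zero_tmul]

/-- `Tor₁(F, R/J) → Tor₁(M, R/J)` is surjective when `F` is killed by `J`. -/
theorem epi_tor_one_of_killed (J : Ideal R) (S : ShortComplex (ModuleCat.{u} R)) (hS : S.ShortExact)
    (hF : ∀ a ∈ J, ∀ x : S.X₂, a • x = 0) :
    Epi (((Tor (ModuleCat.{u} R) 1).map S.g).app (ModuleCat.of R (R ⧸ J))) := by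
  obtain ⟨-, δ, w₁, w₂, ex1, ex2⟩ := tor_les_left (ModuleCat.of R (R ⧸ J)) S hS 0
  let Q := projectiveResolution (ModuleCat.of R (R ⧸ J))
  let ν : (Tor (ModuleCat.{u} R) 0).flip.obj (ModuleCat.of R (R ⧸ J)) ≅
      tensorRight (ModuleCat.of R (R ⧸ J)) := torFlipIso _ Q 0 ≪≫ tensorCxZeroNatIso Q
  have hnat : ((Tor (ModuleCat.{u} R) 0).map S.f).app (ModuleCat.of R (R ⧸ J)) =
      ν.hom.app S.X₁ ≫ (tensorRight (ModuleCat.of R (R ⧸ J))).map S.f ≫ ν.inv.app S.X₂ :=
    (NatIso.naturality_2 ν S.f).symm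
  have hmono : Mono ((tensorRight (ModuleCat.of R (R ⧸ J))).map S.f) := by
    rw [ModuleCat.mono_iff_injective]
    exact rTensor_injective_of_killed J hF S.f.hom hS.moduleCat_injective_f
  have hmono' : Mono (((Tor (ModuleCat.{u} R) 0).map S.f).app (ModuleCat.of R (R ⧸ J))) := by
    rw [hnat]
    have hi1 : IsIso (ν.hom.app S.X₁) := (ν.app S.X₁).isIso_hom
    have hi2 : IsIso (ν.inv.app S.X₂) := (ν.symm.app S.X₂).isIso_hom
    exact @mono_comp _ _ _ _ _ _ (IsIso.mono_of_iso _) _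
      (@mono_comp _ _ _ _ _ _ hmono _ (IsIso.mono_of_iso _))
  have hδ : δ = 0 := by
    rw [← cancel_mono (((Tor (ModuleCat.{u} R) 0).map S.f).app (ModuleCat.of R (R ⧸ J))), w₂,
      zero_comp]
  exact (ShortComplex.exact_iff_epi _ hδ).1 ex1

theorem main [IsNoetherianRing R] (I : Ideal R) (m : ℕ) : ∀ j : ℕ, ∃ c : ℕ,
    ∀ (M : Type u) [AddCommGroup M] [Module R M], (∀ a ∈ I ^ m, ∀ x : M, a • x = 0) →
      ∀ (n n' : ℕ) (h : n' + c ≤ n),
        ((Tor (ModuleCat.{u} R) (j + 1)).obj (ModuleCat.of R M)).map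
          (pi I ((Nat.le_add_right n' c).trans h)) = 0 := by
  -- common construction
  have key : ∀ (M : Type u) [AddCommGroup M] [Module R M], (∀ a ∈ I ^ m, ∀ x : M, a • x = 0) →
      ∃ (K F : ModuleCat.{u} R) (ι : K ⟶ F) (φ : F ⟶ ModuleCat.of R M) (w : ι ≫ φ = 0),
        (ShortComplex.mk ι φ w).ShortExact ∧
        (∀ a ∈ I ^ m, ∀ x : K, a • x = 0) ∧ (∀ a ∈ I ^ m, ∀ x : F, a • x = 0) ∧
        ∀ (i : ℕ) {N N' : ModuleCat.{u} R} (f : N ⟶ N'),
          ((Tor (ModuleCat.{u} R) i).obj (ModuleCat.of R (R ⧸ I ^ m))).map f = 0 →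
          ((Tor (ModuleCat.{u} R) i).obj F).map f = 0 := by
    intro M _ _ hM
    have hex : Function.Exact (LinearMap.ker (cov I m M hM)).subtype (cov I m M hM) :=
      fun y => ⟨fun hy => ⟨⟨y, hy⟩, rfl⟩, by rintro ⟨z, rfl⟩; exact z.2⟩
    refine ⟨ModuleCat.of R (LinearMap.ker (cov I m M hM)),
      ModuleCat.of R ((M →₀ R) ⧸ (I ^ m • ⊤ : Submodule R (M →₀ R))),
      ModuleCat.ofHom (LinearMap.ker (cov I m M hM)).subtype, ModuleCat.ofHom (cov I m M hM),
      (scOfLinearMaps (LinearMap.ker (cov I m M hM)).subtype (cov I m M hM) hex).zero,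
      scOfLinearMaps_shortExact (LinearMap.ker (cov I m M hM)).subtype (cov I m M hM)
        (Submodule.injective_subtype _) hex (cov_surjective I m M hM), ?_, ?_, ?_⟩
    · intro a ha x
      exact Subtype.ext (smul_cover_eq_zero I m M a ha x.1)
    · intro a ha x
      exact smul_cover_eq_zero I m M a ha x
    · intro i N N' f hf
      haveI : Module.Flat R ↑(ModuleCat.of R (M →₀ R)) :=
        inferInstanceAs (Module.Flat R (M →₀ R))
      have h1 := tor_map_tensor_eq_zero (ModuleCat.of R (M →₀ R)) (ModuleCat.of R (R ⧸ I ^ m))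
        f i hf
      exact tor_map_eq_zero_of_iso
        (tensorQuotEquivQuotSMul (M →₀ R) (I ^ m)).toModuleIso f i h1
  intro j
  induction j with
  | zero =>
    obtain ⟨a, ha⟩ := tor_map_eq_zero_finite I (R ⧸ I ^ m) 0
    refine ⟨max m a, fun M _ _ hM n n' h => ?_⟩
    obtain ⟨K, F, ι, φ, w, hS, -, hS2, hST⟩ := key M hM
    have hmn : m ≤ n := (le_max_left m a).trans ((Nat.le_add_left _ n').trans h)
    have han : n' + a ≤ n := (Nat.add_le_add_left (le_max_right m a) n').trans h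
    haveI := epi_tor_one_of_killed (I ^ n) (ShortComplex.mk ι φ w) hS
      (fun b hb x => hS2 b (Ideal.pow_le_pow_right hmn hb) x)
    have hnat := ((Tor (ModuleCat.{u} R) 1).map φ).naturality
      (pi I ((Nat.le_add_right n' (max m a)).trans h))
    have hz := hST 1 _ (ha n n' han)
    rw [hz, zero_comp] at hnat
    exact (cancel_epi _).1 (hnat.symm.trans comp_zero.symm)
  | succ j ih =>
    obtain ⟨c, hc⟩ := ih
    obtain ⟨a, ha⟩ := tor_map_eq_zero_finite I (R ⧸ I ^ m) (j + 1)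
    refine ⟨c + a, fun M _ _ hM n n' h => ?_⟩
    obtain ⟨K, F, ι, φ, w, hS, hS1, hS2, hST⟩ := key M hM
    have h1 : n' + a + c ≤ n := by omega
    have hmid : n' + a ≤ n := by omega
    rw [← pi_comp I hmid (Nat.le_add_right n' a)]
    refine tor_shift (ShortComplex.mk ι φ w) hS _ _ (j + 1) ?_ ?_
    · exact hc K hS1 n (n' + a) h1
    · exact hST (j + 1 + 1) _ (ha (n' + a) n' le_rfl)

end Groth.Agent.H2.TorAR
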