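import Mathlib.CategoryTheory.Abelian.LeftDerived
import Mathlib.Algebra.Homology.HomologySequence
import Mathlib.Algebra.Homology.Augment

/-! Syzygy resolution: from a projective resolution `P` of `M` build the projective resolution
`truncate P` of `K = ker (P₀ ⟶ M)`; homology of truncated complexes. -/

universe v u v' u'

namespace Groth.Agent.H2.TorBal

open CategoryTheory CategoryTheory.Limits Category HomologicalComplex

variable {C : Type u} [Category.{v} C] [Abelian C]

section Syz

variable {M : C} (P : ProjectiveResolution M)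

/-- The first syzygy of a projective resolution. -/
noncomputable def syz : C := kernel (P.π.f 0)

/-- The inclusion of the first syzygy. -/
noncomputable def syzι : syz P ⟶ P.complex.X 0 := kernel.ι _

instance : Mono (syzι P) := inferInstanceAs (Mono (kernel.ι (P.π.f 0)))

/-- The map `P₁ ⟶ K`. -/
noncomputable def dSyz : P.complex.X 1 ⟶ syz P :=
  kernel.lift _ (P.complex.d 1 0) P.complex_d_comp_π_f_zero

@[reassoc (attr := simp)]
lemma dSyz_ι : dSyz P ≫ syzι P = P.complex.d 1 0 := kernel.lift_ι _ _ _

@[reassoc (attr := simp)]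
lemma syzι_π : syzι P ≫ P.π.f 0 = 0 := kernel.condition _

@[reassoc (attr := simp)]
lemma d_dSyz : P.complex.d 2 1 ≫ dSyz P = 0 := by
  rw [← cancel_mono (syzι P), assoc, dSyz_ι, P.complex.d_comp_d, zero_comp]

instance : Epi (dSyz P) := by
  have h := P.exact₀
  rw [ShortComplex.exact_iff_epi_kernel_lift] at h
  exact h

/-- The short exact sequence `0 ⟶ K ⟶ P₀ ⟶ M ⟶ 0`. -/
noncomputable def syzSC : ShortComplex C := ShortComplex.mk (syzι P) (P.π.f 0) (syzι_π P)

lemma syzSC_shortExact : (syzSC P).ShortExact where
  exact := ShortComplex.exact_of_f_is_kernel _ (kernelIsKernel _)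
  mono_f := inferInstanceAs (Mono (syzι P))
  epi_g := inferInstanceAs (Epi (P.π.f 0))

lemma exact_dSyz : (ShortComplex.mk (P.complex.d 2 1) (dSyz P) (d_dSyz P)).Exact := by
  let α : ShortComplex.mk (P.complex.d 2 1) (dSyz P) (d_dSyz P) ⟶
      ShortComplex.mk _ _ (P.complex.d_comp_d 2 1 0) :=
    { τ₁ := 𝟙 _
      τ₂ := 𝟙 _
      τ₃ := syzι P }
  have : Epi α.τ₁ := by dsimp [α]; infer_instance
  have : IsIso α.τ₂ := by dsimp [α]; infer_instance
  have : Mono α.τ₃ := by dsimp [α]; infer_instance
  rw [ShortComplex.exact_iff_of_epi_of_isIso_of_mono α]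
  exact P.exact_succ 0

lemma truncate_exactAt_succ (n : ℕ) :
    (ChainComplex.truncate.obj P.complex).ExactAt (n + 1) := by
  rw [HomologicalComplex.exactAt_iff' _ (n + 2) (n + 1) n (by simp only [ChainComplex.prev]; rfl) (by simp)]
  exact P.exact_succ (n + 1)

/-- The augmentation of the syzygy resolution. -/
noncomputable def syzπ : ChainComplex.truncate.obj P.complex ⟶ (ChainComplex.single₀ C).obj (syz P) :=
  (ChainComplex.toSingle₀Equiv _ _).symm ⟨dSyz P, d_dSyz P⟩

@[simp]
lemma syzπ_f_zero : (syzπ P).f 0 = dSyz P := by
  simp [syzπ]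

/-- The syzygy resolution: the truncation of `P` is a projective resolution of the first syzygy. -/
noncomputable def syzRes : ProjectiveResolution (syz P) where
  complex := ChainComplex.truncate.obj P.complex
  projective n := P.projective (n + 1)
  π := syzπ P
  quasiIso := ⟨fun n => by
    cases n with
    | zero =>
      rw [ChainComplex.quasiIsoAt₀_iff, ShortComplex.quasiIso_iff_of_zeros']
      · refine (ShortComplex.exact_and_epi_g_iff_of_iso ?_).2
          ⟨exact_dSyz P, inferInstanceAs (Epi (dSyz P))⟩
        exact ShortComplex.isoMk (Iso.refl _) (Iso.refl _) (Iso.refl _)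
          ((Category.id_comp _).trans (Category.comp_id _).symm)
          (by
            have h : ((shortComplexFunctor' C (ComplexShape.down ℕ) 1 0 0).map (syzπ P)).τ₂ =
              dSyz P := syzπ_f_zero P
            dsimp only [Iso.refl_hom]
            erw [Category.id_comp, Category.comp_id]
            exact h.symm)
      · exact (ChainComplex.truncate.obj P.complex).shape _ _ (by simp)
      · rfl
      · rfl
    | succ n =>
      rw [quasiIsoAt_iff_exactAt']
      · exact truncate_exactAt_succ P n
      · apply ChainComplex.exactAt_succ_single_obj⟩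

@[simp]
lemma syzRes_complex : (syzRes P).complex = ChainComplex.truncate.obj P.complex := rfl

@[simp]
lemma syzRes_π_f_zero : (syzRes P).π.f 0 = dSyz P := syzπ_f_zero P

end Syz

end Groth.Agent.H2.TorBal
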