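import Mathlib
import Groth.Agent.Lib.Helper2.TorBalNatMod
import Groth.Agent.Lib.Helper2.HomologyFiltered

/-! `N ↦ Tor_n(M, N)` commutes with filtered colimits. -/

universe u

namespace Groth.Agent.H2.TorBal

open CategoryTheory CategoryTheory.Limits Category HomologicalComplex MonoidalCategory

variable {R : Type u} [CommRing R]

/-- Evaluation of `K ⊗ -` in degree `i` is `K_i ⊗ -`. -/
noncomputable def tensorCxREvalIso (K : ChainComplex (ModuleCat.{u} R) ℕ) (i : ℕ) :
    tensorCxR K ⋙ HomologicalComplex.eval _ _ i ≅ tensorLeft (K.X i) :=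
  NatIso.ofComponents (fun _ => Iso.refl _) (fun f => by
    simp only [Iso.refl_hom, comp_id, id_comp]
    rfl)

instance (K : ChainComplex (ModuleCat.{u} R) ℕ) (J : Type u) [SmallCategory J] :
    PreservesColimitsOfShape J (tensorCxR K) :=
  HomologicalComplex.preservesColimitsOfShape_of_eval _ (fun i =>
    preservesColimitsOfShape_of_natIso (tensorCxREvalIso K i).symm)

/-- `N ↦ Tor_n(M, N)` preserves filtered colimits. -/
theorem preservesColimitsOfShape_tor (M : ModuleCat.{u} R) (n : ℕ)
    (J : Type u) [SmallCategory J] [IsFiltered J] :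
    PreservesColimitsOfShape J ((Tor (ModuleCat.{u} R) n).obj M) := by
  haveI := Groth.Agent.H2.HomologyFiltered.preservesColimitsOfShape_homologyFunctor
    (R := R) (c := ComplexShape.down ℕ) J n
  exact preservesColimitsOfShape_of_natIso (torIsoR M (projectiveResolution M) n).symm

end Groth.Agent.H2.TorBal
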