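import Mathlib
import Groth.Agent.Lib.Helper2.TorAdd
import Groth.Agent.Lib.Helper2.TorPure
import Groth.Agent.Lib.Helper2.TorDim
import Groth.Agent.Lib.Helper2.FlatIsoResidue

/-! A map of modules over a Noetherian ring inducing isomorphisms on all `Tor_i(κ(x), -)` is an
isomorphism. -/

universe u

namespace Groth.Agent.H2.TorBal

open CategoryTheory CategoryTheory.Limits Category MonoidalCategory

variable {A : Type u} [CommRing A]

/-- If `Tor₁(N, X₃) = 0` for a short exact sequence `0 → X₁ → X₂ → X₃ → 0`, then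
`N ⊗ X₁ → N ⊗ X₂` is a monomorphism. -/
theorem mono_whiskerLeft_of_isZero_tor_one (N : ModuleCat.{u} A)
    (S : ShortComplex (ModuleCat.{u} A)) (hS : S.ShortExact)
    (h : IsZero (((Tor (ModuleCat.{u} A) 1).obj N).obj S.X₃)) : Mono (N ◁ S.f) :=
  mono_whiskerLeft_of_epi_tor_one N S hS ⟨fun a b _ => h.eq_of_src a b⟩

/-- A module all of whose `Tor₁(X, K)` vanish is flat. -/
theorem flat_of_isZero_tor_one (K : Type u) [AddCommGroup K] [Module A K]
    (h : ∀ X : ModuleCat.{u} A,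
      IsZero (((Tor (ModuleCat.{u} A) 1).obj X).obj (ModuleCat.of A K))) : Module.Flat A K := by
  rw [Module.Flat.iff_lTensor_preserves_injective_linearMap'.{u, u, u}]
  intro N N' _ _ _ _ f hf
  let S := scOfLinearMaps f (LinearMap.range f).mkQ (LinearMap.exact_map_mkQ_range f)
  have hS : S.ShortExact := scOfLinearMaps_shortExact _ _ hf _ (Submodule.mkQ_surjective _)
  have hz : IsZero (((Tor (ModuleCat.{u} A) 1).obj (ModuleCat.of A K)).obj S.X₃) :=
    (h S.X₃).of_iso (((torSymm (R := A) 1).app (ModuleCat.of A K)).app S.X₃)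
  have hm := mono_whiskerLeft_of_isZero_tor_one (ModuleCat.of A K) S hS hz
  exact (ModuleCat.mono_iff_injective _).1 hm

section Chase

variable {TK TMF TM TF TN : Type*} [AddCommGroup TK] [Module A TK] [AddCommGroup TMF]
  [Module A TMF] [AddCommGroup TM] [Module A TM] [AddCommGroup TF] [Module A TF]
  [AddCommGroup TN] [Module A TN]

lemma chase_bijective (f : TK →ₗ[A] TMF) (g : TMF →ₗ[A] TN) (i₁ : TM →ₗ[A] TMF)
    (i₂ : TF →ₗ[A] TMF) (p₁ : TMF →ₗ[A] TM) (p₂ : TMF →ₗ[A] TF) (u : TM →ₗ[A] TN)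
    (π : TF →ₗ[A] TN)
    (h5 : ∀ y, y = i₁ (p₁ y) + i₂ (p₂ y)) (h2 : ∀ v, p₂ (i₂ v) = v) (h3 : ∀ w, p₂ (i₁ w) = 0)
    (h6 : ∀ w, g (i₁ w) = u w) (h7 : ∀ v, g (i₂ v) = π v)
    (hf : Function.Injective f) (hfg : Function.Exact f g) (hu : Function.Bijective u) :
    Function.Bijective (fun z => p₂ (f z)) := by
  constructor
  · intro z z' hzz
    have h0 : p₂ (f (z - z')) = 0 := by
      rw [map_sub, map_sub]
      exact sub_eq_zero.2 hzz
    have hy := h5 (f (z - z'))
    rw [h0, map_zero, add_zero] at hy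
    have h1 : u (p₁ (f (z - z'))) = 0 := by
      rw [← h6, ← hy, hfg.apply_apply_eq_zero]
    have h2' : p₁ (f (z - z')) = 0 := hu.1 (by rw [h1, map_zero])
    rw [h2', map_zero] at hy
    have h4 : z - z' = 0 := hf (by rw [hy, map_zero])
    exact sub_eq_zero.1 h4
  · intro v
    obtain ⟨w, hw⟩ := hu.2 (-(π v))
    have hy : g (i₁ w + i₂ v) = 0 := by
      rw [map_add, h6, h7, hw, neg_add_cancel]
    obtain ⟨z, hz⟩ := (hfg _).1 hy
    refine ⟨z, ?_⟩
    show p₂ (f z) = v
    rw [hz, map_add, h3, h2, zero_add]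

end Chase

section Step1

variable {K F M N : Type u} [AddCommGroup K] [Module A K] [AddCommGroup F] [Module A F]
  [AddCommGroup M] [Module A M] [AddCommGroup N] [Module A N]
  (X : ModuleCat.{u} A) (u : M →ₗ[A] N) (π : F →ₗ[A] N) (ψ : K →ₗ[A] M) (φ : K →ₗ[A] F)
  (hinj : Function.Injective (ψ.prod φ)) (hex : Function.Exact (ψ.prod φ) (u.coprod π))
  (hsurj : Function.Surjective (u.coprod π))
  (hF : ∀ i, IsZero (((Tor (ModuleCat.{u} A) (i + 1)).obj X).obj (ModuleCat.of A F)))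
  (hu : ∀ i, IsIso (((Tor (ModuleCat.{u} A) i).obj X).map (ModuleCat.ofHom u)))

include hF hu in
/-- `Tor_j(X, -)` of the map `M × F → N` is an isomorphism for `j ≥ 1`. -/
lemma isIso_tor_map_coprod (i : ℕ) :
    IsIso (((Tor (ModuleCat.{u} A) (i + 1)).obj X).map (ModuleCat.ofHom (u.coprod π))) := by
  let T := (Tor (ModuleCat.{u} A) (i + 1)).obj X
  let i₁ : ModuleCat.of A M ⟶ ModuleCat.of A (M × F) := ModuleCat.ofHom (LinearMap.inl A M F)
  let i₂ : ModuleCat.of A F ⟶ ModuleCat.of A (M × F) := ModuleCat.ofHom (LinearMap.inr A M F)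
  let p₁ : ModuleCat.of A (M × F) ⟶ ModuleCat.of A M := ModuleCat.ofHom (LinearMap.fst A M F)
  let p₂ : ModuleCat.of A (M × F) ⟶ ModuleCat.of A F := ModuleCat.ofHom (LinearMap.snd A M F)
  let gS : ModuleCat.of A (M × F) ⟶ ModuleCat.of A N := ModuleCat.ofHom (u.coprod π)
  have r1 : i₁ ≫ p₁ = 𝟙 _ := by
    ext m
    rfl
  have r5 : p₁ ≫ i₁ + p₂ ≫ i₂ = 𝟙 _ := by
    apply ModuleCat.hom_ext
    apply LinearMap.ext
    intro y
    show ((y.1, (0 : F)) + ((0 : M), y.2) : M × F) = y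
    ext <;> simp
  have r6 : i₁ ≫ gS = ModuleCat.ofHom u := by
    ext m
    simp [i₁, gS]
  have R1 : T.map i₁ ≫ T.map p₁ = 𝟙 _ := by
    rw [← T.map_comp, r1, T.map_id]
  have hp₂ : T.map p₂ = 0 := (hF i).eq_of_tgt _ _
  have R5 : T.map p₁ ≫ T.map i₁ = 𝟙 _ := by
    have h := congrArg T.map r5
    rw [T.map_id] at h
    rw [← h]
    show _ = ((Tor (ModuleCat.{u} A) (i + 1)).obj X).map _
    rw [tor_map_add_right]
    show _ = T.map (p₁ ≫ i₁) + T.map (p₂ ≫ i₂)
    rw [T.map_comp, T.map_comp, hp₂, zero_comp, add_zero]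
  have hgS : T.map gS = T.map p₁ ≫ T.map (ModuleCat.ofHom u) := by
    rw [← r6, T.map_comp, ← assoc, R5, id_comp]
  have hp₁ : IsIso (T.map p₁) := ⟨⟨T.map i₁, R5, R1⟩⟩
  have hu' : IsIso (T.map (ModuleCat.ofHom u)) := hu (i + 1)
  show IsIso (T.map gS)
  rw [hgS]
  exact IsIso.comp_isIso

include hinj hex hsurj hF hu in
/-- `Tor_j(X, K) = 0` for `j ≥ 1`. -/
lemma isZero_tor_ker (i : ℕ) :
    IsZero (((Tor (ModuleCat.{u} A) (i + 1)).obj X).obj (ModuleCat.of A K)) := by
  let S := scOfLinearMaps (ψ.prod φ) (u.coprod π) hex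
  have hS : S.ShortExact := scOfLinearMaps_shortExact _ _ hinj _ hsurj
  obtain ⟨⟨w₀, ex0⟩, δ, w₁, w₂, ex1, ex2⟩ := tor_les_right X S hS (i + 1)
  have h1 : IsIso (((Tor (ModuleCat.{u} A) (i + 1)).obj X).map S.g) :=
    isIso_tor_map_coprod X u π hF hu i
  have h2 : IsIso (((Tor (ModuleCat.{u} A) (i + 1 + 1)).obj X).map S.g) :=
    isIso_tor_map_coprod X u π hF hu (i + 1)
  have hδ : δ = 0 := by
    rw [← cancel_epi (((Tor (ModuleCat.{u} A) (i + 1 + 1)).obj X).map S.g), w₁, comp_zero]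
  have hm : Mono (((Tor (ModuleCat.{u} A) (i + 1)).obj X).map S.f) := ex2.mono_g hδ
  have hf0 : ((Tor (ModuleCat.{u} A) (i + 1)).obj X).map S.f = 0 := by
    rw [← cancel_mono (((Tor (ModuleCat.{u} A) (i + 1)).obj X).map S.g), w₀, zero_comp]
  exact @IsZero.of_mono_eq_zero _ _ _ _ _ _ hm hf0

include hinj hex hsurj hF hu in
/-- `X ⊗ K → X ⊗ F` is bijective. -/
lemma bijective_lTensor_ker : Function.Bijective (LinearMap.lTensor X φ) := by
  let S := scOfLinearMaps (ψ.prod φ) (u.coprod π) hex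
  have hS : S.ShortExact := scOfLinearMaps_shortExact _ _ hinj _ hsurj
  obtain ⟨⟨w₀, ex0⟩, δ, w₁, w₂, ex1, ex2⟩ := tor_les_right X S hS 0
  have h1 : IsIso (((Tor (ModuleCat.{u} A) (0 + 1)).obj X).map S.g) :=
    isIso_tor_map_coprod X u π hF hu 0
  have hδ : δ = 0 := by
    rw [← cancel_epi (((Tor (ModuleCat.{u} A) (0 + 1)).obj X).map S.g), w₁, comp_zero]
  have hm : Mono (((Tor (ModuleCat.{u} A) 0).obj X).map S.f) := ex2.mono_g hδ
  let T := (Tor (ModuleCat.{u} A) 0).obj X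
  let i₁ : ModuleCat.of A M ⟶ ModuleCat.of A (M × F) := ModuleCat.ofHom (LinearMap.inl A M F)
  let i₂ : ModuleCat.of A F ⟶ ModuleCat.of A (M × F) := ModuleCat.ofHom (LinearMap.inr A M F)
  let p₁ : ModuleCat.of A (M × F) ⟶ ModuleCat.of A M := ModuleCat.ofHom (LinearMap.fst A M F)
  let p₂ : ModuleCat.of A (M × F) ⟶ ModuleCat.of A F := ModuleCat.ofHom (LinearMap.snd A M F)
  let fS : ModuleCat.of A K ⟶ ModuleCat.of A (M × F) := ModuleCat.ofHom (ψ.prod φ)
  let gS : ModuleCat.of A (M × F) ⟶ ModuleCat.of A N := ModuleCat.ofHom (u.coprod π)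
  have r2 : i₂ ≫ p₂ = 𝟙 _ := by
    ext m
    rfl
  have r3 : i₁ ≫ p₂ = 0 := by
    ext m
    rfl
  have r5 : p₁ ≫ i₁ + p₂ ≫ i₂ = 𝟙 _ := by
    apply ModuleCat.hom_ext
    apply LinearMap.ext
    intro y
    show ((y.1, (0 : F)) + ((0 : M), y.2) : M × F) = y
    ext <;> simp
  have r6 : i₁ ≫ gS = ModuleCat.ofHom u := by
    ext m
    simp [i₁, gS]
  have r7 : i₂ ≫ gS = ModuleCat.ofHom π := by
    ext m
    simp [i₂, gS]
  have r8 : fS ≫ p₂ = ModuleCat.ofHom φ := by
    ext k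
    rfl
  have R2 : T.map i₂ ≫ T.map p₂ = 𝟙 _ := by
    rw [← T.map_comp, r2, T.map_id]
  have R3 : T.map i₁ ≫ T.map p₂ = 0 := by
    rw [← T.map_comp, r3]
    exact tor_map_zero_right X _ _ 0
  have R5 : T.map p₁ ≫ T.map i₁ + T.map p₂ ≫ T.map i₂ = 𝟙 _ := by
    have h := congrArg T.map r5
    rw [T.map_id] at h
    rw [← h]
    show _ = ((Tor (ModuleCat.{u} A) 0).obj X).map _
    rw [tor_map_add_right]
    show _ = T.map (p₁ ≫ i₁) + T.map (p₂ ≫ i₂)
    rw [T.map_comp, T.map_comp]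
  have R6 : T.map i₁ ≫ T.map gS = T.map (ModuleCat.ofHom u) := by
    rw [← T.map_comp, r6]
  have R7 : T.map i₂ ≫ T.map gS = T.map (ModuleCat.ofHom π) := by
    rw [← T.map_comp, r7]
  have R8 : T.map fS ≫ T.map p₂ = T.map (ModuleCat.ofHom φ) := by
    rw [← T.map_comp, r8]
  have hub : Function.Bijective (T.map (ModuleCat.ofHom u)).hom :=
    haveI := hu 0
    ConcreteCategory.bijective_of_isIso (T.map (ModuleCat.ofHom u))
  have hchase := chase_bijective (T.map fS).hom (T.map gS).hom (T.map i₁).hom (T.map i₂).hom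
    (T.map p₁).hom (T.map p₂).hom (T.map (ModuleCat.ofHom u)).hom (T.map (ModuleCat.ofHom π)).hom
    (fun y => (LinearMap.congr_fun (congrArg ModuleCat.Hom.hom R5) y).symm)
    (fun v => LinearMap.congr_fun (congrArg ModuleCat.Hom.hom R2) v)
    (fun w => LinearMap.congr_fun (congrArg ModuleCat.Hom.hom R3) w)
    (fun w => LinearMap.congr_fun (congrArg ModuleCat.Hom.hom R6) w)
    (fun v => LinearMap.congr_fun (congrArg ModuleCat.Hom.hom R7) v)
    ((ModuleCat.mono_iff_injective _).1 hm)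
    ((ShortComplex.ShortExact.moduleCat_exact_iff_function_exact _).1 ex0) hub
  have hφb : Function.Bijective (T.map (ModuleCat.ofHom φ)).hom := by
    have : ((T.map (ModuleCat.ofHom φ)).hom : _ → _) =
        fun z => (T.map p₂).hom ((T.map fS).hom z) := by
      funext z
      exact (LinearMap.congr_fun (congrArg ModuleCat.Hom.hom R8) z).symm
    rw [this]
    exact hchase
  have hφi : IsIso (T.map (ModuleCat.ofHom φ)) :=
    (ConcreteCategory.isIso_iff_bijective _).2 hφb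
  let e : (Tor (ModuleCat.{u} A) 0).obj X ≅ tensorLeft X := Functor.leftDerivedZeroIsoSelf _
  have h : X ◁ (ModuleCat.ofHom φ) =
      e.inv.app _ ≫ T.map (ModuleCat.ofHom φ) ≫ e.hom.app _ := by
    rw [e.hom.naturality, Iso.inv_hom_id_app_assoc]
    rfl
  have hi : IsIso (X ◁ (ModuleCat.ofHom φ)) := by
    rw [h]
    have i1 : IsIso (e.hom.app (ModuleCat.of A F)) := (e.app _).isIso_hom
    have i2 : IsIso (e.inv.app (ModuleCat.of A K)) := (e.app _).isIso_inv
    exact IsIso.comp_isIso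
  exact ConcreteCategory.bijective_of_isIso (X ◁ (ModuleCat.ofHom φ))

end Step1

/-- Auxiliary form: in the cartesian square `K = M ×_N F` with `F` projective and `F → N`
surjective, the projection `K → F` is bijective. -/
theorem bijective_of_tor_residueFields_aux [IsNoetherianRing A]
    {K F M N : Type u} [AddCommGroup K] [Module A K] [AddCommGroup F] [Module A F]
    [AddCommGroup M] [Module A M] [AddCommGroup N] [Module A N] [Module.Projective A F]
    (u : M →ₗ[A] N) (π : F →ₗ[A] N) (ψ : K →ₗ[A] M) (φ : K →ₗ[A] F)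
    (hinj : Function.Injective (ψ.prod φ)) (hex : Function.Exact (ψ.prod φ) (u.coprod π))
    (hsurj : Function.Surjective (u.coprod π))
    (hu : ∀ (x : Ideal A) [x.IsPrime] (i : ℕ),
      IsIso (((Tor (ModuleCat.{u} A) i).obj (ModuleCat.of A x.ResidueField)).map
        (ModuleCat.ofHom u))) :
    Function.Bijective φ := by
  have hF : ∀ (X : ModuleCat.{u} A) (i : ℕ),
      IsZero (((Tor (ModuleCat.{u} A) (i + 1)).obj X).obj (ModuleCat.of A F)) :=
    fun X i => isZero_Tor_succ_of_projective _ X (ModuleCat.of A F) i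
  have hKtor : ∀ (x : Ideal A) [x.IsPrime] (i : ℕ),
      IsZero (((Tor (ModuleCat.{u} A) (i + 1)).obj (ModuleCat.of A x.ResidueField)).obj
        (ModuleCat.of A K)) := fun x _ i =>
    isZero_tor_ker (ModuleCat.of A x.ResidueField) u π ψ φ hinj hex hsurj (hF _) (hu x) i
  have hKflat : Module.Flat A K := by
    apply flat_of_isZero_tor_one
    intro X
    refine TorDim.C_of_residueFields (M := ModuleCat.of A K) (n := 0)
      (fun x _ i hi => ?_) X 1 (by omega)
    obtain ⟨j, rfl⟩ := Nat.exists_eq_succ_of_ne_zero (by omega : i ≠ 0)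
    exact hKtor x j
  apply FlatIsoResidue.bijective_of_residueFields
  intro x _
  exact bijective_lTensor_ker (ModuleCat.of A x.ResidueField) u π ψ φ hinj hex hsurj (hF _) (hu x)

/-- **A map inducing isomorphisms on all `Tor_i(κ(x), -)` is an isomorphism** (Noetherian case). -/
theorem isIso_of_tor_residueFields [IsNoetherianRing A] {M N : ModuleCat.{u} A} (u : M ⟶ N)
    (h : ∀ (x : Ideal A) [x.IsPrime] (i : ℕ),
      IsIso (((Tor (ModuleCat.{u} A) i).obj (ModuleCat.of A x.ResidueField)).map u)) :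
    IsIso u := by
  classical
  let π : (N →₀ A) →ₗ[A] N := Finsupp.linearCombination A id
  have hπ : Function.Surjective π := Finsupp.linearCombination_id_surjective A N
  let u' : (M × (N →₀ A)) →ₗ[A] N := u.hom.coprod π
  have hu' : Function.Surjective u' := by
    intro y
    obtain ⟨f, rfl⟩ := hπ y
    exact ⟨(0, f), by simp [u']⟩
  let ψ : LinearMap.ker u' →ₗ[A] M := (LinearMap.fst A _ _) ∘ₗ (LinearMap.ker u').subtype
  let φ : LinearMap.ker u' →ₗ[A] (N →₀ A) := (LinearMap.snd A _ _) ∘ₗ (LinearMap.ker u').subtype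
  have hprod : ψ.prod φ = (LinearMap.ker u').subtype := by
    ext z <;> rfl
  have hinj : Function.Injective (ψ.prod φ) := by
    rw [hprod]
    exact Submodule.injective_subtype _
  have hex : Function.Exact (ψ.prod φ) (u.hom.coprod π) := by
    rw [hprod]
    exact LinearMap.exact_subtype_ker_map u'
  have hu : ∀ (x : Ideal A) [x.IsPrime] (i : ℕ),
      IsIso (((Tor (ModuleCat.{u} A) i).obj (ModuleCat.of A x.ResidueField)).map
        (ModuleCat.ofHom u.hom)) := fun x _ i => h x i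
  have hφ : Function.Bijective φ :=
    @bijective_of_tor_residueFields_aux A _ _ (LinearMap.ker u') (N →₀ A) M N _ _ _ _ _ _ _ _ _
      u.hom π ψ φ hinj hex hu' hu
  -- conclusion
  rw [ConcreteCategory.isIso_iff_bijective]
  constructor
  · show Function.Injective u.hom
    rw [injective_iff_map_eq_zero]
    intro m hm
    have hk : ((m, 0) : M × (N →₀ A)) ∈ LinearMap.ker u' := by
      simp [u', hm]
    have h0 : φ ⟨(m, 0), hk⟩ = 0 := rfl
    have h1 : (⟨(m, 0), hk⟩ : LinearMap.ker u') = 0 := hφ.1 (by rw [h0, map_zero])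
    exact congrArg (fun z : LinearMap.ker u' => (z : M × (N →₀ A)).1) h1
  · show Function.Surjective u.hom
    intro y
    obtain ⟨f, rfl⟩ := hπ y
    obtain ⟨k, rfl⟩ := hφ.2 f
    have hk : u.hom (k : M × (N →₀ A)).1 + π (k : M × (N →₀ A)).2 = 0 := k.2
    refine ⟨-(k : M × (N →₀ A)).1, ?_⟩
    have h2 : u.hom (k : M × (N →₀ A)).1 = -π (k : M × (N →₀ A)).2 :=
      eq_neg_of_add_eq_zero_left hk
    show u.hom (-(k : M × (N →₀ A)).1) = π (k : M × (N →₀ A)).2
    rw [map_neg, h2, neg_neg]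

end Groth.Agent.H2.TorBal
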