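import Mathlib
import Groth.Agent.Lib.Helper2.TorCoprod
import Groth.Agent.Lib.Helper2.TorBalApps
import Groth.Agent.Lib.Helper2.TorBalLin
import Groth.Agent.Lib.Helper2.TorFlatBC
import Groth.Agent.H4.US24

/-! `Tor₁` against the normalization of a one-dimensional local domain: auxiliary algebra. -/

universe u

namespace Groth.Agent.H2.TorNorm

open CategoryTheory CategoryTheory.Limits TensorProduct Groth.Agent.H2.TorBal

section alg

variable {O : Type u} [CommRing O] [IsDomain O] [IsLocalRing O]

/-- A finite length module over a local domain which is not a field is killed by a nonzero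
element. -/
theorem exists_ne_zero_smul (hdim : ringKrullDim O = 1) {T : Type*} [AddCommGroup T] [Module O T]
    (hT : IsFiniteLength O T) : ∃ a : O, a ≠ 0 ∧ ∀ t : T, a • t = 0 := by
  obtain ⟨k, -, hk⟩ := Groth.Agent.H4.US24.exists_pow_smul_eq_zero hT
  have hm : IsLocalRing.maximalIdeal O ≠ ⊥ := by
    intro h
    have hf : IsField O := IsLocalRing.isField_iff_maximalIdeal_eq.2 h
    have := ringKrullDim_eq_zero_of_isField hf
    rw [hdim] at this
    exact one_ne_zero this
  obtain ⟨b, hb, hb0⟩ := Submodule.exists_mem_ne_zero_of_ne_bot hm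
  exact ⟨b ^ k, pow_ne_zero k hb0, fun t => hk _ (Ideal.pow_mem_pow hb k) t⟩

variable (K : Type u) [Field K] [Algebra O K] [IsFractionRing O K]

/-- `O~ ⊗ O^n` is torsion-free over `O`. -/
theorem eq_zero_of_smul_eq_zero (n : ℕ) {a : O} (ha : a ≠ 0)
    (x : ↥(integralClosure O K) ⊗[O] (Fin n → O)) (hx : a • x = 0) : x = 0 := by
  let e := TensorProduct.piScalarRight O O ↥(integralClosure O K) (Fin n)
  apply e.injective
  rw [map_zero]
  have h1 : a • e x = 0 := by rw [← map_smul, hx, map_zero]
  funext i
  have h2 : a • (e x i) = 0 := congrFun h1 i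
  have h3 : algebraMap O K a * ((e x i : ↥(integralClosure O K)) : K) = 0 := by
    have := congrArg (fun y : ↥(integralClosure O K) => (y : K)) h2
    simpa [Algebra.smul_def] using this
  have h4 : algebraMap O K a ≠ 0 := by
    intro h
    exact ha ((IsFractionRing.injective O K) (by rw [h, map_zero]))
  have h5 := (mul_eq_zero.1 h3).resolve_left h4
  exact Subtype.ext h5

end alg

section quasiinv

variable {O : Type u} [CommRing O] {X Y : Type u} [AddCommGroup X] [Module O X]
  [AddCommGroup Y] [Module O Y]

/-- An injective map whose cokernel is killed by `a` has a quasi-inverse up to `a`. -/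
theorem exists_quasi_inverse (f : X →ₗ[O] Y) (hf : Function.Injective f) (a : O)
    (ha : ∀ t : Y ⧸ LinearMap.range f, a • t = 0) :
    ∃ h : Y →ₗ[O] X, (∀ x, h (f x) = a • x) ∧ ∀ y, f (h y) = a • y := by
  have hmem : ∀ y : Y, a • y ∈ LinearMap.range f := by
    intro y
    have := ha ((LinearMap.range f).mkQ y)
    rwa [← map_smul, Submodule.mkQ_apply, Submodule.Quotient.mk_eq_zero] at this
  let e := LinearEquiv.ofInjective f hf
  let h : Y →ₗ[O] X := e.symm.toLinearMap.comp
    (LinearMap.codRestrict (LinearMap.range f) (a • LinearMap.id) (fun y => hmem y))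
  have h2 : ∀ y, f (h y) = a • y := by
    intro y
    have : (e (h y) : Y) = a • y := by
      show (e (e.symm _) : Y) = a • y
      rw [LinearEquiv.apply_symm_apply]
      rfl
    exact this
  refine ⟨h, fun x => ?_, h2⟩
  apply hf
  rw [h2, map_smul]

/-- Consequence: the kernel of `N ⊗ f` is killed by `a`. -/
theorem smul_eq_zero_of_mem_ker (N : Type u) [AddCommGroup N] [Module O N]
    (f : X →ₗ[O] Y) (hf : Function.Injective f) (a : O)
    (ha : ∀ t : Y ⧸ LinearMap.range f, a • t = 0) (x : N ⊗[O] X)
    (hx : LinearMap.lTensor N f x = 0) : a • x = 0 := by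
  obtain ⟨h, h1, -⟩ := exists_quasi_inverse f hf a ha
  have hcomp : h.comp f = a • LinearMap.id := LinearMap.ext fun x => h1 x
  have : (LinearMap.lTensor N h).comp (LinearMap.lTensor N f) = a • LinearMap.id := by
    rw [← LinearMap.lTensor_comp, hcomp, LinearMap.lTensor_smul, LinearMap.lTensor_id]
  have h3 := LinearMap.congr_fun this x
  rw [LinearMap.comp_apply, hx, map_zero] at h3
  exact h3.symm

end quasiinv

end Groth.Agent.H2.TorNorm
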