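import Mathlib
import Groth.Agent.Lib.Helper2.FlatAlg

/-!
# Universe-polymorphic elementary `Tor₁` lemmas and the flatness criterion along a nonzerodivisor
-/

namespace Groth.Agent.H2.TorPoly
open TensorProduct
universe u v w w₁ w₂

section
variable {R : Type u} [CommRing R] {M : Type v} [AddCommGroup M] [Module R M]
variable {L : Type w₁} {F : Type w₂} [AddCommGroup L] [AddCommGroup F] [Module R L] [Module R F]

theorem flat_of_forall_lTensor_injective [Module.Flat R F]
    (d : L →ₗ[R] F) (ε : F →ₗ[R] M) (hdε : Function.Exact d ε) (hε : Function.Surjective ε)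
    (h : ∀ (C : Type u) [AddCommGroup C] [Module R C], Function.Injective (d.lTensor C)) :
    Module.Flat R M := by
  rw [Module.Flat.iff_rTensor_preserves_injective_linearMap'.{u, u, v}]
  intro N N' _ _ _ _ i hi
  exact FlatAlg.rTensor_injective_of_lTensor_injective i (LinearMap.range i).mkQ hi
    (LinearMap.exact_map_mkQ_range i) (Submodule.mkQ_surjective _) d ε hdε hε (h _)

theorem flat_of_exact_of_flat [Module.Flat R F] [Module.Flat R M]
    (d : L →ₗ[R] F) (ε : F →ₗ[R] M) (hd : Function.Injective d) (hdε : Function.Exact d ε)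
    (hε : Function.Surjective ε) : Module.Flat R L := by
  rw [Module.Flat.iff_rTensor_preserves_injective_linearMap'.{u, u, w₁}]
  intro N N' _ _ _ _ i hi
  have h1 : Function.Injective (d.lTensor N) :=
    LinearMap.lTensor_injective_of_exact_of_flat ε hε d hd hdε N
  have h2 : Function.Injective (i.rTensor F) :=
    Module.Flat.rTensor_preserves_injective_linearMap i hi
  have h3 : (d.lTensor N') ∘ₗ (i.rTensor L) = (i.rTensor F) ∘ₗ (d.lTensor N) := by
    rw [LinearMap.lTensor_comp_rTensor, LinearMap.rTensor_comp_lTensor]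
  have h4 : Function.Injective ((d.lTensor N') ∘ₗ (i.rTensor L)) := by
    rw [h3]; exact h2.comp h1
  exact Function.Injective.of_comp h4

theorem tor_quot (I : Ideal R) (d : L →ₗ[R] F) (ε : F →ₗ[R] M) (hd : Function.Injective d)
    (hdε : Function.Exact d ε) (hε : Function.Surjective ε)
    (htor : Function.Injective ((Submodule.subtype I).rTensor M)) :
    Function.Injective (d.lTensor (R ⧸ I)) := by
  have h1 : Function.Injective ((Submodule.subtype I).lTensor M) :=
    (LinearMap.lTensor_inj_iff_rTensor_inj _ _).2 htor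
  have h2 : Function.Injective (d.rTensor (R ⧸ I)) :=
    FlatAlg.rTensor_injective_of_lTensor_injective d ε hd hdε hε (Submodule.subtype I)
      (Submodule.mkQ I) (LinearMap.exact_subtype_mkQ I) (Submodule.mkQ_surjective I) h1
  exact (LinearMap.lTensor_inj_iff_rTensor_inj _ _).2 h2

theorem tor_of_pow_smul (I : Ideal R) [Module.Flat R F] [Module.Flat (R ⧸ I) ((R ⧸ I) ⊗[R] M)]
    (d : L →ₗ[R] F) (ε : F →ₗ[R] M)
    (hdε : Function.Exact d ε) (hε : Function.Surjective ε)
    (hA : Function.Injective (d.lTensor (R ⧸ I))) :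
    ∀ (m : ℕ) (X : Type w) [AddCommGroup X] [Module R X],
      (∀ r ∈ I ^ m, ∀ x : X, r • x = 0) → Function.Injective (d.lTensor X) := by
  intro m
  induction m with
  | zero =>
    intro X _ _ hX
    haveI : Subsingleton X := ⟨fun a b => by
      have ha := hX 1 (by simp) a
      have hb := hX 1 (by simp) b
      rw [one_smul] at ha hb
      rw [ha, hb]⟩
    haveI : Subsingleton (X ⊗[R] L) := inferInstance
    exact Function.injective_of_subsingleton _
  | succ m ih =>
    intro X _ _ hX
    let N₁ : Submodule R X := I • ⊤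
    have h1 : Function.Injective (d.lTensor N₁) := by
      apply ih
      intro r hr x
      apply Subtype.ext
      rw [Submodule.coe_smul, Submodule.coe_zero]
      obtain ⟨x, hx⟩ := x
      change r • x = 0
      refine Submodule.smul_induction_on hx ?_ ?_
      · intro i hi y _
        rw [smul_smul]
        exact hX _ (by rw [pow_succ]; exact Ideal.mul_mem_mul hr hi) y
      · intro a b ha hb
        rw [smul_add, ha, hb, add_zero]
    have hT : Module.IsTorsionBySet R (X ⧸ N₁) I := Module.isTorsionBySet_quotient_ideal_smul X I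
    have h2 : Function.Injective (d.lTensor (X ⧸ N₁)) :=
      FlatAlg.lTensor_injective_of_baseChange (A := R ⧸ I) d ε hdε hε hA (X ⧸ N₁)
    exact FlatAlg.lTensor_injective_of_exact d N₁.subtype N₁.mkQ N₁.subtype_injective
      (LinearMap.exact_subtype_mkQ N₁) (Submodule.mkQ_surjective N₁) h1 h2

end

/-- the standard free presentation -/
theorem exists_presentation (R : Type u) [CommRing R] (M : Type v) [AddCommGroup M] [Module R M] :
    ∃ (L F : Type (max u v)) (_ : AddCommGroup L) (_ : AddCommGroup F)
    (_ : Module R L) (_ : Module R F) (_ : Module.Free R F) (d : L →ₗ[R] F) (ε : F →ₗ[R] M),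
    Function.Injective d ∧ Function.Exact d ε ∧ Function.Surjective ε := by
  let ε : (M →₀ R) →ₗ[R] M := Finsupp.linearCombination R id
  exact ⟨LinearMap.ker ε, M →₀ R, inferInstance, inferInstance, inferInstance, inferInstance,
    inferInstance, (LinearMap.ker ε).subtype, ε, Submodule.subtype_injective _,
    LinearMap.exact_subtype_ker_map ε, Finsupp.linearCombination_id_surjective R M⟩

section Pi
variable {A : Type u} [CommRing A] (π : A)

theorem smul_eq_zero_of_flat {x : A} (hx : x ∈ nonZeroDivisors A) {M : Type v} [AddCommGroup M]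
    [Module A M] [Module.Flat A M] (m : M) (hm : x • m = 0) : m = 0 := by
  let f : A →ₗ[A] A := LinearMap.lsmul A A x
  have hf : Function.Injective f := by
    rw [injective_iff_map_eq_zero]
    intro z hz
    have : x * z = 0 := hz
    rw [mul_comm] at this
    exact (mem_nonZeroDivisors_iff_right.mp hx) z this
  have h1 : Function.Injective (f.rTensor M) :=
    Module.Flat.rTensor_preserves_injective_linearMap f hf
  have h2 : f.rTensor M ((1 : A) ⊗ₜ m) = 0 := by
    rw [LinearMap.rTensor_tmul]
    change (x • (1 : A)) ⊗ₜ[A] m = 0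
    rw [TensorProduct.smul_tmul, hm, TensorProduct.tmul_zero]
  have h3 : (1 : A) ⊗ₜ[A] m = 0 := h1 (h2.trans (map_zero _).symm)
  have h4 := congrArg (TensorProduct.lid A M) h3
  simpa using h4

theorem htor_of_torsionFree {W : Type v} [AddCommGroup W] [Module A W]
    (hW : ∀ w : W, π • w = 0 → w = 0) :
    Function.Injective ((Submodule.subtype (Ideal.span {π})).rTensor W) := by
  have hform : ∀ z : (Ideal.span {π} : Ideal A) ⊗[A] W,
      ∃ w : W, z = (⟨π, Ideal.subset_span rfl⟩ : (Ideal.span {π} : Ideal A)) ⊗ₜ w := by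
    intro z
    induction z using TensorProduct.induction_on with
    | zero => exact ⟨0, by simp⟩
    | tmul i w =>
      obtain ⟨i, hi⟩ := i
      obtain ⟨a, rfl⟩ := Ideal.mem_span_singleton'.mp hi
      refine ⟨a • w, ?_⟩
      rw [← TensorProduct.smul_tmul]
      rfl
    | add x y hx hy =>
      obtain ⟨w1, rfl⟩ := hx
      obtain ⟨w2, rfl⟩ := hy
      exact ⟨w1 + w2, by rw [TensorProduct.tmul_add]⟩
  rw [injective_iff_map_eq_zero]
  intro z hz
  obtain ⟨w, rfl⟩ := hform z
  rw [LinearMap.rTensor_tmul] at hz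
  have h4 := congrArg (TensorProduct.lid A W) hz
  rw [TensorProduct.lid_tmul, map_zero] at h4
  have : w = 0 := hW w h4
  rw [this, TensorProduct.tmul_zero]

section torsion
variable {W : Type v} [AddCommGroup W] [Module A W]
  {L : Type w₁} {F : Type w₂} [AddCommGroup L] [AddCommGroup F] [Module A L] [Module A F]
  [Module.Flat A F]
  (d : L →ₗ[A] F) (ε : F →ₗ[A] W) (hd : Function.Injective d) (hdε : Function.Exact d ε)
  (hε : Function.Surjective ε) (hW : ∀ w : W, π • w = 0 → w = 0)
  [Module.Flat (A ⧸ Ideal.span {π}) ((A ⧸ Ideal.span {π}) ⊗[A] W)]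

include hd hdε hε hW in
theorem tor_pow_torsion (m : ℕ) (X : Type w) [AddCommGroup X] [Module A X]
    (hX : ∀ x : X, π ^ m • x = 0) : Function.Injective (d.lTensor X) := by
  have htor := htor_of_torsionFree π hW
  have hA := tor_quot (Ideal.span {π}) d ε hd hdε hε htor
  refine tor_of_pow_smul (Ideal.span {π}) d ε hdε hε hA m X ?_
  intro r hr x
  rw [Ideal.span_singleton_pow, Ideal.mem_span_singleton'] at hr
  obtain ⟨a, rfl⟩ := hr
  rw [mul_smul, hX, smul_zero]

include hd hdε hε hW in
theorem tor_torsion (X : Type w) [AddCommGroup X] [Module A X]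
    (hX : ∀ x : X, ∃ m : ℕ, π ^ m • x = 0) : Function.Injective (d.lTensor X) := by
  let T : ℕ → Submodule A X := fun m => Submodule.torsionBy A X (π ^ m)
  have hmono : ∀ {m m' : ℕ}, m ≤ m' → T m ≤ T m' := fun {m m'} h =>
    Submodule.torsionBy_le_torsionBy_of_dvd _ _ (pow_dvd_pow π h)
  have hlift : ∀ z : X ⊗[A] L, ∃ (m : ℕ) (z' : T m ⊗[A] L), (T m).subtype.rTensor L z' = z := by
    intro z
    induction z using TensorProduct.induction_on with
    | zero => exact ⟨0, 0, map_zero _⟩
    | tmul x l =>
      obtain ⟨m, hm⟩ := hX x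
      exact ⟨m, (⟨x, (Submodule.mem_torsionBy_iff _ _).mpr hm⟩ : T m) ⊗ₜ l, rfl⟩
    | add x y hx hy =>
      obtain ⟨m1, z1, rfl⟩ := hx
      obtain ⟨m2, z2, rfl⟩ := hy
      refine ⟨max m1 m2, (Submodule.inclusion (hmono (le_max_left m1 m2))).rTensor L z1 +
        (Submodule.inclusion (hmono (le_max_right m1 m2))).rTensor L z2, ?_⟩
      rw [map_add, ← LinearMap.rTensor_comp_apply, ← LinearMap.rTensor_comp_apply,
        Submodule.subtype_comp_inclusion, Submodule.subtype_comp_inclusion]
  rw [injective_iff_map_eq_zero]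
  intro z hz
  obtain ⟨m, z', rfl⟩ := hlift z
  have h1 : (T m).subtype.rTensor F (d.lTensor (T m) z') = 0 := by
    rw [← LinearMap.comp_apply, LinearMap.rTensor_comp_lTensor, ← LinearMap.lTensor_comp_rTensor,
      LinearMap.comp_apply, hz]
  have hinj : Function.Injective ((T m).subtype.rTensor F) :=
    Module.Flat.rTensor_preserves_injective_linearMap _ (Submodule.subtype_injective _)
  have h2 : d.lTensor (T m) z' = 0 := hinj (h1.trans (map_zero _).symm)
  have h3 : z' = 0 := by
    refine (tor_pow_torsion π d ε hd hdε hε hW m (T m) ?_) (h2.trans (map_zero _).symm)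
    intro x
    apply Subtype.ext
    rw [Submodule.coe_smul, Submodule.coe_zero]
    exact (Submodule.mem_torsionBy_iff _ _).mp x.2
  rw [h3, map_zero]

end torsion

theorem flat_of_nzd (hπ : π ∈ nonZeroDivisors A) {M : Type v} [AddCommGroup M] [Module A M]
    (hM : ∀ x : M, π • x = 0 → x = 0)
    [Module.Flat (A ⧸ Ideal.span {π}) ((A ⧸ Ideal.span {π}) ⊗[A] M)]
    [Module.Flat (Localization.Away π) ((Localization.Away π) ⊗[A] M)] : Module.Flat A M := by
  obtain ⟨L, F, _, _, _, _, _, d, ε, hd, hdε, hε⟩ := exists_presentation A M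
  obtain ⟨L₁, F₁, _, _, _, _, _, d₁, ε₁, hd₁, hdε₁, hε₁⟩ := exists_presentation A L
  have hF : ∀ x : F, π • x = 0 → x = 0 := fun x hx => smul_eq_zero_of_flat hπ x hx
  have hL : ∀ x : L, π • x = 0 → x = 0 := fun x hx =>
    hd (by rw [map_zero]; exact hF _ (by rw [← map_smul, hx, map_zero]))
  have hA := tor_quot (Ideal.span {π}) d ε hd hdε hε (htor_of_torsionFree π hM)
  haveI : Module.Flat (A ⧸ Ideal.span {π}) ((A ⧸ Ideal.span {π}) ⊗[A] L) := by
    have hex : Function.Exact (d.baseChange (A ⧸ Ideal.span {π}))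
        (ε.baseChange (A ⧸ Ideal.span {π})) := by
      have := lTensor_exact (A ⧸ Ideal.span {π}) hdε hε
      intro x
      simpa only [LinearMap.baseChange_eq_ltensor] using this x
    have hsurj : Function.Surjective (ε.baseChange (A ⧸ Ideal.span {π})) := by
      have := LinearMap.lTensor_surjective (A ⧸ Ideal.span {π}) hε
      intro y
      obtain ⟨x, hx⟩ := this y
      exact ⟨x, by simpa only [LinearMap.baseChange_eq_ltensor] using hx⟩
    have hinj : Function.Injective (d.baseChange (A ⧸ Ideal.span {π})) := by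
      intro x y hxy
      apply hA
      simpa only [LinearMap.baseChange_eq_ltensor] using hxy
    exact flat_of_exact_of_flat (d.baseChange (A ⧸ Ideal.span {π}))
      (ε.baseChange (A ⧸ Ideal.span {π})) hinj hex hsurj
  refine flat_of_forall_lTensor_injective d ε hdε hε ?_
  intro X _ _
  let S : Submonoid A := Submonoid.powers π
  let j : X →ₗ[A] LocalizedModule S X := LocalizedModule.mkLinearMap S X
  let K : Submodule A X := LinearMap.ker j
  let X' : Submodule A (LocalizedModule S X) := LinearMap.range j
  have hK : ∀ x : K, ∃ m : ℕ, π ^ m • x = 0 := by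
    intro x
    have hx : j x.1 = 0 := x.2
    rw [IsLocalizedModule.eq_zero_iff S j] at hx
    obtain ⟨⟨s, m, rfl⟩, hs⟩ := hx
    refine ⟨m, Subtype.ext ?_⟩
    rw [Submodule.coe_smul, Submodule.coe_zero]
    exact hs
  have hQ : ∀ q : (LocalizedModule S X) ⧸ X', ∃ m : ℕ, π ^ m • q = 0 := by
    intro q
    obtain ⟨y, rfl⟩ := Submodule.mkQ_surjective X' q
    obtain ⟨⟨x, ⟨s, m, rfl⟩⟩, hxs⟩ := IsLocalizedModule.surj S j y
    refine ⟨m, ?_⟩
    rw [← map_smul, Submodule.mkQ_apply, Submodule.Quotient.mk_eq_zero]
    exact ⟨x, hxs.symm⟩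
  have t1 : Function.Injective (d.lTensor K) := tor_torsion π d ε hd hdε hε hM K hK
  have t2 : Function.Injective (d.lTensor (LocalizedModule S X)) :=
    FlatAlg.lTensor_injective_of_baseChange (A := Localization.Away π) d ε hdε hε
      (Module.Flat.lTensor_preserves_injective_linearMap d hd) (LocalizedModule S X)
  have t3 : Function.Injective (d₁.lTensor ((LocalizedModule S X) ⧸ X')) :=
    tor_torsion π d₁ ε₁ hd₁ hdε₁ hε₁ hL _ hQ
  have t4 : Function.Injective (X'.subtype.rTensor L) :=
    FlatAlg.rTensor_injective_of_lTensor_injective X'.subtype X'.mkQ (Submodule.subtype_injective _)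
      (LinearMap.exact_subtype_mkQ X') (Submodule.mkQ_surjective X') d₁ ε₁ hdε₁ hε₁ t3
  have t5 : Function.Injective (d.lTensor X') := by
    rw [injective_iff_map_eq_zero]
    intro z hz
    apply t4
    rw [map_zero]
    apply t2
    rw [map_zero, ← LinearMap.comp_apply, LinearMap.lTensor_comp_rTensor,
      ← LinearMap.rTensor_comp_lTensor, LinearMap.comp_apply, hz, map_zero]
  exact FlatAlg.lTensor_injective_of_exact d K.subtype j.rangeRestrict (Submodule.subtype_injective _)
    (by
      intro x
      constructor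
      · intro hx
        have : x ∈ K := by
          have := congrArg Subtype.val hx
          exact this
        exact ⟨⟨x, this⟩, rfl⟩
      · rintro ⟨y, rfl⟩
        exact Subtype.ext y.2)
    (LinearMap.surjective_rangeRestrict j) t1 t5

theorem S11538
    (A : Type u) [CommRing A] (π : A) (hπ : π ∈ nonZeroDivisors A)
    (M : Type v) [AddCommGroup M] [Module A M] :
    Module.Flat A M ↔
      (∀ (x : M) (n : ℕ), π ^ n • x = 0 → x = 0) ∧
        Module.Flat (A ⧸ Ideal.span {π}) ((A ⧸ Ideal.span {π}) ⊗[A] M) ∧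
        Module.Flat (Localization.Away π) ((Localization.Away π) ⊗[A] M) := by
  constructor
  · intro h
    refine ⟨fun x n hx => ?_, inferInstance, inferInstance⟩
    exact smul_eq_zero_of_flat (pow_mem hπ n) x hx
  · rintro ⟨h1, h2, h3⟩
    exact flat_of_nzd π hπ (fun x hx => h1 x 1 (by rwa [pow_one]))

end Pi

end Groth.Agent.H2.TorPoly
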