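import Mathlib
import Groth.Agent.Lib.Helper2.TorBalMod

/-! Comparison of Mathlib's `Tor'` (derived in the first variable) and `Tor`. -/

universe u

namespace Groth.Agent.H2.TorBal

open CategoryTheory CategoryTheory.Limits Category HomologicalComplex MonoidalCategory

variable {R : Type u} [CommRing R]

/-- `Tor'_n(X, Y) ≅ H_n(P ⊗ Y)` for a projective resolution `P` of `X`. -/
noncomputable def tor'IsoTensor (X Y : ModuleCat.{u} R) (P : ProjectiveResolution X) (n : ℕ) :
    ((Tor' (ModuleCat.{u} R) n).obj X).obj Y ≅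
      (((tensorRight Y).mapHomologicalComplex (ComplexShape.down ℕ)).obj P.complex).homology n :=
  P.isoLeftDerivedObj ((tensoringRight (ModuleCat.{u} R)).obj Y) n

/-- `Tor'_n(X, Y) ≅ Tor_n(X, Y)`. -/
theorem nonempty_tor'_iso_tor (X Y : ModuleCat.{u} R) (n : ℕ) :
    Nonempty (((Tor' (ModuleCat.{u} R) n).obj X).obj Y ≅
      ((Tor (ModuleCat.{u} R) n).obj X).obj Y) := by
  obtain ⟨i⟩ := nonempty_tor_iso X Y (projectiveResolution X) n
  exact ⟨tor'IsoTensor X Y (projectiveResolution X) n ≪≫ i.symm⟩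

end Groth.Agent.H2.TorBal
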