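import Mathlib
import Groth.Agent.Lib.Helper2.TorRegSeq
import Groth.Agent.S6315

/-! Regular sequences and vanishing of `Tor` against the quotient by a regular sequence. -/

universe u

namespace Groth.Agent.H2.TorBal

open CategoryTheory CategoryTheory.Limits Category HomologicalComplex MonoidalCategory
open RingTheory.Sequence

variable {A : Type u} [CommRing A]

section Zero

variable (I' : Ideal A) (x : A) (N : Type u) [AddCommGroup N] [Module A N]

/-- `Tor₀(A/I', N) ≃ N / I'N`. -/
noncomputable def torZeroQuotEquiv :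
    torObj 0 (ModuleCat.of A (A ⧸ I')) (ModuleCat.of A N) ≃ₗ[A]
      N ⧸ (I' • (⊤ : Submodule A N)) :=
  (torZeroLinearEquiv (R := A) (A ⧸ I') N).trans (TensorProduct.quotTensorEquivQuotSMul N I')

/-- `x` acts injectively on `Tor₀(A/I', N)` iff it does on `N/I'N`. -/
lemma injective_tor_zero_map_iff :
    Function.Injective (((Tor (ModuleCat.{u} A) 0).map (stepSC I' x).f).app
        (ModuleCat.of A N)).hom ↔
      IsSMulRegular (N ⧸ (I' • (⊤ : Submodule A N))) x := by
  rw [tor_map_stepSC_f]
  rw [← (torZeroQuotEquiv I' N).isSMulRegular_congr x]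
  rfl

end Zero

section Nakayama

variable [IsLocalRing A]

/-- Nakayama: if `x ∈ 𝔪` acts surjectively on a finite module then the module is zero. -/
lemma subsingleton_of_smul_surjective (T : Type*) [AddCommGroup T] [Module A T] [Module.Finite A T]
    (x : A) (hx : x ∈ IsLocalRing.maximalIdeal A)
    (hsurj : Function.Surjective (fun t : T => x • t)) : Subsingleton T := by
  have h1 : (⊤ : Submodule A T) ≤ Ideal.span {x} • (⊤ : Submodule A T) := by
    intro t _
    obtain ⟨s, rfl⟩ := hsurj t
    exact Submodule.smul_mem_smul (Ideal.mem_span_singleton_self x) Submodule.mem_top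
  have h2 : Ideal.span {x} ≤ Ideal.jacobson (⊥ : Ideal A) := by
    rw [IsLocalRing.jacobson_eq_maximalIdeal ⊥ bot_ne_top, Ideal.span_singleton_le_iff_mem]
    exact hx
  have h3 := Submodule.eq_bot_of_le_smul_of_le_jacobson_bot (Ideal.span {x})
    (⊤ : Submodule A T) Module.Finite.fg_top h1 h2
  refine ⟨fun a b => ?_⟩
  have ha : a ∈ (⊥ : Submodule A T) := h3 ▸ Submodule.mem_top
  have hb : b ∈ (⊥ : Submodule A T) := h3 ▸ Submodule.mem_top
  rw [(Submodule.mem_bot A).1 ha, (Submodule.mem_bot A).1 hb]

end Nakayama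

section Main

variable [IsNoetherianRing A] [IsLocalRing A]

/-- Over a Noetherian local ring, for a sequence `xs` in the maximal ideal which is regular on `A`,
and a finite module `N`: `xs` is regular on `N` iff `Tor_i(A/(xs), N) = 0` for all `i ≥ 1`. -/
theorem regular_iff_tor (xs : List A) (hreg : IsWeaklyRegular A xs)
    (hm : ∀ x ∈ xs, x ∈ IsLocalRing.maximalIdeal A)
    (N : Type u) [AddCommGroup N] [Module A N] [Module.Finite A N] :
    IsWeaklyRegular N xs ↔
      ∀ i, 1 ≤ i → IsZero (torObj i (ModuleCat.of A (A ⧸ Ideal.ofList xs)) (ModuleCat.of A N)) := by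
  induction xs using List.reverseRecOn with
  | nil =>
    refine ⟨fun _ i hi => (tor_base _ Ideal.ofList_nil (ModuleCat.of A N)).2 i hi,
      fun _ => IsWeaklyRegular.nil A N⟩
  | append_singleton xs x ih =>
    rw [isWeaklyRegular_append_iff, isWeaklyRegular_singleton_iff] at hreg
    obtain ⟨h1, h2⟩ := hreg
    have hsm : (Ideal.ofList xs • ⊤ : Submodule A A) = Ideal.ofList xs := by
      rw [smul_eq_mul, Ideal.mul_top]
    have hx : IsSMulRegular (A ⧸ Ideal.ofList xs) x :=
      ((Submodule.quotEquivOfEq _ _ hsm).isSMulRegular_congr x).1 h2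
    have hxm : x ∈ IsLocalRing.maximalIdeal A := hm x (by simp)
    have ih' := ih h1 (fun y hy => hm y (by simp [hy]))
    have hI : Ideal.ofList (xs ++ [x]) = Ideal.ofList xs ⊔ Ideal.span {x} := by
      rw [Ideal.ofList_append, Ideal.ofList_singleton]
    rw [hI, isWeaklyRegular_append_iff, isWeaklyRegular_singleton_iff]
    have hS := stepSC_shortExact (Ideal.ofList xs) x hx
    constructor
    · rintro ⟨hN1, hN2⟩ i hi
      have hT := ih'.1 hN1
      obtain rfl | ⟨j, rfl⟩ : i = 1 ∨ ∃ j, i = j + 2 := by
        rcases i with _ | _ | j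
        · omega
        · exact Or.inl rfl
        · exact Or.inr ⟨j, rfl⟩
      · exact isZero_tor_succ_X₃_of_injective (ModuleCat.of A N) (stepSC (Ideal.ofList xs) x) hS 0
          (hT 1 le_rfl) ((injective_tor_zero_map_iff (Ideal.ofList xs) x N).2 hN2)
      · exact isZero_tor_X₃_left (stepSC (Ideal.ofList xs) x) hS (ModuleCat.of A N) (j + 1)
          (hT (j + 2) (by omega)) (hT (j + 1) (by omega))
    · intro hT'
      have hT : ∀ i, 1 ≤ i → IsZero (torObj i (ModuleCat.of A (A ⧸ Ideal.ofList xs))
          (ModuleCat.of A N)) := by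
        intro i hi
        obtain ⟨⟨w₀, ex⟩, -⟩ := tor_les_left (ModuleCat.of A N) (stepSC (Ideal.ofList xs) x) hS i
        have hepi : Epi (((Tor (ModuleCat.{u} A) i).map (stepSC (Ideal.ofList xs) x).f).app
            (ModuleCat.of A N)) := ex.epi_f ((hT' i hi).eq_of_tgt _ _)
        rw [tor_map_stepSC_f, ModuleCat.epi_iff_surjective] at hepi
        haveI : Module.Finite A (torObj i (ModuleCat.of A (A ⧸ Ideal.ofList xs))
            (ModuleCat.of A N)) := Groth.Agent.S6315.result A (A ⧸ Ideal.ofList xs) N i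
        haveI := subsingleton_of_smul_surjective
          (torObj i (ModuleCat.of A (A ⧸ Ideal.ofList xs)) (ModuleCat.of A N)) x hxm hepi
        exact ModuleCat.isZero_of_subsingleton _
      refine ⟨ih'.2 hT, ?_⟩
      obtain ⟨-, δ, w₁, w₂, ex1, ex2⟩ :=
        tor_les_left (ModuleCat.of A N) (stepSC (Ideal.ofList xs) x) hS 0
      have hmono : Mono (((Tor (ModuleCat.{u} A) 0).map (stepSC (Ideal.ofList xs) x).f).app
          (ModuleCat.of A N)) := ex2.mono_g ((hT' 1 le_rfl).eq_of_src _ _)
      rw [ModuleCat.mono_iff_injective] at hmono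
      exact (injective_tor_zero_map_iff (Ideal.ofList xs) x N).1 hmono

end Main

end Groth.Agent.H2.TorBal
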