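import Groth.Prelude.Def_Tors
universe u
open CategoryTheory CategoryTheory.Limits Opposite

namespace Groth.Agent.H2.TorsLib

variable {C : Type u} [SmallCategory C] {J : GrothendieckTopology C}
  {G : Sheaf J AddCommGrpCat.{u}}

theorem hasSection_of_isTrivial (T : Tors.Torsor G) (h : T.IsTrivial) : T.HasSection := by
  obtain ⟨e, he⟩ := h
  refine ⟨⟨{ app := fun U => ↾(fun _ => e.hom.hom.app U (0 : G.obj.obj U)), naturality := ?_ }⟩⟩
  intro U V f
  refine ConcreteCategory.hom_ext _ _ (fun x => ?_)
  have := NatTrans.naturality_apply e.hom.hom f (0 : G.obj.obj U)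
  simp only [types_comp_apply, TypeCat.ofHom_apply]
  rw [← this]
  congr 1
  exact (map_zero (G.obj.map f).hom).symm

end Groth.Agent.H2.TorsLib

namespace Groth.Agent.H2.TorsLib

variable {C : Type u} [SmallCategory C] {J : GrothendieckTopology C}
  {G : Sheaf J AddCommGrpCat.{u}}

theorem isTrivial_of_hasSection (T : Tors.Torsor G) (h : T.HasSection) : T.IsTrivial := by
  obtain ⟨σ⟩ := h
  let ρ : Sheaf.terminal J Types.isTerminalPUnit ⟶ T.P := terminal.from _ ≫ σ
  let s : ∀ U : Cᵒᵖ, T.P.obj.obj U := fun U => ρ.hom.app U PUnit.unit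
  have hs : ∀ {U V : Cᵒᵖ} (f : U ⟶ V), T.P.obj.map f (s U) = s V := by
    intro U V f
    exact (NatTrans.naturality_apply ρ.hom f PUnit.unit).symm
  let eqv : ∀ U : Cᵒᵖ, (G.obj.obj U) ≃ T.P.obj.obj U := fun U =>
    { toFun := fun g => T.vadd g (s U)
      invFun := fun q => (T.free_transitive (s U) q).choose
      left_inv := fun g => ((T.free_transitive (s U) (T.vadd g (s U))).choose_spec.2 g rfl).symm
      right_inv := fun q => (T.free_transitive (s U) q).choose_spec.1 }
  let ν : ((sheafCompose J (forget AddCommGrpCat.{u})).obj G).obj ≅ T.P.obj :=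
    NatIso.ofComponents (fun U => (eqv U).toIso) (by
      intro U V f
      refine ConcreteCategory.hom_ext _ _ (fun g => ?_)
      change T.vadd (G.obj.map f g) (s V) = T.P.obj.map f (T.vadd g (s U))
      rw [T.map_vadd, hs])
  refine ⟨(fullyFaithfulSheafToPresheaf J (Type u)).preimageIso ν, ?_⟩
  intro U g h
  change T.vadd (g + h) (s U) = T.vadd g (T.vadd h (s U))
  exact T.add_vadd g h (s U)

theorem isTrivial_iff_hasSection (T : Tors.Torsor G) : T.IsTrivial ↔ T.HasSection :=
  ⟨hasSection_of_isTrivial T, isTrivial_of_hasSection T⟩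

end Groth.Agent.H2.TorsLib
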