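import Mathlib

/-!
# Towers of abelian groups (helper2)

* injective towers have surjective transition maps;
* elements of the limit of a tower as compatible sequences.
-/

namespace Groth.Agent.H2.TowerInj

open CategoryTheory Limits Opposite

universe u

/-- The "path" tower `m ↦ ∏_{k ≤ m} I_k`. -/
def pathTower (I : ℕᵒᵖ ⥤ AddCommGrpCat.{u}) : ℕᵒᵖ ⥤ AddCommGrpCat.{u} where
  obj m := AddCommGrpCat.of (∀ k : {k : ℕ // k ≤ m.unop}, I.obj (op k.1))
  map {m m'} f := AddCommGrpCat.ofHom
    { toFun := fun φ k => φ ⟨k.1, k.2.trans (leOfHom f.unop)⟩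
      map_zero' := rfl
      map_add' := fun _ _ => rfl }
  map_id _ := rfl
  map_comp _ _ := rfl

/-- The canonical embedding of a tower into its path tower. -/
def toPathTower (I : ℕᵒᵖ ⥤ AddCommGrpCat.{u}) : I ⟶ pathTower I where
  app m := AddCommGrpCat.ofHom
    { toFun := fun x (k : {k : ℕ // k ≤ m.unop}) => I.map (homOfLE k.2).op x
      map_zero' := by funext k; simp
      map_add' := fun x y => by funext k; simp }
  naturality {m m'} f := by
    ext x
    funext k
    change I.map (homOfLE k.2).op (I.map f x) = I.map (homOfLE _).op x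
    rw [← ConcreteCategory.comp_apply, ← I.map_comp]
    rfl

instance (I : ℕᵒᵖ ⥤ AddCommGrpCat.{u}) : Mono (toPathTower I) := by
  have : ∀ m, Mono ((toPathTower I).app m) := by
    intro m
    rw [AddCommGrpCat.mono_iff_injective]
    intro x y h
    have := congrFun h ⟨m.unop, le_rfl⟩
    change I.map (homOfLE le_rfl).op x = I.map (homOfLE le_rfl).op y at this
    have e : (homOfLE (le_refl m.unop)).op = 𝟙 m := rfl
    rw [e, I.map_id] at this
    exact this
  exact NatTrans.mono_of_mono_app _

lemma pathTower_surjective (I : ℕᵒᵖ ⥤ AddCommGrpCat.{u}) (n : ℕ) :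
    Function.Surjective ((pathTower I).map (homOfLE (Nat.le_succ n)).op) := by
  classical
  intro (φ : ∀ k : {k : ℕ // k ≤ n}, I.obj (op k.1))
  let ψ : ∀ k : {k : ℕ // k ≤ n + 1}, I.obj (op k.1) :=
    fun k => if h : k.1 ≤ n then φ ⟨k.1, h⟩ else 0
  refine ⟨ψ, ?_⟩
  funext k
  change (if h : k.1 ≤ n then φ ⟨k.1, h⟩ else 0) = φ k
  rw [dif_pos k.2]

/-- Injective towers of abelian groups have surjective transition maps. -/
theorem surjective_of_injective (I : ℕᵒᵖ ⥤ AddCommGrpCat.{u}) [Injective I] (n : ℕ) :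
    Function.Surjective (I.map (homOfLE (Nat.le_succ n)).op) := by
  let r : pathTower I ⟶ I := Injective.factorThru (𝟙 I) (toPathTower I)
  have hr : toPathTower I ≫ r = 𝟙 I := Injective.comp_factorThru _ _
  intro x
  obtain ⟨p, hp⟩ := pathTower_surjective I n ((toPathTower I).app (op n) x)
  refine ⟨r.app (op (n + 1)) p, ?_⟩
  have nat := NatTrans.naturality_apply r (homOfLE (Nat.le_succ n)).op p
  rw [← nat, hp]
  have := congrArg (fun φ => φ.app (op n) x) hr
  exact this

/-- Elements of the limit of a tower from compatible sequences. -/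
lemma exists_limit_elt (F : ℕᵒᵖ ⥤ AddCommGrpCat.{u}) (s : ∀ n : ℕ, F.obj (op n))
    (hs : ∀ n, F.map (homOfLE (Nat.le_succ n)).op (s (n + 1)) = s n) :
    ∃ x : (limit F : AddCommGrpCat.{u}), ∀ n, limit.π F (op n) x = s n := by
  have hs' : ∀ (m n : ℕ) (h : m ≤ n), F.map (homOfLE h).op (s n) = s m := by
    intro m n h
    induction h with
    | refl =>
      have e : (homOfLE (le_refl m)).op = 𝟙 (op m) := rfl
      rw [e, F.map_id]; rfl
    | @step k hk ih =>
      have e : (homOfLE (Nat.le_succ_of_le hk)).op =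
        (homOfLE (Nat.le_succ k)).op ≫ (homOfLE hk).op := rfl
      rw [e, F.map_comp, ConcreteCategory.comp_apply, hs k, ih]
  let hl := isLimitOfPreserves (forget AddCommGrpCat.{u}) (limit.isLimit F)
  let sec : (F ⋙ forget AddCommGrpCat.{u}).sections :=
    ⟨fun j => s j.unop, fun {j j'} f => hs' j'.unop j.unop (leOfHom f.unop)⟩
  refine ⟨(Types.isLimitEquivSections hl).symm sec, fun n => ?_⟩
  exact Types.isLimitEquivSections_symm_apply hl sec (op n)

lemma limit_ext (F : ℕᵒᵖ ⥤ AddCommGrpCat.{u}) (x y : (limit F : AddCommGrpCat.{u}))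
    (h : ∀ n : ℕ, limit.π F (op n) x = limit.π F (op n) y) : x = y :=
  Concrete.limit_ext F x y (fun j => h j.unop)

end Groth.Agent.H2.TowerInj
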