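import Mathlib
import Groth.Agent.Lib.Helper2.TowerInj

/-!
# Vanishing of `lim^i` for `i ≥ 2` on towers of abelian groups (helper2)
-/

namespace Groth.Agent.H2.TowerLim2

open CategoryTheory Limits Opposite Groth.Agent.H2.TowerInj

universe u

theorem isZero_rightDerived_lim
    [EnoughInjectives (ℕᵒᵖ ⥤ AddCommGrpCat.{u})]
    [(lim : (ℕᵒᵖ ⥤ AddCommGrpCat.{u}) ⥤ AddCommGrpCat.{u}).Additive]
    (A : ℕᵒᵖ ⥤ AddCommGrpCat.{u}) (i : ℕ) (hi : 2 ≤ i) :
    IsZero (((lim : (ℕᵒᵖ ⥤ AddCommGrpCat.{u}) ⥤ AddCommGrpCat.{u}).rightDerived i).obj A) := by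
  classical
  obtain ⟨j, rfl⟩ : ∃ j, i = j + 2 := ⟨i - 2, by omega⟩
  let R : InjectiveResolution A := injectiveResolution A
  refine IsZero.of_iso ?_ (R.isoRightDerivedObj lim (j + 2))
  erw [← HomologicalComplex.exactAt_iff_isZero_homology]
  rw [HomologicalComplex.exactAt_iff' _ (j + 1) (j + 2) (j + 3) (by simp) (by simp)]
  -- notation
  let X : ℕ → (ℕᵒᵖ ⥤ AddCommGrpCat.{u}) := fun k => R.cocomplex.X k
  let D : ∀ k : ℕ, X k ⟶ X (k + 1) := fun k => R.cocomplex.d k (k + 1)
  have hDD : ∀ k, D k ≫ D (k + 1) = 0 := fun k => R.cocomplex.d_comp_d _ _ _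
  -- elementwise exactness
  have ex : ∀ (k n : ℕ) (x : (X (k + 1)).obj (op n)), (D (k + 1)).app (op n) x = 0 →
      ∃ y : (X k).obj (op n), (D k).app (op n) y = x := by
    intro k n x hx
    have h1 : (R.cocomplex.sc' k (k + 1) (k + 2)).Exact := by
      rw [← HomologicalComplex.exactAt_iff' _ k (k + 1) (k + 2) (by simp) (by simp)]
      exact R.cocomplex_exactAt_succ k
    have h2 := h1.map ((evaluation ℕᵒᵖ AddCommGrpCat.{u}).obj (op n))
    exact (ShortComplex.ab_exact_iff _).1 h2 x hx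
  have surj : ∀ (k n : ℕ), Function.Surjective ((X k).map (homOfLE (Nat.le_succ n)).op) := by
    intro k n
    haveI : Injective (X k) := R.injective k
    exact surjective_of_injective (X k) n
  rw [ShortComplex.ab_exact_iff]
  intro (z : (limit (X (j + 2)) : AddCommGrpCat.{u})) hz
  have hz' : (limMap (D (j + 2))) z = 0 := hz
  let zn : ∀ n : ℕ, (X (j + 2)).obj (op n) := fun n => limit.π (X (j + 2)) (op n) z
  have hzn : ∀ n, (D (j + 2)).app (op n) (zn n) = 0 := by
    intro n
    have := congrArg (limit.π (X (j + 3)) (op n)) hz'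
    rw [map_zero, ← ConcreteCategory.comp_apply, limMap_π, ConcreteCategory.comp_apply] at this
    exact this
  have hzt : ∀ n, (X (j + 2)).map (homOfLE (Nat.le_succ n)).op (zn (n + 1)) = zn n := by
    intro n
    simp only [zn]
    rw [← ConcreteCategory.comp_apply, limit.w]
  let P : ℕ → Type u := fun n => {w : (X (j + 1)).obj (op n) // (D (j + 1)).app (op n) w = zn n}
  have step : ∀ n (w : P n), ∃ w' : P (n + 1),
      (X (j + 1)).map (homOfLE (Nat.le_succ n)).op w'.1 = w.1 := by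
    intro n w
    obtain ⟨w', hw'⟩ := ex (j + 1) (n + 1) (zn (n + 1)) (hzn (n + 1))
    let v : (X (j + 1)).obj (op n) := (X (j + 1)).map (homOfLE (Nat.le_succ n)).op w' - w.1
    have hv : (D (j + 1)).app (op n) v = 0 := by
      simp only [v, map_sub]
      have nat := NatTrans.naturality_apply (D (j + 1)) (homOfLE (Nat.le_succ n)).op w'
      rw [nat, hw', hzt, w.2, sub_self]
    obtain ⟨y, hy⟩ := ex j n v hv
    obtain ⟨y', hy'⟩ := surj j n y
    refine ⟨⟨w' - (D j).app (op (n + 1)) y', ?_⟩, ?_⟩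
    · rw [map_sub, hw']
      have : (D (j + 1)).app (op (n + 1)) ((D j).app (op (n + 1)) y') = 0 := by
        rw [← ConcreteCategory.comp_apply, ← NatTrans.comp_app, hDD]
        rfl
      rw [this, sub_zero]
    · change (X (j + 1)).map (homOfLE (Nat.le_succ n)).op (w' - (D j).app (op (n + 1)) y') = w.1
      rw [map_sub]
      have nat := NatTrans.naturality_apply (D j) (homOfLE (Nat.le_succ n)).op y'
      rw [← nat, hy', hy]
      simp [v]
  obtain ⟨w0, hw0⟩ := ex (j + 1) 0 (zn 0) (hzn 0)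
  let α : ∀ n, P n := fun n => Nat.rec (motive := P) ⟨w0, hw0⟩ (fun n a => (step n a).choose) n
  have hα : ∀ n, (X (j + 1)).map (homOfLE (Nat.le_succ n)).op (α (n + 1)).1 = (α n).1 :=
    fun n => (step n (α n)).choose_spec
  obtain ⟨x, hx⟩ := exists_limit_elt (X (j + 1)) (fun n => (α n).1) hα
  refine ⟨x, ?_⟩
  apply limit_ext
  intro n
  change limit.π (X (j + 2)) (op n) ((limMap (D (j + 1))) x) = zn n
  rw [← ConcreteCategory.comp_apply, limMap_π, ConcreteCategory.comp_apply, hx]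
  exact (α n).2

end Groth.Agent.H2.TowerLim2
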