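import Mathlib.CategoryTheory.Triangulated.Pretriangulated
import Mathlib.CategoryTheory.Triangulated.Triangulated

set_option autoImplicit false
universe v u
open CategoryTheory CategoryTheory.Limits CategoryTheory.Pretriangulated

namespace Groth.Agent.H2.TriA

variable {D : Type u} [Category.{v} D] [Preadditive D] [HasZeroObject D] [HasShift D ℤ]
    [∀ n : ℤ, (shiftFunctor D n).Additive] [Pretriangulated D]

/-- The direct sum of two triangles. -/
noncomputable abbrev sumTriangle (T T' : Triangle D) : Triangle D :=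
  Triangle.mk (biprod.map T.mor₁ T'.mor₁) (biprod.map T.mor₂ T'.mor₂)
    (biprod.desc (T.mor₃ ≫ (shiftFunctor D (1 : ℤ)).map biprod.inl)
      (T'.mor₃ ≫ (shiftFunctor D (1 : ℤ)).map biprod.inr))

theorem shift_biprod_decomp {A X X' : D} (w : A ⟶ (shiftFunctor D (1 : ℤ)).obj (X ⊞ X')) :
    w = w ≫ (shiftFunctor D (1 : ℤ)).map biprod.fst ≫ (shiftFunctor D (1 : ℤ)).map biprod.inl +
      w ≫ (shiftFunctor D (1 : ℤ)).map biprod.snd ≫ (shiftFunctor D (1 : ℤ)).map biprod.inr := by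
  rw [← Functor.map_comp, ← Functor.map_comp, ← Preadditive.comp_add, ← Functor.map_add,
    biprod.total, CategoryTheory.Functor.map_id, Category.comp_id]

theorem shift_biprod_hom_ext {A X X' : D} (w w' : A ⟶ (shiftFunctor D (1 : ℤ)).obj (X ⊞ X'))
    (h1 : w ≫ (shiftFunctor D (1 : ℤ)).map biprod.fst = w' ≫ (shiftFunctor D (1 : ℤ)).map biprod.fst)
    (h2 : w ≫ (shiftFunctor D (1 : ℤ)).map biprod.snd = w' ≫ (shiftFunctor D (1 : ℤ)).map biprod.snd) :
    w = w' := by
  rw [shift_biprod_decomp w, shift_biprod_decomp w', ← Category.assoc, ← Category.assoc, h1, h2,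
    Category.assoc, Category.assoc]

theorem desc_shift_fst {X X' Z Z' : D} (h : Z ⟶ (shiftFunctor D (1 : ℤ)).obj X)
    (h' : Z' ⟶ (shiftFunctor D (1 : ℤ)).obj X') :
    biprod.desc (h ≫ (shiftFunctor D (1 : ℤ)).map (biprod.inl : X ⟶ X ⊞ X'))
      (h' ≫ (shiftFunctor D (1 : ℤ)).map (biprod.inr : X' ⟶ X ⊞ X')) ≫
        (shiftFunctor D (1 : ℤ)).map biprod.fst = biprod.fst ≫ h := by
  apply biprod.hom_ext'
  · rw [biprod.inl_desc_assoc, Category.assoc, ← CategoryTheory.Functor.map_comp, biprod.inl_fst,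
      CategoryTheory.Functor.map_id, Category.comp_id, biprod.inl_fst_assoc]
  · rw [biprod.inr_desc_assoc, Category.assoc, ← CategoryTheory.Functor.map_comp, biprod.inr_fst,
      CategoryTheory.Functor.map_zero, comp_zero, biprod.inr_fst_assoc, zero_comp]

theorem desc_shift_snd {X X' Z Z' : D} (h : Z ⟶ (shiftFunctor D (1 : ℤ)).obj X)
    (h' : Z' ⟶ (shiftFunctor D (1 : ℤ)).obj X') :
    biprod.desc (h ≫ (shiftFunctor D (1 : ℤ)).map (biprod.inl : X ⟶ X ⊞ X'))
      (h' ≫ (shiftFunctor D (1 : ℤ)).map (biprod.inr : X' ⟶ X ⊞ X')) ≫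
        (shiftFunctor D (1 : ℤ)).map biprod.snd = biprod.snd ≫ h' := by
  apply biprod.hom_ext'
  · rw [biprod.inl_desc_assoc, Category.assoc, ← CategoryTheory.Functor.map_comp, biprod.inl_snd,
      CategoryTheory.Functor.map_zero, comp_zero, biprod.inl_snd_assoc, zero_comp]
  · rw [biprod.inr_desc_assoc, Category.assoc, ← CategoryTheory.Functor.map_comp, biprod.inr_snd,
      CategoryTheory.Functor.map_id, Category.comp_id, biprod.inr_snd_assoc]

theorem sum_distinguished {X Y Z X' Y' Z' : D} (f : X ⟶ Y) (g : Y ⟶ Z)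
    (h : Z ⟶ (shiftFunctor D (1 : ℤ)).obj X) (f' : X' ⟶ Y') (g' : Y' ⟶ Z')
    (h' : Z' ⟶ (shiftFunctor D (1 : ℤ)).obj X')
    (hT : Triangle.mk f g h ∈ distTriang D) (hT' : Triangle.mk f' g' h' ∈ distTriang D) :
    Triangle.mk (biprod.map f f') (biprod.map g g')
      (biprod.desc (h ≫ (shiftFunctor D (1 : ℤ)).map biprod.inl)
        (h' ≫ (shiftFunctor D (1 : ℤ)).map biprod.inr)) ∈ distTriang D := by
  obtain ⟨Z'', g'', h'', hT''⟩ := distinguished_cocone_triangle (biprod.map f f')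
  obtain ⟨c, hc1, hc2⟩ : ∃ c : Z'' ⟶ Z, g'' ≫ c = biprod.fst ≫ g ∧
      h'' ≫ (shiftFunctor D (1 : ℤ)).map biprod.fst = c ≫ h :=
    complete_distinguished_triangle_morphism _ _ hT'' hT
      biprod.fst biprod.fst (biprod.map_fst _ _)
  obtain ⟨c', hc1', hc2'⟩ : ∃ c' : Z'' ⟶ Z', g'' ≫ c' = biprod.snd ≫ g' ∧
      h'' ≫ (shiftFunctor D (1 : ℤ)).map biprod.snd = c' ≫ h' :=
    complete_distinguished_triangle_morphism _ _ hT'' hT'
      biprod.snd biprod.snd (biprod.map_snd _ _)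
  have hγ2 : g'' ≫ biprod.lift c c' = biprod.map g g' := by
    apply biprod.hom_ext
    · rw [Category.assoc, biprod.lift_fst, hc1, biprod.map_fst]
    · rw [Category.assoc, biprod.lift_snd, hc1', biprod.map_snd]
  have hγ3 : h'' = biprod.lift c c' ≫ biprod.desc (h ≫ (shiftFunctor D (1 : ℤ)).map biprod.inl)
        (h' ≫ (shiftFunctor D (1 : ℤ)).map biprod.inr) := by
    apply shift_biprod_hom_ext
    · rw [Category.assoc, desc_shift_fst, biprod.lift_fst_assoc, hc2]
    · rw [Category.assoc, desc_shift_snd, biprod.lift_snd_assoc, hc2']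
  have hS31 : biprod.desc (h ≫ (shiftFunctor D (1 : ℤ)).map biprod.inl)
        (h' ≫ (shiftFunctor D (1 : ℤ)).map biprod.inr) ≫
        (shiftFunctor D (1 : ℤ)).map (biprod.map f f') = 0 := by
    have z : h ≫ (shiftFunctor D (1 : ℤ)).map f = 0 := comp_distTriang_mor_zero₃₁ _ hT
    have z' : h' ≫ (shiftFunctor D (1 : ℤ)).map f' = 0 := comp_distTriang_mor_zero₃₁ _ hT'
    apply biprod.hom_ext'
    · rw [biprod.inl_desc_assoc, Category.assoc, ← CategoryTheory.Functor.map_comp, biprod.inl_map,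
        CategoryTheory.Functor.map_comp, ← Category.assoc, z, zero_comp, comp_zero]
    · rw [biprod.inr_desc_assoc, Category.assoc, ← CategoryTheory.Functor.map_comp, biprod.inr_map,
        CategoryTheory.Functor.map_comp, ← Category.assoc, z', zero_comp, comp_zero]
  -- exactness at the third object of the sum triangle
  have hex3 : ∀ {A : D} (w : A ⟶ Z ⊞ Z'), w ≫ biprod.desc (h ≫ (shiftFunctor D (1 : ℤ)).map biprod.inl)
        (h' ≫ (shiftFunctor D (1 : ℤ)).map biprod.inr) = 0 →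
        ∃ b : A ⟶ Y ⊞ Y', w = b ≫ biprod.map g g' := by
    intro A w hw
    have h1 : (w ≫ biprod.fst) ≫ h = 0 := by
      rw [Category.assoc, ← desc_shift_fst h h', ← Category.assoc, hw, zero_comp]
    have h2 : (w ≫ biprod.snd) ≫ h' = 0 := by
      rw [Category.assoc, ← desc_shift_snd h h', ← Category.assoc, hw, zero_comp]
    obtain ⟨b₁, hb₁⟩ : ∃ b₁ : A ⟶ Y, w ≫ biprod.fst = b₁ ≫ g :=
      Triangle.coyoneda_exact₃ _ hT (w ≫ biprod.fst) h1
    obtain ⟨b₂, hb₂⟩ : ∃ b₂ : A ⟶ Y', w ≫ biprod.snd = b₂ ≫ g' :=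
      Triangle.coyoneda_exact₃ _ hT' (w ≫ biprod.snd) h2
    refine ⟨biprod.lift b₁ b₂, ?_⟩
    apply biprod.hom_ext
    · rw [Category.assoc, biprod.map_fst, biprod.lift_fst_assoc]; exact hb₁
    · rw [Category.assoc, biprod.map_snd, biprod.lift_snd_assoc]; exact hb₂
  have hex2 : ∀ {A : D} (v : A ⟶ Y ⊞ Y'), v ≫ biprod.map g g' = 0 →
        ∃ a : A ⟶ X ⊞ X', v = a ≫ biprod.map f f' := by
    intro A v hv
    have h1 : (v ≫ biprod.fst) ≫ g = 0 := by
      rw [Category.assoc, ← biprod.map_fst, ← Category.assoc, hv, zero_comp]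
    have h2 : (v ≫ biprod.snd) ≫ g' = 0 := by
      rw [Category.assoc, ← biprod.map_snd, ← Category.assoc, hv, zero_comp]
    obtain ⟨a₁, ha₁⟩ : ∃ a₁ : A ⟶ X, v ≫ biprod.fst = a₁ ≫ f :=
      Triangle.coyoneda_exact₂ _ hT (v ≫ biprod.fst) h1
    obtain ⟨a₂, ha₂⟩ : ∃ a₂ : A ⟶ X', v ≫ biprod.snd = a₂ ≫ f' :=
      Triangle.coyoneda_exact₂ _ hT' (v ≫ biprod.snd) h2
    refine ⟨biprod.lift a₁ a₂, ?_⟩
    apply biprod.hom_ext
    · rw [Category.assoc, biprod.map_fst, biprod.lift_fst_assoc]; exact ha₁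
    · rw [Category.assoc, biprod.map_snd, biprod.lift_snd_assoc]; exact ha₂
  have hiso : IsIso (biprod.lift c c') := by
    refine isIso_of_yoneda_map_bijective _ (fun A => ⟨?_, ?_⟩)
    · suffices H : ∀ u : A ⟶ Z'', u ≫ biprod.lift c c' = 0 → u = 0 by
        intro u u' huu
        have := H (u - u') (by rw [Preadditive.sub_comp]; exact sub_eq_zero.mpr huu)
        exact sub_eq_zero.mp this
      intro u hu
      have hu3 : u ≫ h'' = 0 := by rw [hγ3, ← Category.assoc, hu, zero_comp]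
      obtain ⟨v, hv'⟩ : ∃ v : A ⟶ Y ⊞ Y', u = v ≫ g'' := Triangle.coyoneda_exact₃ _ hT'' u hu3
      have hv2 : v ≫ biprod.map g g' = 0 := by rw [← hγ2, ← Category.assoc, ← hv', hu]
      obtain ⟨a, ha⟩ := hex2 v hv2
      rw [hv', ha, Category.assoc]
      have z : biprod.map f f' ≫ g'' = 0 := comp_distTriang_mor_zero₁₂ _ hT''
      rw [z, comp_zero]
    · intro a
      have h1 : (a ≫ biprod.desc (h ≫ (shiftFunctor D (1 : ℤ)).map biprod.inl)
        (h' ≫ (shiftFunctor D (1 : ℤ)).map biprod.inr)) ≫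
          (shiftFunctor D (1 : ℤ)).map (biprod.map f f') = 0 := by
        rw [Category.assoc, hS31, comp_zero]
      obtain ⟨a', ha''⟩ : ∃ a' : A ⟶ Z'', a ≫ biprod.desc (h ≫ (shiftFunctor D (1 : ℤ)).map biprod.inl)
        (h' ≫ (shiftFunctor D (1 : ℤ)).map biprod.inr) = a' ≫ h'' :=
        Triangle.coyoneda_exact₁ _ hT'' _ h1
      have h2 : (a - a' ≫ biprod.lift c c') ≫ biprod.desc (h ≫ (shiftFunctor D (1 : ℤ)).map biprod.inl)
        (h' ≫ (shiftFunctor D (1 : ℤ)).map biprod.inr) = 0 := by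
        rw [Preadditive.sub_comp, Category.assoc, ← hγ3, ha'', sub_self]
      obtain ⟨b, hb⟩ := hex3 _ h2
      refine ⟨a' + b ≫ g'', ?_⟩
      show (a' + b ≫ g'') ≫ biprod.lift c c' = a
      rw [Preadditive.add_comp, Category.assoc, hγ2, ← hb]
      abel
  refine isomorphic_distinguished _ hT'' _ (Iso.symm ?_)
  haveI := hiso
  let e : Z'' ≅ Z ⊞ Z' := asIso (biprod.lift c c')
  refine Triangle.isoMk _ _ (Iso.refl _) (Iso.refl _) e ?_ ?_ ?_
  · exact (Category.comp_id _).trans (Category.id_comp _).symm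
  · exact hγ2.trans (Category.id_comp _).symm
  · show h'' ≫ (shiftFunctor D (1 : ℤ)).map (𝟙 _) = biprod.lift c c' ≫ _
    rw [CategoryTheory.Functor.map_id, Category.comp_id]
    exact hγ3

theorem isIso_of_isIso_biprod_map {A A' B B' : D} (c : A ⟶ B) (c' : A' ⟶ B')
    (hiso : IsIso (biprod.map c c')) : IsIso c ∧ IsIso c' := by
  constructor
  · refine ⟨biprod.inl ≫ inv (biprod.map c c') ≫ biprod.fst, ?_, ?_⟩
    · rw [← Category.assoc, ← biprod.inl_map (g := c'), Category.assoc, IsIso.hom_inv_id_assoc, biprod.inl_fst]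
    · rw [Category.assoc, Category.assoc, ← biprod.map_fst (g := c'), IsIso.inv_hom_id_assoc, biprod.inl_fst]
  · refine ⟨biprod.inr ≫ inv (biprod.map c c') ≫ biprod.snd, ?_, ?_⟩
    · rw [← Category.assoc, ← biprod.inr_map (f := c), Category.assoc, IsIso.hom_inv_id_assoc, biprod.inr_snd]
    · rw [Category.assoc, Category.assoc, ← biprod.map_snd (f := c), IsIso.inv_hom_id_assoc, biprod.inr_snd]

theorem of_sum_distinguished {X Y Z X' Y' Z' : D} (f : X ⟶ Y) (g : Y ⟶ Z)
    (h : Z ⟶ (shiftFunctor D (1 : ℤ)).obj X) (f' : X' ⟶ Y') (g' : Y' ⟶ Z')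
    (h' : Z' ⟶ (shiftFunctor D (1 : ℤ)).obj X')
    (hS : Triangle.mk (biprod.map f f') (biprod.map g g')
      (biprod.desc (h ≫ (shiftFunctor D (1 : ℤ)).map biprod.inl)
        (h' ≫ (shiftFunctor D (1 : ℤ)).map biprod.inr)) ∈ distTriang D) :
    Triangle.mk f g h ∈ distTriang D ∧ Triangle.mk f' g' h' ∈ distTriang D := by
  obtain ⟨Q, p, q, hT₁⟩ := distinguished_cocone_triangle f
  obtain ⟨Q', p', q', hT₁'⟩ := distinguished_cocone_triangle f'
  obtain ⟨c, hc1, hc2⟩ : ∃ c : Z ⊞ Z' ⟶ Q, biprod.map g g' ≫ c = biprod.fst ≫ p ∧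
      biprod.desc (h ≫ (shiftFunctor D (1 : ℤ)).map biprod.inl)
        (h' ≫ (shiftFunctor D (1 : ℤ)).map biprod.inr) ≫ (shiftFunctor D (1 : ℤ)).map biprod.fst = c ≫ q :=
    complete_distinguished_triangle_morphism _ _ hS hT₁ biprod.fst biprod.fst (biprod.map_fst _ _)
  obtain ⟨c', hc1', hc2'⟩ : ∃ c' : Z ⊞ Z' ⟶ Q', biprod.map g g' ≫ c' = biprod.snd ≫ p' ∧
      biprod.desc (h ≫ (shiftFunctor D (1 : ℤ)).map biprod.inl)
        (h' ≫ (shiftFunctor D (1 : ℤ)).map biprod.inr) ≫ (shiftFunctor D (1 : ℤ)).map biprod.snd = c' ≫ q' :=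
    complete_distinguished_triangle_morphism _ _ hS hT₁' biprod.snd biprod.snd (biprod.map_snd _ _)
  have e1 : g ≫ biprod.inl ≫ c = p := by
    rw [← Category.assoc, ← biprod.inl_map (g := g'), Category.assoc, hc1, biprod.inl_fst_assoc]
  have e2 : (biprod.inl ≫ c) ≫ q = h := by
    rw [Category.assoc, ← hc2, desc_shift_fst, biprod.inl_fst_assoc]
  have e1' : g' ≫ biprod.inr ≫ c' = p' := by
    rw [← Category.assoc, ← biprod.inr_map (f := g), Category.assoc, hc1', biprod.inr_snd_assoc]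
  have e2' : (biprod.inr ≫ c') ≫ q' = h' := by
    rw [Category.assoc, ← hc2', desc_shift_snd, biprod.inr_snd_assoc]
  have hS₁ := sum_distinguished f p q f' p' q' hT₁ hT₁'
  let φ : Triangle.mk (biprod.map f f') (biprod.map g g')
      (biprod.desc (h ≫ (shiftFunctor D (1 : ℤ)).map biprod.inl)
        (h' ≫ (shiftFunctor D (1 : ℤ)).map biprod.inr)) ⟶
      Triangle.mk (biprod.map f f') (biprod.map p p')
      (biprod.desc (q ≫ (shiftFunctor D (1 : ℤ)).map biprod.inl)
        (q' ≫ (shiftFunctor D (1 : ℤ)).map biprod.inr)) :=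
    Triangle.homMk _ _ (𝟙 (X ⊞ X')) (𝟙 (Y ⊞ Y')) (biprod.map (biprod.inl ≫ c) (biprod.inr ≫ c'))
      ((Category.comp_id _).trans (Category.id_comp _).symm)
      (by
        show biprod.map g g' ≫ biprod.map (biprod.inl ≫ c) (biprod.inr ≫ c') = 𝟙 _ ≫ biprod.map p p'
        rw [Category.id_comp]
        apply biprod.hom_ext
        · rw [Category.assoc, biprod.map_fst, biprod.map_fst_assoc, biprod.map_fst, e1]
        · rw [Category.assoc, biprod.map_snd, biprod.map_snd_assoc, biprod.map_snd, e1'])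
      (by
        show biprod.desc _ _ ≫ (shiftFunctor D (1 : ℤ)).map (𝟙 _) = biprod.map (biprod.inl ≫ c) (biprod.inr ≫ c') ≫ biprod.desc _ _
        rw [CategoryTheory.Functor.map_id, Category.comp_id]
        apply biprod.hom_ext'
        · rw [biprod.inl_desc, biprod.inl_map_assoc, biprod.inl_desc, ← Category.assoc, e2]
        · rw [biprod.inr_desc, biprod.inr_map_assoc, biprod.inr_desc, ← Category.assoc, e2'])
  have hφ : IsIso (biprod.map (biprod.inl ≫ c) (biprod.inr ≫ c')) :=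
    isIso₃_of_isIso₁₂ φ hS hS₁ (by show IsIso (𝟙 _); infer_instance) (by show IsIso (𝟙 _); infer_instance)
  obtain ⟨i1, i2⟩ := isIso_of_isIso_biprod_map _ _ hφ
  constructor
  · refine isomorphic_distinguished _ hT₁ _ ?_
    let e : Z ≅ Q := asIso (biprod.inl ≫ c)
    refine Triangle.isoMk _ _ (Iso.refl _) (Iso.refl _) e ?_ ?_ ?_
    · exact (Category.comp_id _).trans (Category.id_comp _).symm
    · exact e1.trans (Category.id_comp _).symm
    · show h ≫ (shiftFunctor D (1 : ℤ)).map (𝟙 _) = (biprod.inl ≫ c) ≫ q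
      rw [CategoryTheory.Functor.map_id, Category.comp_id, e2]
  · refine isomorphic_distinguished _ hT₁' _ ?_
    let e : Z' ≅ Q' := asIso (biprod.inr ≫ c')
    refine Triangle.isoMk _ _ (Iso.refl _) (Iso.refl _) e ?_ ?_ ?_
    · exact (Category.comp_id _).trans (Category.id_comp _).symm
    · exact e1'.trans (Category.id_comp _).symm
    · show h' ≫ (shiftFunctor D (1 : ℤ)).map (𝟙 _) = (biprod.inr ≫ c') ≫ q'
      rw [CategoryTheory.Functor.map_id, Category.comp_id, e2']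


end Groth.Agent.H2.TriA
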