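import Mathlib.CategoryTheory.Triangulated.Subcategory
import Mathlib.CategoryTheory.Triangulated.Orthogonal
import Mathlib.CategoryTheory.ObjectProperty.Orthogonal

set_option autoImplicit false
universe v u
open CategoryTheory CategoryTheory.Limits CategoryTheory.Pretriangulated

namespace Groth.Agent.H2.TriRefl

variable {D : Type u} [Category.{v} D] [Preadditive D] [HasZeroObject D] [HasShift D ℤ]
    [∀ n : ℤ, (shiftFunctor D n).Additive] [Pretriangulated D]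

/-- `g : X ⟶ Y` is a reflection with respect to `B` (without asking `B Y`). -/
def IsRefl (B : ObjectProperty D) {X Y : D} (g : X ⟶ Y) : Prop :=
  ∀ B' : D, B B' → Function.Bijective (fun u : Y ⟶ B' => g ≫ u)

theorem IsRefl.shift {B : ObjectProperty D} [B.IsStableUnderShift ℤ] {X Y : D} {g : X ⟶ Y}
    (hg : IsRefl B g) : IsRefl B ((shiftFunctor D (1 : ℤ)).map g) := by
  intro B' hB'
  let e : (shiftFunctor D (1 : ℤ)).obj ((shiftFunctor D (-1 : ℤ)).obj B') ≅ B' :=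
    (shiftFunctorCompIsoId D (-1 : ℤ) 1 (by omega)).app B'
  have hB'' : B ((shiftFunctor D (-1 : ℤ)).obj B') := B.le_shift (-1 : ℤ) _ hB'
  constructor
  · intro u u' huu
    obtain ⟨u1, hu1⟩ := (shiftFunctor D (1 : ℤ)).map_surjective (u ≫ e.inv)
    obtain ⟨u2, hu2⟩ := (shiftFunctor D (1 : ℤ)).map_surjective (u' ≫ e.inv)
    have h1 : g ≫ u1 = g ≫ u2 := by
      apply (shiftFunctor D (1 : ℤ)).map_injective
      rw [Functor.map_comp, Functor.map_comp, hu1, hu2, ← Category.assoc, ← Category.assoc]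
      exact congrArg (· ≫ e.inv) huu
    have h2 : u1 = u2 := (hg _ hB'').1 h1
    have h3 : u ≫ e.inv = u' ≫ e.inv := by rw [← hu1, ← hu2, h2]
    exact (cancel_mono e.inv).mp h3
  · intro w
    obtain ⟨w1, hw1⟩ := (shiftFunctor D (1 : ℤ)).map_surjective (w ≫ e.inv)
    obtain ⟨u1, hu1⟩ := (hg _ hB'').2 w1
    refine ⟨(shiftFunctor D (1 : ℤ)).map u1 ≫ e.hom, ?_⟩
    show (shiftFunctor D (1 : ℤ)).map g ≫ (shiftFunctor D (1 : ℤ)).map u1 ≫ e.hom = w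
    rw [← Category.assoc, ← Functor.map_comp]
    have : g ≫ u1 = w1 := hu1
    rw [this, hw1, Category.assoc, e.inv_hom_id, Category.comp_id]

theorem isRefl_mid {B : ObjectProperty D} [B.IsStableUnderShift ℤ]
    {X₁ X₂ X₃ Y₁ Y₂ Y₃ : D} (u : X₁ ⟶ X₂) (v : X₂ ⟶ X₃) (w : X₃ ⟶ (shiftFunctor D (1 : ℤ)).obj X₁)
    (u' : Y₁ ⟶ Y₂) (v' : Y₂ ⟶ Y₃) (w' : Y₃ ⟶ (shiftFunctor D (1 : ℤ)).obj Y₁)
    (hX : Triangle.mk u v w ∈ distTriang D) (hY : Triangle.mk u' v' w' ∈ distTriang D)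
    (g₁ : X₁ ⟶ Y₁) (g₂ : X₂ ⟶ Y₂) (g₃ : X₃ ⟶ Y₃)
    (c₁ : u ≫ g₂ = g₁ ≫ u') (c₂ : v ≫ g₃ = g₂ ≫ v')
    (c₃ : w ≫ (shiftFunctor D (1 : ℤ)).map g₁ = g₃ ≫ w')
    (h₁ : IsRefl B g₁) (h₃ : IsRefl B g₃) : IsRefl B g₂ := by
  have h₁s : IsRefl B ((shiftFunctor D (1 : ℤ)).map g₁) := h₁.shift
  have zX12 : u ≫ v = 0 := comp_distTriang_mor_zero₁₂ _ hX
  have zY12 : u' ≫ v' = 0 := comp_distTriang_mor_zero₁₂ _ hY
  have zY23 : v' ≫ w' = 0 := comp_distTriang_mor_zero₂₃ _ hY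
  have zX31 : w ≫ (shiftFunctor D (1 : ℤ)).map u = 0 := comp_distTriang_mor_zero₃₁ _ hX
  intro B' hB'
  constructor
  · suffices H : ∀ φ : Y₂ ⟶ B', g₂ ≫ φ = 0 → φ = 0 by
      intro φ φ' hφ
      have := H (φ - φ') (by rw [Preadditive.comp_sub]; exact sub_eq_zero.mpr hφ)
      exact sub_eq_zero.mp this
    intro φ hφ
    have e1 : u' ≫ φ = 0 := by
      apply (h₁ B' hB').1
      show g₁ ≫ u' ≫ φ = g₁ ≫ 0
      rw [← Category.assoc, ← c₁, Category.assoc, hφ, comp_zero, comp_zero]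
    obtain ⟨ψ, hψ⟩ : ∃ ψ : Y₃ ⟶ B', φ = v' ≫ ψ := Triangle.yoneda_exact₂ _ hY φ e1
    have e2 : v ≫ (g₃ ≫ ψ) = 0 := by
      rw [← Category.assoc, c₂, Category.assoc, ← hψ, hφ]
    obtain ⟨χ, hχ⟩ : ∃ χ : (shiftFunctor D (1 : ℤ)).obj X₁ ⟶ B', g₃ ≫ ψ = w ≫ χ :=
      Triangle.yoneda_exact₃ _ hX _ e2
    obtain ⟨χ', hχ'⟩ := (h₁s B' hB').2 χ
    have hχ'' : (shiftFunctor D (1 : ℤ)).map g₁ ≫ χ' = χ := hχ'
    have e3 : ψ = w' ≫ χ' := by
      apply (h₃ B' hB').1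
      show g₃ ≫ ψ = g₃ ≫ w' ≫ χ'
      rw [hχ, ← hχ'', ← Category.assoc, c₃, Category.assoc]
    rw [hψ, e3, ← Category.assoc, zY23, zero_comp]
  · intro φ
    obtain ⟨α, hα⟩ := (h₁ B' hB').2 (u ≫ φ)
    have hα' : g₁ ≫ α = u ≫ φ := hα
    have hB1 : B ((shiftFunctor D (1 : ℤ)).obj B') := B.le_shift (1 : ℤ) _ hB'
    have e1 : w' ≫ (shiftFunctor D (1 : ℤ)).map α = 0 := by
      apply (h₃ _ hB1).1
      show g₃ ≫ w' ≫ (shiftFunctor D (1 : ℤ)).map α = g₃ ≫ 0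
      rw [← Category.assoc, ← c₃, Category.assoc, ← Functor.map_comp, hα', Functor.map_comp,
        ← Category.assoc, zX31, zero_comp, comp_zero]
    obtain ⟨ρ, hρ⟩ : ∃ ρ : (shiftFunctor D (1 : ℤ)).obj Y₂ ⟶ (shiftFunctor D (1 : ℤ)).obj B',
        (shiftFunctor D (1 : ℤ)).map α = (-(shiftFunctor D (1 : ℤ)).map u') ≫ ρ :=
      Triangle.yoneda_exact₃ _ (rot_of_distTriang _ hY) _ e1
    obtain ⟨ρ', rfl⟩ := (shiftFunctor D (1 : ℤ)).map_surjective ρ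
    have e2 : α = u' ≫ (-ρ') := by
      apply (shiftFunctor D (1 : ℤ)).map_injective
      rw [hρ, Functor.map_comp, Functor.map_neg, Preadditive.neg_comp, Preadditive.comp_neg]
    have e3 : u ≫ (φ - g₂ ≫ (-ρ')) = 0 := by
      rw [Preadditive.comp_sub, ← Category.assoc, c₁, Category.assoc, ← e2, hα', sub_self]
    obtain ⟨γ, hγ⟩ : ∃ γ : X₃ ⟶ B', φ - g₂ ≫ (-ρ') = v ≫ γ := Triangle.yoneda_exact₂ _ hX _ e3
    obtain ⟨γ', hγ'⟩ := (h₃ B' hB').2 γ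
    have hγ'' : g₃ ≫ γ' = γ := hγ'
    refine ⟨-ρ' + v' ≫ γ', ?_⟩
    show g₂ ≫ (-ρ' + v' ≫ γ') = φ
    rw [Preadditive.comp_add, ← Category.assoc g₂ v', ← c₂, Category.assoc, hγ'', ← hγ]
    abel


theorem yoneda_exact₃_shift {X Y Z : D} (f : X ⟶ Y) (g : Y ⟶ Z) (h : Z ⟶ (shiftFunctor D (1 : ℤ)).obj X)
    (hT : Triangle.mk f g h ∈ distTriang D) (m : ℤ) {W : D}
    (θ : (shiftFunctor D m).obj Z ⟶ W) (hθ : (shiftFunctor D m).map g ≫ θ = 0) :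
    ∃ γ : (shiftFunctor D m).obj ((shiftFunctor D (1 : ℤ)).obj X) ⟶ W,
      θ = (shiftFunctor D m).map h ≫ γ := by
  have hT' := Triangle.shift_distinguished _ hT m
  have h1 : ((CategoryTheory.shiftFunctor (Triangle D) m).obj (Triangle.mk f g h)).mor₂ ≫ θ = 0 := by
    show (m.negOnePow • (shiftFunctor D m).map g) ≫ θ = 0
    rw [Linear.units_smul_comp, hθ, smul_zero]
  obtain ⟨γ', hγ'⟩ := Triangle.yoneda_exact₃ _ hT' θ h1
  refine ⟨m.negOnePow • ((shiftFunctorComm D 1 m).hom.app X ≫ γ'), ?_⟩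
  rw [hγ']
  show (m.negOnePow • (shiftFunctor D m).map h ≫ (shiftFunctorComm D 1 m).hom.app X) ≫ γ' = _
  rw [Linear.units_smul_comp, Linear.comp_units_smul, Category.assoc]


end Groth.Agent.H2.TriRefl
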