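import Groth.Agent.Lib.Helper2.RpC1
import Groth.Agent.Lib.Helper2.RpB6
import Groth.Agent.Lib.Helper2.MumA

/-!
# Truncating a bounded-above complex of finite projective modules (helper2)

Algebra for the "minimal amplitude" form of the Mumford complex: kernels and cokernels of
differentials that are projective, and the canonical truncations.
-/

set_option autoImplicit false
set_option linter.style.haveILetI false
universe u

open CategoryTheory CategoryTheory.Limits TensorProduct

namespace Groth.Agent.H2.TruncG

section modules

variable {A : Type u} [CommRing A] {M N Q : Type u} [AddCommGroup M] [AddCommGroup N]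
  [AddCommGroup Q] [Module A M] [Module A N] [Module A Q]

/-- the kernel of a surjection between projective modules is projective. -/
lemma projective_ker_of_surjective [Module.Projective A M] [Module.Projective A Q]
    (g : M →ₗ[A] Q) (hg : Function.Surjective g) : Module.Projective A (LinearMap.ker g) := by
  obtain ⟨s, hs⟩ := g.exists_rightInverse_of_surjective (LinearMap.range_eq_top.2 hg)
  have hmem : ∀ m : M, m - s (g m) ∈ LinearMap.ker g := fun m => by
    have h1 : g (s (g m)) = g m := congr($hs (g m))
    rw [LinearMap.mem_ker, map_sub, h1, sub_self]
  let r : M →ₗ[A] LinearMap.ker g :=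
    { toFun := fun m => ⟨m - s (g m), hmem m⟩
      map_add' := fun m m' => by
        ext
        simp only [map_add, Submodule.coe_add]
        abel
      map_smul' := fun a m => by
        ext
        simp only [map_smul, RingHom.id_apply, Submodule.coe_smul, smul_sub] }
  refine Module.Projective.of_split (LinearMap.ker g).subtype r ?_
  ext ⟨m, hm⟩
  have : g m = 0 := hm
  simp [r, this]

/-- if `M`, `N` and `coker f` are projective, so is `ker f`. -/
lemma projective_ker_of_projective_coker [Module.Projective A M] [Module.Projective A N]
    (f : M →ₗ[A] N) [Module.Projective A (N ⧸ LinearMap.range f)] :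
    Module.Projective A (LinearMap.ker f) := by
  haveI h1 : Module.Projective A (LinearMap.ker (LinearMap.range f).mkQ) :=
    projective_ker_of_surjective _ (Submodule.mkQ_surjective _)
  haveI h2 : Module.Projective A (LinearMap.range f) := by
    rw [Submodule.ker_mkQ] at h1
    exact h1
  have h3 := projective_ker_of_surjective f.rangeRestrict f.surjective_rangeRestrict
  rwa [LinearMap.ker_rangeRestrict] at h3

end modules

end Groth.Agent.H2.TruncG
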