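import Groth.Agent.Lib.Helper2.TruncG1
import Mathlib.Algebra.Homology.Embedding.CochainComplex

/-!
# Truncating a bounded-above complex of finite projective modules, II (helper2)

Cycles / opcycles of complexes of modules as kernels / quotients; projectivity of the
boundary terms of the canonical truncations.
-/

set_option autoImplicit false
set_option linter.style.haveILetI false
universe u

open CategoryTheory CategoryTheory.Limits TensorProduct

namespace Groth.Agent.H2.TruncG

open Groth.Agent.H2.Mum Groth.Agent.H2.RpC Groth.Agent.H8.TFun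

section general

variable {A : Type u} [CommRing A] {ι : Type} {c : ComplexShape ι}
  (K : HomologicalComplex (ModuleCat.{u} A) c)

/-- opcycles as a quotient. -/
noncomputable def opcyclesIsoQuot (i j : ι) (hi : c.prev j = i) :
    K.opcycles j ≅ ModuleCat.of A (K.X j ⧸ LinearMap.range (K.d i j).hom) :=
  (K.opcyclesIsCokernel i j hi).coconePointUniqueUpToIso (ModuleCat.cokernelIsColimit (K.d i j))

/-- cycles as a kernel. -/
noncomputable def cyclesIsoKer (i j : ι) (hj : c.next i = j) :
    K.cycles i ≅ ModuleCat.of A (LinearMap.ker (K.d i j).hom) :=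
  (K.cyclesIsKernel i j hj).conePointUniqueUpToIso (ModuleCat.kernelIsLimit (K.d i j))

end general

section flip

variable {A : Type u} [CommRing A] (K : CochainComplex (ModuleCat.{u} A) ℤ)

lemma flip_finite_flat' (hK : ∀ i, Module.Finite A (K.X i) ∧ Module.Projective A (K.X i))
    (i : ℤ) : Module.Finite A ((Mum.flip K).X i) ∧ Module.Flat A ((Mum.flip K).X i) := by
  haveI := (hK (-i)).1
  haveI := (hK (-i)).2
  exact ⟨Module.Finite.equiv (flipXIso K i).toLinearEquiv.symm,
    Module.Flat.of_linearEquiv (flipXIso K i).toLinearEquiv⟩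

/-- the cokernel of `d^{a-1}` in cochain terms and in the flipped complex. -/
noncomputable def quotFlipIso (a a' : ℤ) (ha : a' + 1 = a) :
    ModuleCat.of A (K.X a ⧸ LinearMap.range (K.d a' a).hom) ≅
      ModuleCat.of A ((Mum.flip K).X (-a) ⧸ LinearMap.range ((Mum.flip K).d (-a') (-a)).hom) :=
  (opcyclesIsoQuot K a' a (by subst ha; simp)).symm ≪≫
    (K.extendOpcyclesIso eNeg (j := a) (j' := -a) rfl).symm ≪≫
    opcyclesIsoQuot (Mum.flip K) (-a') (-a) (by subst ha; simp)

end flip

end Groth.Agent.H2.TruncG
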