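import Groth.Agent.Lib.Helper2.TruncG2

/-!
# Truncating a bounded-above complex of finite projective modules, III (helper2)

The boundary terms of the canonical truncations are finite projective.
-/

set_option autoImplicit false
set_option linter.style.haveILetI false
universe u

open CategoryTheory CategoryTheory.Limits TensorProduct

namespace Groth.Agent.H2.TruncG

open Groth.Agent.H2.Mum Groth.Agent.H2.RpC Groth.Agent.H8.TFun

variable {A : Type u} [CommRing A] [IsNoetherianRing A] (K : CochainComplex (ModuleCat.{u} A) ℤ)

/-- a finite module killed near every prime vanishes. -/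
lemma subsingleton_of_forall_exists_annihilator (H : Type u) [AddCommGroup H] [Module A H]
    (h : ∀ x : PrimeSpectrum A, ∃ r : A, r ∉ x.asIdeal ∧ ∀ m : H, r • m = 0) :
    Subsingleton H := by
  rw [← Module.annihilator_eq_top_iff (R := A)]
  by_contra hne
  obtain ⟨m, hm, hle⟩ := Ideal.exists_le_maximal _ hne
  obtain ⟨r, hr, hr0⟩ := h ⟨m, hm.isPrime⟩
  exact hr (hle (Module.mem_annihilator.2 hr0))

/-- if the fibre ranks in degree `p` vanish everywhere, then `H^p(K) = 0`. -/
theorem isZero_homology_of_dRank (hK : ∀ i, Module.Finite A (K.X i) ∧ Module.Projective A (K.X i))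
    (p : ℤ) (h : ∀ x, CohIII.dRank (Mum.flip K) (-p) x = 0) : IsZero (K.homology p) := by
  refine IsZero.of_iso ?_ (flipHomologyIso A K p).symm
  haveI := subsingleton_of_forall_exists_annihilator ((Mum.flip K).homology (-p))
    (fun x => exists_annihilator_of_dRank_eq_zero (Mum.flip K) (flip_finite_flat' K hK) (-p) x (h x))
  exact ModuleCat.isZero_of_subsingleton _

/-- **lower truncation**: if the fibre ranks vanish in all degrees `< a`, then `K` is acyclic
in degrees `< a` and `coker d^{a-1}` is finite projective. -/
theorem lower (hK : ∀ i, Module.Finite A (K.X i) ∧ Module.Projective A (K.X i)) (a : ℤ)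
    (h : ∀ p : ℤ, p < a → ∀ x, CohIII.dRank (Mum.flip K) (-p) x = 0) :
    K.IsGE a ∧ Module.Finite A (K.opcycles a) ∧ Module.Projective A (K.opcycles a) := by
  refine ⟨?_, ?_, ?_⟩
  · rw [CochainComplex.isGE_iff]
    intro i hi
    exact (HomologicalComplex.exactAt_iff_isZero_homology _ _).2
      (isZero_homology_of_dRank K hK i (h i hi))
  · haveI := (hK a).1
    exact Module.Finite.of_surjective (K.pOpcycles a).hom
      ((ModuleCat.epi_iff_surjective _).1 inferInstance)
  · have hP := flip_finite_flat' K hK
    haveI := (hP (-a)).1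
    haveI : Module.FinitePresentation A ((Mum.flip K).X (-a) ⧸
        LinearMap.range ((Mum.flip K).d (-(a - 1)) (-a)).hom) :=
      Module.finitePresentation_of_finite A _
    haveI : Module.Projective A ((Mum.flip K).X (-a) ⧸
        LinearMap.range ((Mum.flip K).d (-(a - 1)) (-a)).hom) := by
      rw [← Module.freeLocus_eq_univ_iff]
      refine Set.eq_univ_of_forall fun x => ?_
      exact mem_freeLocus_of_dRank_eq_zero_right (Mum.flip K) hP (-(a - 1)) x
        (h (a - 1) (by omega) x) (-a) (by ring)
    have e : K.opcycles a ≅ ModuleCat.of A ((Mum.flip K).X (-a) ⧸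
        LinearMap.range ((Mum.flip K).d (-(a - 1)) (-a)).hom) :=
      opcyclesIsoQuot K (a - 1) a (by simp) ≪≫ quotFlipIso K a (a - 1) (by ring)
    exact Module.Projective.of_equiv e.toLinearEquiv.symm

/-- **upper truncation**: if `K` is bounded above and acyclic in degrees `> b`, then
`ker d^b` is finite projective. -/
theorem upper (hK : ∀ i, Module.Finite A (K.X i) ∧ Module.Projective A (K.X i)) (n : ℤ)
    (hn : ∀ i, n < i → IsZero (K.X i)) (b : ℤ) (h : ∀ p : ℤ, b < p → IsZero (K.homology p)) :
    K.IsLE b ∧ Module.Finite A (K.cycles b) ∧ Module.Projective A (K.cycles b) := by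
  refine ⟨?_, ?_, ?_⟩
  · rw [CochainComplex.isLE_iff]
    intro i hi
    exact (HomologicalComplex.exactAt_iff_isZero_homology _ _).2 (h i hi)
  · haveI := (hK b).1
    haveI : IsNoetherian A (K.X b) := isNoetherian_of_isNoetherianRing_of_finite A _
    exact Module.Finite.of_injective (K.iCycles b).hom
      ((ModuleCat.mono_iff_injective _).1 inferInstance)
  · have hP := flip_finite_flat' K hK
    have hfl : Module.Flat A ((Mum.flip K).X (-(b + 1)) ⧸
        LinearMap.range ((Mum.flip K).d (-b) (-(b + 1))).hom) := by
      refine flat_coker_of_flat_homology_le (Mum.flip K) (fun i => (hP i).2) (-n)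
        (fun i hi => IsZero.of_iso (hn (-i) (by omega)) (flipXIso K i)) (-(b + 1))
        (fun q hq => ?_) (n - b).toNat (-b) (-(b + 1)) (by ring) (by omega) le_rfl
      obtain ⟨p, rfl⟩ : ∃ p : ℤ, q = -p := ⟨-q, by ring⟩
      haveI : Subsingleton ((Mum.flip K).homology (-p) : ModuleCat.{u} A) :=
        ModuleCat.subsingleton_of_isZero
          (IsZero.of_iso (h p (by omega)) (flipHomologyIso A K p))
      infer_instance
    haveI := (hK (b + 1)).1
    haveI := (hK (b + 1)).2
    haveI := (hK b).2
    haveI : Module.Flat A (K.X (b + 1) ⧸ LinearMap.range (K.d b (b + 1)).hom) :=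
      Module.Flat.of_linearEquiv (quotFlipIso K (b + 1) b rfl).toLinearEquiv
    haveI : Module.FinitePresentation A (K.X (b + 1) ⧸ LinearMap.range (K.d b (b + 1)).hom) :=
      Module.finitePresentation_of_finite A _
    haveI : Module.Projective A (K.X (b + 1) ⧸ LinearMap.range (K.d b (b + 1)).hom) :=
      Module.Flat.projective_of_finitePresentation
    haveI := projective_ker_of_projective_coker (K.d b (b + 1)).hom
    exact Module.Projective.of_equiv (cyclesIsoKer K b (b + 1) (by simp)).toLinearEquiv.symm

end Groth.Agent.H2.TruncG
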