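import Groth.Agent.Lib.Helper2.TruncG3

/-!
# Truncating a bounded-above complex of finite projective modules, IV (helper2)

The truncated complex `τ_{≤ b} τ_{≥ a} K` and its `T`-functors.
-/

set_option autoImplicit false
set_option linter.style.haveILetI false
universe u

open CategoryTheory CategoryTheory.Limits TensorProduct

namespace Groth.Agent.H2.TruncG

open Groth.Agent.H2.Mum Groth.Agent.H2.RpC Groth.Agent.H8.TFun

section

variable {A : Type u} [CommRing A]

/-- quasi-isomorphisms between bounded above complexes of flat modules are universal. -/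
theorem quasiIso_tensor_of_bdd (L C : CochainComplex (ModuleCat.{u} A) ℤ)
    (hL : ∀ i, Module.Flat A (L.X i)) (hC : ∀ i, Module.Flat A (C.X i)) (n : ℤ)
    (hLn : ∀ i, n < i → IsZero (L.X i)) (hCn : ∀ i, n < i → IsZero (C.X i))
    (φ : L ⟶ C) [QuasiIso φ] (M : ModuleCat.{u} A) :
    QuasiIso (((MonoidalCategory.tensorRight M).mapHomologicalComplex (ComplexShape.up ℤ)).map
      φ) := by
  refine quasiIso_tensor_of_univ L C hL hC ⟨n, hLn⟩ φ n (fun M' i hi => ?_) M
  rw [HomologicalComplex.exactAt_iff_isZero_homology]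
  refine Groth.Agent.H3.PCohLib.isZero_homology_of_isZero_X _ _ ?_
  exact Functor.map_isZero (MonoidalCategory.tensorRight M') (hCn i hi)

/-- a universal quasi-isomorphism induces isomorphisms on the `T`-functors. -/
noncomputable def TIsoOfQuasiIso {L C : CochainComplex (ModuleCat.{u} A) ℤ} (φ : L ⟶ C)
    (M : ModuleCat.{u} A)
    (h : QuasiIso (((MonoidalCategory.tensorRight M).mapHomologicalComplex
      (ComplexShape.up ℤ)).map φ)) (p : ℤ) :
    CohIII.T L p M ≅ CohIII.T C p M :=
  haveI : IsIso (HomologicalComplex.homologyMap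
      (((MonoidalCategory.tensorRight M).mapHomologicalComplex (ComplexShape.up ℤ)).map φ) p) :=
    (quasiIsoAt_iff_isIso_homologyMap _ p).1 (h.quasiIsoAt p)
  asIso (HomologicalComplex.homologyMap
    (((MonoidalCategory.tensorRight M).mapHomologicalComplex (ComplexShape.up ℤ)).map φ) p)

lemma finite_projective_of_isZero {X : ModuleCat.{u} A} (h : IsZero X) :
    Module.Finite A X ∧ Module.Projective A X := by
  haveI : Subsingleton X := ModuleCat.subsingleton_of_isZero h
  exact ⟨inferInstance, inferInstance⟩

lemma finite_projective_of_iso {X Y : ModuleCat.{u} A} (e : X ≅ Y)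
    (h : Module.Finite A Y ∧ Module.Projective A Y) :
    Module.Finite A X ∧ Module.Projective A X := by
  haveI := h.1
  haveI := h.2
  exact ⟨Module.Finite.equiv e.toLinearEquiv.symm, Module.Projective.of_equiv e.toLinearEquiv.symm⟩

end

variable {A : Type u} [CommRing A] [IsNoetherianRing A] (K : CochainComplex (ModuleCat.{u} A) ℤ)

/-- **Truncation theorem**: a bounded above complex `K` of finite projective modules which is
acyclic in degrees `> b` and whose fibre ranks vanish in degrees `< a` can be replaced by a complex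
of finite projective modules concentrated in `[a, b]` with the same `T`-functors. -/
theorem truncate (hK : ∀ i, Module.Finite A (K.X i) ∧ Module.Projective A (K.X i)) (n : ℤ)
    (hn : ∀ i, n < i → IsZero (K.X i)) (a b : ℤ)
    (h1 : ∀ p : ℤ, b < p → IsZero (K.homology p))
    (h2 : ∀ p : ℤ, p < a → ∀ x, CohIII.dRank (Mum.flip K) (-p) x = 0) :
    ∃ L : CochainComplex (ModuleCat.{u} A) ℤ,
      (∀ i, Module.Finite A (L.X i) ∧ Module.Projective A (L.X i)) ∧
      (∀ i : ℤ, i < a ∨ b < i → IsZero (L.X i)) ∧
      ∀ (M : ModuleCat.{u} A) (p : ℤ), Nonempty (CohIII.T L p M ≅ CohIII.T K p M) := by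
  have hflat : ∀ (C : CochainComplex (ModuleCat.{u} A) ℤ),
      (∀ i, Module.Finite A (C.X i) ∧ Module.Projective A (C.X i)) →
      ∀ i, Module.Flat A (C.X i) := fun C hC i => by
    haveI := (hC i).2
    infer_instance
  obtain ⟨hGE, hfin, hproj⟩ := lower K hK a h2
  haveI := hGE
  have hK₁ : ∀ i, Module.Finite A ((K.truncGE a).X i) ∧ Module.Projective A ((K.truncGE a).X i) := by
    intro i
    rcases lt_trichotomy i a with hi | rfl | hi
    · exact finite_projective_of_isZero ((K.truncGE a).isZero_of_isStrictlyGE a i hi)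
    · exact finite_projective_of_iso (K.truncGEXIsoOpcycles i) ⟨hfin, hproj⟩
    · exact finite_projective_of_iso (K.truncGEXIso a i hi) (hK i)
  have hn₁ : ∀ i, max n a < i → IsZero ((K.truncGE a).X i) := fun i hi =>
    IsZero.of_iso (hn i (by have := le_max_left n a; omega))
      (K.truncGEXIso a i (by have := le_max_right n a; omega))
  have hz₁ : ∀ i, i < a → IsZero ((K.truncGE a).X i) := fun i hi =>
    (K.truncGE a).isZero_of_isStrictlyGE a i hi
  have h1' : ∀ p : ℤ, b < p → IsZero ((K.truncGE a).homology p) := fun p hp => by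
    haveI : IsIso (HomologicalComplex.homologyMap (K.πTruncGE a) p) :=
      (quasiIsoAt_iff_isIso_homologyMap _ p).1 inferInstance
    exact IsZero.of_iso (h1 p hp) (asIso (HomologicalComplex.homologyMap (K.πTruncGE a) p)).symm
  obtain ⟨hLE, hfin', hproj'⟩ := upper (K.truncGE a) hK₁ (max n a) hn₁ b h1'
  haveI := hLE
  have hK₂ : ∀ i, Module.Finite A (((K.truncGE a).truncLE b).X i) ∧
      Module.Projective A (((K.truncGE a).truncLE b).X i) := by
    intro i
    rcases lt_trichotomy i b with hi | rfl | hi
    · exact finite_projective_of_iso ((K.truncGE a).truncLEXIso b i hi) (hK₁ i)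
    · exact finite_projective_of_iso ((K.truncGE a).truncLEXIsoCycles i) ⟨hfin', hproj'⟩
    · exact finite_projective_of_isZero (((K.truncGE a).truncLE b).isZero_of_isStrictlyLE b i hi)
  have hz₂ : ∀ i : ℤ, i < a ∨ b < i → IsZero (((K.truncGE a).truncLE b).X i) := by
    rintro i (hi | hi)
    · rcases lt_trichotomy i b with hib | rfl | hib
      · exact IsZero.of_iso (hz₁ i hi) ((K.truncGE a).truncLEXIso b i hib)
      · refine IsZero.of_iso ?_ ((K.truncGE a).truncLEXIsoCycles i)
        exact IsZero.of_mono ((K.truncGE a).iCycles i) (hz₁ i hi)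
      · exact ((K.truncGE a).truncLE b).isZero_of_isStrictlyLE b i hib
    · exact ((K.truncGE a).truncLE b).isZero_of_isStrictlyLE b i hi
  have hn₂ : ∀ i, max (max n a) b < i → IsZero (((K.truncGE a).truncLE b).X i) := fun i hi =>
    hz₂ i (Or.inr (by have := le_max_right (max n a) b; omega))
  refine ⟨(K.truncGE a).truncLE b, hK₂, hz₂, fun M p => ?_⟩
  have q1 := quasiIso_tensor_of_bdd K (K.truncGE a) (hflat K hK) (hflat _ hK₁) (max (max n a) b)
    (fun i hi => hn i (by
      have := le_max_left (max n a) b
      have := le_max_left n a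
      omega))
    (fun i hi => hn₁ i (by have := le_max_left (max n a) b; omega)) (K.πTruncGE a) M
  have q2 := quasiIso_tensor_of_bdd ((K.truncGE a).truncLE b) (K.truncGE a) (hflat _ hK₂)
    (hflat _ hK₁) (max (max n a) b) hn₂
    (fun i hi => hn₁ i (by have := le_max_left (max n a) b; omega))
    ((K.truncGE a).ιTruncLE b) M
  exact ⟨TIsoOfQuasiIso _ M q2 p ≪≫ (TIsoOfQuasiIso _ M q1 p).symm⟩

end Groth.Agent.H2.TruncG
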