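import Mathlib

/-!
Dimension of `k[X_1..X_r]/(X_i^{n_i})`.
-/

namespace Groth.Agent.H2.TruncPoly

open MvPolynomial

universe u

variable {k : Type u} [Field k] {r : ℕ} (n : Fin r → ℕ)

/-- the monomial ideal `(X_i^{n_i})` -/
noncomputable def monI (k : Type u) [Field k] {r : ℕ} (n : Fin r → ℕ) : Ideal (MvPolynomial (Fin r) k) :=
  Ideal.span (Set.range fun i => (X i : MvPolynomial (Fin r) k) ^ n i)

theorem mem_monI (Q : MvPolynomial (Fin r) k) :
    Q ∈ monI k n ↔ ∀ m ∈ Q.support, ∃ i, n i ≤ m i := by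
  have h1 : (Set.range fun i => (X i : MvPolynomial (Fin r) k) ^ n i) =
      (fun s => monomial s (1 : k)) '' (Set.range fun i => Finsupp.single i (n i)) := by
    rw [← Set.range_comp]
    congr 1
    ext1 i
    simp [X_pow_eq_monomial]
  rw [monI, h1, mem_ideal_span_monomial_image]
  apply forall₂_congr
  intro m _
  constructor
  · rintro ⟨_, ⟨i, rfl⟩, hle⟩
    exact ⟨i, by simpa using hle i⟩
  · rintro ⟨i, hi⟩
    refine ⟨_, ⟨i, rfl⟩, ?_⟩
    intro j
    by_cases hj : j = i
    · subst hj; simpa using hi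
    · simp [Ne.symm hj]

/-- exponent vector of a box element -/
noncomputable def toF (b : (i : Fin r) → Fin (n i)) : Fin r →₀ ℕ :=
  Finsupp.equivFunOnFinite.symm (fun i => (b i : ℕ))

theorem toF_injective : Function.Injective (toF n) := by
  intro b b' h
  funext i
  have := DFunLike.congr_fun h i
  simp only [toF, Finsupp.equivFunOnFinite_symm_apply_apply] at this
  exact Fin.ext this

theorem mem_range_toF (m : Fin r →₀ ℕ) : m ∈ Set.range (toF n) ↔ ∀ i, m i < n i := by
  constructor
  · rintro ⟨b, rfl⟩ i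
    simp only [toF, Finsupp.equivFunOnFinite_symm_apply_apply]
    exact (b i).2
  · intro h
    refine ⟨fun i => ⟨m i, h i⟩, ?_⟩
    ext i
    simp [toF]

/-- coefficients in the box -/
noncomputable def rho : MvPolynomial (Fin r) k →ₗ[k] (((i : Fin r) → Fin (n i)) → k) where
  toFun Q := fun b => coeff (toF n b) Q
  map_add' Q Q' := by ext b; simp
  map_smul' c Q := by ext b; simp

theorem rho_surjective : Function.Surjective (rho (k := k) n) := by
  classical
  intro g
  refine ⟨∑ b, monomial (toF n b) (g b), ?_⟩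
  ext b'
  simp only [rho, LinearMap.coe_mk, AddHom.coe_mk, coeff_sum, coeff_monomial]
  rw [Finset.sum_eq_single b']
  · simp
  · intro b _ hb
    rw [if_neg]
    intro h
    exact hb (toF_injective n h)
  · intro h; exact absurd (Finset.mem_univ b') h

theorem ker_rho : LinearMap.ker (rho (k := k) n) = (monI k n).restrictScalars k := by
  ext Q
  rw [LinearMap.mem_ker, Submodule.restrictScalars_mem, mem_monI]
  constructor
  · intro h m hm
    by_contra hcon
    push Not at hcon
    obtain ⟨b, rfl⟩ := (mem_range_toF n m).mpr hcon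
    have := congrFun h b
    simp only [rho, LinearMap.coe_mk, AddHom.coe_mk, Pi.zero_apply] at this
    exact (mem_support_iff.mp hm) this
  · intro h
    ext b
    simp only [rho, LinearMap.coe_mk, AddHom.coe_mk, Pi.zero_apply]
    by_contra hne
    obtain ⟨i, hi⟩ := h (toF n b) (mem_support_iff.mpr hne)
    have := (mem_range_toF n (toF n b)).mp ⟨b, rfl⟩ i
    omega

theorem finrank_quot :
    Module.finrank k (MvPolynomial (Fin r) k ⧸ monI k n) = ∏ i, n i := by
  have e1 : (MvPolynomial (Fin r) k ⧸ (monI k n).restrictScalars k) ≃ₗ[k]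
      (MvPolynomial (Fin r) k ⧸ monI k n) :=
    Submodule.Quotient.restrictScalarsEquiv k (monI k n)
  have e2 : (MvPolynomial (Fin r) k ⧸ LinearMap.ker (rho (k := k) n)) ≃ₗ[k]
      (MvPolynomial (Fin r) k ⧸ (monI k n).restrictScalars k) :=
    Submodule.quotEquivOfEq _ _ (ker_rho n)
  have e3 : (MvPolynomial (Fin r) k ⧸ LinearMap.ker (rho (k := k) n)) ≃ₗ[k]
      (((i : Fin r) → Fin (n i)) → k) :=
    (rho (k := k) n).quotKerEquivOfSurjective (rho_surjective n)
  rw [← e1.finrank_eq, ← e2.finrank_eq, e3.finrank_eq, Module.finrank_pi, Fintype.card_pi]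
  simp

end Groth.Agent.H2.TruncPoly
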