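import Groth.Agent.Lib.Helper2.TruncPoly1

/-!
Invariants of truncated polynomial algebras `k[X_i]/(X_i^{p^{e_i}})`.
-/

namespace Groth.Agent.H2.TruncPoly

open MvPolynomial

universe u

section Jj

variable (p : ℕ)

/-- ideal generated by `p^j`-th powers of nilpotents -/
def Jj (B : Type*) [CommRing B] (j : ℕ) : Ideal B :=
  Ideal.span ((fun b => b ^ p ^ j) '' {b : B | IsNilpotent b})

theorem map_Jj {B C : Type*} [CommRing B] [CommRing C] (φ : B ≃+* C) (j : ℕ) :
    (Jj p B j).map (φ : B →+* C) = Jj p C j := by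
  rw [Jj, Ideal.map_span, Jj]
  congr 1
  ext c
  simp only [Set.mem_image, Set.mem_setOf_eq]
  constructor
  · rintro ⟨_, ⟨b, hb, rfl⟩, rfl⟩
    exact ⟨φ b, hb.map φ, by simp⟩
  · rintro ⟨c', hc', rfl⟩
    exact ⟨(φ.symm c') ^ p ^ j, ⟨φ.symm c', hc'.map φ.symm, rfl⟩, by simp⟩

end Jj

variable (p : ℕ) [Fact p.Prime] {k : Type u} [Field k] [CharP k p] {r : ℕ}

theorem monI_le_ker_constantCoeff (e : Fin r → ℕ) :
    monI k (fun i => p ^ e i) ≤ RingHom.ker (constantCoeff : MvPolynomial (Fin r) k →+* k) := by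
  rw [monI, Ideal.span_le]
  rintro _ ⟨i, rfl⟩
  rw [SetLike.mem_coe, RingHom.mem_ker, map_pow, constantCoeff_X, zero_pow]
  exact pow_ne_zero _ (Fact.out : p.Prime).ne_zero

/-- augmentation of the truncated polynomial algebra -/
noncomputable def aug (e : Fin r → ℕ) : (MvPolynomial (Fin r) k ⧸ monI k (fun i => p ^ e i)) →+* k :=
  Ideal.Quotient.lift _ (constantCoeff : MvPolynomial (Fin r) k →+* k)
    (fun a ha => RingHom.mem_ker.mp (monI_le_ker_constantCoeff p e ha))

theorem Jj_quot (e : Fin r → ℕ) (j : ℕ) :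
    Jj p (MvPolynomial (Fin r) k ⧸ monI k (fun i => p ^ e i)) j =
      (monI k (fun _ : Fin r => p ^ j)).map (Ideal.Quotient.mk (monI k (fun i => p ^ e i))) := by
  classical
  apply le_antisymm
  · rw [Jj, Ideal.span_le]
    rintro _ ⟨b, hb, rfl⟩
    obtain ⟨Q, rfl⟩ := Ideal.Quotient.mk_surjective b
    have h0 : constantCoeff Q = 0 := by
      have h1 : IsNilpotent (aug p e (Ideal.Quotient.mk _ Q)) := hb.map (aug p e)
      have h2 := h1.eq_zero
      simpa [aug] using h2
    have hQ : Q ∈ Ideal.span (Set.range (X : Fin r → MvPolynomial (Fin r) k)) := by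
      rw [← Set.image_univ, mem_ideal_span_X_image]
      intro m hm
      by_contra hcon
      push Not at hcon
      have hm0 : m = 0 := by ext i; simpa using hcon i (Set.mem_univ i)
      subst hm0
      rw [mem_support_iff] at hm
      exact hm h0
    obtain ⟨c, hc⟩ := (Ideal.mem_span_range_iff_exists_fun).mp hQ
    have hpow : Q ^ p ^ j = ∑ i, c i ^ p ^ j * (X i : MvPolynomial (Fin r) k) ^ p ^ j := by
      rw [← hc, sum_pow_char_pow]
      apply Finset.sum_congr rfl
      intro i _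
      rw [mul_pow]
    change (Ideal.Quotient.mk _ Q) ^ p ^ j ∈ _
    rw [← map_pow]
    apply Ideal.mem_map_of_mem
    rw [hpow]
    apply Ideal.sum_mem
    intro i _
    apply Ideal.mul_mem_left
    exact Ideal.subset_span ⟨i, rfl⟩
  · rw [Ideal.map_le_iff_le_comap]
    change Ideal.span _ ≤ _
    rw [Ideal.span_le]
    rintro _ ⟨i, rfl⟩
    rw [SetLike.mem_coe, Ideal.mem_comap, map_pow]
    apply Ideal.subset_span
    refine ⟨Ideal.Quotient.mk _ (X i), ?_, rfl⟩
    refine ⟨p ^ e i, ?_⟩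
    rw [← map_pow, Ideal.Quotient.eq_zero_iff_mem]
    exact Ideal.subset_span ⟨i, rfl⟩

theorem monI_sup (e : Fin r → ℕ) (j : ℕ) :
    monI k (fun i => p ^ e i) ⊔ monI k (fun _ : Fin r => p ^ j) =
      monI k (fun i => p ^ min (e i) j) := by
  have hp1 : 1 ≤ p := (Fact.out : p.Prime).one_lt.le
  apply le_antisymm
  · apply sup_le
    · rw [monI, Ideal.span_le]
      rintro _ ⟨i, rfl⟩
      have hle : p ^ min (e i) j ≤ p ^ e i := Nat.pow_le_pow_right hp1 (min_le_left _ _)
      have : (X i : MvPolynomial (Fin r) k) ^ p ^ e i =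
          X i ^ (p ^ e i - p ^ min (e i) j) * X i ^ p ^ min (e i) j := by
        rw [← pow_add, Nat.sub_add_cancel hle]
      change (X i : MvPolynomial (Fin r) k) ^ p ^ e i ∈ _
      rw [this]
      exact Ideal.mul_mem_left _ _ (Ideal.subset_span ⟨i, rfl⟩)
    · rw [monI, Ideal.span_le]
      rintro _ ⟨i, rfl⟩
      have hle : p ^ min (e i) j ≤ p ^ j := Nat.pow_le_pow_right hp1 (min_le_right _ _)
      have : (X i : MvPolynomial (Fin r) k) ^ p ^ j =
          X i ^ (p ^ j - p ^ min (e i) j) * X i ^ p ^ min (e i) j := by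
        rw [← pow_add, Nat.sub_add_cancel hle]
      change (X i : MvPolynomial (Fin r) k) ^ p ^ j ∈ _
      rw [this]
      exact Ideal.mul_mem_left _ _ (Ideal.subset_span ⟨i, rfl⟩)
  · rw [monI, Ideal.span_le]
    rintro _ ⟨i, rfl⟩
    change (X i : MvPolynomial (Fin r) k) ^ p ^ min (e i) j ∈ _
    rcases min_choice (e i) j with h | h
    · rw [h]
      exact Ideal.mem_sup_left (Ideal.subset_span ⟨i, rfl⟩)
    · rw [h]
      exact Ideal.mem_sup_right (Ideal.subset_span ⟨i, rfl⟩)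

theorem finrank_quot_Jj (e : Fin r → ℕ) (j : ℕ) :
    Module.finrank k ((MvPolynomial (Fin r) k ⧸ monI k (fun i => p ^ e i)) ⧸
      Jj p (MvPolynomial (Fin r) k ⧸ monI k (fun i => p ^ e i)) j) = p ^ ∑ i, min (e i) j := by
  have h1 : Jj p (MvPolynomial (Fin r) k ⧸ monI k (fun i => p ^ e i)) j =
      (monI k (fun _ : Fin r => p ^ j)).map (Ideal.Quotient.mkₐ k (monI k (fun i => p ^ e i))) :=
    Jj_quot p e j
  let e1 := Ideal.quotientEquivAlgOfEq k h1
  let e2 := DoubleQuot.quotQuotEquivQuotSupₐ k (monI k (fun i => p ^ e i))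
    (monI k (fun _ : Fin r => p ^ j))
  let e3 := Ideal.quotientEquivAlgOfEq k (monI_sup (k := k) p e j)
  rw [(e1.trans (e2.trans e3)).toLinearEquiv.finrank_eq, finrank_quot, Finset.prod_pow_eq_pow_sum]

/-- the numerical invariants agree for isomorphic algebras -/
theorem sum_min_eq {s : ℕ} (e : Fin r → ℕ) (f : Fin s → ℕ)
    (φ : (MvPolynomial (Fin r) k ⧸ monI k (fun i => p ^ e i)) ≃ₐ[k]
      (MvPolynomial (Fin s) k ⧸ monI k (fun i => p ^ f i))) (j : ℕ) :
    ∑ i, min (e i) j = ∑ i, min (f i) j := by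
  have h := map_Jj p φ.toRingEquiv j
  let ψ := Ideal.quotientEquivAlg (Jj p _ j) (Jj p _ j) φ h.symm
  have h2 := ψ.toLinearEquiv.finrank_eq
  rw [finrank_quot_Jj, finrank_quot_Jj] at h2
  exact Nat.pow_right_injective (Fact.out : p.Prime).two_le h2

end Groth.Agent.H2.TruncPoly
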