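import Groth.Agent.Lib.Helper2.TruncPoly2

/-!
Combinatorics: two families of positive integers with the same `∑ min (e i) j` are permutations of
each other.
-/

namespace Groth.Agent.H2.TruncPoly

universe u

theorem sum_min_succ {r : ℕ} (e : Fin r → ℕ) (j : ℕ) :
    ∑ i, min (e i) (j + 1) = ∑ i, min (e i) j + (Finset.univ.filter (fun i => j < e i)).card := by
  rw [Finset.card_filter, ← Finset.sum_add_distrib]
  apply Finset.sum_congr rfl
  intro i _
  split_ifs with h
  · rw [min_eq_right (by omega), min_eq_right (by omega)]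
  · rw [min_eq_left (by omega), min_eq_left (by omega), add_zero]

theorem card_filter_eq {r : ℕ} (e : Fin r → ℕ) (v : ℕ) (hv : 1 ≤ v) :
    (Finset.univ.filter (fun i => e i = v)).card + (Finset.univ.filter (fun i => v < e i)).card =
      (Finset.univ.filter (fun i => v - 1 < e i)).card := by
  rw [← Finset.card_union_of_disjoint]
  · congr 1
    ext i
    simp only [Finset.mem_union, Finset.mem_filter, Finset.mem_univ, true_and]
    omega
  · rw [Finset.disjoint_filter]
    intro i _ h1 h2
    omega

theorem exists_equiv {r s : ℕ} (e : Fin r → ℕ) (f : Fin s → ℕ) (he : ∀ i, 1 ≤ e i)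
    (hf : ∀ j, 1 ≤ f j) (h : ∀ j, ∑ i, min (e i) j = ∑ i, min (f i) j) :
    ∃ σ : Fin r ≃ Fin s, ∀ i : Fin r, f (σ i) = e i := by
  have hcnt : ∀ j, (Finset.univ.filter (fun i => j < e i)).card =
      (Finset.univ.filter (fun i => j < f i)).card := by
    intro j
    have h1 := sum_min_succ e j
    have h2 := sum_min_succ f j
    have h3 := h j
    have h4 := h (j + 1)
    omega
  have hfib : ∀ v, Fintype.card {i // e i = v} = Fintype.card {i // f i = v} := by
    intro v
    rw [Fintype.card_subtype, Fintype.card_subtype]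
    rcases Nat.eq_zero_or_pos v with h0 | hv
    · subst h0
      rw [Finset.card_eq_zero.mpr, Finset.card_eq_zero.mpr]
      · rw [Finset.filter_eq_empty_iff]
        intro i _ hi
        have := hf i
        omega
      · rw [Finset.filter_eq_empty_iff]
        intro i _ hi
        have := he i
        omega
    · have h1 := card_filter_eq e v hv
      have h2 := card_filter_eq f v hv
      have h3 := hcnt v
      have h4 := hcnt (v - 1)
      omega
  refine ⟨Equiv.ofFiberEquiv (fun v => Fintype.equivOfCardEq (hfib v)), fun i => ?_⟩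
  exact Equiv.ofFiberEquiv_map _ i

theorem main (p : ℕ) [Fact p.Prime] (k : Type u) [Field k]
    [CharP k p] (r s : ℕ) (e : Fin r → ℕ) (f : Fin s → ℕ) (he : ∀ i, 1 ≤ e i) (hf : ∀ j, 1 ≤ f j)
    (φ : (MvPolynomial (Fin r) k ⧸ Ideal.span (Set.range fun i : Fin r =>
        (MvPolynomial.X i : MvPolynomial (Fin r) k) ^ p ^ e i)) ≃ₐ[k]
      (MvPolynomial (Fin s) k ⧸ Ideal.span (Set.range fun j : Fin s =>
        (MvPolynomial.X j : MvPolynomial (Fin s) k) ^ p ^ f j))) :
    ∃ σ : Fin r ≃ Fin s, ∀ i : Fin r, f (σ i) = e i :=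
  exists_equiv e f he hf (fun j => sum_min_eq p e f φ j)

end Groth.Agent.H2.TruncPoly
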