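import Mathlib

/-! Helper2: tools for twisted constant schemes (SGA 3 X 5): locality on the target through
pullback squares, descent of a property along flat locally finitely presented covers given
pointwise, and finiteness of a clopen part of a scheme covered by disjoint sections. -/

set_option autoImplicit false
set_option linter.style.haveILetI false
universe u
open CategoryTheory CategoryTheory.Limits AlgebraicGeometry MorphismProperty

namespace Groth.Agent.H2.TwConst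

/-- Zariski-local on the target, phrased through arbitrary pullback squares along open
immersions. -/
theorem of_local_isPullback {P : MorphismProperty Scheme.{u}} [IsZariskiLocalAtTarget P]
    {X Y : Scheme.{u}} (f : X ⟶ Y)
    (H : ∀ y : Y, ∃ (V UX : Scheme.{u}) (iV : V ⟶ Y) (iX : UX ⟶ X) (f' : UX ⟶ V),
      IsOpenImmersion iV ∧ y ∈ Set.range iV ∧ IsPullback iX f' f iV ∧ P f') : P f := by
  choose V UX iV iX f' hiV hy hpb hP using H
  have hcov : (⨆ y, (iV y).opensRange) = ⊤ := by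
    rw [eq_top_iff]
    intro y _
    exact TopologicalSpace.Opens.mem_iSup.mpr ⟨y, hy y⟩
  refine IsZariskiLocalAtTarget.of_iSup_eq_top (fun y => (iV y).opensRange) hcov fun y => ?_
  refine (P.arrow_mk_iso_iff (morphismRestrictOpensRange f (iV y))).mpr ?_
  rw [← (hpb y).isoPullback_inv_snd]
  exact (P.cancel_left_of_respectsIso _ _).mpr (hP y)

/-- A property that is Zariski-local on the target and descends along fppf covers can be checked
after flat, locally finitely presented base changes whose images cover the base. -/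
theorem of_fppf_local {P : MorphismProperty Scheme.{u}} [IsZariskiLocalAtTarget P]
    [P.DescendsAlong (@Surjective ⊓ @Flat ⊓ @LocallyOfFinitePresentation)]
    {Z S : Scheme.{u}} (g : Z ⟶ S)
    (H : ∀ s : S, ∃ (S' A : Scheme.{u}) (f : S' ⟶ S) (fst : A ⟶ Z) (snd : A ⟶ S'),
      Flat f ∧ LocallyOfFinitePresentation f ∧ s ∈ Set.range f ∧ IsPullback fst snd g f ∧
        P snd) : P g := by
  refine of_local_isPullback g fun s => ?_
  obtain ⟨S', A, f, fst, snd, hfl, hfp, hs, hpb, hP⟩ := H s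
  have hopen : IsOpen (Set.range f) := f.isOpenMap.isOpen_range
  let V : S.Opens := ⟨Set.range f, hopen⟩
  let f₀ : S' ⟶ V := IsOpenImmersion.lift V.ι f (by simp [V])
  have hf₀ : f₀ ≫ V.ι = f := IsOpenImmersion.lift_fac _ _ _
  have t : IsPullback (g ⁻¹ᵁ V).ι (g ∣_ V) g V.ι := (isPullback_morphismRestrict g V).flip
  refine ⟨V, g ⁻¹ᵁ V, V.ι, (g ⁻¹ᵁ V).ι, g ∣_ V, inferInstance, by simpa [V] using hs, t, ?_⟩
  have s' : IsPullback fst snd g (f₀ ≫ V.ι) := by rw [hf₀]; exact hpb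
  have key := IsPullback.of_right' s' t
  have hQ : (@Surjective ⊓ @Flat ⊓ @LocallyOfFinitePresentation : MorphismProperty Scheme.{u})
      f₀ := by
    refine ⟨⟨⟨fun v => ?_⟩, ?_⟩, ?_⟩
    · obtain ⟨s', hs'⟩ : v.1 ∈ Set.range f := v.2
      refine ⟨s', ?_⟩
      apply V.ι.isOpenEmbedding.injective
      rw [← Scheme.Hom.comp_apply, hf₀, hs']
      rfl
    · exact MorphismProperty.of_postcomp (W := @Flat) (W' := @IsOpenImmersion) f₀ V.ι
        inferInstance (hf₀ ▸ hfl)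
    · exact MorphismProperty.of_postcomp (W := @LocallyOfFinitePresentation)
        (W' := @IsOpenImmersion) f₀ V.ι inferInstance (hf₀ ▸ hfp)
  exact MorphismProperty.of_isPullback_of_descendsAlong key.flip hQ hP

/-- Étale morphisms are locally quasi-finite. -/
theorem locallyQuasiFinite_of_etale {X Y : Scheme.{u}} (g : X ⟶ Y) [Etale g] :
    LocallyQuasiFinite g := by
  rw [HasRingHomProperty.iff_appLE (P := @LocallyQuasiFinite)]
  intro U V e
  have h1 : (g.appLE U.1 V.1 e).hom.FiniteType := g.finiteType_appLE U.2 V.2 e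
  have h2 : (g.appLE U.1 V.1 e).hom.FormallyUnramified :=
    FormallyUnramified.formallyUnramified_appLE g U.2 V.2 e
  algebraize [(g.appLE U.1 V.1 e).hom]
  exact RingHom.quasiFinite_algebraMap.mpr inferInstance

/-- Let `q : X' ⟶ S'` have a family of sections `σ i` that are open immersions with pairwise
disjoint images covering `X'`, and let `D` be an open and closed part of `X'` meeting, locally
on `S'`, only finitely many of the sheets.  Then `D` is finite over `S'`. -/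
theorem isFinite_of_sections {X' S' : Scheme.{u}} (q : X' ⟶ S') [LocallyOfFiniteType q]
    {I : Type*} (σ : I → (S' ⟶ X')) (h1 : ∀ i, σ i ≫ q = 𝟙 S')
    (h2 : ∀ i, IsOpenImmersion (σ i))
    (h3 : ∀ i j, i ≠ j → Disjoint (Set.range (σ i)) (Set.range (σ j)))
    (h4 : ∀ x' : X', ∃ i s', σ i s' = x')
    (D : X'.Opens) (hD : IsClosed (D : Set X'))
    (h5 : ∀ s' : S', ∃ W' : S'.Opens, s' ∈ W' ∧ _root_.IsPreconnected (W' : Set S') ∧
      {i | ∃ w ∈ W', σ i w ∈ D}.Finite) :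
    IsFinite (D.ι ≫ q) := by
  haveI := h2
  refine of_local_isPullback (P := @IsFinite) _ fun s' => ?_
  obtain ⟨W', hsW', hconn, hfin⟩ := h5 s'
  obtain ⟨W₀, hW₀aff, hsW₀, hW₀W'⟩ :
      ∃ W₀ : S'.Opens, IsAffineOpen W₀ ∧ s' ∈ W₀ ∧ W₀ ≤ W' := by
    obtain ⟨_, ⟨W₀, hW₀, rfl⟩, h1, h2⟩ :=
      S'.isBasis_affineOpens.exists_subset_of_mem_open hsW' W'.2
    exact ⟨W₀, hW₀, h1, h2⟩
  set J : Set I := {i | ∃ w ∈ W', σ i w ∈ D} with hJ
  have hqσ : ∀ i (w : S'), q (σ i w) = w := by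
    intro i w
    rw [← Scheme.Hom.comp_apply, h1]
    rfl
  -- dichotomy on the connected neighbourhood
  have hJD : ∀ i ∈ J, ∀ w ∈ W', σ i w ∈ D := by
    rintro i ⟨w₀, hw₀, hw₀D⟩ w hw
    have hclopen : IsClopen ((σ i) ⁻¹' (D : Set X')) :=
      ⟨hD.preimage (σ i).continuous, D.2.preimage (σ i).continuous⟩
    exact hconn.subset_isClopen hclopen ⟨w₀, hw₀, hw₀D⟩ hw
  let E : X'.Opens := ⨆ i ∈ J, (σ i) ''ᵁ W₀
  have hmemE : ∀ x' : X', x' ∈ E ↔ ∃ i ∈ J, ∃ w ∈ W₀, σ i w = x' := by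
    intro x'
    simp only [E, TopologicalSpace.Opens.mem_iSup, exists_prop]
    constructor
    · rintro ⟨i, hi, w, hw, rfl⟩
      exact ⟨i, hi, w, hw, rfl⟩
    · rintro ⟨i, hi, w, hw, rfl⟩
      exact ⟨i, hi, w, hw, rfl⟩
  have hED : E ≤ D := by
    intro x' hx'
    obtain ⟨i, hi, w, hw, rfl⟩ := (hmemE x').mp hx'
    exact hJD i hi w (hW₀W' hw)
  have hEq : E ≤ q ⁻¹ᵁ W₀ := by
    intro x' hx'
    obtain ⟨i, hi, w, hw, rfl⟩ := (hmemE x').mp hx'
    change q (σ i w) ∈ W₀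
    rw [hqσ]
    exact hw
  have hchar : ∀ x' : X', x' ∈ D → q x' ∈ W₀ → x' ∈ E := by
    intro x' hx'D hx'W
    obtain ⟨i, w, rfl⟩ := h4 x'
    rw [hqσ] at hx'W
    exact (hmemE _).mpr ⟨i, ⟨w, hW₀W' hx'W, hx'D⟩, w, hx'W, rfl⟩
  have hEaff : IsAffineOpen E := by
    refine IsAffineOpen.biSup_of_disjoint hfin
      (fun i _ => hW₀aff.image_of_isOpenImmersion (σ i)) ?_
    intro i _ j _ hij
    change Disjoint ((σ i) ''ᵁ W₀) ((σ j) ''ᵁ W₀)
    rw [← TopologicalSpace.Opens.coe_disjoint]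
    refine (h3 i j hij).mono ?_ ?_
    · rintro _ ⟨w, _, rfl⟩
      exact ⟨w, rfl⟩
    · rintro _ ⟨w, _, rfl⟩
      exact ⟨w, rfl⟩
  let g' : E.toScheme ⟶ W₀.toScheme := q.resLE W₀ E hEq
  let j : E.toScheme ⟶ D.toScheme := X'.homOfLE hED
  have hg' : g' ≫ W₀.ι = E.ι ≫ q := Scheme.Hom.resLE_comp_ι _ _
  have hj : j ≫ D.ι = E.ι := Scheme.homOfLE_ι _ _
  have hpb : IsPullback g' j W₀.ι (D.ι ≫ q) := by
    refine IsOpenImmersion.isPullback g' j W₀.ι (D.ι ≫ q) ?_ ?_
    · rw [reassoc_of% hj, hg']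
    · ext d
      rw [Scheme.Opens.opensRange_ι, Scheme.opensRange_homOfLE]
      change q (D.ι d) ∈ W₀ ↔ D.ι d ∈ E
      exact ⟨fun h => hchar _ d.2 h, fun h => hEq h⟩
  refine ⟨W₀, E, W₀.ι, j, g', inferInstance, by simpa using hsW₀, hpb.flip, ?_⟩
  haveI : IsAffine E.toScheme := hEaff
  haveI : IsAffine W₀.toScheme := hW₀aff
  have hlft : LocallyOfFiniteType g' := by
    haveI : LocallyOfFiniteType (g' ≫ W₀.ι) := by rw [hg']; infer_instance
    exact locallyOfFiniteType_of_comp g' W₀.ι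
  rw [IsFinite.iff_isIntegralHom_and_locallyOfFiniteType]
  refine ⟨?_, hlft⟩
  rw [IsIntegralHom.iff_universallyClosed_and_isAffineHom]
  refine ⟨?_, inferInstance⟩
  apply UniversallyClosed.of_valuativeCriterion
  intro Sq
  -- the point of `Spec K`
  let z₀ : Spec (.of Sq.K) := IsLocalRing.closedPoint Sq.K
  have hz : ∀ z : Spec (.of Sq.K), z = z₀ := fun z =>
    @Subsingleton.elim _ (inferInstanceAs (Subsingleton (PrimeSpectrum Sq.K))) z z₀
  obtain ⟨i, hi, w, hw, hwx⟩ := (hmemE (E.ι (Sq.i₁ z₀))).mp (Sq.i₁ z₀).2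
  have hr1 : Set.range (Sq.i₁ ≫ E.ι) ⊆ Set.range (σ i) := by
    rintro _ ⟨z, rfl⟩
    rw [hz z]
    exact ⟨w, hwx⟩
  let a' := IsOpenImmersion.lift (σ i) (Sq.i₁ ≫ E.ι) hr1
  have ha' : a' ≫ σ i = Sq.i₁ ≫ E.ι := IsOpenImmersion.lift_fac _ _ _
  have hr2 : Set.range (Sq.i₂ ≫ W₀.ι ≫ σ i) ⊆ Set.range E.ι := by
    rintro _ ⟨r, rfl⟩
    rw [Scheme.Opens.range_ι]
    exact (hmemE _).mpr ⟨i, hi, W₀.ι (Sq.i₂ r), (Sq.i₂ r).2, rfl⟩
  let l := IsOpenImmersion.lift E.ι (Sq.i₂ ≫ W₀.ι ≫ σ i) hr2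
  have hl : l ≫ E.ι = Sq.i₂ ≫ W₀.ι ≫ σ i := IsOpenImmersion.lift_fac _ _ _
  refine CommSq.HasLift.mk' ⟨l, ?_, ?_⟩
  · rw [← cancel_mono E.ι, Category.assoc, hl, ← Category.assoc, ← Sq.commSq.w, Category.assoc,
      reassoc_of% hg', ← reassoc_of% ha', reassoc_of% (h1 i), ha']
  · rw [← cancel_mono W₀.ι, Category.assoc, hg', reassoc_of% hl, h1]
    simp

end Groth.Agent.H2.TwConst
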