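import Mathlib
import Groth.Prelude.Def_TwC
import Groth.Prelude.Def_CAlg2
import Groth.Agent.Lib.Helper2.TwConstA
import Groth.Agent.Lib.Helper2.IntegralNhd
import Groth.Agent.Lib.Helper2.IrredComp
import Groth.Agent.Lib.Helper8.Brnch.SmoothCountSch
import Groth.Agent.Lib.Helper8.Hens.EtaleGU2
import Groth.Agent.Lib.Helper1.FpqcAffine

/-! Helper2: connected components of quasi-isotrivial twisted constant schemes over a locally
Noetherian geometrically unibranch base (SGA 3 X 5.14). -/

set_option autoImplicit false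
set_option linter.style.haveILetI false
universe u
open CategoryTheory CategoryTheory.Limits AlgebraicGeometry MorphismProperty

namespace Groth.Agent.H2.TwConst

/-- Over a locally Noetherian base with geometrically unibranch local rings, every point of a
scheme étale over the base has an irreducible open neighbourhood. -/
theorem exists_irreducible_nhd {Y S : Scheme.{u}} (h : Y ⟶ S) [Etale h] [IsLocallyNoetherian S]
    (hS : ∀ s : S, CAlg2.IsGeomUnibranch (S.presheaf.stalk s)) (y : Y) :
    ∃ U : Y.Opens, y ∈ U ∧ IsIrreducible (U : Set Y) := by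
  haveI : IsLocallyNoetherian Y := LocallyOfFiniteType.isLocallyNoetherian h
  have hgu : CAlg2.IsGeomUnibranch (Y.presheaf.stalk y) :=
    (Groth.Agent.H8.Brnch.isGeomUnibranch_stalk_iff_of_smooth h y).mpr (hS (h y))
  exact Groth.Agent.H2.exists_irreducible_nhd_of_isPrime_nilradical_stalk Y y
    (Groth.Agent.H8.Hens.isPrime_nilradical_of_isGeomUnibranch hgu)

/-- Connected components of a scheme étale over a locally Noetherian geometrically unibranch base
are open and irreducible. -/
theorem connectedComponent_open_irreducible {Y S : Scheme.{u}} (h : Y ⟶ S) [Etale h]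
    [IsLocallyNoetherian S]
    (hS : ∀ s : S, CAlg2.IsGeomUnibranch (S.presheaf.stalk s)) (x : Y) :
    ∃ U : Y.Opens, (U : Set Y) = connectedComponent x ∧ IsIrreducible (U : Set Y) := by
  have hopen : IsOpen (connectedComponent x) := by
    rw [isOpen_iff_forall_mem_open]
    intro y hy
    obtain ⟨O, hyO, hO⟩ := exists_irreducible_nhd h hS y
    refine ⟨O, ?_, O.2, hyO⟩
    rw [connectedComponent_eq hy]
    exact hO.isPreirreducible.isPreconnected.subset_connectedComponent hyO
  let U : Y.Opens := ⟨connectedComponent x, hopen⟩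
  refine ⟨U, rfl, ?_⟩
  haveI : IsLocallyNoetherian Y := LocallyOfFiniteType.isLocallyNoetherian h
  haveI : ConnectedSpace U := Subtype.connectedSpace isConnected_connectedComponent
  have hirr : IrreducibleSpace (U : Scheme.{u}) := by
    rw [Groth.Agent.H2.irreducibleSpace_iff_connectedSpace_and_nilradical_stalk]
    refine ⟨‹_›, fun y => ?_⟩
    have hgu : CAlg2.IsGeomUnibranch ((U : Scheme.{u}).presheaf.stalk y) :=
      (Groth.Agent.H8.Brnch.isGeomUnibranch_stalk_iff_of_smooth (U.ι ≫ h) y).mpr (hS _)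
    exact Groth.Agent.H8.Hens.isPrime_nilradical_of_isGeomUnibranch hgu
  exact isIrreducible_iff_irreducibleSpace.mpr hirr

/-- A quasi-isotrivial twisted constant scheme is étale over the base. -/
theorem etale_of_isTwConst {S : Scheme.{u}} (P : Over S)
    (hP : TwC.IsTwConst TwC.Topology.etale P) : Etale P.hom := by
  have hP' : ∀ s : S, ∃ (S' : Scheme.{u}) (f : S' ⟶ S), Etale f ∧ s ∈ Set.range f ∧
      ∃ I : Type u, Nonempty (Red.bc f P ≅ TwC.const S' I) := hP
  refine of_fppf_local (P := @Etale) P.hom fun s => ?_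
  obtain ⟨S', f, hf, hs, I, ⟨e⟩⟩ := hP' s
  refine ⟨S', pullback P.hom f, f, pullback.fst _ _, pullback.snd _ _, inferInstance,
    inferInstance, hs, .of_hasPullback _ _, ?_⟩
  have hw : e.hom.left ≫ (Sigma.desc fun _ : I => 𝟙 S') = pullback.snd P.hom f := Over.w e.hom
  rw [← hw]
  haveI : Etale (Sigma.desc fun _ : I => 𝟙 S') :=
    IsZariskiLocalAtSource.sigmaDesc (fun _ => inferInstance)
  infer_instance

section Sections

variable {S S' : Scheme.{u}} (P : Over S) (f : S' ⟶ S) {I : Type u}
  (e : Red.bc f P ≅ TwC.const S' I)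

/-- The sections of the base change given by a trivialization. -/
noncomputable def sec (i : I) : S' ⟶ pullback P.hom f :=
  Sigma.ι (fun _ : I => S') i ≫ e.inv.left

lemma sec_snd (i : I) : sec P f e i ≫ pullback.snd P.hom f = 𝟙 S' := by
  have hw : e.inv.left ≫ pullback.snd P.hom f = (Sigma.desc fun _ : I => 𝟙 S') := Over.w e.inv
  rw [sec, Category.assoc, hw]
  simp

instance (i : I) : IsOpenImmersion (sec P f e i) := by
  unfold sec
  infer_instance

lemma sec_hom (i : I) (w : S') : e.hom.left (sec P f e i w) = Sigma.ι (fun _ : I => S') i w := by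
  rw [sec, ← Scheme.Hom.comp_apply, Category.assoc, ← Over.comp_left, e.inv_hom_id]
  simp

lemma sec_disjoint (i j : I) (hij : i ≠ j) :
    Disjoint (Set.range (sec P f e i)) (Set.range (sec P f e j)) := by
  rw [Set.disjoint_iff_forall_ne]
  rintro _ ⟨a, rfl⟩ _ ⟨b, rfl⟩ hab
  have h := congrArg e.hom.left hab
  rw [sec_hom, sec_hom, sigmaι_eq_iff] at h
  exact hij (congrArg Sigma.fst h)

lemma sec_cover (x' : ↥(pullback P.hom f)) : ∃ i s', sec P f e i s' = x' := by
  obtain ⟨i, s', hs'⟩ := (sigmaOpenCover (fun _ : I => S')).exists_eq (e.hom.left x')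
  refine ⟨i, s', ?_⟩
  have : e.inv.left (e.hom.left x') = x' := by
    rw [← Scheme.Hom.comp_apply, ← Over.comp_left, e.hom_inv_id]
    simp
  rw [← this, ← hs']
  rfl

end Sections

/-- Only finitely many sheets of a trivialization meet the preimage of an irreducible open of
the total space over an irreducible open of the covering scheme. -/
theorem finite_sheets {X S S' : Scheme.{u}} [IsLocallyNoetherian S] (p : X ⟶ S) [Etale p]
    (f : S' ⟶ S) [Etale f] {I : Type*} (σ : I → (S' ⟶ pullback p f))
    (h1 : ∀ i, σ i ≫ pullback.snd p f = 𝟙 S')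
    (h3 : ∀ i j, i ≠ j → Disjoint (Set.range (σ i)) (Set.range (σ j)))
    (U : X.Opens) (hU : IsIrreducible (U : Set X))
    (W' : S'.Opens) (hW' : IsIrreducible (W' : Set S')) :
    {i | ∃ w ∈ W', σ i w ∈ (pullback.fst p f) ⁻¹ᵁ U}.Finite := by
  set pr := pullback.fst p f with hpr
  set q := pullback.snd p f with hq
  have hqσ : ∀ i (w : S'), q (σ i w) = w := by
    intro i w
    rw [← Scheme.Hom.comp_apply, h1]
    rfl
  -- generic points
  let η' := hW'.genericPoint
  have hη' : IsGenericPoint η' (closure (W' : Set S')) := hW'.isGenericPoint_genericPoint_closure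
  have hη'W : η' ∈ W' := by
    obtain ⟨w, hw⟩ := hW'.nonempty
    exact (hη'.mem_open_set_iff W'.2).mpr ⟨w, subset_closure hw, hw⟩
  let ξ := hU.genericPoint
  have hξ : IsGenericPoint ξ (closure (U : Set X)) := hU.isGenericPoint_genericPoint_closure
  -- each relevant sheet sends the generic point to the generic point
  have key : ∀ i, (∃ w ∈ W', σ i w ∈ pr ⁻¹ᵁ U) → pr (σ i η') = ξ := by
    rintro i ⟨w, hw, hwU⟩
    let τ := σ i ≫ pr
    have hτp : τ ≫ p = f := by
      simp only [τ, Category.assoc, hpr, pullback.condition]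
      rw [← hq, reassoc_of% (h1 i)]
    haveI : Etale (τ ≫ p) := by rw [hτp]; infer_instance
    haveI : Etale τ := MorphismProperty.of_postcomp (W := @Etale) (W' := @Etale) τ p
      inferInstance inferInstance
    have hmem : η' ∈ τ ⁻¹ᵁ U :=
      (hη'.mem_open_set_iff (τ ⁻¹ᵁ U).2).mpr ⟨w, subset_closure hw, hwU⟩
    have hspec : ξ ⤳ τ η' := hξ.specializes (subset_closure hmem)
    obtain ⟨ζ, hζ, hζξ⟩ := Flat.generalizingMap τ hspec
    have hζW : ζ ∈ W' := hζ.mem_open W'.2 hη'W
    have hζη : ζ = η' := (hζ.antisymm (hη'.specializes (subset_closure hζW))).eq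
    rw [← hζξ, hζη]
    rfl
  -- a quasi-compact neighbourhood of the generic point
  obtain ⟨W₀, hW₀aff, hηW₀⟩ : ∃ W₀ : S'.Opens, IsAffineOpen W₀ ∧ η' ∈ W₀ := by
    obtain ⟨_, ⟨W₀, hW₀, rfl⟩, h1, -⟩ :=
      S'.isBasis_affineOpens.exists_subset_of_mem_open (Set.mem_univ η') isOpen_univ
    exact ⟨W₀, hW₀, h1⟩
  let h := (q ⁻¹ᵁ W₀).ι ≫ pr
  have hpb : IsPullback h (q ∣_ W₀) p (W₀.ι ≫ f) :=
    (isPullback_morphismRestrict q W₀).flip.paste_horiz (IsPullback.of_hasPullback p f)
  haveI : CompactSpace W₀ := isCompact_iff_compactSpace.mp hW₀aff.isCompact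
  haveI : QuasiCompact (W₀.ι ≫ f) := inferInstance
  haveI : LocallyQuasiFinite (W₀.ι ≫ f) := locallyQuasiFinite_of_etale _
  haveI : QuasiCompact h := MorphismProperty.of_isPullback (P := @QuasiCompact) hpb.flip ‹_›
  haveI : LocallyQuasiFinite h :=
    MorphismProperty.of_isPullback (P := @LocallyQuasiFinite) hpb.flip ‹_›
  have hfin : (h ⁻¹' {ξ}).Finite := h.finite_preimage_singleton ξ
  have hinj : Function.Injective fun i => σ i η' := by
    intro i j hij
    by_contra hne
    exact Set.disjoint_iff_forall_ne.mp (h3 i j hne) ⟨η', rfl⟩ ⟨η', rfl⟩ hij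
  refine ((hfin.image (q ⁻¹ᵁ W₀).ι).preimage hinj.injOn).subset ?_
  intro i hi
  have hmem : σ i η' ∈ q ⁻¹ᵁ W₀ := by
    change q (σ i η') ∈ W₀
    rw [hqσ]; exact hηW₀
  refine ⟨⟨σ i η', hmem⟩, ?_, rfl⟩
  change pr (σ i η') = ξ
  exact key i hi

/-- SGA 3 X 5.14: connected components of a quasi-isotrivial twisted constant scheme over a
locally Noetherian geometrically unibranch base are open, and finite over the base. -/
theorem main {S : Scheme.{u}} [IsLocallyNoetherian S]
    (hS : ∀ s : S, CAlg2.IsGeomUnibranch (S.presheaf.stalk s))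
    (P : Over S) (hP : TwC.IsTwConst TwC.Topology.etale P) (x : P.left) :
    ∃ U : P.left.Opens, (U : Set P.left) = connectedComponent x ∧ IsFinite (U.ι ≫ P.hom) := by
  haveI : Etale P.hom := etale_of_isTwConst P hP
  obtain ⟨U, hU, hUirr⟩ := connectedComponent_open_irreducible P.hom hS x
  refine ⟨U, hU, ?_⟩
  have hP' : ∀ s : S, ∃ (S' : Scheme.{u}) (f : S' ⟶ S), Etale f ∧ s ∈ Set.range f ∧
      ∃ I : Type u, Nonempty (Red.bc f P ≅ TwC.const S' I) := hP
  haveI := Groth.Agent.H1.FpqcAffine.descendsAlong_isFinite.{u}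
  refine of_fppf_local (P := @IsFinite) (U.ι ≫ P.hom) fun s => ?_
  obtain ⟨S', f, hf, hs, I, ⟨e⟩⟩ := hP' s
  let pr := pullback.fst P.hom f
  let q := pullback.snd P.hom f
  let D : (pullback P.hom f).Opens := pr ⁻¹ᵁ U
  have hpb : IsPullback (pr ∣_ U) (D.ι ≫ q) (U.ι ≫ P.hom) f :=
    (isPullback_morphismRestrict pr U).paste_vert (IsPullback.of_hasPullback P.hom f)
  refine ⟨S', D, f, pr ∣_ U, D.ι ≫ q, inferInstance, inferInstance, hs, hpb, ?_⟩
  have hDcl : IsClosed (D : Set ↥(pullback P.hom f)) := by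
    have : IsClosed (U : Set P.left) := hU ▸ isClosed_connectedComponent
    exact this.preimage pr.continuous
  refine isFinite_of_sections q (sec P f e) (sec_snd P f e) (fun i => inferInstance)
    (sec_disjoint P f e) (sec_cover P f e) D hDcl fun s' => ?_
  obtain ⟨W', hsW', hW'⟩ := exists_irreducible_nhd f hS s'
  exact ⟨W', hsW', hW'.isPreirreducible.isPreconnected,
    finite_sheets P.hom f (sec P f e) (sec_snd P f e) (sec_disjoint P f e) U hUirr W' hW'⟩

end Groth.Agent.H2.TwConst
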