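import Mathlib
import Groth.Prelude.Def_TwC
import Groth.Agent.Lib.Helper2.TwConstB

/-! Helper2: open and closed parts of quasi-isotrivial twisted constant schemes with one finite
fibre over a connected locally Noetherian base are finite (SGA 3 X 5.13). -/

set_option autoImplicit false
set_option linter.style.haveILetI false
universe u
open CategoryTheory CategoryTheory.Limits AlgebraicGeometry MorphismProperty TopologicalSpace

namespace Groth.Agent.H2.TwConst

/-- Connected components of a Noetherian space are open. -/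
lemma isOpen_connectedComponent_of_noetherianSpace {T : Type*} [TopologicalSpace T]
    [NoetherianSpace T] (x : T) : IsOpen (connectedComponent x) := by
  have h : (connectedComponent x)ᶜ =
      ⋃₀ {C ∈ irreducibleComponents T | Disjoint C (connectedComponent x)} := by
    apply subset_antisymm
    · intro y hy
      refine ⟨irreducibleComponent y, ⟨irreducibleComponent_mem_irreducibleComponents y, ?_⟩,
        mem_irreducibleComponent⟩
      rw [Set.disjoint_left]
      intro z hz hzx
      apply hy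
      have h1 : irreducibleComponent y ⊆ connectedComponent z :=
        (isIrreducible_irreducibleComponent (x := y)).isConnected.isPreconnected
          |>.subset_connectedComponent hz
      rw [← connectedComponent_eq hzx] at h1
      exact h1 mem_irreducibleComponent
    · rintro y ⟨C, ⟨-, hC⟩, hy⟩ hyx
      exact Set.disjoint_left.1 hC hy hyx
  rw [← isClosed_compl_iff, h, Set.sUnion_eq_biUnion]
  apply Set.Finite.isClosed_biUnion
  · exact (NoetherianSpace.finite_irreducibleComponents).subset fun C hC => hC.1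
  · intro C hC
    exact isClosed_of_mem_irreducibleComponents C hC.1

/-- Every point of a locally Noetherian scheme has a connected open neighbourhood. -/
theorem exists_preconnected_nhd (X : Scheme.{u}) [IsLocallyNoetherian X] (x : X) :
    ∃ W : X.Opens, x ∈ W ∧ _root_.IsPreconnected (W : Set X) := by
  obtain ⟨V, -, hxV, hV⟩ := Groth.Agent.H2.exists_affineOpen_noetherianSpace X x
  let x' : (V : Set X) := ⟨x, hxV⟩
  have h2 : IsOpen (connectedComponent x') := isOpen_connectedComponent_of_noetherianSpace x'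
  have h3 : IsOpen (Subtype.val '' connectedComponent x') :=
    V.2.isOpenEmbedding_subtypeVal.isOpenMap _ h2
  refine ⟨⟨_, h3⟩, ⟨x', mem_connectedComponent, rfl⟩, ?_⟩
  exact isPreconnected_connectedComponent.image _ continuous_subtype_val.continuousOn

/-- Over a connected open of the covering scheme, the number of sheets of a trivialization
meeting the preimage of an open and closed part is finite iff the corresponding fibre of that
part is finite. -/
theorem sheets_finite_iff {X S S' : Scheme.{u}} [QuasiSeparatedSpace S] (p : X ⟶ S) [Etale p]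
    (f : S' ⟶ S) [Etale f] {I : Type*} (σ : I → (S' ⟶ pullback p f))
    (h1 : ∀ i, σ i ≫ pullback.snd p f = 𝟙 S')
    (h3 : ∀ i j, i ≠ j → Disjoint (Set.range (σ i)) (Set.range (σ j)))
    (h4 : ∀ x' : ↥(pullback p f), ∃ i s', σ i s' = x')
    (U : X.Opens) (hU : IsClosed (U : Set X))
    (W' : S'.Opens) (hW' : _root_.IsPreconnected (W' : Set S')) (s' : S') (hs' : s' ∈ W') :
    {i | ∃ w ∈ W', σ i w ∈ (pullback.fst p f) ⁻¹ᵁ U}.Finite ↔
      {x | x ∈ U ∧ p x = f s'}.Finite := by
  set pr := pullback.fst p f with hpr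
  set q := pullback.snd p f with hq
  have hqσ : ∀ i (w : S'), q (σ i w) = w := by
    intro i w
    rw [← Scheme.Hom.comp_apply, h1]
    rfl
  have hcond : ∀ x' : ↥(pullback p f), p (pr x') = f (q x') := by
    intro x'
    rw [← Scheme.Hom.comp_apply, ← Scheme.Hom.comp_apply, hpr, hq, pullback.condition]
  have hJ : {i | ∃ w ∈ W', σ i w ∈ pr ⁻¹ᵁ U} = {i | σ i s' ∈ pr ⁻¹ᵁ U} := by
    ext i
    refine ⟨?_, fun h => ⟨s', hs', h⟩⟩
    rintro ⟨w₀, hw₀, hw₀D⟩
    have hclopen : IsClopen ((σ i) ⁻¹' ((pr ⁻¹ᵁ U : (pullback p f).Opens) : Set _)) :=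
      ⟨(hU.preimage pr.continuous).preimage (σ i).continuous,
        (pr ⁻¹ᵁ U).2.preimage (σ i).continuous⟩
    exact hW'.subset_isClopen hclopen ⟨w₀, hw₀, hw₀D⟩ hs'
  rw [hJ]
  constructor
  · intro hfin
    refine (hfin.image fun i => pr (σ i s')).subset ?_
    rintro x ⟨hxU, hx⟩
    obtain ⟨x', hx'1, hx'2⟩ := Scheme.Pullback.exists_preimage_pullback x s' hx
    obtain ⟨i, s'', rfl⟩ := h4 x'
    have : s'' = s' := by rw [← hqσ i s'']; exact hx'2
    subst this
    exact ⟨i, by change pr (σ i s'') ∈ U; rw [hx'1]; exact hxU, hx'1⟩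
  · intro hfin
    obtain ⟨W₀, hW₀aff, hsW₀⟩ : ∃ W₀ : S'.Opens, IsAffineOpen W₀ ∧ s' ∈ W₀ := by
      obtain ⟨_, ⟨W₀, hW₀, rfl⟩, h1, -⟩ :=
        S'.isBasis_affineOpens.exists_subset_of_mem_open (Set.mem_univ s') isOpen_univ
      exact ⟨W₀, hW₀, h1⟩
    let h := (q ⁻¹ᵁ W₀).ι ≫ pr
    have hpb : IsPullback h (q ∣_ W₀) p (W₀.ι ≫ f) :=
      (isPullback_morphismRestrict q W₀).flip.paste_horiz (IsPullback.of_hasPullback p f)
    haveI : CompactSpace W₀ := isCompact_iff_compactSpace.mp hW₀aff.isCompact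
    haveI : QuasiCompact (W₀.ι ≫ f) := inferInstance
    haveI : LocallyQuasiFinite (W₀.ι ≫ f) := locallyQuasiFinite_of_etale _
    haveI : QuasiCompact h := MorphismProperty.of_isPullback (P := @QuasiCompact) hpb.flip ‹_›
    haveI : LocallyQuasiFinite h :=
      MorphismProperty.of_isPullback (P := @LocallyQuasiFinite) hpb.flip ‹_›
    have hfin' : (h ⁻¹' {x | x ∈ U ∧ p x = f s'}).Finite := h.finite_preimage hfin
    have hinj : Function.Injective fun i => σ i s' := by
      intro i j hij
      by_contra hne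
      exact Set.disjoint_iff_forall_ne.mp (h3 i j hne) ⟨s', rfl⟩ ⟨s', rfl⟩ hij
    refine ((hfin'.image (q ⁻¹ᵁ W₀).ι).preimage hinj.injOn).subset ?_
    intro i hi
    have hmem : σ i s' ∈ q ⁻¹ᵁ W₀ := by
      change q (σ i s') ∈ W₀
      rw [hqσ]; exact hsW₀
    refine ⟨⟨σ i s', hmem⟩, ⟨hi, ?_⟩, rfl⟩
    change p (pr (σ i s')) = f s'
    rw [hcond, hqσ]

/-- An open and closed part of a quasi-isotrivial twisted constant scheme is finite over the base
as soon as, for every trivialization, it meets locally only finitely many sheets. -/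
theorem isFinite_of_sheets {S : Scheme.{u}} (P : Over S)
    (hP : TwC.IsTwConst TwC.Topology.etale P) (U : P.left.Opens)
    (hUcl : IsClosed (U : Set P.left))
    (H : ∀ (S' : Scheme.{u}) (f : S' ⟶ S) [Etale f] (I : Type u)
      (e : Red.bc f P ≅ TwC.const S' I) (s' : S'),
      ∃ W' : S'.Opens, s' ∈ W' ∧ _root_.IsPreconnected (W' : Set S') ∧
        {i | ∃ w ∈ W', sec P f e i w ∈ (pullback.fst P.hom f) ⁻¹ᵁ U}.Finite) :
    IsFinite (U.ι ≫ P.hom) := by
  haveI : Etale P.hom := etale_of_isTwConst P hP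
  have hP' : ∀ s : S, ∃ (S' : Scheme.{u}) (f : S' ⟶ S), Etale f ∧ s ∈ Set.range f ∧
      ∃ I : Type u, Nonempty (Red.bc f P ≅ TwC.const S' I) := hP
  haveI := Groth.Agent.H1.FpqcAffine.descendsAlong_isFinite.{u}
  refine of_fppf_local (P := @IsFinite) (U.ι ≫ P.hom) fun s => ?_
  obtain ⟨S', f, hf, hs, I, ⟨e⟩⟩ := hP' s
  let pr := pullback.fst P.hom f
  let q := pullback.snd P.hom f
  let D : (pullback P.hom f).Opens := pr ⁻¹ᵁ U
  have hpb : IsPullback (pr ∣_ U) (D.ι ≫ q) (U.ι ≫ P.hom) f :=
    (isPullback_morphismRestrict pr U).paste_vert (IsPullback.of_hasPullback P.hom f)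
  refine ⟨S', D, f, pr ∣_ U, D.ι ≫ q, inferInstance, inferInstance, hs, hpb, ?_⟩
  have hDcl : IsClosed (D : Set ↥(pullback P.hom f)) := hUcl.preimage pr.continuous
  exact isFinite_of_sections q (sec P f e) (sec_snd P f e) (fun i => inferInstance)
    (sec_disjoint P f e) (sec_cover P f e) D hDcl (H S' f I e)

/-- SGA 3 X 5.13: over a connected locally Noetherian base, an open and closed part of a
quasi-isotrivial twisted constant scheme with one finite fibre is finite over the base. -/
theorem s5267 {S : Scheme.{u}} [IsLocallyNoetherian S] [ConnectedSpace S]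
    (P : Over S) (hP : TwC.IsTwConst TwC.Topology.etale P)
    {Z : Scheme.{u}} (z : Z ⟶ P.left) [IsOpenImmersion z] [IsClosedImmersion z]
    (hs : ∃ s : S, Set.Finite ((z ≫ P.hom).base ⁻¹' {s})) :
    IsFinite (z ≫ P.hom) := by
  haveI : Etale P.hom := etale_of_isTwConst P hP
  have hP' : ∀ s : S, ∃ (S' : Scheme.{u}) (f : S' ⟶ S), Etale f ∧ s ∈ Set.range f ∧
      ∃ I : Type u, Nonempty (Red.bc f P ≅ TwC.const S' I) := hP
  let U : P.left.Opens := z.opensRange
  have hUcl : IsClosed (U : Set P.left) := z.isClosedEmbedding.isClosed_range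
  -- fibres of `Z` against fibres of `U`
  have hfib : ∀ t : S, ((z ≫ P.hom) ⁻¹' {t}).Finite ↔ {x | x ∈ U ∧ P.hom x = t}.Finite := by
    intro t
    have : {x | x ∈ U ∧ P.hom x = t} = z '' ((z ≫ P.hom) ⁻¹' {t}) := by
      ext x
      constructor
      · rintro ⟨⟨a, rfl⟩, hx⟩
        exact ⟨a, hx, rfl⟩
      · rintro ⟨a, ha, rfl⟩
        exact ⟨⟨a, rfl⟩, ha⟩
    rw [this, Set.finite_image_iff z.isOpenEmbedding.injective.injOn]
  let A : Set S := {t | {x | x ∈ U ∧ P.hom x = t}.Finite}
  -- local constancy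
  have hloc : ∀ s : S, ∃ O : Set S, IsOpen O ∧ s ∈ O ∧ ∀ t ∈ O, (t ∈ A ↔ s ∈ A) := by
    intro s
    obtain ⟨S', f, hf, ⟨s', rfl⟩, I, ⟨e⟩⟩ := hP' s
    haveI : IsLocallyNoetherian S' := LocallyOfFiniteType.isLocallyNoetherian f
    obtain ⟨W', hsW', hW'⟩ := exists_preconnected_nhd S' s'
    refine ⟨f '' W', f.isOpenMap _ W'.2, ⟨s', hsW', rfl⟩, ?_⟩
    rintro _ ⟨w, hw, rfl⟩
    have e1 := sheets_finite_iff P.hom f (sec P f e) (sec_snd P f e) (sec_disjoint P f e)
      (sec_cover P f e) U hUcl W' hW' w hw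
    have e2 := sheets_finite_iff P.hom f (sec P f e) (sec_snd P f e) (sec_disjoint P f e)
      (sec_cover P f e) U hUcl W' hW' s' hsW'
    exact e1.symm.trans e2
  have hAopen : IsOpen A := by
    rw [isOpen_iff_forall_mem_open]
    intro s hsA
    obtain ⟨O, hO, hsO, h⟩ := hloc s
    exact ⟨O, fun t ht => (h t ht).mpr hsA, hO, hsO⟩
  have hAcl : IsClosed A := by
    rw [← isOpen_compl_iff, isOpen_iff_forall_mem_open]
    intro s hsA
    obtain ⟨O, hO, hsO, h⟩ := hloc s
    exact ⟨O, fun t ht htA => hsA ((h t ht).mp htA), hO, hsO⟩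
  have hAuniv : A = Set.univ := by
    obtain ⟨s, hs⟩ := hs
    exact IsClopen.eq_univ ⟨hAcl, hAopen⟩ ⟨s, (hfib s).mp hs⟩
  -- conclusion
  have hU : IsFinite (U.ι ≫ P.hom) := by
    refine isFinite_of_sheets P hP U hUcl ?_
    intro S' f _ I e s'
    haveI : IsLocallyNoetherian S' := LocallyOfFiniteType.isLocallyNoetherian f
    obtain ⟨W', hsW', hW'⟩ := exists_preconnected_nhd S' s'
    refine ⟨W', hsW', hW', ?_⟩
    have hmem : f s' ∈ A := hAuniv ▸ Set.mem_univ _
    exact (sheets_finite_iff P.hom f (sec P f e) (sec_snd P f e) (sec_disjoint P f e)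
      (sec_cover P f e) U hUcl W' hW' s' hsW').mpr hmem
  let ι := IsOpenImmersion.isoOfRangeEq z U.ι (by simp [U])
  have hι : ι.hom ≫ U.ι = z := IsOpenImmersion.isoOfRangeEq_hom_fac _ _ _
  rw [← hι, Category.assoc]
  exact (MorphismProperty.cancel_left_of_respectsIso @IsFinite ι.hom _).mpr hU

end Groth.Agent.H2.TwConst
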