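import Mathlib
import Groth.Prelude.Def_TwC
import Groth.Agent.Lib.Helper2.TwConstC

/-! Helper2: separatedness of quasi-isotrivial twisted constant schemes, and isotrivial twisted
constant groups as unions of finite open and closed parts (SGA 3 X 5.11). -/

set_option autoImplicit false
set_option linter.style.haveILetI false
universe u
open CategoryTheory CategoryTheory.Limits AlgebraicGeometry MorphismProperty TopologicalSpace

namespace Groth.Agent.H2.TwConst

/-- A morphism with a covering family of disjoint sections that are open immersions is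
separated. -/
theorem isSeparated_of_sections {X' S' : Scheme.{u}} (q : X' ⟶ S')
    {I : Type*} (σ : I → (S' ⟶ X')) (h1 : ∀ i, σ i ≫ q = 𝟙 S')
    (h2 : ∀ i, IsOpenImmersion (σ i))
    (h3 : ∀ i j, i ≠ j → Disjoint (Set.range (σ i)) (Set.range (σ j)))
    (h4 : ∀ x' : X', ∃ i s', σ i s' = x') : IsSeparated q := by
  haveI := h2
  constructor
  refine .of_isPreimmersion _ ?_
  rw [← isOpen_compl_iff, isOpen_iff_forall_mem_open]
  intro w hw
  have hqσ : ∀ i (s : S'), q (σ i s) = s := by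
    intro i s
    rw [← Scheme.Hom.comp_apply, h1]
    rfl
  obtain ⟨i, s₁, hs₁⟩ := h4 (pullback.fst q q w)
  obtain ⟨j, s₂, hs₂⟩ := h4 (pullback.snd q q w)
  by_cases hij : i = j
  · subst hij
    exfalso
    apply hw
    let O : (pullback q q).Opens :=
      (pullback.fst q q) ⁻¹ᵁ (σ i).opensRange ⊓ (pullback.snd q q) ⁻¹ᵁ (σ i).opensRange
    have hwO : w ∈ O := ⟨⟨s₁, hs₁⟩, ⟨s₂, hs₂⟩⟩
    let a₁ := O.ι ≫ pullback.fst q q
    let b₁ := O.ι ≫ pullback.snd q q
    have ha : Set.range a₁ ⊆ Set.range (σ i) := by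
      rintro _ ⟨o, rfl⟩
      exact o.2.1
    have hb : Set.range b₁ ⊆ Set.range (σ i) := by
      rintro _ ⟨o, rfl⟩
      exact o.2.2
    let a₀ := IsOpenImmersion.lift (σ i) a₁ ha
    let b₀ := IsOpenImmersion.lift (σ i) b₁ hb
    have ha₀ : a₀ ≫ σ i = a₁ := IsOpenImmersion.lift_fac _ _ _
    have hb₀ : b₀ ≫ σ i = b₁ := IsOpenImmersion.lift_fac _ _ _
    have hab : a₁ ≫ q = b₁ ≫ q := by
      simp only [a₁, b₁, Category.assoc, pullback.condition]
    have h0 : a₀ = b₀ := by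
      have e1 : a₀ = a₁ ≫ q := by rw [← ha₀, Category.assoc, h1, Category.comp_id]
      have e2 : b₀ = b₁ ≫ q := by rw [← hb₀, Category.assoc, h1, Category.comp_id]
      rw [e1, e2, hab]
    have hab' : a₁ = b₁ := by rw [← ha₀, ← hb₀, h0]
    have hι : O.ι = a₁ ≫ pullback.diagonal q := by
      apply pullback.hom_ext
      · simp [a₁]
      · rw [Category.assoc, pullback.diagonal_snd, Category.comp_id, hab']
    refine ⟨a₁ ⟨w, hwO⟩, ?_⟩
    rw [← Scheme.Hom.comp_apply, ← hι]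
    rfl
  · refine ⟨((pullback.fst q q) ⁻¹ᵁ (σ i).opensRange ⊓
      (pullback.snd q q) ⁻¹ᵁ (σ j).opensRange : (pullback q q).Opens), ?_,
      Opens.isOpen _, ⟨⟨s₁, hs₁⟩, ⟨s₂, hs₂⟩⟩⟩
    rintro _ ⟨⟨a, ha⟩, ⟨b, hb⟩⟩ ⟨x', rfl⟩
    have e1 : pullback.fst q q (pullback.diagonal q x') = x' := by
      rw [← Scheme.Hom.comp_apply, pullback.diagonal_fst]; rfl
    have e2 : pullback.snd q q (pullback.diagonal q x') = x' := by
      rw [← Scheme.Hom.comp_apply, pullback.diagonal_snd]; rfl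
    rw [e1] at ha
    rw [e2] at hb
    exact Set.disjoint_iff_forall_ne.mp (h3 i j hij) ⟨a, rfl⟩ ⟨b, rfl⟩ (ha.trans hb.symm)

/-- A quasi-isotrivial twisted constant scheme is separated over the base. -/
theorem isSeparated_of_isTwConst {S : Scheme.{u}} (P : Over S)
    (hP : TwC.IsTwConst TwC.Topology.etale P) : IsSeparated P.hom := by
  have hP' : ∀ s : S, ∃ (S' : Scheme.{u}) (f : S' ⟶ S), Etale f ∧ s ∈ Set.range f ∧
      ∃ I : Type u, Nonempty (Red.bc f P ≅ TwC.const S' I) := hP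
  haveI := Groth.Agent.H1.descendsAlong_isSeparated.{u}
  refine of_fppf_local (P := @IsSeparated) P.hom fun s => ?_
  obtain ⟨S', f, hf, hs, I, ⟨e⟩⟩ := hP' s
  refine ⟨S', pullback P.hom f, f, pullback.fst _ _, pullback.snd _ _, inferInstance,
    inferInstance, hs, .of_hasPullback _ _, ?_⟩
  exact isSeparated_of_sections _ (sec P f e) (sec_snd P f e) (fun i => inferInstance)
    (sec_disjoint P f e) (sec_cover P f e)

/-- If a quasi-isotrivial twisted constant scheme is trivialized by a finite étale map, every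
point over the image of that map has an open and closed neighbourhood finite over the base. -/
theorem exists_clopen_finite {S : Scheme.{u}} (P : Over S)
    (hP : TwC.IsTwConst TwC.Topology.etale P) {S₁ : Scheme.{u}} (f₁ : S₁ ⟶ S) [IsFinite f₁]
    [Etale f₁] {I : Type u} (e : Red.bc f₁ P ≅ TwC.const S₁ I) (x' : ↥(pullback P.hom f₁)) :
    ∃ U : P.left.Opens, pullback.fst P.hom f₁ x' ∈ U ∧ IsClosed (U : Set P.left) ∧
      IsFinite (U.ι ≫ P.hom) := by
  haveI : Etale P.hom := etale_of_isTwConst P hP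
  haveI : IsSeparated P.hom := isSeparated_of_isTwConst P hP
  set pr := pullback.fst P.hom f₁ with hpr
  set q := pullback.snd P.hom f₁ with hq
  obtain ⟨m, u, hu⟩ := sec_cover P f₁ e x'
  let h : S₁ ⟶ P.left := sec P f₁ e m ≫ pr
  have hhp : h ≫ P.hom = f₁ := by
    simp only [h, Category.assoc, hpr, pullback.condition]
    rw [← hq, reassoc_of% (sec_snd P f₁ e m)]
  -- the sheet is closed
  have hcl : IsClosed (Set.range (sec P f₁ e m)) := by
    have : (Set.range (sec P f₁ e m))ᶜ = ⋃ (j : I) (_ : j ≠ m), Set.range (sec P f₁ e j) := by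
      ext y
      simp only [Set.mem_compl_iff, Set.mem_iUnion, exists_prop]
      constructor
      · intro hy
        obtain ⟨j, t, rfl⟩ := sec_cover P f₁ e y
        refine ⟨j, ?_, t, rfl⟩
        rintro rfl
        exact hy ⟨t, rfl⟩
      · rintro ⟨j, hj, hy⟩ hy'
        exact Set.disjoint_iff_forall_ne.mp (sec_disjoint P f₁ e j m hj) hy hy' rfl
    rw [← isOpen_compl_iff, this]
    exact isOpen_iUnion fun j => isOpen_iUnion fun _ =>
      (sec P f₁ e j).isOpenEmbedding.isOpen_range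
  have hrange : Set.range h = pr '' Set.range (sec P f₁ e m) := by
    rw [← Set.range_comp]
    rfl
  have hopen : IsOpen (Set.range h) := by
    rw [hrange]
    exact pr.isOpenMap _ (sec P f₁ e m).isOpenEmbedding.isOpen_range
  have hclosed : IsClosed (Set.range h) := by
    rw [hrange]
    exact pr.isClosedMap _ hcl
  let Z : P.left.Opens := ⟨Set.range h, hopen⟩
  refine ⟨Z, ⟨u, by change pr (sec P f₁ e m u) = pr x'; rw [hu]⟩, hclosed, ?_⟩
  let h₀ : S₁ ⟶ Z := IsOpenImmersion.lift Z.ι h (by simp [Z])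
  have hh₀ : h₀ ≫ Z.ι = h := IsOpenImmersion.lift_fac _ _ _
  haveI : Surjective h₀ := by
    refine ⟨fun y => ?_⟩
    obtain ⟨t, ht⟩ : y.1 ∈ Set.range h := y.2
    refine ⟨t, ?_⟩
    apply Z.ι.isOpenEmbedding.injective
    rw [← Scheme.Hom.comp_apply, hh₀, ht]
    rfl
  haveI : IsFinite (h₀ ≫ Z.ι ≫ P.hom) := by
    rw [reassoc_of% hh₀, hhp]; infer_instance
  haveI : UniversallyClosed (Z.ι ≫ P.hom) := UniversallyClosed.of_comp_surjective h₀ _
  haveI : LocallyQuasiFinite (Z.ι ≫ P.hom) := locallyQuasiFinite_of_etale _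
  haveI : IsProper (Z.ι ≫ P.hom) := {}
  rw [IsFinite.iff_isProper_and_locallyQuasiFinite]
  exact ⟨inferInstance, inferInstance⟩

/-- SGA 3 X 5.11 (i) ⇒ (ii). -/
theorem s5308 {S : Scheme.{u}} (R : Over S) [GrpObj R]
    (hR : TwC.IsTwConstGrp TwC.Topology.finiteEtale R) (x : R.left) :
    ∃ U : R.left.Opens, x ∈ U ∧ IsClosed (U : Set R.left) ∧ IsFinite (U.ι ≫ R.hom) := by
  obtain ⟨S', f, hfin, het, hsurj, hloc⟩ :
    ∃ (S' : Scheme.{u}) (f : S' ⟶ S), IsFinite f ∧ Etale f ∧ Surjective f ∧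
      ∀ s' : S', ∃ U : S'.Opens, s' ∈ U ∧ IsClosed (U : Set S') ∧
        ∃ (M : Type u) (_ : Group M) (e : Red.bc (U.ι ≫ f) R ≅ TwC.const U M),
          TwC.IsConstGrp M (Red.bc (U.ι ≫ f) R) e := hR
  -- the underlying scheme is quasi-isotrivial
  have hP : TwC.IsTwConst TwC.Topology.etale R := by
    intro s
    obtain ⟨s', rfl⟩ := hsurj.surj s
    obtain ⟨U, hsU, -, M, _, e, -⟩ := hloc s'
    exact ⟨U, U.ι ≫ f, inferInstance, ⟨⟨s', hsU⟩, rfl⟩, M, ⟨e⟩⟩
  obtain ⟨s', hs'⟩ := hsurj.surj (R.hom x)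
  obtain ⟨U₁, hsU₁, hU₁cl, M, _, e, -⟩ := hloc s'
  haveI : IsClosedImmersion U₁.ι :=
    .of_isPreimmersion _ (by rw [Scheme.Opens.range_ι]; exact hU₁cl)
  obtain ⟨x', hx'1, -⟩ := Scheme.Pullback.exists_preimage_pullback (f := R.hom)
    (g := U₁.ι ≫ f) x ⟨s', hsU₁⟩ hs'.symm
  obtain ⟨U, hxU, hUcl, hUfin⟩ := exists_clopen_finite R hP (U₁.ι ≫ f) e x'
  exact ⟨U, hx'1 ▸ hxU, hUcl, hUfin⟩

end Groth.Agent.H2.TwConst
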