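import Mathlib
import Groth.Prelude.Def_TwC
import Groth.Agent.Lib.Helper2.TwConstD
import Groth.Agent.Lib.Helper3.FpqcCov.Basic

/-! Helper2: closed subschemes of twisted constant schemes that are quasi-compact over the base
are finite (SGA 3 X 5.12). -/

set_option autoImplicit false
set_option linter.style.haveILetI false
universe u
open CategoryTheory CategoryTheory.Limits AlgebraicGeometry MorphismProperty TopologicalSpace

namespace Groth.Agent.H2.TwConst

/-- A finite union of sheets over an affine open is finite over that open. -/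
theorem isFinite_resLE_sheets {X' S' : Scheme.{u}} (q : X' ⟶ S') [LocallyOfFiniteType q]
    {I : Type*} (σ : I → (S' ⟶ X')) (h1 : ∀ i, σ i ≫ q = 𝟙 S')
    (h2 : ∀ i, IsOpenImmersion (σ i))
    (h3 : ∀ i j, i ≠ j → Disjoint (Set.range (σ i)) (Set.range (σ j)))
    (W₀ : S'.Opens) (hW₀aff : IsAffineOpen W₀) (J : Set I) (hfin : J.Finite)
    (E : X'.Opens) (hE : E = ⨆ i ∈ J, haveI := h2 i; (σ i) ''ᵁ W₀) (hEq : E ≤ q ⁻¹ᵁ W₀) :
    IsFinite (q.resLE W₀ E hEq) := by
  haveI := h2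
  have hmemE : ∀ x' : X', x' ∈ E ↔ ∃ i ∈ J, ∃ w ∈ W₀, σ i w = x' := by
    intro x'
    rw [hE]
    simp only [TopologicalSpace.Opens.mem_iSup, exists_prop]
    constructor
    · rintro ⟨i, hi, w, hw, rfl⟩
      exact ⟨i, hi, w, hw, rfl⟩
    · rintro ⟨i, hi, w, hw, rfl⟩
      exact ⟨i, hi, w, hw, rfl⟩
  have hEaff : IsAffineOpen E := by
    rw [hE]
    refine IsAffineOpen.biSup_of_disjoint hfin
      (fun i _ => hW₀aff.image_of_isOpenImmersion (σ i)) ?_
    intro i _ j _ hij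
    change Disjoint ((σ i) ''ᵁ W₀) ((σ j) ''ᵁ W₀)
    rw [← TopologicalSpace.Opens.coe_disjoint]
    refine (h3 i j hij).mono ?_ ?_
    · rintro _ ⟨w, _, rfl⟩
      exact ⟨w, rfl⟩
    · rintro _ ⟨w, _, rfl⟩
      exact ⟨w, rfl⟩
  set g' : E.toScheme ⟶ W₀.toScheme := q.resLE W₀ E hEq with hg'def
  have hg' : g' ≫ W₀.ι = E.ι ≫ q := Scheme.Hom.resLE_comp_ι _ _
  haveI : IsAffine E.toScheme := hEaff
  haveI : IsAffine W₀.toScheme := hW₀aff
  have hlft : LocallyOfFiniteType g' := by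
    haveI : LocallyOfFiniteType (g' ≫ W₀.ι) := by rw [hg']; infer_instance
    exact locallyOfFiniteType_of_comp g' W₀.ι
  rw [IsFinite.iff_isIntegralHom_and_locallyOfFiniteType]
  refine ⟨?_, hlft⟩
  rw [IsIntegralHom.iff_universallyClosed_and_isAffineHom]
  refine ⟨?_, inferInstance⟩
  apply UniversallyClosed.of_valuativeCriterion
  intro Sq
  let z₀ : Spec (.of Sq.K) := IsLocalRing.closedPoint Sq.K
  have hz : ∀ z : Spec (.of Sq.K), z = z₀ := fun z =>
    @Subsingleton.elim _ (inferInstanceAs (Subsingleton (PrimeSpectrum Sq.K))) z z₀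
  obtain ⟨i, hi, w, hw, hwx⟩ := (hmemE (E.ι (Sq.i₁ z₀))).mp (Sq.i₁ z₀).2
  have hr1 : Set.range (Sq.i₁ ≫ E.ι) ⊆ Set.range (σ i) := by
    rintro _ ⟨z, rfl⟩
    rw [hz z]
    exact ⟨w, hwx⟩
  let a' := IsOpenImmersion.lift (σ i) (Sq.i₁ ≫ E.ι) hr1
  have ha' : a' ≫ σ i = Sq.i₁ ≫ E.ι := IsOpenImmersion.lift_fac _ _ _
  have hr2 : Set.range (Sq.i₂ ≫ W₀.ι ≫ σ i) ⊆ Set.range E.ι := by
    rintro _ ⟨r, rfl⟩
    rw [Scheme.Opens.range_ι]
    exact (hmemE _).mpr ⟨i, hi, W₀.ι (Sq.i₂ r), (Sq.i₂ r).2, rfl⟩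
  let l := IsOpenImmersion.lift E.ι (Sq.i₂ ≫ W₀.ι ≫ σ i) hr2
  have hl : l ≫ E.ι = Sq.i₂ ≫ W₀.ι ≫ σ i := IsOpenImmersion.lift_fac _ _ _
  refine CommSq.HasLift.mk' ⟨l, ?_, ?_⟩
  · rw [← cancel_mono E.ι, Category.assoc, hl, ← Category.assoc, ← Sq.commSq.w, Category.assoc,
      reassoc_of% hg', ← reassoc_of% ha', reassoc_of% (h1 i), ha']
  · rw [← cancel_mono W₀.ι, Category.assoc, hg', reassoc_of% hl, h1]
    simp

/-- The structure morphism of a trivialized base change is étale. -/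
theorem etale_snd_of_triv {S S' : Scheme.{u}} (P : Over S) (f : S' ⟶ S) {I : Type u}
    (e : Red.bc f P ≅ TwC.const S' I) : Etale (pullback.snd P.hom f) := by
  have hw : e.hom.left ≫ (Sigma.desc fun _ : I => 𝟙 S') = pullback.snd P.hom f := Over.w e.hom
  rw [← hw]
  haveI : Etale (Sigma.desc fun _ : I => 𝟙 S') :=
    IsZariskiLocalAtSource.sigmaDesc (fun _ => inferInstance)
  infer_instance

/-- Over a base on which a scheme is constant, a closed subscheme quasi-compact over the base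
is finite over it. -/
theorem isFinite_of_closed_qc_triv {S T : Scheme.{u}} (R : Over S) (fT : T ⟶ S) {I : Type u}
    (e : Red.bc fT R ≅ TwC.const T I) {Z : Scheme.{u}} (z : Z ⟶ R.left) [IsClosedImmersion z]
    [QuasiCompact (z ≫ R.hom)] : IsFinite (pullback.snd (z ≫ R.hom) fT) := by
  haveI : Etale (pullback.snd R.hom fT) := etale_snd_of_triv R fT e
  set q := pullback.snd R.hom fT with hq
  set gT := pullback.snd (z ≫ R.hom) fT with hgT
  let zT : pullback (z ≫ R.hom) fT ⟶ pullback R.hom fT :=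
    pullback.lift (pullback.fst (z ≫ R.hom) fT ≫ z) (pullback.snd (z ≫ R.hom) fT)
      (by rw [Category.assoc, pullback.condition])
  have hzq : zT ≫ q = gT := pullback.lift_snd _ _ _
  have hzfst : zT ≫ pullback.fst R.hom fT = pullback.fst (z ≫ R.hom) fT ≫ z :=
    pullback.lift_fst _ _ _
  have hpbz : IsPullback (pullback.fst (z ≫ R.hom) fT) zT z (pullback.fst R.hom fT) := by
    refine IsPullback.of_bot ?_ hzfst.symm (IsPullback.of_hasPullback R.hom fT)
    rw [hzq]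
    exact IsPullback.of_hasPullback (z ≫ R.hom) fT
  haveI : IsClosedImmersion zT :=
    MorphismProperty.of_isPullback (P := @IsClosedImmersion) hpbz inferInstance
  have hqσ : ∀ i (w : T), q (sec R fT e i w) = w := by
    intro i w
    rw [← Scheme.Hom.comp_apply, sec_snd]
    rfl
  refine of_local_isPullback (P := @IsFinite) gT fun t => ?_
  obtain ⟨W₀, hW₀aff, htW₀⟩ : ∃ W₀ : T.Opens, IsAffineOpen W₀ ∧ t ∈ W₀ := by
    obtain ⟨_, ⟨W₀, hW₀, rfl⟩, h1, -⟩ :=
      T.isBasis_affineOpens.exists_subset_of_mem_open (Set.mem_univ t) isOpen_univ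
    exact ⟨W₀, hW₀, h1⟩
  have hK : IsCompact (gT ⁻¹' (W₀ : Set T)) :=
    QuasiCompact.isCompact_preimage (f := gT) _ W₀.2 hW₀aff.isCompact
  have hcov : zT '' (gT ⁻¹' (W₀ : Set T)) ⊆ ⋃ i, Set.range (sec R fT e i) := by
    rintro _ ⟨y, -, rfl⟩
    obtain ⟨i, w, hw⟩ := sec_cover R fT e (zT y)
    exact Set.mem_iUnion.mpr ⟨i, w, hw⟩
  obtain ⟨J, hJ⟩ := (hK.image zT.continuous).elim_finite_subcover
    (fun i => Set.range (sec R fT e i))
    (fun i => (sec R fT e i).isOpenEmbedding.isOpen_range) hcov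
  let E : (pullback R.hom fT).Opens := ⨆ i ∈ (J : Set I), (sec R fT e i) ''ᵁ W₀
  have hmemE : ∀ x', x' ∈ E ↔ ∃ i ∈ (J : Set I), ∃ w ∈ W₀, sec R fT e i w = x' := by
    intro x'
    simp only [E, TopologicalSpace.Opens.mem_iSup, exists_prop]
    constructor
    · rintro ⟨i, hi, w, hw, rfl⟩
      exact ⟨i, hi, w, hw, rfl⟩
    · rintro ⟨i, hi, w, hw, rfl⟩
      exact ⟨i, hi, w, hw, rfl⟩
  have hEq : E ≤ q ⁻¹ᵁ W₀ := by
    intro x' hx'
    obtain ⟨i, hi, w, hw, rfl⟩ := (hmemE x').mp hx'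
    change q (sec R fT e i w) ∈ W₀
    rw [hqσ]
    exact hw
  have hfinE : IsFinite (q.resLE W₀ E hEq) :=
    isFinite_resLE_sheets q (sec R fT e) (sec_snd R fT e) (fun i => inferInstance)
      (sec_disjoint R fT e) W₀ hW₀aff (J : Set I) J.finite_toSet E rfl hEq
  let f'' : (zT ⁻¹ᵁ E).toScheme ⟶ W₀.toScheme := (zT ∣_ E) ≫ q.resLE W₀ E hEq
  have hf'' : f'' ≫ W₀.ι = (zT ⁻¹ᵁ E).ι ≫ gT := by
    simp only [f'', Category.assoc, Scheme.Hom.resLE_comp_ι, morphismRestrict_ι_assoc, hzq]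
  have hpb : IsPullback f'' (zT ⁻¹ᵁ E).ι W₀.ι gT := by
    refine IsOpenImmersion.isPullback f'' _ W₀.ι gT hf''.symm ?_
    ext y
    rw [Scheme.Opens.opensRange_ι, Scheme.Opens.opensRange_ι]
    change gT y ∈ W₀ ↔ zT y ∈ E
    constructor
    · intro hy
      have hmem : zT y ∈ ⋃ i ∈ J, Set.range (sec R fT e i) := hJ ⟨y, hy, rfl⟩
      simp only [Set.mem_iUnion, exists_prop] at hmem
      obtain ⟨i, hi, w, hw⟩ := hmem
      refine (hmemE _).mpr ⟨i, hi, w, ?_, hw⟩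
      have : gT y = w := by
        rw [← hzq, Scheme.Hom.comp_apply, ← hw, hqσ]
      rw [← this]
      exact hy
    · intro hy
      have := hEq hy
      change q (zT y) ∈ W₀ at this
      rwa [← Scheme.Hom.comp_apply, hzq] at this
  refine ⟨W₀, zT ⁻¹ᵁ E, W₀.ι, (zT ⁻¹ᵁ E).ι, f'', inferInstance, by simpa using htW₀,
    hpb.flip, ?_⟩
  haveI := hfinE
  infer_instance

/-- SGA 3 X 5.12: a closed subscheme of a twisted constant scheme which is quasi-compact over
the base is finite over it. -/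
theorem s5266 {S : Scheme.{u}} (R : Over S) (hR : TwC.IsTwConst TwC.Topology.fpqc R)
    {Z : Scheme.{u}} (z : Z ⟶ R.left) [IsClosedImmersion z] [QuasiCompact (z ≫ R.hom)] :
    IsFinite (z ≫ R.hom) := by
  obtain ⟨S', f, hfl, hsurj, hcond, hloc⟩ : ∃ (S' : Scheme.{u}) (f : S' ⟶ S), Flat f ∧
      Surjective f ∧
      (∀ V : S.Opens, IsAffineOpen V →
        ∃ W : S'.Opens, IsCompact (W : Set S') ∧ f.base '' (W : Set S') = (V : Set S)) ∧
      ∀ s' : S', ∃ U : S'.Opens, s' ∈ U ∧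
        ∃ I : Type u, Nonempty (Red.bc (U.ι ≫ f) R ≅ TwC.const U I) := hR
  have hcov := Groth.Agent.H3.FpqcCov.cov_of_cond f hsurj hfl hcond
  haveI := Groth.Agent.H1.FpqcAffine.descendsAlong_isFinite.{u}
  haveI : MorphismProperty.IsLocalAtTarget (@IsFinite) Scheme.fpqcPrecoverage.{u} :=
    Groth.Agent.H3.FpqcLocal.isLocalAtTarget_fpqc @IsFinite
  refine Groth.Agent.H3.FpqcCov.of_isPullback (P := @IsFinite)
    (IsPullback.of_hasPullback (z ≫ R.hom) f).flip hcov ?_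
  refine of_local_isPullback (P := @IsFinite) _ fun s' => ?_
  obtain ⟨U, hsU, I, ⟨e⟩⟩ := hloc s'
  have key := isFinite_of_closed_qc_triv R (U.ι ≫ f) e z
  have t := IsPullback.of_hasPullback (z ≫ R.hom) f
  have s := IsPullback.of_hasPullback (z ≫ R.hom) (U.ι ≫ f)
  exact ⟨U, _, U.ι, _, _, inferInstance, by simpa using hsU, IsPullback.of_right' s t, key⟩

end Groth.Agent.H2.TwConst
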