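import Mathlib
import Groth.Prelude.Def_TwC
import Groth.Prelude.Def_CAlg2
import Groth.Agent.Lib.Helper2.TwConstE

/-! Helper2: structure of quasi-isotrivial twisted constant schemes over an irreducible
geometrically unibranch base (no Noetherian hypothesis). -/

set_option autoImplicit false
set_option linter.style.haveILetI false
universe u
open CategoryTheory CategoryTheory.Limits AlgebraicGeometry MorphismProperty TopologicalSpace

namespace Groth.Agent.H2.TwConst

section Generic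

variable {Y S : Scheme.{u}} (h : Y ⟶ S)

/-- No proper specializations inside a fibre of a locally quasi-finite morphism. -/
lemma eq_of_specializes_of_fibre [LocallyQuasiFinite h] {l l' : Y} (hl : h l = h l')
    (hsp : l ⤳ l') : l = l' := by
  have hd := h.isDiscrete_preimage_singleton (h l')
  rw [isDiscrete_iff_forall_mem_exists_isOpen] at hd
  obtain ⟨u, hu, hul⟩ := hd l' rfl
  have hl'u : l' ∈ u := (hul.ge rfl).1
  have hlu : l ∈ u := hsp.mem_open hu hl'u
  exact hul.le ⟨hlu, hl⟩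

variable [IrreducibleSpace S]

/-- Every point has a generization over the generic point of the base. -/
lemma exists_generic_specializes [Flat h] (y : Y) :
    ∃ l : Y, h l = genericPoint S ∧ l ⤳ y := by
  obtain ⟨l, hl, hl'⟩ := Flat.generalizingMap h (genericPoint_specializes (h y))
  exact ⟨l, hl', hl⟩

/-- Points over the generic point are generic points of irreducible components. -/
lemma closure_mem_irreducibleComponents [Flat h] [LocallyQuasiFinite h] {l : Y}
    (hl : h l = genericPoint S) : closure ({l} : Set Y) ∈ irreducibleComponents (Y : Type u) := by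
  rw [Groth.Agent.H2.closure_singleton_mem_irreducibleComponents_iff]
  intro y' hy'
  have h1 : h y' ⤳ genericPoint S := hl ▸ hy'.map h.continuous
  have h2 : h y' = genericPoint S := (h1.antisymm (genericPoint_specializes _)).eq
  exact eq_of_specializes_of_fibre h (h2.trans hl.symm) hy'

/-- Over an irreducible base with geometrically unibranch local rings, every point of a scheme
étale over the base lies in the closure of exactly one point over the generic point. -/
theorem existsUnique_generic [Etale h]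
    (hS : ∀ s : S, CAlg2.IsGeomUnibranch (S.presheaf.stalk s)) (y : Y) :
    ∃! l : Y, h l = genericPoint S ∧ y ∈ closure ({l} : Set Y) := by
  haveI : LocallyQuasiFinite h := locallyQuasiFinite_of_etale h
  obtain ⟨l, hl, hly⟩ := exists_generic_specializes h y
  refine ⟨l, ⟨hl, specializes_iff_mem_closure.mp hly⟩, ?_⟩
  rintro l' ⟨hl', hl'y⟩
  have hgu : CAlg2.IsGeomUnibranch (Y.presheaf.stalk y) :=
    (Groth.Agent.H8.Brnch.isGeomUnibranch_stalk_iff_of_smooth h y).mpr (hS (h y))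
  have hprime := Groth.Agent.H8.Hens.isPrime_nilradical_of_isGeomUnibranch hgu
  obtain ⟨Z, -, hZ⟩ := (Groth.Agent.H2.isPrime_nilradical_stalk_iff Y y).mp hprime
  have e1 := hZ _ ⟨closure_mem_irreducibleComponents h hl, specializes_iff_mem_closure.mp hly⟩
  have e2 := hZ _ ⟨closure_mem_irreducibleComponents h hl', hl'y⟩
  have hg : IsGenericPoint l' (closure ({l} : Set Y)) := by
    rw [e1, ← e2]; exact isGenericPoint_closure
  exact hg.eq isGenericPoint_closure

/-- The closures of the points over the generic point are open. -/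
theorem isOpen_closure_generic [Etale h]
    (hS : ∀ s : S, CAlg2.IsGeomUnibranch (S.presheaf.stalk s)) {l : Y}
    (hl : h l = genericPoint S) : IsOpen (closure ({l} : Set Y)) := by
  haveI : LocallyQuasiFinite h := locallyQuasiFinite_of_etale h
  rw [isOpen_iff_forall_mem_open]
  intro y hy
  obtain ⟨S₁, hS₁aff, hyS₁⟩ : ∃ S₁ : S.Opens, IsAffineOpen S₁ ∧ h y ∈ S₁ := by
    obtain ⟨_, ⟨S₁, hS₁, rfl⟩, h1, -⟩ :=
      S.isBasis_affineOpens.exists_subset_of_mem_open (Set.mem_univ (h y)) isOpen_univ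
    exact ⟨S₁, hS₁, h1⟩
  obtain ⟨V₁, hV₁aff, hyV₁, hV₁S₁⟩ :
      ∃ V₁ : Y.Opens, IsAffineOpen V₁ ∧ y ∈ V₁ ∧ V₁ ≤ h ⁻¹ᵁ S₁ := by
    obtain ⟨_, ⟨V₁, hV₁, rfl⟩, h1, h2⟩ :=
      Y.isBasis_affineOpens.exists_subset_of_mem_open (show y ∈ h ⁻¹ᵁ S₁ from hyS₁)
        (h ⁻¹ᵁ S₁).2
    exact ⟨V₁, hV₁, h1, h2⟩
  have hηS₁ : genericPoint S ∈ S₁ :=
    ((genericPoint_spec S).mem_open_set_iff S₁.2).mpr ⟨h y, Set.mem_univ _, hyS₁⟩
  let h₁ := h.resLE S₁ V₁ hV₁S₁
  haveI : IsAffine V₁.toScheme := hV₁aff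
  haveI : IsAffine S₁.toScheme := hS₁aff
  haveI : LocallyQuasiFinite h₁ := locallyQuasiFinite_of_etale h₁
  have hF : (h₁ ⁻¹' {⟨genericPoint S, hηS₁⟩}).Finite := h₁.finite_preimage_singleton _
  have hF' : {v : Y | v ∈ V₁ ∧ h v = genericPoint S}.Finite := by
    refine (hF.image V₁.ι).subset ?_
    rintro v ⟨hvV, hv⟩
    refine ⟨⟨v, hvV⟩, ?_, rfl⟩
    change h₁ ⟨v, hvV⟩ = _
    apply S₁.ι.isOpenEmbedding.injective
    rw [← Scheme.Hom.comp_apply, Scheme.Hom.resLE_comp_ι]
    exact hv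
  let B : Set Y := ⋃ l' ∈ {v : Y | v ∈ V₁ ∧ h v = genericPoint S} \ {l}, closure ({l'} : Set Y)
  have hB : IsClosed B := hF'.sdiff.isClosed_biUnion fun _ _ => isClosed_closure
  refine ⟨(V₁ : Set Y) \ B, ?_, V₁.2.sdiff hB, ⟨hyV₁, ?_⟩⟩
  · rintro v ⟨hvV, hvB⟩
    obtain ⟨lv, hlv, hlvv⟩ := exists_generic_specializes h v
    have hlvV : lv ∈ V₁ := hlvv.mem_open V₁.2 hvV
    by_cases hlvl : lv = l
    · exact hlvl ▸ specializes_iff_mem_closure.mp hlvv
    · exfalso
      apply hvB
      exact Set.mem_biUnion (show lv ∈ {v : Y | v ∈ V₁ ∧ h v = genericPoint S} \ {l} from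
        ⟨⟨hlvV, hlv⟩, hlvl⟩) (specializes_iff_mem_closure.mp hlvv)
  · intro hyB
    simp only [B, Set.mem_iUnion, exists_prop] at hyB
    obtain ⟨l', ⟨⟨-, hl'⟩, hl'l⟩, hyl'⟩ := hyB
    exact hl'l ((existsUnique_generic h hS y).unique ⟨hl', hyl'⟩ ⟨hl, hy⟩)

end Generic

/-- The points of a fibre product lying over a given pair of points are finitely many when one
of the two morphisms is locally quasi-finite. -/
theorem finite_pullback_fibre {X S S' : Scheme.{u}} (p : X ⟶ S) (f : S' ⟶ S)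
    [LocallyQuasiFinite f] (x : X) (s' : S') :
    {x' : ↥(pullback p f) | pullback.fst p f x' = x ∧ pullback.snd p f x' = s'}.Finite := by
  set pr := pullback.fst p f with hpr
  set q := pullback.snd p f with hq
  have hcond : ∀ x' : ↥(pullback p f), p (pr x') = f (q x') := by
    intro x'
    rw [← Scheme.Hom.comp_apply, ← Scheme.Hom.comp_apply, hpr, hq, pullback.condition]
  by_cases hxs : p x = f s'
  swap
  · refine Set.Finite.subset Set.finite_empty ?_
    rintro x' ⟨h1, h2⟩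
    exact hxs (by rw [← h1, ← h2, hcond])
  obtain ⟨S₁, hS₁aff, hsS₁⟩ : ∃ S₁ : S.Opens, IsAffineOpen S₁ ∧ f s' ∈ S₁ := by
    obtain ⟨_, ⟨S₁, hS₁, rfl⟩, h1, -⟩ :=
      S.isBasis_affineOpens.exists_subset_of_mem_open (Set.mem_univ (f s')) isOpen_univ
    exact ⟨S₁, hS₁, h1⟩
  obtain ⟨W₀, hW₀aff, hsW₀, hW₀S₁⟩ :
      ∃ W₀ : S'.Opens, IsAffineOpen W₀ ∧ s' ∈ W₀ ∧ W₀ ≤ f ⁻¹ᵁ S₁ := by
    obtain ⟨_, ⟨W₀, hW₀, rfl⟩, h1, h2⟩ :=
      S'.isBasis_affineOpens.exists_subset_of_mem_open (show s' ∈ f ⁻¹ᵁ S₁ from hsS₁)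
        (f ⁻¹ᵁ S₁).2
    exact ⟨W₀, hW₀, h1, h2⟩
  let UX : X.Opens := p ⁻¹ᵁ S₁
  let UY : (pullback p f).Opens := pr ⁻¹ᵁ UX ⊓ q ⁻¹ᵁ W₀
  have hpb := Scheme.Hom.isPullback_resLE (IsPullback.of_hasPullback p f) (US := S₁) (UT := W₀)
    (UX := UX) hW₀S₁ le_rfl (UY := UY) rfl
  haveI : IsAffine W₀.toScheme := hW₀aff
  haveI : IsAffine S₁.toScheme := hS₁aff
  haveI : QuasiCompact (f.resLE S₁ W₀ hW₀S₁) := inferInstance
  haveI : LocallyQuasiFinite (f.resLE S₁ W₀ hW₀S₁) := inferInstance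
  set h' := pr.resLE UX UY (by simp [UY]) with hh'
  haveI : QuasiCompact h' := MorphismProperty.of_isPullback (P := @QuasiCompact) hpb.flip ‹_›
  haveI : LocallyQuasiFinite h' :=
    MorphismProperty.of_isPullback (P := @LocallyQuasiFinite) hpb.flip ‹_›
  have hxUX : x ∈ UX := by change p x ∈ S₁; rw [hxs]; exact hsS₁
  have hfin : (h' ⁻¹' {⟨x, hxUX⟩}).Finite := h'.finite_preimage_singleton _
  refine (hfin.image UY.ι).subset ?_
  rintro x' ⟨h1, h2⟩
  have hx'UY : x' ∈ UY := ⟨by change pr x' ∈ UX; rw [h1]; exact hxUX,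
    by change q x' ∈ W₀; rw [h2]; exact hsW₀⟩
  refine ⟨⟨x', hx'UY⟩, ?_, rfl⟩
  change h' ⟨x', hx'UY⟩ = _
  apply UX.ι.isOpenEmbedding.injective
  rw [← Scheme.Hom.comp_apply, hh', Scheme.Hom.resLE_comp_ι]
  exact h1

/-- Only finitely many sheets of a trivialization meet the preimage of an irreducible open of
the total space over an irreducible open of the covering scheme (no hypothesis on the base). -/
theorem finite_sheets' {X S S' : Scheme.{u}} (p : X ⟶ S) [Etale p]
    (f : S' ⟶ S) [Etale f] {I : Type*} (σ : I → (S' ⟶ pullback p f))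
    (h1 : ∀ i, σ i ≫ pullback.snd p f = 𝟙 S')
    (h3 : ∀ i j, i ≠ j → Disjoint (Set.range (σ i)) (Set.range (σ j)))
    (U : X.Opens) (hU : IsIrreducible (U : Set X))
    (W' : S'.Opens) (hW' : IsIrreducible (W' : Set S')) :
    {i | ∃ w ∈ W', σ i w ∈ (pullback.fst p f) ⁻¹ᵁ U}.Finite := by
  set pr := pullback.fst p f with hpr
  set q := pullback.snd p f with hq
  have hqσ : ∀ i (w : S'), q (σ i w) = w := by
    intro i w
    rw [← Scheme.Hom.comp_apply, h1]
    rfl
  let η' := hW'.genericPoint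
  have hη' : IsGenericPoint η' (closure (W' : Set S')) := hW'.isGenericPoint_genericPoint_closure
  have hη'W : η' ∈ W' := by
    obtain ⟨w, hw⟩ := hW'.nonempty
    exact (hη'.mem_open_set_iff W'.2).mpr ⟨w, subset_closure hw, hw⟩
  let ξ := hU.genericPoint
  have hξ : IsGenericPoint ξ (closure (U : Set X)) := hU.isGenericPoint_genericPoint_closure
  have key : ∀ i, (∃ w ∈ W', σ i w ∈ pr ⁻¹ᵁ U) → pr (σ i η') = ξ := by
    rintro i ⟨w, hw, hwU⟩
    let τ := σ i ≫ pr
    have hτp : τ ≫ p = f := by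
      simp only [τ, Category.assoc, hpr, pullback.condition]
      rw [← hq, reassoc_of% (h1 i)]
    haveI : Etale (τ ≫ p) := by rw [hτp]; infer_instance
    haveI : Etale τ := MorphismProperty.of_postcomp (W := @Etale) (W' := @Etale) τ p
      inferInstance inferInstance
    have hmem : η' ∈ τ ⁻¹ᵁ U :=
      (hη'.mem_open_set_iff (τ ⁻¹ᵁ U).2).mpr ⟨w, subset_closure hw, hwU⟩
    have hspec : ξ ⤳ τ η' := hξ.specializes (subset_closure hmem)
    obtain ⟨ζ, hζ, hζξ⟩ := Flat.generalizingMap τ hspec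
    have hζW : ζ ∈ W' := hζ.mem_open W'.2 hη'W
    have hζη : ζ = η' := (hζ.antisymm (hη'.specializes (subset_closure hζW))).eq
    rw [← hζξ, hζη]
    rfl
  haveI : LocallyQuasiFinite f := locallyQuasiFinite_of_etale f
  have hfin := finite_pullback_fibre p f ξ η'
  have hinj : Function.Injective fun i => σ i η' := by
    intro i j hij
    by_contra hne
    exact Set.disjoint_iff_forall_ne.mp (h3 i j hne) ⟨η', rfl⟩ ⟨η', rfl⟩ hij
  refine (hfin.preimage hinj.injOn).subset ?_
  intro i hi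
  exact ⟨key i hi, hqσ i η'⟩

end Groth.Agent.H2.TwConst
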