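import Mathlib
import Groth.Prelude.Def_TwC
import Groth.Prelude.Def_CAlg2
import Groth.Agent.Lib.Helper2.TwConstF

/-! Helper2: quasi-isotrivial twisted constant schemes over an irreducible geometrically
unibranch base: decomposition into finite étale covers, sections and generic sections. -/

set_option autoImplicit false
set_option linter.style.haveILetI false
universe u
open CategoryTheory CategoryTheory.Limits AlgebraicGeometry MorphismProperty TopologicalSpace

namespace Groth.Agent.H2.TwConst

/-- A section of an étale morphism is an open immersion. -/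
theorem isOpenImmersion_of_section {X S : Scheme.{u}} (p : X ⟶ S) [Etale p] (σ : S ⟶ X)
    (hσ : σ ≫ p = 𝟙 S) : IsOpenImmersion σ := by
  haveI : Etale (σ ≫ p) := by rw [hσ]; infer_instance
  haveI : Etale σ := MorphismProperty.of_postcomp (W := @Etale) (W' := @Etale) σ p
    inferInstance inferInstance
  haveI : Mono σ := mono_of_mono_fac hσ
  exact IsOpenImmersion.of_flat_of_mono σ

/-- Two sections of a separated étale morphism over an irreducible base that agree at the
generic point are equal. -/
theorem section_ext {X S : Scheme.{u}} [IrreducibleSpace S] (p : X ⟶ S) [Etale p]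
    [IsSeparated p] (σ₁ σ₂ : S ⟶ X) (h₁ : σ₁ ≫ p = 𝟙 S) (h₂ : σ₂ ≫ p = 𝟙 S)
    (hη : σ₁ (genericPoint S) = σ₂ (genericPoint S)) : σ₁ = σ₂ := by
  haveI := isOpenImmersion_of_section p σ₂ h₂
  haveI : IsClosedImmersion (σ₂ ≫ p) := by rw [h₂]; infer_instance
  haveI : IsClosedImmersion σ₂ := MorphismProperty.of_postcomp (W := @IsClosedImmersion)
    (W' := @IsSeparated) σ₂ p inferInstance inferInstance
  have hcl : IsClosed (Set.range σ₂) := σ₂.isClosedEmbedding.isClosed_range
  have hsub : Set.range σ₁ ⊆ Set.range σ₂ := by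
    rintro _ ⟨s, rfl⟩
    have hs : genericPoint S ⤳ s := genericPoint_specializes s
    have h3 : σ₁ (genericPoint S) ⤳ σ₁ s := hs.map σ₁.continuous
    have h4 : σ₁ (genericPoint S) ∈ Set.range σ₂ := ⟨genericPoint S, hη.symm⟩
    exact h3.mem_closed hcl h4
  let ι := IsOpenImmersion.lift σ₂ σ₁ hsub
  have hι : ι ≫ σ₂ = σ₁ := IsOpenImmersion.lift_fac _ _ _
  have : ι = 𝟙 S := by
    have e1 : ι = ι ≫ σ₂ ≫ p := by rw [h₂, Category.comp_id]
    rw [e1, reassoc_of% hι, h₁]
  rw [← hι, this, Category.id_comp]

section Main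

variable {S : Scheme.{u}} [IrreducibleSpace S]
  (hS : ∀ s : S, CAlg2.IsGeomUnibranch (S.presheaf.stalk s))
  (X : Over S) (hX : TwC.IsTwConst TwC.Topology.etale X)

include hS hX in
/-- The closure of a point over the generic point is open and closed, finite, étale and
surjective over the base. -/
theorem generic_closure_finite (l : X.left) (hl : X.hom l = genericPoint S) :
    ∃ U : X.left.Opens, (U : Set X.left) = closure ({l} : Set X.left) ∧
      IsClosed (U : Set X.left) ∧ IsFinite (U.ι ≫ X.hom) ∧ Etale (U.ι ≫ X.hom) ∧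
      Surjective (U.ι ≫ X.hom) := by
  haveI : Etale X.hom := etale_of_isTwConst X hX
  let U : X.left.Opens := ⟨closure {l}, isOpen_closure_generic X.hom hS hl⟩
  have hUirr : IsIrreducible (U : Set X.left) := isIrreducible_singleton.closure
  have hfin : IsFinite (U.ι ≫ X.hom) := by
    refine isFinite_of_sheets X hX U isClosed_closure ?_
    intro S' f _ I e s'
    obtain ⟨l', hl', hl's'⟩ := exists_generic_specializes f s'
    let W' : S'.Opens := ⟨closure {l'}, isOpen_closure_generic f hS hl'⟩
    have hW'irr : IsIrreducible (W' : Set S') := isIrreducible_singleton.closure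
    exact ⟨W', specializes_iff_mem_closure.mp hl's', hW'irr.isPreirreducible.isPreconnected,
      finite_sheets' X.hom f (sec X f e) (sec_snd X f e) (sec_disjoint X f e) U hUirr W' hW'irr⟩
  refine ⟨U, rfl, isClosed_closure, hfin, inferInstance, ⟨fun s => ?_⟩⟩
  have hcl : IsClosed (Set.range (U.ι ≫ X.hom)) := (U.ι ≫ X.hom).isClosedMap.isClosed_range
  have hmem : genericPoint S ∈ Set.range (U.ι ≫ X.hom) :=
    ⟨⟨l, subset_closure rfl⟩, hl⟩
  exact (genericPoint_specializes s).mem_closed hcl hmem

include hS hX in
/-- A point of the generic fibre rational over the generic point extends to a section. -/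
theorem exists_section_of_generic
    (τ : Spec (S.residueField (genericPoint S)) ⟶ X.left)
    (hτ : τ ≫ X.hom = S.fromSpecResidueField (genericPoint S)) :
    ∃ σ : S ⟶ X.left, σ ≫ X.hom = 𝟙 S ∧ S.fromSpecResidueField (genericPoint S) ≫ σ = τ := by
  haveI : Etale X.hom := etale_of_isTwConst X hX
  haveI : LocallyQuasiFinite X.hom := locallyQuasiFinite_of_etale _
  set j := S.fromSpecResidueField (genericPoint S) with hj
  let pt : Spec (S.residueField (genericPoint S)) :=
    IsLocalRing.closedPoint (S.residueField (genericPoint S))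
  have hpt : ∀ z : Spec (S.residueField (genericPoint S)), z = pt := fun z =>
    @Subsingleton.elim _ (inferInstanceAs (Subsingleton
      (PrimeSpectrum (S.residueField (genericPoint S))))) z pt
  have hjpt : j pt = genericPoint S := Scheme.fromSpecResidueField_apply _ _
  let l := τ pt
  have hl : X.hom l = genericPoint S := by
    change X.hom (τ pt) = _
    rw [← Scheme.Hom.comp_apply, hτ, hjpt]
  obtain ⟨U, hU, hUcl, hUfin, hUet, hUsurj⟩ := generic_closure_finite hS X hX l hl
  set g := U.ι ≫ X.hom with hg
  -- τ factors through U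
  have hτU : Set.range τ ⊆ Set.range U.ι := by
    rintro _ ⟨z, rfl⟩
    rw [Scheme.Opens.range_ι, hU, hpt z]
    exact subset_closure rfl
  let τ' := IsOpenImmersion.lift U.ι τ hτU
  have hτ' : τ' ≫ U.ι = τ := IsOpenImmersion.lift_fac _ _ _
  have hτ'g : τ' ≫ g = j := by rw [hg, reassoc_of% hτ', hτ]
  -- the generic fibre of `U`
  let gK := pullback.snd g j
  let t : Spec (S.residueField (genericPoint S)) ⟶ pullback g j :=
    pullback.lift τ' (𝟙 _) (by rw [hτ'g, Category.id_comp])
  have ht : t ≫ gK = 𝟙 _ := pullback.lift_snd _ _ _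
  haveI : IsOpenImmersion t := isOpenImmersion_of_section gK t ht
  -- the fibre is a single point
  have hsub : ∀ a b : ↥(pullback g j), a = b := by
    intro a b
    apply (pullback.fst g j).injective
    have hfib : ∀ c : ↥(pullback g j), U.ι (pullback.fst g j c) = l := by
      intro c
      have h1 : g (pullback.fst g j c) = genericPoint S := by
        rw [← Scheme.Hom.comp_apply, pullback.condition, Scheme.Hom.comp_apply, hpt (gK c),
          hjpt]
      have h2 : U.ι (pullback.fst g j c) ∈ closure ({l} : Set X.left) :=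
        hU ▸ (pullback.fst g j c).2
      have h3 : l ⤳ U.ι (pullback.fst g j c) := specializes_iff_mem_closure.mpr h2
      exact (eq_of_specializes_of_fibre X.hom (hl.trans h1.symm) h3).symm
    apply U.ι.isOpenEmbedding.injective
    rw [hfib a, hfib b]
  haveI : Surjective t := ⟨fun a => ⟨pt, hsub _ _⟩⟩
  haveI : IsIso t := Flat.isIso_of_surjective_of_mono t
  haveI : IsIso gK := by
    have : gK = inv t := by
      rw [← cancel_epi t, ht, IsIso.hom_inv_id]
    rw [this]; infer_instance
  -- rank one everywhere
  have hrank : g.finrank = 1 := by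
    ext s
    have h1 : g.finrank s = g.finrank (genericPoint S) :=
      (Scheme.Hom.isLocallyConstant_finrank g).apply_eq_of_preconnectedSpace _ _
    rw [h1, Pi.one_apply, ← hjpt, ← Scheme.Hom.finrank_pullback_snd g j pt,
      Scheme.Hom.finrank_eq_one_of_isIso]
    rfl
  haveI : IsIso g := (Scheme.Hom.isIso_iff_finrank_eq g).mpr hrank
  refine ⟨inv g ≫ U.ι, ?_, ?_⟩
  · rw [Category.assoc, ← hg, IsIso.inv_hom_id]
  · rw [← hτ', ← hτ'g, Category.assoc, IsIso.hom_inv_id_assoc]

include hS hX in
/-- Structure of a quasi-isotrivial twisted constant scheme over an irreducible geometrically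
unibranch base. -/
theorem s19145 :
    (∀ x : X.left, ∃! l : X.left, X.hom.base l = genericPoint S ∧
      x ∈ closure ({l} : Set X.left)) ∧
    (∀ l : X.left, X.hom.base l = genericPoint S →
      ∃ U : X.left.Opens, (U : Set X.left) = closure ({l} : Set X.left) ∧
        IsClosed (U : Set X.left) ∧
        IsFinite (U.ι ≫ X.hom) ∧ Etale (U.ι ≫ X.hom) ∧ Surjective (U.ι ≫ X.hom)) ∧
    (∀ σ₁ σ₂ : S ⟶ X.left, σ₁ ≫ X.hom = 𝟙 S → σ₂ ≫ X.hom = 𝟙 S →
      S.fromSpecResidueField (genericPoint S) ≫ σ₁ =
        S.fromSpecResidueField (genericPoint S) ≫ σ₂ → σ₁ = σ₂) ∧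
    (∀ τ : Spec (S.residueField (genericPoint S)) ⟶ X.left,
      τ ≫ X.hom = S.fromSpecResidueField (genericPoint S) →
      ∃ σ : S ⟶ X.left, σ ≫ X.hom = 𝟙 S ∧
        S.fromSpecResidueField (genericPoint S) ≫ σ = τ) := by
  haveI : Etale X.hom := etale_of_isTwConst X hX
  haveI : IsSeparated X.hom := isSeparated_of_isTwConst X hX
  refine ⟨fun x => existsUnique_generic X.hom hS x,
    fun l hl => generic_closure_finite hS X hX l hl, ?_,
    fun τ hτ => exists_section_of_generic hS X hX τ hτ⟩
  intro σ₁ σ₂ h₁ h₂ h
  refine section_ext X.hom σ₁ σ₂ h₁ h₂ ?_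
  let pt : Spec (S.residueField (genericPoint S)) :=
    IsLocalRing.closedPoint (S.residueField (genericPoint S))
  have hjpt : S.fromSpecResidueField (genericPoint S) pt = genericPoint S :=
    Scheme.fromSpecResidueField_apply _ _
  have h' := congrArg (fun φ : Spec (S.residueField (genericPoint S)) ⟶ X.left => φ pt) h
  simp only [Scheme.Hom.comp_apply, hjpt] at h'
  exact h'

end Main

end Groth.Agent.H2.TwConst
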