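import Mathlib
import Groth.Prelude.Def_TwC
import Groth.Prelude.Def_CAlg2
import Groth.Agent.Lib.Helper2.TwConstG

/-! Helper2: quasi-isotrivial twisted constant schemes through families of sections; stability
under base change. -/

set_option autoImplicit false
set_option linter.style.haveILetI false
universe u
open CategoryTheory CategoryTheory.Limits AlgebraicGeometry MorphismProperty TopologicalSpace

namespace Groth.Agent.H2.TwConst

/-- In a pullback square the range of one projection is the preimage of the range of the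
opposite side. -/
lemma range_eq_preimage_of_isPullback {A X Y Z : Scheme.{u}} {a : A ⟶ X} {b : A ⟶ Y}
    {c : X ⟶ Z} {d : Y ⟶ Z} (H : IsPullback a b c d) :
    Set.range b = d ⁻¹' Set.range c := by
  rw [← H.isoPullback_hom_snd, ← Scheme.Pullback.range_snd]
  ext y
  constructor
  · rintro ⟨w, rfl⟩
    exact ⟨H.isoPullback.hom w, rfl⟩
  · rintro ⟨w, rfl⟩
    refine ⟨H.isoPullback.inv w, ?_⟩
    rw [← Scheme.Hom.comp_apply, Iso.inv_hom_id_assoc]

/-- `p : X ⟶ S` becomes, étale locally on `S`, a scheme covered by pairwise disjoint sections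
which are open immersions. -/
def LocSec {X S : Scheme.{u}} (p : X ⟶ S) : Prop :=
  ∀ s : S, ∃ (S' A : Scheme.{u}) (f : S' ⟶ S) (fst : A ⟶ X) (q : A ⟶ S'),
    Etale f ∧ s ∈ Set.range f ∧ IsPullback fst q p f ∧
    ∃ (I : Type u) (σ : I → (S' ⟶ A)), (∀ i, σ i ≫ q = 𝟙 S') ∧ (∀ i, IsOpenImmersion (σ i)) ∧
      (∀ i j, i ≠ j → Disjoint (Set.range (σ i)) (Set.range (σ j))) ∧
      ∀ x' : A, ∃ i s', σ i s' = x'

theorem locSec_of_isTwConst {S : Scheme.{u}} (P : Over S)
    (hP : TwC.IsTwConst TwC.Topology.etale P) : LocSec P.hom := by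
  have hP' : ∀ s : S, ∃ (S' : Scheme.{u}) (f : S' ⟶ S), Etale f ∧ s ∈ Set.range f ∧
      ∃ I : Type u, Nonempty (Red.bc f P ≅ TwC.const S' I) := hP
  intro s
  obtain ⟨S', f, hf, hs, I, ⟨e⟩⟩ := hP' s
  exact ⟨S', pullback P.hom f, f, pullback.fst _ _, pullback.snd _ _, hf, hs,
    .of_hasPullback _ _, I, sec P f e, sec_snd P f e, fun i => inferInstance,
    sec_disjoint P f e, sec_cover P f e⟩

theorem isTwConst_of_locSec {S : Scheme.{u}} (P : Over S) (h : LocSec P.hom) :
    TwC.IsTwConst TwC.Topology.etale P := by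
  intro s
  obtain ⟨S', A, f, fst, q, hf, hs, hpb, I, σ, h1, h2, h3, h4⟩ := h s
  refine ⟨S', f, hf, hs, I, ?_⟩
  haveI := h2
  let φ : (∐ fun _ : I => S') ⟶ A := Sigma.desc σ
  haveI : IsOpenImmersion φ := isOpenImmersion_sigmaDesc _ σ (fun i j hij => h3 i j hij)
  haveI : IsIso φ := by
    refine isIso_of_isOpenImmersion_of_opensRange_eq_top φ ?_
    rw [eq_top_iff]
    intro x' _
    obtain ⟨i, s', rfl⟩ := h4 x'
    refine ⟨Sigma.ι (fun _ : I => S') i s', ?_⟩
    rw [← Scheme.Hom.comp_apply, Sigma.ι_desc]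
  have hφq : φ ≫ q = Sigma.desc fun _ : I => 𝟙 S' := by
    refine Sigma.hom_ext _ _ fun i => ?_
    rw [Sigma.ι_desc_assoc, h1, Sigma.ι_desc]
  refine ⟨Over.isoMk (hpb.isoPullback.symm ≪≫ (asIso φ).symm) ?_⟩
  change (hpb.isoPullback.inv ≫ inv φ) ≫ (Sigma.desc fun _ : I => 𝟙 S') = pullback.snd P.hom f
  rw [← hφq, Category.assoc, IsIso.inv_hom_id_assoc, hpb.isoPullback_inv_snd]

theorem LocSec.baseChange {X S T : Scheme.{u}} {p : X ⟶ S} (h : LocSec p) (g : T ⟶ S) :
    LocSec (pullback.snd p g) := by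
  intro t
  obtain ⟨S', A, f, fst, q, hf, ⟨s', hs'⟩, hpb, I, σ, h1, h2, h3, h4⟩ := h (g t)
  haveI := h2
  -- the new covering scheme
  let fT := pullback.fst g f
  let g' := pullback.snd g f
  obtain ⟨t', ht'1, -⟩ := Scheme.Pullback.exists_preimage_pullback (f := g) (g := f) t s' hs'.symm
  -- the new total space
  let q'' := pullback.snd q g'
  let fstA := pullback.fst q g'
  have hcomm : (fstA ≫ fst) ≫ p = (q'' ≫ fT) ≫ g := by
    simp only [Category.assoc, fstA, q'', fT]
    rw [hpb.w, pullback.condition_assoc, pullback.condition]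
  let fst'' : pullback q g' ⟶ pullback p g := pullback.lift (fstA ≫ fst) (q'' ≫ fT) hcomm
  have hfst''1 : fst'' ≫ pullback.fst p g = fstA ≫ fst := pullback.lift_fst _ _ _
  have hfst''2 : fst'' ≫ pullback.snd p g = q'' ≫ fT := pullback.lift_snd _ _ _
  have hbig : IsPullback (fstA ≫ fst) q'' p (g' ≫ f) :=
    (IsPullback.of_hasPullback q g').flip.flip.paste_horiz hpb |>.flip.flip
  have hbig' : IsPullback (fst'' ≫ pullback.fst p g) q'' p (fT ≫ g) := by
    rw [hfst''1, show fT ≫ g = g' ≫ f from pullback.condition]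
    exact hbig
  have hpb'' : IsPullback fst'' q'' (pullback.snd p g) fT :=
    IsPullback.of_right hbig' hfst''2 (IsPullback.of_hasPullback p g)
  -- the new sections
  let σ'' : I → (pullback g f ⟶ pullback q g') := fun i =>
    pullback.lift (g' ≫ σ i) (𝟙 _) (by rw [Category.assoc, h1, Category.comp_id, Category.id_comp])
  have hσ1 : ∀ i, σ'' i ≫ q'' = 𝟙 _ := fun i => pullback.lift_snd _ _ _
  have hσfst : ∀ i, σ'' i ≫ fstA = g' ≫ σ i := fun i => pullback.lift_fst _ _ _
  have hsq : ∀ i, IsPullback (σ'' i) g' fstA (σ i) := by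
    intro i
    have hout : IsPullback (σ'' i ≫ q'') g' g' (σ i ≫ q) := by
      rw [hσ1, h1]
      exact IsPullback.of_horiz_isIso ⟨by simp⟩
    exact IsPullback.of_right hout (hσfst i) (IsPullback.of_hasPullback q g').flip
  have hrange : ∀ i, Set.range (σ'' i) = fstA ⁻¹' Set.range (σ i) := fun i =>
    range_eq_preimage_of_isPullback (hsq i).flip
  refine ⟨pullback g f, pullback q g', fT, fst'', q'', inferInstance, ⟨t', ht'1⟩, hpb'', I, σ'',
    hσ1, fun i => ?_, fun i j hij => ?_, fun x' => ?_⟩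
  · exact MorphismProperty.of_isPullback (P := @IsOpenImmersion) (hsq i).flip inferInstance
  · rw [hrange, hrange]
    exact (h3 i j hij).preimage _
  · obtain ⟨i, s'', hs''⟩ := h4 (fstA x')
    have : x' ∈ Set.range (σ'' i) := by
      rw [hrange]; exact ⟨s'', hs''⟩
    obtain ⟨w, hw⟩ := this
    exact ⟨i, w, hw⟩

/-- Quasi-isotrivial twisted constant schemes are stable under base change. -/
theorem isTwConst_bc {S T : Scheme.{u}} (X : Over S) (hX : TwC.IsTwConst TwC.Topology.etale X)
    (g : T ⟶ S) : TwC.IsTwConst TwC.Topology.etale (Red.bc g X) :=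
  isTwConst_of_locSec (Red.bc g X) ((locSec_of_isTwConst X hX).baseChange g)

end Groth.Agent.H2.TwConst
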