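import Mathlib
import Groth.Prelude.Def_TwC
import Groth.Prelude.Def_CAlg2
import Groth.Agent.Lib.Helper2.TwConstH

/-! Helper2: quasi-isotrivial twisted constant schemes are separated, étale and satisfy the
valuative criterion. -/

set_option autoImplicit false
set_option linter.style.haveILetI false
universe u
open CategoryTheory CategoryTheory.Limits AlgebraicGeometry MorphismProperty TopologicalSpace

namespace Groth.Agent.H2.TwConst

/-- The local rings of the spectrum of a normal domain are geometrically unibranch. -/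
theorem isGeomUnibranch_stalk_Spec (R : Type u) [CommRing R] [IsDomain R] [IsIntegrallyClosed R]
    (y : Spec (CommRingCat.of R)) :
    CAlg2.IsGeomUnibranch ((Spec (CommRingCat.of R)).presheaf.stalk y) := by
  letI k : Algebra R ((Spec (CommRingCat.of R)).presheaf.stalk y) :=
    StructureSheaf.stalkAlgebra R y
  haveI hloc : IsLocalization.AtPrime ((Spec (CommRingCat.of R)).presheaf.stalk y) y.asIdeal :=
    StructureSheaf.IsLocalization.to_stalk R y
  haveI : IsDomain ((Spec (CommRingCat.of R)).presheaf.stalk y) :=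
    IsLocalization.isDomain_of_atPrime _ y.asIdeal
  haveI : IsIntegrallyClosed ((Spec (CommRingCat.of R)).presheaf.stalk y) :=
    isIntegrallyClosed_of_isLocalization _ y.asIdeal.primeCompl
      y.asIdeal.primeCompl_le_nonZeroDivisors
  exact Groth.Agent.H8.SmoothBr.isGeomUnibranch_of_isIntegrallyClosed _

section Main

variable {S : Scheme.{u}} [IrreducibleSpace S]
  (hS : ∀ s : S, CAlg2.IsGeomUnibranch (S.presheaf.stalk s))
  (X : Over S) (hX : TwC.IsTwConst TwC.Topology.etale X)

include hS hX in
/-- A point of the generic fibre with values in a field, over a universally injective point of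
the base with image the generic point, extends to a section. -/
theorem exists_section_of_point (K : Type u) [Field K] (j : Spec (CommRingCat.of K) ⟶ S)
    [UniversallyInjective j] (hjη : j (IsLocalRing.closedPoint K) = genericPoint S)
    (τ : Spec (CommRingCat.of K) ⟶ X.left) (hτ : τ ≫ X.hom = j) :
    ∃ σ : S ⟶ X.left, σ ≫ X.hom = 𝟙 S ∧ j ≫ σ = τ := by
  haveI : Etale X.hom := etale_of_isTwConst X hX
  haveI : LocallyQuasiFinite X.hom := locallyQuasiFinite_of_etale _
  let pt : Spec (CommRingCat.of K) := IsLocalRing.closedPoint K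
  have hpt : ∀ z : Spec (CommRingCat.of K), z = pt := fun z =>
    @Subsingleton.elim _ (inferInstanceAs (Subsingleton (PrimeSpectrum K))) z pt
  have hjpt : j pt = genericPoint S := hjη
  let l := τ pt
  have hl : X.hom l = genericPoint S := by
    change X.hom (τ pt) = _
    rw [← Scheme.Hom.comp_apply, hτ, hjpt]
  obtain ⟨U, hU, hUcl, hUfin, hUet, hUsurj⟩ := generic_closure_finite hS X hX l hl
  set g := U.ι ≫ X.hom with hg
  have hτU : Set.range τ ⊆ Set.range U.ι := by
    rintro _ ⟨z, rfl⟩
    rw [Scheme.Opens.range_ι, hU, hpt z]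
    exact subset_closure rfl
  let τ' := IsOpenImmersion.lift U.ι τ hτU
  have hτ' : τ' ≫ U.ι = τ := IsOpenImmersion.lift_fac _ _ _
  have hτ'g : τ' ≫ g = j := by rw [hg, reassoc_of% hτ', hτ]
  let gK := pullback.snd g j
  let t : Spec (CommRingCat.of K) ⟶ pullback g j :=
    pullback.lift τ' (𝟙 _) (by rw [hτ'g, Category.id_comp])
  have ht : t ≫ gK = 𝟙 _ := pullback.lift_snd _ _ _
  haveI : IsOpenImmersion t := isOpenImmersion_of_section gK t ht
  have hsub : ∀ a b : ↥(pullback g j), a = b := by
    intro a b
    haveI : UniversallyInjective (pullback.fst g j) :=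
      MorphismProperty.pullback_fst (P := @UniversallyInjective) g j ‹_›
    apply (pullback.fst g j).injective
    have hfib : ∀ c : ↥(pullback g j), U.ι (pullback.fst g j c) = l := by
      intro c
      have h1 : g (pullback.fst g j c) = genericPoint S := by
        rw [← Scheme.Hom.comp_apply, pullback.condition, Scheme.Hom.comp_apply, hpt (gK c),
          hjpt]
      have h2 : U.ι (pullback.fst g j c) ∈ closure ({l} : Set X.left) :=
        hU ▸ (pullback.fst g j c).2
      have h3 : l ⤳ U.ι (pullback.fst g j c) := specializes_iff_mem_closure.mpr h2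
      exact (eq_of_specializes_of_fibre X.hom (hl.trans h1.symm) h3).symm
    apply U.ι.isOpenEmbedding.injective
    rw [hfib a, hfib b]
  haveI : Surjective t := ⟨fun a => ⟨pt, hsub _ _⟩⟩
  haveI : IsIso t := Flat.isIso_of_surjective_of_mono t
  haveI : IsIso gK := by
    have : gK = inv t := by
      rw [← cancel_epi t, ht, IsIso.hom_inv_id]
    rw [this]; infer_instance
  have hrank : g.finrank = 1 := by
    ext s
    have h1 : g.finrank s = g.finrank (genericPoint S) :=
      (Scheme.Hom.isLocallyConstant_finrank g).apply_eq_of_preconnectedSpace _ _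
    rw [h1, Pi.one_apply, ← hjpt, ← Scheme.Hom.finrank_pullback_snd g j pt,
      Scheme.Hom.finrank_eq_one_of_isIso]
    rfl
  haveI : IsIso g := (Scheme.Hom.isIso_iff_finrank_eq g).mpr hrank
  refine ⟨inv g ≫ U.ι, ?_, ?_⟩
  · rw [Category.assoc, ← hg, IsIso.inv_hom_id]
  · rw [← hτ', ← hτ'g, Category.assoc, IsIso.hom_inv_id_assoc]

end Main

/-- A quasi-isotrivial twisted constant scheme is separated and étale over the base and satisfies
the valuative criterion. -/
theorem s19144 {S : Scheme.{u}} (X : Over S) (hX : TwC.IsTwConst TwC.Topology.etale X) :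
    IsSeparated X.hom ∧ Etale X.hom ∧ ValuativeCriterion X.hom := by
  have hsep : IsSeparated X.hom := isSeparated_of_isTwConst X hX
  refine ⟨hsep, etale_of_isTwConst X hX, ?_⟩
  rw [ValuativeCriterion.iff]
  refine ⟨?_, ?_⟩
  · intro Sq
    let T := Spec (CommRingCat.of Sq.R)
    haveI : IsIntegrallyClosed Sq.R := inferInstance
    have hT : ∀ y : T, CAlg2.IsGeomUnibranch (T.presheaf.stalk y) :=
      isGeomUnibranch_stalk_Spec Sq.R
    have hXT := isTwConst_bc X hX Sq.i₂
    let j : Spec (CommRingCat.of Sq.K) ⟶ T :=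
      Spec.map (CommRingCat.ofHom (algebraMap Sq.R Sq.K))
    haveI : IsPreimmersion j := IsPreimmersion.of_isLocalization (nonZeroDivisors Sq.R)
    haveI : UniversallyInjective j := inferInstance
    have hjη : j (IsLocalRing.closedPoint Sq.K) = genericPoint T := by
      rw [genericPoint_eq_bot_of_affine]
      apply PrimeSpectrum.ext
      change Ideal.comap (algebraMap Sq.R Sq.K) (IsLocalRing.maximalIdeal Sq.K) = ⊥
      rw [IsLocalRing.maximalIdeal_eq_bot, ← RingHom.ker_eq_comap_bot,
        (RingHom.injective_iff_ker_eq_bot _).mp (IsFractionRing.injective Sq.R Sq.K)]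
    let a : Spec (CommRingCat.of Sq.K) ⟶ (Red.bc Sq.i₂ X).left :=
      pullback.lift Sq.i₁ j Sq.commSq.w
    have ha : a ≫ (Red.bc Sq.i₂ X).hom = j := pullback.lift_snd _ _ _
    obtain ⟨σ, hσ1, hσ2⟩ := exists_section_of_point hT (Red.bc Sq.i₂ X) hXT Sq.K j hjη a ha
    refine CommSq.HasLift.mk' ⟨σ ≫ pullback.fst X.hom Sq.i₂, ?_, ?_⟩
    · rw [reassoc_of% hσ2]
      exact pullback.lift_fst _ _ _
    · rw [Category.assoc, pullback.condition]
      have : σ ≫ pullback.snd X.hom Sq.i₂ = 𝟙 _ := hσ1
      rw [reassoc_of% this]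
  · rw [IsSeparated.eq_valuativeCriterion] at hsep
    exact hsep.1

end Groth.Agent.H2.TwConst
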