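import Mathlib
import Groth.Prelude.Def_TwC
import Groth.Agent.Lib.Helper2.TwConstI
import Groth.Agent.Lib.Helper1.HensFin5
import Groth.Agent.Lib.Helper1.HensFin3

/-! Helper2: quasi-isotrivial twisted constant schemes over a henselian local ring. -/

set_option autoImplicit false
set_option linter.style.haveILetI false
universe u
open CategoryTheory CategoryTheory.Limits AlgebraicGeometry MorphismProperty TopologicalSpace
open IsLocalRing

namespace Groth.Agent.H2.TwConst

section Hens

variable (R : Type u) [CommRing R] [HenselianLocalRing R]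
  (X : Over (Spec (CommRingCat.of R))) (hX : TwC.IsTwConst TwC.Topology.etale X)

include hX in
/-- The local scheme at a point of the closed fibre is an open and closed part, finite étale
and surjective over the base. -/
theorem local_part (x : X.left) (hx : X.hom x = closedPoint R) :
    IsOpenImmersion (X.left.fromSpecStalk x) ∧ IsClosedImmersion (X.left.fromSpecStalk x) ∧
      IsFinite (X.left.fromSpecStalk x ≫ X.hom) ∧ Etale (X.left.fromSpecStalk x ≫ X.hom) ∧
      Surjective (X.left.fromSpecStalk x ≫ X.hom) := by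
  haveI : Etale X.hom := etale_of_isTwConst X hX
  haveI : IsSeparated X.hom := isSeparated_of_isTwConst X hX
  haveI : LocallyQuasiFinite X.hom := locallyQuasiFinite_of_etale _
  obtain ⟨U, hU, hxU, -, hUfin, hgerm⟩ :=
    Groth.Agent.H1.HensFin.exists_local_finite_open_nbhd R X.hom x hx (X.hom.quasiFiniteAt x)
  haveI : IsAffine U.toScheme := hU
  haveI : IsIso (X.left.presheaf.germ U x hxU) :=
    (ConcreteCategory.isIso_iff_bijective _).mpr hgerm
  let e : Spec (X.left.presheaf.stalk x) ⟶ U.toScheme :=
    Spec.map (X.left.presheaf.germ U x hxU) ≫ hU.isoSpec.inv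
  haveI : IsIso e := by dsimp only [e]; infer_instance
  have hφ : X.left.fromSpecStalk x = e ≫ U.ι := by
    rw [← hU.fromSpecStalk_eq_fromSpecStalk hxU, IsAffineOpen.fromSpecStalk,
      IsAffineOpen.fromSpec, Category.assoc]
  haveI := hUfin
  haveI : IsProper U.ι := MorphismProperty.of_postcomp (W := @IsProper) (W' := @IsSeparated)
    U.ι X.hom inferInstance inferInstance
  haveI : IsClosedImmersion U.ι := .of_isPreimmersion _ U.ι.isClosedMap.isClosed_range
  rw [hφ]
  refine ⟨inferInstance, inferInstance, ?_, ?_, ?_⟩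
  · rw [Category.assoc]; infer_instance
  · rw [Category.assoc]; infer_instance
  · rw [Category.assoc]
    haveI : Surjective (U.ι ≫ X.hom) := by
      refine ⟨fun s => ?_⟩
      have hopen : IsOpen (Set.range (U.ι ≫ X.hom)) := (U.ι ≫ X.hom).isOpenMap.isOpen_range
      have hmem : closedPoint R ∈ Set.range (U.ι ≫ X.hom) := ⟨⟨x, hxU⟩, hx⟩
      exact (IsLocalRing.specializes_closedPoint s).mem_open hopen hmem
    infer_instance

include hX in
/-- Structure of a quasi-isotrivial twisted constant scheme over a henselian local ring. -/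
theorem s19146 :
    (∀ x : X.left, X.hom.base x = IsLocalRing.closedPoint R →
      IsOpenImmersion (X.left.fromSpecStalk x) ∧ IsClosedImmersion (X.left.fromSpecStalk x) ∧
        IsFinite (X.left.fromSpecStalk x ≫ X.hom) ∧ Etale (X.left.fromSpecStalk x ≫ X.hom) ∧
        Surjective (X.left.fromSpecStalk x ≫ X.hom)) ∧
    (∀ y : X.left, ∃! x : X.left, X.hom.base x = IsLocalRing.closedPoint R ∧
      y ∈ Set.range (X.left.fromSpecStalk x).base) ∧
    (∀ σ₁ σ₂ : Spec (CommRingCat.of R) ⟶ X.left, σ₁ ≫ X.hom = 𝟙 _ → σ₂ ≫ X.hom = 𝟙 _ →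
      Spec.map (CommRingCat.ofHom (IsLocalRing.residue R)) ≫ σ₁ =
        Spec.map (CommRingCat.ofHom (IsLocalRing.residue R)) ≫ σ₂ → σ₁ = σ₂) ∧
    (∀ τ : Spec (CommRingCat.of (IsLocalRing.ResidueField R)) ⟶ X.left,
      τ ≫ X.hom = Spec.map (CommRingCat.ofHom (IsLocalRing.residue R)) →
      ∃ σ : Spec (CommRingCat.of R) ⟶ X.left, σ ≫ X.hom = 𝟙 _ ∧
        Spec.map (CommRingCat.ofHom (IsLocalRing.residue R)) ≫ σ = τ) := by
  haveI : Etale X.hom := etale_of_isTwConst X hX
  haveI : IsSeparated X.hom := isSeparated_of_isTwConst X hX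
  haveI : LocallyQuasiFinite X.hom := locallyQuasiFinite_of_etale _
  have hval := (s19144 X hX).2.2
  have hspec : SpecializingMap X.hom :=
    ValuativeCriterion.Existence.specializingMap _ hval.existence
  refine ⟨fun x hx => local_part R X hX x hx, ?_, ?_, ?_⟩
  · intro y
    obtain ⟨x, hyx, hxs⟩ := hspec (IsLocalRing.specializes_closedPoint (X.hom y))
    refine ⟨x, ⟨hxs, ?_⟩, ?_⟩
    · change y ∈ Set.range (X.left.fromSpecStalk x)
      rw [Scheme.range_fromSpecStalk]
      exact hyx
    · rintro x' ⟨hx's, hyx'⟩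
      change y ∈ Set.range (X.left.fromSpecStalk x') at hyx'
      rw [Scheme.range_fromSpecStalk] at hyx'
      have hyx'' : y ⤳ x' := hyx'
      -- the local part at `x` is closed and contains `y`
      obtain ⟨-, hcl, -⟩ := local_part R X hX x hxs
      have hcl' : IsClosed (Set.range (X.left.fromSpecStalk x)) :=
        (X.left.fromSpecStalk x).isClosedEmbedding.isClosed_range
      have hy : y ∈ Set.range (X.left.fromSpecStalk x) := by
        rw [Scheme.range_fromSpecStalk]; exact hyx
      have hx' : x' ∈ Set.range (X.left.fromSpecStalk x) := hyx''.mem_closed hcl' hy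
      rw [Scheme.range_fromSpecStalk] at hx'
      exact eq_of_specializes_of_fibre X.hom (hx's.trans hxs.symm) hx'
  · intro σ₁ σ₂ h₁ h₂ h
    let pt : Spec (CommRingCat.of (IsLocalRing.ResidueField R)) :=
      IsLocalRing.closedPoint (IsLocalRing.ResidueField R)
    have hpt : Spec.map (CommRingCat.ofHom (IsLocalRing.residue R)) pt = closedPoint R := by
      apply PrimeSpectrum.ext
      change Ideal.comap (IsLocalRing.residue R) (IsLocalRing.maximalIdeal _) = _
      rw [IsLocalRing.maximalIdeal_eq_bot, ← RingHom.ker_eq_comap_bot, IsLocalRing.ker_residue]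
      rfl
    have h' := congrArg
      (fun φ : Spec (CommRingCat.of (IsLocalRing.ResidueField R)) ⟶ X.left => φ pt) h
    simp only [Scheme.Hom.comp_apply, hpt] at h'
    haveI := isOpenImmersion_of_section X.hom σ₂ h₂
    have hsub : Set.range σ₁ ⊆ Set.range σ₂ := by
      rintro _ ⟨t, rfl⟩
      have h3 : σ₁ t ⤳ σ₁ (closedPoint R) :=
        (IsLocalRing.specializes_closedPoint t).map σ₁.continuous
      exact h3.mem_open σ₂.isOpenEmbedding.isOpen_range ⟨closedPoint R, h'.symm⟩
    let ι := IsOpenImmersion.lift σ₂ σ₁ hsub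
    have hι : ι ≫ σ₂ = σ₁ := IsOpenImmersion.lift_fac _ _ _
    have : ι = 𝟙 _ := by
      have e1 : ι = ι ≫ σ₂ ≫ X.hom := by rw [h₂, Category.comp_id]
      rw [e1, reassoc_of% hι, h₁]
    rw [← hι, this, Category.id_comp]
  · intro τ hτ
    exact Groth.Agent.H1.HensFin.exists_section R X.hom τ hτ

end Hens

end Groth.Agent.H2.TwConst
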