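import Mathlib

set_option autoImplicit false
set_option linter.style.haveILetI false
universe u
open CategoryTheory CategoryTheory.Limits AlgebraicGeometry MorphismProperty TopologicalSpace

namespace Groth.Agent.H2.TwConst

/-- Two morphisms from a connected scheme into a separated étale `S`-scheme that agree on a
nonempty scheme mapping to the source are equal. -/
theorem eq_of_preconnected {W X S D : Scheme.{u}} [PreconnectedSpace W] (p : X ⟶ S) [Etale p]
    [IsSeparated p] (a b : W ⟶ X) (hab : a ≫ p = b ≫ p) (δ : D ⟶ W) [Nonempty D]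
    (hδ : δ ≫ a = δ ≫ b) : a = b := by
  let c : W ⟶ pullback p p := pullback.lift a b hab
  have hc1 : c ≫ pullback.fst p p = a := pullback.lift_fst _ _ _
  have hc2 : c ≫ pullback.snd p p = b := pullback.lift_snd _ _ _
  let ε : pullback (pullback.diagonal p) c ⟶ W := pullback.snd _ _
  haveI : IsOpenImmersion ε := inferInstance
  haveI : IsClosedImmersion ε := inferInstance
  have hcl : IsClopen (Set.range ε) :=
    ⟨ε.isClosedEmbedding.isClosed_range, ε.isOpenEmbedding.isOpen_range⟩
  have hne : (Set.range ε).Nonempty := by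
    obtain ⟨d⟩ := ‹Nonempty D›
    have hcomm : (δ ≫ a) ≫ pullback.diagonal p = δ ≫ c := by
      apply pullback.hom_ext
      · simp [hc1]
      · simp [hc2, hδ]
    exact ⟨ε (pullback.lift (δ ≫ a) δ hcomm d), ⟨_, rfl⟩⟩
  have huniv : Set.range ε = Set.univ := by
    rcases isClopen_iff.mp hcl with h | h
    · exact absurd h hne.ne_empty
    · exact h
  haveI : IsIso ε := by
    refine isIso_of_isOpenImmersion_of_opensRange_eq_top ε ?_
    ext x
    simp only [Scheme.Hom.coe_opensRange, huniv, Set.mem_univ, Opens.coe_top]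
  have hεab : ε ≫ a = ε ≫ b := by
    have h0 : ε ≫ c = pullback.fst (pullback.diagonal p) c ≫ pullback.diagonal p :=
      pullback.condition.symm
    have h1 := congrArg (· ≫ pullback.fst p p) h0
    have h2 := congrArg (· ≫ pullback.snd p p) h0
    simp only [Category.assoc, hc1, hc2, pullback.diagonal_fst, pullback.diagonal_snd,
      Category.comp_id] at h1 h2
    rw [h1, h2]
  exact (cancel_epi ε).mp hεab

/-- A space mapping to a preconnected space by an open and closed map with a fibre having at
most one point is preconnected. -/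
theorem preconnectedSpace_of_maps {W V : Type*} [TopologicalSpace W] [TopologicalSpace V]
    [PreconnectedSpace V] (g : W → V) (ho : IsOpenMap g) (hc : IsClosedMap g) (v : V)
    (hv : ∀ w₁ w₂, g w₁ = v → g w₂ = v → w₁ = w₂) : PreconnectedSpace W := by
  rw [preconnectedSpace_iff_clopen]
  intro A hA
  by_contra hcon
  rw [not_or] at hcon
  obtain ⟨hA1, hA2⟩ := hcon
  have hA1' : A.Nonempty := Set.nonempty_iff_ne_empty.mpr hA1
  have hA2' : Aᶜ.Nonempty := by
    rw [Set.nonempty_compl]; exact hA2
  have h1 : g '' A = Set.univ := by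
    rcases isClopen_iff.mp (⟨hc _ hA.1, ho _ hA.2⟩ : IsClopen (g '' A)) with h | h
    · exact absurd h (hA1'.image g).ne_empty
    · exact h
  have h2 : g '' Aᶜ = Set.univ := by
    rcases isClopen_iff.mp (⟨hc _ hA.compl.1, ho _ hA.compl.2⟩ : IsClopen (g '' Aᶜ)) with h | h
    · exact absurd h (hA2'.image g).ne_empty
    · exact h
  obtain ⟨a, ha, hga⟩ : v ∈ g '' A := h1 ▸ Set.mem_univ v
  obtain ⟨b, hb, hgb⟩ : v ∈ g '' Aᶜ := h2 ▸ Set.mem_univ v
  exact hb (hv a b hga hgb ▸ ha)

set_option backward.isDefEq.respectTransparency.types false in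
set_option backward.defeqAttrib.useBackward true in
/-- Two field-valued points with the same image point `x`, at which the residue field extension
of `f` is purely inseparable, are equal as soon as their composites with `f` are. -/
theorem eq_of_pi_point {X Y : Scheme.{u}} (f : X ⟶ Y) (K : Type u) [Field K]
    (g₁ g₂ : Spec (.of K) ⟶ X)
    (hpt : g₁ (IsLocalRing.closedPoint K) = g₂ (IsLocalRing.closedPoint K))
    (hpi : (f.residueFieldMap (g₁ (IsLocalRing.closedPoint K))).hom.IsPurelyInseparable)
    (hg : g₁ ≫ f = g₂ ≫ f) : g₁ = g₂ := by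
  obtain ⟨e, h⟩ := Scheme.SpecToEquivOfField_eq_iff.mp congr((Y.SpecToEquivOfField K) $(hg))
  apply (X.SpecToEquivOfField K).injective
  dsimp at e h
  simp only [Scheme.descResidueField_stalkClosedPointTo_comp] at e h
  rw [← f.residueFieldMap_congr'_assoc hpt, CommRingCat.hom_ext_iff] at h
  rw [Scheme.SpecToEquivOfField_eq_iff]
  let x := g₁ (IsLocalRing.closedPoint K)
  have hfx := hpi
  algebraize [(f.residueFieldMap (g₁ (IsLocalRing.closedPoint K))).hom]
  refine ⟨hpt, CommRingCat.hom_ext ?_⟩
  exact IsPurelyInseparable.injective_comp_algebraMap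
    (Y.residueField (f x)) (X.residueField x) _ h

/-- A point of `T ×_V T` both of whose projections are a point with purely inseparable
residue field extension lies on the diagonal. -/
theorem eq_diagonal_of_pi {T V P V₁ : Scheme.{u}} (ρ : T ⟶ V) (j : T ⟶ P) [Mono j]
    (snd : P ⟶ V₁) (ι' : V ⟶ V₁) (hcomm : ρ ≫ ι' = j ≫ snd) (tk : P)
    (hpi : (snd.residueFieldMap tk).hom.IsPurelyInseparable) (z : ↥(pullback ρ ρ))
    (h1 : j (pullback.fst ρ ρ z) = tk) (h2 : j (pullback.snd ρ ρ z) = tk) :
    z = pullback.diagonal ρ (pullback.fst ρ ρ z) := by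
  let φ := (pullback ρ ρ).fromSpecResidueField z
  have hpt1 : (φ ≫ pullback.fst ρ ρ ≫ j) (IsLocalRing.closedPoint _) = tk := by
    rw [Scheme.Hom.comp_apply, Scheme.fromSpecResidueField_apply, Scheme.Hom.comp_apply, h1]
  have hpt2 : (φ ≫ pullback.snd ρ ρ ≫ j) (IsLocalRing.closedPoint _) = tk := by
    rw [Scheme.Hom.comp_apply, Scheme.fromSpecResidueField_apply, Scheme.Hom.comp_apply, h2]
  have key : φ ≫ pullback.fst ρ ρ ≫ j = φ ≫ pullback.snd ρ ρ ≫ j := by
    refine eq_of_pi_point snd ((pullback ρ ρ).residueField z) _ _ (hpt1.trans hpt2.symm) ?_ ?_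
    · rw [hpt1]; exact hpi
    · simp only [Category.assoc, ← hcomm]
      rw [pullback.condition_assoc]
  have key' : φ ≫ pullback.fst ρ ρ = φ ≫ pullback.snd ρ ρ := by
    rw [← cancel_mono j]; simpa using key
  have hφ₂ : φ = (φ ≫ pullback.fst ρ ρ) ≫ pullback.diagonal ρ := by
    apply pullback.hom_ext <;> simp [key']
  have hz : z = φ (IsLocalRing.closedPoint _) := (Scheme.fromSpecResidueField_apply _ _).symm
  have hz1 : pullback.fst ρ ρ z = (φ ≫ pullback.fst ρ ρ) (IsLocalRing.closedPoint _) := by
    rw [Scheme.Hom.comp_apply, ← hz]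
  rw [hz1, ← Scheme.Hom.comp_apply, ← hφ₂, ← hz]


/-- If `ρ` is finite flat of finite presentation over a connected base and has a single point
with purely inseparable residue field extension over some point of the base, then `T ×_V T`
is connected. -/
theorem preconnected_pullback_of_pi {T V P V₁ : Scheme.{u}} (ρ : T ⟶ V) [IsFinite ρ] [Flat ρ]
    [LocallyOfFinitePresentation ρ] [PreconnectedSpace V]
    (j : T ⟶ P) [Mono j] (snd : P ⟶ V₁) (ι' : V ⟶ V₁) (hcomm : ρ ≫ ι' = j ≫ snd) (tk : P)
    (hpi : (snd.residueFieldMap tk).hom.IsPurelyInseparable) (v : V)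
    (huniq : ∀ w : T, ρ w = v → j w = tk) : PreconnectedSpace ↥(pullback ρ ρ) := by
  let g : pullback ρ ρ ⟶ V := pullback.fst ρ ρ ≫ ρ
  haveI : IsFinite g := inferInstance
  haveI : Flat g := inferInstance
  haveI : LocallyOfFinitePresentation g := inferInstance
  refine preconnectedSpace_of_maps g g.isOpenMap g.isClosedMap v ?_
  have hz : ∀ z : ↥(pullback ρ ρ), g z = v → z = pullback.diagonal ρ (pullback.fst ρ ρ z) ∧
      j (pullback.fst ρ ρ z) = tk := by
    intro z hzv
    have h1 : j (pullback.fst ρ ρ z) = tk := huniq _ (by rw [← Scheme.Hom.comp_apply]; exact hzv)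
    have h2 : j (pullback.snd ρ ρ z) = tk := by
      refine huniq _ ?_
      rw [← Scheme.Hom.comp_apply, ← pullback.condition]
      exact hzv
    exact ⟨eq_diagonal_of_pi ρ j snd ι' hcomm tk hpi z h1 h2, h1⟩
  intro w₁ w₂ hw₁ hw₂
  obtain ⟨e1, f1⟩ := hz w₁ hw₁
  obtain ⟨e2, f2⟩ := hz w₂ hw₂
  have : pullback.fst ρ ρ w₁ = pullback.fst ρ ρ w₂ := j.injective (f1.trans f2.symm)
  rw [e1, e2, this]


end Groth.Agent.H2.TwConst
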