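import Mathlib
import Groth.Prelude.Def_TwC
import Groth.Prelude.Def_CAlg2
import Groth.Agent.Lib.Helper2.TwConstH
import Groth.Agent.Lib.Helper2.TwConstK

set_option autoImplicit false
set_option linter.style.haveILetI false
universe u
open CategoryTheory CategoryTheory.Limits AlgebraicGeometry MorphismProperty TopologicalSpace

namespace Groth.Agent.H2.TwConst

/-- The base change of `p` along `f` is covered by pairwise disjoint sections which are open
immersions. -/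
def SecStr {X S S' : Scheme.{u}} (p : X ⟶ S) (f : S' ⟶ S) : Prop :=
  ∃ (A : Scheme.{u}) (fst : A ⟶ X) (q : A ⟶ S'), IsPullback fst q p f ∧
    ∃ (I : Type u) (σ : I → (S' ⟶ A)), (∀ i, σ i ≫ q = 𝟙 S') ∧ (∀ i, IsOpenImmersion (σ i)) ∧
      (∀ i j, i ≠ j → Disjoint (Set.range (σ i)) (Set.range (σ j))) ∧
      ∀ x' : A, ∃ i s', σ i s' = x'

theorem secStr_of_iso {S S' : Scheme.{u}} (P : Over S) (f : S' ⟶ S) {I : Type u}
    (e : Red.bc f P ≅ TwC.const S' I) : SecStr P.hom f :=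
  ⟨pullback P.hom f, pullback.fst _ _, pullback.snd _ _, .of_hasPullback _ _, I, sec P f e,
    sec_snd P f e, fun _ => inferInstance, sec_disjoint P f e, sec_cover P f e⟩

theorem SecStr.precomp {X S S' S'' : Scheme.{u}} {p : X ⟶ S} {f : S' ⟶ S} (H : SecStr p f)
    (h : S'' ⟶ S') : SecStr p (h ≫ f) := by
  obtain ⟨A, fst, q, hpb, I, σ, h1, h2, h3, h4⟩ := H
  haveI := h2
  have hbig : IsPullback (pullback.fst q h ≫ fst) (pullback.snd q h) p (h ≫ f) :=
    (IsPullback.of_hasPullback q h).paste_horiz hpb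
  let σ' : I → (S'' ⟶ pullback q h) := fun i =>
    pullback.lift (h ≫ σ i) (𝟙 _) (by rw [Category.assoc, h1, Category.comp_id, Category.id_comp])
  have hσ1 : ∀ i, σ' i ≫ pullback.snd q h = 𝟙 _ := fun i => pullback.lift_snd _ _ _
  have hσfst : ∀ i, σ' i ≫ pullback.fst q h = h ≫ σ i := fun i => pullback.lift_fst _ _ _
  have hsq : ∀ i, IsPullback (σ' i) h (pullback.fst q h) (σ i) := by
    intro i
    have hout : IsPullback (σ' i ≫ pullback.snd q h) h h (σ i ≫ q) := by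
      rw [hσ1, h1]
      exact IsPullback.of_horiz_isIso ⟨by simp⟩
    exact IsPullback.of_right hout (hσfst i) (IsPullback.of_hasPullback q h).flip
  have hrange : ∀ i, Set.range (σ' i) = pullback.fst q h ⁻¹' Set.range (σ i) := fun i =>
    range_eq_preimage_of_isPullback (hsq i).flip
  refine ⟨pullback q h, pullback.fst q h ≫ fst, pullback.snd q h, hbig, I, σ', hσ1,
    fun i => ?_, fun i j hij => ?_, fun x' => ?_⟩
  · exact MorphismProperty.of_isPullback (P := @IsOpenImmersion) (hsq i).flip inferInstance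
  · rw [hrange, hrange]
    exact (h3 i j hij).preimage _
  · obtain ⟨i, s'', hs''⟩ := h4 (pullback.fst q h x')
    have : x' ∈ Set.range (σ' i) := by
      rw [hrange]; exact ⟨s'', hs''⟩
    obtain ⟨w, hw⟩ := this
    exact ⟨i, w, hw⟩

theorem SecStr.of_comp {X S V X₁ T : Scheme.{u}} {p : X ⟶ S} {f : V ⟶ S} {g₁ : X₁ ⟶ X}
    {p₁ : X₁ ⟶ V} (hsq : IsPullback g₁ p₁ p f) {h : T ⟶ V} (H : SecStr p (h ≫ f)) :
    SecStr p₁ h := by
  obtain ⟨A, fst, q, hpb, I, σ, h1, h2, h3, h4⟩ := H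
  have hw : fst ≫ p = (q ≫ h) ≫ f := by rw [Category.assoc]; exact hpb.w
  let fst₁ : A ⟶ X₁ := hsq.lift fst (q ≫ h) hw
  have e1 : fst₁ ≫ g₁ = fst := hsq.lift_fst _ _ _
  have e2 : fst₁ ≫ p₁ = q ≫ h := hsq.lift_snd _ _ _
  have hbig : IsPullback (fst₁ ≫ g₁) q p (h ≫ f) := by rw [e1]; exact hpb
  exact ⟨A, fst₁, q, IsPullback.of_right hbig e2 hsq, I, σ, h1, h2, h3, h4⟩

theorem SecStr.comp_of {X S V X₁ T : Scheme.{u}} {p : X ⟶ S} {f : V ⟶ S} {g₁ : X₁ ⟶ X}
    {p₁ : X₁ ⟶ V} (hsq : IsPullback g₁ p₁ p f) {h : T ⟶ V} (H : SecStr p₁ h) :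
    SecStr p (h ≫ f) := by
  obtain ⟨A, fst, q, hpb, I, σ, h1, h2, h3, h4⟩ := H
  exact ⟨A, fst ≫ g₁, q, hpb.paste_horiz hsq, I, σ, h1, h2, h3, h4⟩

/-- Descent of a sections structure along an fppf cover with connected `T ×_V T`. -/
theorem SecStr.descend {X₁ V T : Scheme.{u}} {p₁ : X₁ ⟶ V} [Etale p₁] [IsSeparated p₁]
    {ρ : T ⟶ V} [Flat ρ] [LocallyOfFinitePresentation ρ] [Surjective ρ] [Nonempty T]
    [PreconnectedSpace ↥(pullback ρ ρ)] (H : SecStr p₁ ρ) : SecStr p₁ (𝟙 V) := by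
  obtain ⟨A, fst, q, hpb, I, σ, h1, h2, h3, h4⟩ := H
  haveI := h2
  have hcond : ∀ i, pullback.fst ρ ρ ≫ σ i ≫ fst = pullback.snd ρ ρ ≫ σ i ≫ fst := by
    intro i
    refine eq_of_preconnected p₁ _ _ ?_ (pullback.diagonal ρ) ?_
    · simp only [Category.assoc, hpb.w, reassoc_of% (h1 i)]
      exact pullback.condition
    · simp
  have hdesc : ∀ i, ∀ {Z : Scheme.{u}} (g₁ g₂ : Z ⟶ T), g₁ ≫ ρ = g₂ ≫ ρ →
      g₁ ≫ σ i ≫ fst = g₂ ≫ σ i ≫ fst := by
    intro i Z g₁ g₂ hg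
    have e1 : g₁ = pullback.lift g₁ g₂ hg ≫ pullback.fst ρ ρ := (pullback.lift_fst _ _ _).symm
    have e2 : g₂ = pullback.lift g₁ g₂ hg ≫ pullback.snd ρ ρ := (pullback.lift_snd _ _ _).symm
    rw [e1, Category.assoc, hcond i, ← Category.assoc, ← e2]
  let s : I → (V ⟶ X₁) := fun i => EffectiveEpi.desc ρ (σ i ≫ fst) (hdesc i)
  have hs : ∀ i, ρ ≫ s i = σ i ≫ fst := fun i => EffectiveEpi.fac ρ _ _
  have hs1 : ∀ i, s i ≫ p₁ = 𝟙 V := by
    intro i
    rw [← cancel_epi ρ, reassoc_of% (hs i), hpb.w, reassoc_of% (h1 i), Category.comp_id]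
  have hsq : ∀ i, IsPullback (σ i) ρ fst (s i) := by
    intro i
    have hout : IsPullback (σ i ≫ q) ρ ρ (s i ≫ p₁) := by
      rw [h1, hs1]
      exact IsPullback.of_horiz_isIso ⟨by simp⟩
    exact IsPullback.of_right hout (hs i).symm hpb.flip
  have hrange : ∀ i, Set.range (σ i) = fst ⁻¹' Set.range (s i) := fun i =>
    range_eq_preimage_of_isPullback (hsq i).flip
  haveI : Surjective fst := MorphismProperty.of_isPullback (P := @Surjective) hpb.flip ‹_›
  refine ⟨X₁, 𝟙 X₁, p₁, IsPullback.of_horiz_isIso ⟨by simp⟩, I, s, hs1,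
    fun i => isOpenImmersion_of_section p₁ (s i) (hs1 i), fun i j hij => ?_, fun x => ?_⟩
  · rw [Set.disjoint_iff_forall_ne]
    rintro x hxi _ hxj rfl
    obtain ⟨a, rfl⟩ := fst.surjective x
    have hai : a ∈ Set.range (σ i) := by rw [hrange]; exact hxi
    have haj : a ∈ Set.range (σ j) := by rw [hrange]; exact hxj
    exact Set.disjoint_iff_forall_ne.mp (h3 i j hij) hai haj rfl
  · obtain ⟨a, rfl⟩ := fst.surjective x
    obtain ⟨i, t, rfl⟩ := h4 a
    refine ⟨i, ρ t, ?_⟩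
    rw [← Scheme.Hom.comp_apply, hs, Scheme.Hom.comp_apply]

end Groth.Agent.H2.TwConst
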