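import Mathlib
import Groth.Prelude.Def_TwC
import Groth.Prelude.Def_CAlg2
import Groth.Agent.Lib.Helper2.TwConstL
import Groth.Agent.Lib.Helper1.QFRefine2
import Groth.Agent.Lib.Helper1.WtSplit

set_option autoImplicit false
set_option linter.style.haveILetI false
universe u
open CategoryTheory CategoryTheory.Limits AlgebraicGeometry MorphismProperty TopologicalSpace

namespace Groth.Agent.H2.TwConst

theorem etale_of_isTwConst_fppf {S : Scheme.{u}} (P : Over S)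
    (hP : TwC.IsTwConst TwC.Topology.fppf P) : Etale P.hom := by
  have hP' : ∀ s : S, ∃ (S' : Scheme.{u}) (f : S' ⟶ S), Flat f ∧
      LocallyOfFinitePresentation f ∧ s ∈ Set.range f ∧
      ∃ I : Type u, Nonempty (Red.bc f P ≅ TwC.const S' I) := hP
  refine of_fppf_local (P := @Etale) P.hom fun s => ?_
  obtain ⟨S', f, hf1, hf2, hs, I, ⟨e⟩⟩ := hP' s
  exact ⟨S', pullback P.hom f, f, pullback.fst _ _, pullback.snd _ _, hf1, hf2, hs,
    .of_hasPullback _ _, etale_snd_of_triv P f e⟩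

theorem isSeparated_of_isTwConst_fppf {S : Scheme.{u}} (P : Over S)
    (hP : TwC.IsTwConst TwC.Topology.fppf P) : IsSeparated P.hom := by
  have hP' : ∀ s : S, ∃ (S' : Scheme.{u}) (f : S' ⟶ S), Flat f ∧
      LocallyOfFinitePresentation f ∧ s ∈ Set.range f ∧
      ∃ I : Type u, Nonempty (Red.bc f P ≅ TwC.const S' I) := hP
  haveI := Groth.Agent.H1.descendsAlong_isSeparated.{u}
  refine of_fppf_local (P := @IsSeparated) P.hom fun s => ?_
  obtain ⟨S', f, hf1, hf2, hs, I, ⟨e⟩⟩ := hP' s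
  refine ⟨S', pullback P.hom f, f, pullback.fst _ _, pullback.snd _ _, hf1, hf2, hs,
    .of_hasPullback _ _, ?_⟩
  exact isSeparated_of_sections _ (sec P f e) (sec_snd P f e) (fun _ => inferInstance)
    (sec_disjoint P f e) (sec_cover P f e)


theorem s5269 {S : Scheme.{u}} [IsLocallyNoetherian S] (X : Over S)
    (hX : TwC.IsTwConst TwC.Topology.fppf X) : TwC.IsTwConst TwC.Topology.etale X := by
  have hX' : ∀ s : S, ∃ (S' : Scheme.{u}) (f : S' ⟶ S), Flat f ∧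
      LocallyOfFinitePresentation f ∧ s ∈ Set.range f ∧
      ∃ I : Type u, Nonempty (Red.bc f X ≅ TwC.const S' I) := hX
  haveI hEt : Etale X.hom := etale_of_isTwConst_fppf X hX
  haveI hSep : IsSeparated X.hom := isSeparated_of_isTwConst_fppf X hX
  refine isTwConst_of_locSec X fun s => ?_
  obtain ⟨S', f, hfl, hfp, ⟨s', hs'⟩, I, ⟨e⟩⟩ := hX' s
  have H0 : SecStr X.hom f := secStr_of_iso X f e
  -- refine to a locally quasi-finite cover
  let W : S.Opens := ⟨Set.range f, f.isOpenMap.isOpen_range⟩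
  let f₀ : S' ⟶ W := IsOpenImmersion.lift W.ι f (by simp [W])
  have hf₀ : f₀ ≫ W.ι = f := IsOpenImmersion.lift_fac _ _ _
  haveI : Flat f₀ := MorphismProperty.of_postcomp (W := @Flat) (W' := @IsOpenImmersion) f₀ W.ι
    inferInstance (hf₀ ▸ hfl)
  haveI : LocallyOfFinitePresentation f₀ :=
    MorphismProperty.of_postcomp (W := @LocallyOfFinitePresentation)
      (W' := @IsOpenImmersion) f₀ W.ι inferInstance (hf₀ ▸ hfp)
  haveI : Surjective f₀ := by
    refine ⟨fun v => ?_⟩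
    obtain ⟨s'', hs''⟩ : v.1 ∈ Set.range f := v.2
    refine ⟨s'', ?_⟩
    apply W.ι.isOpenEmbedding.injective
    rw [← Scheme.Hom.comp_apply, hf₀, hs'']
    rfl
  obtain ⟨S'', g, h, hhg, hgfl, hgfp, hgqf, hgsurj, -⟩ := Groth.Agent.H1.QFRefine.s2735 f₀
  have H1 : SecStr X.hom (g ≫ W.ι) := by
    have := H0.precomp h
    rwa [← hf₀, ← Category.assoc, hhg] at this
  have hsW : s ∈ W := ⟨s', hs'⟩
  obtain ⟨u₀, hu₀⟩ := g.surjective ⟨s, hsW⟩
  obtain ⟨U, hUaff, hu₀U⟩ : ∃ U : S''.Opens, IsAffineOpen U ∧ u₀ ∈ U := by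
    obtain ⟨_, ⟨U, hU, rfl⟩, h1, -⟩ :=
      S''.isBasis_affineOpens.exists_subset_of_mem_open (Set.mem_univ u₀) isOpen_univ
    exact ⟨U, hU, h1⟩
  haveI : IsAffine (U : Scheme.{u}) := hUaff
  let π : (U : Scheme.{u}) ⟶ S := U.ι ≫ g ≫ W.ι
  have H2 : SecStr X.hom π := H1.precomp U.ι
  haveI : Flat π := inferInstance
  haveI : LocallyOfFinitePresentation π := inferInstance
  haveI : LocallyQuasiFinite π := inferInstance
  haveI : IsSeparated π := inferInstance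
  let u : ↥U := ⟨u₀, hu₀U⟩
  have hπu : π u = s := by
    change (U.ι ≫ g ≫ W.ι) u = s
    rw [Scheme.Hom.comp_apply, Scheme.Hom.comp_apply]
    have : U.ι u = u₀ := rfl
    rw [this, hu₀]
    rfl
  obtain ⟨V₁, e₁, v₁, P, fst, snd, he₁, hev, hP, n, idx, T, t, hdisj, hclosed, hfin, hall⟩ :=
    Groth.Agent.H1.WtSplit.sepSplit π s (fun _ : Fin 1 => u)
      (Function.injective_of_subsingleton _) (fun _ => hπu) (fun _ => π.quasiFiniteAt u)
  obtain ⟨w, hw1, hw2⟩ := Scheme.exists_preimage_of_isPullback hP u v₁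
    (hπu.trans hev.symm)
  obtain ⟨k, -, hwk⟩ := hall w 0 hw2 hw1
  obtain ⟨hFP, -, hpi⟩ := hfin k
  have hpi' : (snd.residueFieldMap (t k)).hom.IsPurelyInseparable := hpi
  clear hpi hfin hall hdisj hclosed
  set Tk := T k with hTk
  set tk := t k with htk
  let ρ : (Tk : Scheme.{u}) ⟶ V₁ := Tk.ι ≫ snd
  haveI : IsFinite ρ := hFP.finite
  haveI : Flat snd := MorphismProperty.of_isPullback (P := @Flat) hP inferInstance
  haveI : LocallyOfFinitePresentation snd :=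
    MorphismProperty.of_isPullback (P := @LocallyOfFinitePresentation) hP inferInstance
  haveI : Flat ρ := inferInstance
  haveI : LocallyOfFinitePresentation ρ := inferInstance
  let O : V₁.Opens := ⟨Set.range ρ, ρ.isOpenMap.isOpen_range⟩
  have hvO : v₁ ∈ O := ⟨⟨tk, hFP.mem⟩, hFP.snd_eq⟩
  haveI : IsLocallyNoetherian V₁ := LocallyOfFiniteType.isLocallyNoetherian e₁
  obtain ⟨W', hvW', hW'conn⟩ := exists_preconnected_nhd (O : Scheme.{u}) ⟨v₁, hvO⟩
  let V' : V₁.Opens := O.ι ''ᵁ W'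
  have hv₁V' : v₁ ∈ V' := ⟨⟨v₁, hvO⟩, hvW', rfl⟩
  have hV'O : V' ≤ O := by
    rintro _ ⟨y, -, rfl⟩
    exact y.2
  have hV'conn : _root_.IsPreconnected (V' : Set V₁) := by
    have : (V' : Set V₁) = O.ι '' (W' : Set (O : Scheme.{u})) := rfl
    rw [this]
    exact hW'conn.image _ O.ι.continuous.continuousOn
  haveI : PreconnectedSpace ↥(V' : Scheme.{u}) := Subtype.preconnectedSpace hV'conn
  -- restrict the finite part over `V'`
  let ρ' : (ρ ⁻¹ᵁ V' : Scheme.{u}) ⟶ V' := ρ ∣_ V'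
  haveI : IsFinite ρ' := IsZariskiLocalAtTarget.restrict ‹IsFinite ρ› V'
  haveI : Flat ρ' := IsZariskiLocalAtTarget.restrict ‹Flat ρ› V'
  haveI : LocallyOfFinitePresentation ρ' :=
    IsZariskiLocalAtTarget.restrict ‹LocallyOfFinitePresentation ρ› V'
  have hρ'ι : ρ' ≫ V'.ι = (ρ ⁻¹ᵁ V').ι ≫ ρ := morphismRestrict_ι ρ V'
  haveI : Surjective ρ' := by
    refine ⟨fun v' => ?_⟩
    obtain ⟨w₀, hw₀⟩ : v'.1 ∈ Set.range ρ := hV'O v'.2
    have hw₀mem : w₀ ∈ ρ ⁻¹ᵁ V' := by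
      change ρ w₀ ∈ V'
      rw [hw₀]; exact v'.2
    refine ⟨⟨w₀, hw₀mem⟩, ?_⟩
    apply V'.ι.isOpenEmbedding.injective
    rw [← Scheme.Hom.comp_apply, hρ'ι, Scheme.Hom.comp_apply]
    exact hw₀
  let j : (ρ ⁻¹ᵁ V' : Scheme.{u}) ⟶ P := (ρ ⁻¹ᵁ V').ι ≫ Tk.ι
  have hcomm : ρ' ≫ V'.ι = j ≫ snd := by
    rw [hρ'ι, Category.assoc]
  let v' : ↥V' := ⟨v₁, hv₁V'⟩
  have huniq : ∀ w : ↥(ρ ⁻¹ᵁ V'), ρ' w = v' → j w = tk := by
    intro w hw
    refine hFP.uniq (j w) ?_ ?_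
    · change Tk.ι ((ρ ⁻¹ᵁ V').ι w) ∈ Tk
      exact ((ρ ⁻¹ᵁ V').ι w).2
    · rw [← Scheme.Hom.comp_apply, ← hcomm, Scheme.Hom.comp_apply, hw]
      rfl
  haveI : PreconnectedSpace ↥(pullback ρ' ρ') :=
    preconnected_pullback_of_pi ρ' j snd V'.ι hcomm tk hpi' v' huniq
  haveI : Nonempty ↥(ρ ⁻¹ᵁ V' : Scheme.{u}) := by
    refine ⟨⟨⟨tk, hFP.mem⟩, ?_⟩⟩
    change ρ ⟨tk, hFP.mem⟩ ∈ V'
    have : ρ ⟨tk, hFP.mem⟩ = v₁ := hFP.snd_eq
    rw [this]; exact hv₁V'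
  -- transport the sections structure
  have H3 : SecStr X.hom (snd ≫ e₁) := by
    have := H2.precomp fst
    rwa [hP.w] at this
  have H4 : SecStr X.hom (ρ' ≫ V'.ι ≫ e₁) := by
    have := H3.precomp j
    rwa [← Category.assoc, ← hcomm, Category.assoc] at this
  have hsq := IsPullback.of_hasPullback X.hom (V'.ι ≫ e₁)
  have H5 : SecStr (pullback.snd X.hom (V'.ι ≫ e₁)) ρ' := SecStr.of_comp hsq H4
  have H6 : SecStr (pullback.snd X.hom (V'.ι ≫ e₁)) (𝟙 _) := H5.descend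
  have H7 : SecStr X.hom (V'.ι ≫ e₁) := by
    have := SecStr.comp_of hsq H6
    rwa [Category.id_comp] at this
  obtain ⟨A, fst', q, hpb, I', σ, h1, h2, h3, h4⟩ := H7
  refine ⟨V', A, V'.ι ≫ e₁, fst', q, inferInstance, ⟨v', ?_⟩, hpb, I', σ, h1, h2, h3, h4⟩
  rw [Scheme.Hom.comp_apply]
  exact hev

end Groth.Agent.H2.TwConst
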