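import Mathlib

/-!
# Completeness along `J` from completeness along `I` and of `A/I` along `J`
-/

namespace Groth.Agent.H2.TwoIdealComplete

variable {A : Type*} [CommRing A] (I J : Ideal A)

theorem cauchy_add (x : ℕ → A) (hx : ∀ k, x (k + 1) - x k ∈ J ^ k) (k c : ℕ) :
    x (k + c) - x k ∈ J ^ k := by
  induction c with
  | zero => simp
  | succ c ih =>
    have : x (k + (c + 1)) - x k = (x (k + c + 1) - x (k + c)) + (x (k + c) - x k) := by
      rw [← add_assoc]; ring
    rw [this]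
    exact Ideal.add_mem _ (Ideal.pow_le_pow_right (Nat.le_add_right k c) (hx (k + c))) ih

/-- base case: Cauchy sequences converge modulo `I` -/
theorem base [IsPrecomplete (J.map (Ideal.Quotient.mk I)) (A ⧸ I)]
    (x : ℕ → A) (hx : ∀ k, x (k + 1) - x k ∈ J ^ k) :
    ∃ y, ∀ k, y - x k ∈ J ^ k ⊔ I := by
  have hprec := IsPrecomplete.prec (I := J.map (Ideal.Quotient.mk I)) (M := A ⧸ I) inferInstance
    (f := fun k => Ideal.Quotient.mk I (x k)) ?_
  · obtain ⟨L, hL⟩ := hprec
    obtain ⟨y, rfl⟩ := Ideal.Quotient.mk_surjective L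
    refine ⟨y, fun k => ?_⟩
    have h1 := (hL k)
    rw [SModEq.sub_mem, smul_eq_mul, Ideal.mul_top, ← Ideal.map_pow, ← map_sub,
      Ideal.mem_map_iff_of_surjective _ Ideal.Quotient.mk_surjective] at h1
    obtain ⟨a, ha, hae⟩ := h1
    have h2 : a - (x k - y) ∈ I := by
      rw [← Ideal.Quotient.eq_zero_iff_mem, map_sub, hae, sub_self]
    have : y - x k = (-a) + (a - (x k - y)) := by ring
    rw [this]
    exact Submodule.add_mem_sup (neg_mem ha) h2
  · intro m n hmn
    rw [SModEq.sub_mem, smul_eq_mul, Ideal.mul_top, ← Ideal.map_pow, ← map_sub]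
    apply Ideal.mem_map_of_mem
    obtain ⟨c, rfl⟩ := Nat.exists_eq_add_of_le hmn
    have := cauchy_add J x hx m c
    have h3 : x m - x (m + c) = -(x (m + c) - x m) := by ring
    rw [h3]; exact neg_mem this

end Groth.Agent.H2.TwoIdealComplete

namespace Groth.Agent.H2.TwoIdealComplete

variable {A : Type*} [CommRing A] (I J : Ideal A)

/-- elements of `J' * span G` as combinations with coefficients in `J'` -/
theorem exists_coeff (J' K : Ideal A) (G : Finset A) (hG : Ideal.span (G : Set A) = K) (w : A)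
    (hw : w ∈ J' * K) : ∃ a : G → A, (∀ g, a g ∈ J') ∧ ∑ g : G, a g * (g : A) = w := by
  have hw' : w ∈ J' • Submodule.span A (Set.range (Subtype.val : G → A)) := by
    rw [Subtype.range_coe_subtype]
    simpa [← hG] using hw
  rw [Submodule.mem_ideal_smul_span_iff_exists_sum] at hw'
  obtain ⟨a, ha, hsum⟩ := hw'
  refine ⟨fun g => a g, ha, ?_⟩
  rw [← hsum, Finsupp.sum_fintype _ _ (fun _ => by simp)]
  simp [smul_eq_mul]

theorem finite_step [IsPrecomplete (J.map (Ideal.Quotient.mk I)) (A ⧸ I)]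
    (K : Ideal A) (hK : K.FG) (c : ℕ) (i : ℕ → A) (hi0 : i 0 ∈ K)
    (hi : ∀ k, i (k + 1) - i k ∈ J ^ (k - c) * K) :
    ∃ z ∈ K, ∀ k, z - i k ∈ J ^ (k - c) * K ⊔ I * K := by
  classical
  obtain ⟨G, hG⟩ := hK
  have hGK : ∀ g : G, (g : A) ∈ K := fun g => hG ▸ Ideal.subset_span g.2
  choose a ha hsum using fun k => exists_coeff (J ^ (k - c)) K G hG _ (hi k)
  have hb : ∀ g : G, ∃ b, ∀ k, b - (∑ l ∈ Finset.range (k + c), a l g) ∈ J ^ k ⊔ I := by
    intro g
    apply base I J (fun k => ∑ l ∈ Finset.range (k + c), a l g)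
    intro k
    have : k + 1 + c = (k + c) + 1 := by ring
    rw [this, Finset.sum_range_succ, add_sub_cancel_left]
    have := ha (k + c) g
    rwa [Nat.add_sub_cancel] at this
  choose b hb using hb
  have hik : ∀ k, i k = i 0 + ∑ g : G, (∑ l ∈ Finset.range k, a l g) * (g : A) := by
    intro k
    induction k with
    | zero => simp
    | succ k ih =>
      have : i (k + 1) = i k + ∑ g : G, a k g * (g : A) := by rw [hsum k]; ring
      rw [this, ih, add_assoc, ← Finset.sum_add_distrib]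
      congr 1
      apply Finset.sum_congr rfl
      intro g _
      rw [Finset.sum_range_succ]; ring
  refine ⟨i 0 + ∑ g : G, b g * (g : A), ?_, fun k => ?_⟩
  · exact K.add_mem hi0 (K.sum_mem fun g _ => K.mul_mem_left _ (hGK g))
  · rw [hik k, add_sub_add_left_eq_sub, ← Finset.sum_sub_distrib]
    rw [← Ideal.sup_mul]
    apply Ideal.sum_mem
    intro g _
    rw [← sub_mul]
    apply Ideal.mul_mem_mul _ (hGK g)
    by_cases hkc : c ≤ k
    · obtain ⟨k', rfl⟩ := Nat.exists_eq_add_of_le' hkc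
      rw [Nat.add_sub_cancel]
      exact hb g k'
    · have : k - c = 0 := by omega
      rw [this, pow_zero, Ideal.one_eq_top, top_sup_eq]
      trivial

end Groth.Agent.H2.TwoIdealComplete

namespace Groth.Agent.H2.TwoIdealComplete

variable {A : Type*} [CommRing A] [IsNoetherianRing A] (I J : Ideal A)

theorem artinRees (n : ℕ) : ∃ c : ℕ, ∀ k, J ^ k ⊓ I ^ n ≤ J ^ (k - c) * I ^ n := by
  obtain ⟨c, hc⟩ := Ideal.exists_pow_inf_eq_pow_smul J (M := A) (I ^ n : Submodule A A)
  refine ⟨c, fun k => ?_⟩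
  by_cases hkc : c ≤ k
  · have := hc k hkc
    simp only [smul_eq_mul, Ideal.mul_top] at this
    rw [this]
    exact Ideal.mul_mono_right inf_le_right
  · have : k - c = 0 := by omega
    rw [this, pow_zero, Ideal.one_eq_top, Ideal.top_mul]
    exact inf_le_right

theorem step [IsPrecomplete (J.map (Ideal.Quotient.mk I)) (A ⧸ I)]
    (x : ℕ → A) (hx : ∀ k, x (k + 1) - x k ∈ J ^ k) (n : ℕ) (y : A)
    (hy : ∀ k, y - x k ∈ J ^ k ⊔ I ^ n) :
    ∃ y', y' - y ∈ I ^ n ∧ ∀ k, y' - x k ∈ J ^ k ⊔ I ^ (n + 1) := by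
  have hdec : ∀ k, ∃ j ∈ J ^ k, ∃ i ∈ I ^ n, j + i = y - x k := fun k =>
    Submodule.mem_sup.1 (hy k)
  choose j hj i hi hji using hdec
  obtain ⟨c, hc⟩ := artinRees I J n
  have hi' : ∀ k, i (k + 1) - i k ∈ J ^ (k - c) * I ^ n := by
    intro k
    apply hc k
    refine ⟨?_, (I ^ n).sub_mem (hi _) (hi _)⟩
    have : i (k + 1) - i k = -(x (k + 1) - x k) - j (k + 1) + j k := by
      have h1 := hji (k + 1)
      have h2 := hji k
      have e1 : i (k + 1) = y - x (k + 1) - j (k + 1) := by rw [← h1]; ring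
      have e2 : i k = y - x k - j k := by rw [← h2]; ring
      rw [e1, e2]; ring
    rw [this]
    exact (J ^ k).add_mem ((J ^ k).sub_mem (neg_mem (hx k))
      (Ideal.pow_le_pow_right (Nat.le_succ k) (hj (k + 1)))) (hj k)
  obtain ⟨z, hzK, hz⟩ := finite_step I J (I ^ n) (IsNoetherian.noetherian _) c i (hi 0) hi'
  have hweak : ∀ k, (y - z) - x k ∈ J ^ (k - c) ⊔ I ^ (n + 1) := by
    intro k
    have e : (y - z) - x k = j k + (-(z - i k)) := by
      have h2 := hji k
      have e2 : i k = y - x k - j k := by rw [← h2]; ring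
      rw [e2]; ring
    rw [e]
    have h1 : j k ∈ J ^ (k - c) ⊔ I ^ (n + 1) :=
      Submodule.mem_sup_left (Ideal.pow_le_pow_right (Nat.sub_le k c) (hj k))
    have h2 : z - i k ∈ J ^ (k - c) ⊔ I ^ (n + 1) := by
      have := hz k
      have hle : J ^ (k - c) * I ^ n ⊔ I * I ^ n ≤ J ^ (k - c) ⊔ I ^ (n + 1) := by
        refine sup_le_sup ?_ ?_
        · exact (Ideal.mul_le_left : J ^ (k - c) * I ^ n ≤ J ^ (k - c))
        · exact (pow_succ' I n).ge
      exact hle this
    exact Submodule.add_mem _ h1 (neg_mem h2)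
  refine ⟨y - z, ?_, fun k => ?_⟩
  · simpa using neg_mem hzK
  · have e : (y - z) - x k = ((y - z) - x (k + c)) + (x (k + c) - x k) := by ring
    rw [e]
    have h1 := hweak (k + c)
    rw [Nat.add_sub_cancel] at h1
    exact Submodule.add_mem _ h1 (Submodule.mem_sup_left (cauchy_add J x hx k c))

theorem krull [IsAdicComplete I A] (k : ℕ) (w : A) (hw : ∀ n, w ∈ J ^ k ⊔ I ^ n) : w ∈ J ^ k := by
  have hH : IsHausdorff I (A ⧸ J ^ k) :=
    IsHausdorff.of_le_jacobson I _ (IsAdicComplete.le_jacobson_bot I)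
  have := hH.haus (Ideal.Quotient.mk (J ^ k) w) (fun n => by
    rw [SModEq.zero]
    obtain ⟨a, ha, b, hb, hab⟩ := Submodule.mem_sup.1 (hw n)
    have hwa : Ideal.Quotient.mk (J ^ k) w = Ideal.Quotient.mk (J ^ k) b := by
      rw [← hab, map_add, Ideal.Quotient.eq_zero_iff_mem.2 ha, zero_add]
    rw [hwa]
    have : Ideal.Quotient.mk (J ^ k) b = b • (1 : A ⧸ J ^ k) := by
      rw [Algebra.smul_def, mul_one]; rfl
    rw [this]
    exact Submodule.smul_mem_smul hb trivial)
  exact Ideal.Quotient.eq_zero_iff_mem.1 this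

theorem le_jacobson [IsAdicComplete I A] [IsAdicComplete (J.map (Ideal.Quotient.mk I)) (A ⧸ I)] :
    J ≤ Ideal.jacobson ⊥ := by
  have hI : I ≤ Ideal.jacobson ⊥ := IsAdicComplete.le_jacobson_bot I
  have hJ : J.map (Ideal.Quotient.mk I) ≤ Ideal.jacobson ⊥ := IsAdicComplete.le_jacobson_bot _
  have h1 : J ≤ Ideal.comap (Ideal.Quotient.mk I) (Ideal.jacobson ⊥) :=
    Ideal.map_le_iff_le_comap.1 hJ
  rw [Ideal.comap_jacobson_of_surjective Ideal.Quotient.mk_surjective, ← RingHom.ker_eq_comap_bot,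
    Ideal.mk_ker] at h1
  refine h1.trans ?_
  calc I.jacobson ≤ (Ideal.jacobson ⊥).jacobson := Ideal.jacobson_mono hI
    _ = Ideal.jacobson ⊥ := Ideal.jacobson_idem

theorem main [IsAdicComplete I A] [IsAdicComplete (J.map (Ideal.Quotient.mk I)) (A ⧸ I)] :
    IsAdicComplete J A := by
  haveI : IsHausdorff J A := IsHausdorff.of_le_jacobson J A (le_jacobson I J)
  haveI : IsPrecomplete J A := by
    refine ⟨fun {f} hf => ?_⟩
    have hx : ∀ k, f (k + 1) - f k ∈ J ^ k := by
      intro k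
      have := hf (Nat.le_succ k)
      rw [SModEq.sub_mem, smul_eq_mul, Ideal.mul_top] at this
      have e : f (k + 1) - f k = -(f k - f (k + 1)) := by ring
      rw [e]; exact neg_mem this
    -- build the sequence y_n
    have hex : ∀ n (y : {y : A // ∀ k, y - f k ∈ J ^ k ⊔ I ^ n}),
        ∃ y' : {y : A // ∀ k, y - f k ∈ J ^ k ⊔ I ^ (n + 1)}, y'.1 - y.1 ∈ I ^ n := by
      intro n y
      obtain ⟨y', h1, h2⟩ := step I J f hx n y.1 y.2
      exact ⟨⟨y', h2⟩, h1⟩
    choose nxt hnxt using hex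
    let ys : ∀ n, {y : A // ∀ k, y - f k ∈ J ^ k ⊔ I ^ n} := fun n =>
      Nat.rec ⟨0, fun k => by simp⟩ (fun n y => nxt n y) n
    have hys : ∀ n, (ys (n + 1)).1 - (ys n).1 ∈ I ^ n := fun n => hnxt n (ys n)
    have hcau : ∀ n c, (ys (n + c)).1 - (ys n).1 ∈ I ^ n :=
      fun n c => cauchy_add I (fun n => (ys n).1) hys n c
    obtain ⟨L, hL⟩ := IsPrecomplete.prec (I := I) (M := A) inferInstance
      (f := fun n => (ys n).1) (by
        intro m n hmn
        obtain ⟨c, rfl⟩ := Nat.exists_eq_add_of_le hmn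
        rw [SModEq.sub_mem, smul_eq_mul, Ideal.mul_top]
        have e : (ys m).1 - (ys (m + c)).1 = -((ys (m + c)).1 - (ys m).1) := by ring
        rw [e]; exact neg_mem (hcau m c))
    refine ⟨L, fun k => ?_⟩
    rw [SModEq.sub_mem, smul_eq_mul, Ideal.mul_top]
    have : L - f k ∈ J ^ k := by
      apply krull I J k
      intro n
      have h1 := hL n
      rw [SModEq.sub_mem, smul_eq_mul, Ideal.mul_top] at h1
      have e : L - f k = -((ys n).1 - L) + ((ys n).1 - f k) := by ring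
      rw [e]
      exact Submodule.add_mem _ (Submodule.mem_sup_right (neg_mem h1)) ((ys n).2 k)
    have e : f k - L = -(L - f k) := by ring
    rw [e]; exact neg_mem this
  exact ⟨⟩

end Groth.Agent.H2.TwoIdealComplete
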