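import Groth.Agent.Lib.Helper8.TFunBC

/-!
# Exactness properties of `T_p` are local on the base (helper2)
-/

set_option autoImplicit false
set_option linter.style.haveILetI false
universe u

open CategoryTheory CategoryTheory.Limits TensorProduct

namespace Groth.Agent.H2.Ubc

variable {A : Type u} [CommRing A]

/-- `T_p` preserves epimorphisms as soon as it does so after localizing at every maximal ideal. -/
theorem preservesEpi_of_forall_localization (P : ChainComplex (ModuleCat.{u} A) ℤ)
    (hP : ∀ i, Module.Flat A (P.X i)) (p : ℤ)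
    (h : ∀ (m : Ideal A) [m.IsMaximal],
      (CohIII.TFun (CohIII.bcCx (algebraMap A (Localization.AtPrime m)) P)
        p).PreservesEpimorphisms) :
    (CohIII.TFun P p).PreservesEpimorphisms := by
  rw [Groth.Agent.H8.TFun.preservesEpi_iff_flat P hP p (p - 1) (by ring)]
  refine Module.flat_of_isLocalized_maximal A _
    (fun m _ => Localization.AtPrime m ⊗[A] (P.X (p - 1) ⧸ LinearMap.range (P.d p (p - 1)).hom))
    (fun m _ => TensorProduct.mk A (Localization.AtPrime m) _ 1) (fun m hm => ?_)
  have hP' : ∀ i, Module.Flat (Localization.AtPrime m)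
      ((CohIII.bcCx (algebraMap A (Localization.AtPrime m)) P).X i) := fun i => by
    have := hP i
    exact Groth.Agent.H8.TFun.flat_bcCx_X P i
  have h1 := (Groth.Agent.H8.TFun.preservesEpi_iff_flat _ hP' p (p - 1) (by ring)).1 (h m)
  rw [Groth.Agent.H8.TFun.flat_coker_bcCx_iff] at h1
  exact Module.Flat.trans A (Localization.AtPrime m) _

end Groth.Agent.H2.Ubc
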