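import Groth.Agent.Lib.Helper2.EtI
import Groth.Agent.Lib.Helper2.UbcA

/-!
# Universal bijectivity of `B → Γ(X_B, O)` from exactness of `T^0` (helper2)
-/

set_option autoImplicit false
set_option linter.style.haveILetI false
universe u

open CategoryTheory CategoryTheory.Limits AlgebraicGeometry Opposite TopologicalSpace TensorProduct

namespace Groth.Agent.H2.Ubc

open Groth.Agent.H2.Mum Groth.Agent.H2.RpA Groth.Agent.H2.RpB Groth.Agent.H2.RpC Groth.Agent.LD
  Groth.Agent.LD.CL Groth.Agent.LD.QC Groth.Agent.H8.ExtBridge Groth.Agent.H2.EtH0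

/-- an algebra which is isomorphic to the base ring as a module is isomorphic to it as a ring. -/
theorem bijective_algebraMap_of_linearEquiv (R C : Type*) [CommRing R] [CommRing C] [Algebra R C]
    (e : C ≃ₗ[R] R) : Function.Bijective (algebraMap R C) := by
  rcases subsingleton_or_nontrivial R with hR | hR
  · haveI : Subsingleton C := e.toEquiv.subsingleton
    exact ⟨fun a b _ => Subsingleton.elim a b, fun c => ⟨0, Subsingleton.elim _ _⟩⟩
  · haveI : Module.Free R C := Module.Free.of_equiv e.symm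
    haveI : Module.Finite R C := Module.Finite.equiv e.symm
    exact bijective_algebraMap_of_finrank_eq_one R C (e.finrank_eq.trans (Module.finrank_self R))

section key

variable (A : Type u) [CommRing A] {X : Scheme.{u}}
  [X.Over (Spec (CommRingCat.of A))]
  {ι : Type u} [Finite ι] (U : ι → X.Opens)
  (haff : ∀ (n : ℕ) (a : Fin (n + 1) → ι), IsAffineOpen (⨅ k, U (a k))) (hU : iSup U = ⊤)
  (F : X.Modules) [F.IsQuasicoherent] (ε : F ≅ OX X)
  (L : CochainComplex (ModuleCat.{u} A) ℤ) (v : L ⟶ CZ A U F)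
  (hq : ∀ M : ModuleCat.{u} A, QuasiIso
    (((MonoidalCategory.tensorRight M).mapHomologicalComplex (ComplexShape.up ℤ)).map v))
  (B : Type u) [CommRing B] [Algebra A B]
  {X' : Scheme.{u}} [X'.Over (Spec (CommRingCat.of B))] (g : X' ⟶ X)
  (sq : IsPullback g (X' ↘ Spec (CommRingCat.of B)) (X ↘ Spec (CommRingCat.of A))
    (Spec.map (CommRingCat.ofHom (algebraMap A B))))

include haff hU hq sq ε in
/-- **universal bijectivity**: if `T^0` of the Mumford complex of `O_X` preserves epimorphisms and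
`H^0` is free of rank one, then `B → Γ(X_B, O)` is bijective for every `A`-algebra `B`. -/
theorem bijective_toGlobal_of_exact
    (hL : ∀ i, Module.Finite A (L.X i) ∧ Module.Free A (L.X i))
    (hepi : (CohIII.TFun (flip L) (-((0 : ℕ) : ℤ))).PreservesEpimorphisms)
    (e : ((flip L).homology (-((0 : ℕ) : ℤ)) : ModuleCat.{u} A) ≃ₗ[A] A) :
    Function.Bijective (Coh.toGlobal (X' ↘ Spec (CommRingCat.of B))) := by
  have hP := flip_finite_flat L hL
  have hfl' := fun i => (hP i).2
  have hW := (Groth.Agent.H8.TFun.preservesEpi_iff_flat (flip L) hfl' (-((0 : ℕ) : ℤ))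
    (-((0 : ℕ) : ℤ) - 1) (by ring)).1 hepi
  haveI := hfl' (-((0 : ℕ) : ℤ) - 1)
  haveI := hW
  let E1 := (Groth.Agent.H8.TFun.homologyBcIsoOfFlatCoker (flip L) (-((0 : ℕ) : ℤ))
    (-((0 : ℕ) : ℤ) - 1) (by ring) B).toLinearEquiv
  let E2 := (bcFlipHomologyIso (algebraMap A B) L ((0 : ℕ) : ℤ)).toLinearEquiv
  let E3 := bcH A B g F U sq haff hU L v hq 0
  let E4 := HHEquivOfIso B ((Scheme.Modules.pullback g).mapIso ε ≪≫ pullbackUnitIso g) 0
  let E5 := HH0LinΓ B X'
  let E6 : ((ModuleCat.extendScalars (algebraMap A B)).obj ((flip L).homology (-((0 : ℕ) : ℤ))))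
      ≃ₗ[B] B :=
    (extEquiv (B := B) ((flip L).homology (-((0 : ℕ) : ℤ)))).trans
      ((TensorProduct.AlgebraTensorModule.congr (LinearEquiv.refl B B) e).trans
        (TensorProduct.AlgebraTensorModule.rid A B B))
  letI : Algebra B Γ(X', ⊤) := (Coh.toGlobal (X' ↘ Spec (CommRingCat.of B))).toAlgebra
  have key : Γ(X', ⊤) ≃ₗ[B] B :=
    E5.symm.trans (E4.symm.trans (E3.symm.trans (E2.symm.trans (E1.trans E6))))
  exact bijective_algebraMap_of_linearEquiv B Γ(X', ⊤) key

end key

end Groth.Agent.H2.Ubc
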