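import Mathlib
import Groth.Prelude.Def_CAlg2
import Groth.Prelude.Def_EGA43
import Groth.Agent.H4.Brn1

/-! # Openness of integral extensions at points over a unibranch point (helper2)

Ingredients: uniqueness of the prime of the normalization over a unibranch prime, openness of
`Spec A'[β] → Spec A'` for `A'` integrally closed, a topological lemma on closed maps. -/

set_option autoImplicit false
set_option linter.style.haveILetI false
universe u

namespace Groth.Agent.H2.UniOp

open Groth.Agent.H4.Brn

section Unique

variable (A : Type u) [CommRing A] [IsDomain A] (p : Ideal A) [p.IsPrime]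

/-- the normalization of the local ring at a unibranch prime (in `Frac A`) is local. -/
theorem isLocalRing_integralClosure_atPrime (hU : CAlg2.IsUnibranch (Localization.AtPrime p)) :
    IsLocalRing (integralClosure (Localization.AtPrime p) (FractionRing A)) := by
  have hinj0 : Function.Injective (Ideal.Quotient.mk (nilradical (Localization.AtPrime p))) := by
    rw [RingHom.injective_iff_ker_eq_bot, Ideal.mk_ker, nilradical_eq_zero, Ideal.zero_eq_bot]
  let e0 : Localization.AtPrime p ≃+* CAlg2.red (Localization.AtPrime p) :=
    RingEquiv.ofBijective (Ideal.Quotient.mk (nilradical (Localization.AtPrime p)))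
      ⟨hinj0, Ideal.Quotient.mk_surjective⟩
  haveI : IsLocalRing (CAlg2.normRed (Localization.AtPrime p)) := hU.2
  haveI : IsDomain (CAlg2.red (Localization.AtPrime p)) := hU.1
  let ε : FractionRing (CAlg2.red (Localization.AtPrime p)) ≃+* FractionRing A :=
    IsFractionRing.ringEquivOfRingEquiv (A := CAlg2.red (Localization.AtPrime p))
      (K := FractionRing (CAlg2.red (Localization.AtPrime p))) (B := Localization.AtPrime p)
      (L := FractionRing A) e0.symm
  have hε : ∀ d, ε (algebraMap (CAlg2.red (Localization.AtPrime p)) _ d) =
      algebraMap (Localization.AtPrime p) (FractionRing A) (e0.symm d) :=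
    fun d => IsFractionRing.ringEquivOfRingEquiv_algebraMap e0.symm d
  have hε' : ∀ r, ε.symm (algebraMap (Localization.AtPrime p) (FractionRing A) r) =
      algebraMap (CAlg2.red (Localization.AtPrime p)) _ (e0 r) := by
    intro r
    apply ε.injective
    rw [RingEquiv.apply_symm_apply, hε, RingEquiv.symm_apply_apply]
  have hint1 : ∀ x : FractionRing (CAlg2.red (Localization.AtPrime p)),
      IsIntegral (CAlg2.red (Localization.AtPrime p)) x →
      IsIntegral (Localization.AtPrime p) (ε x) := by
    intro x hx
    exact IsIntegral.map_of_comp_eq (e0.symm : CAlg2.red (Localization.AtPrime p) →+* Localization.AtPrime p)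
      (ε : FractionRing (CAlg2.red (Localization.AtPrime p)) →+* FractionRing A)
      (by ext d; exact (hε d).symm) hx
  have hint2 : ∀ y : FractionRing A, IsIntegral (Localization.AtPrime p) y →
      IsIntegral (CAlg2.red (Localization.AtPrime p)) (ε.symm y) := by
    intro y hy
    exact IsIntegral.map_of_comp_eq (e0 : Localization.AtPrime p →+* CAlg2.red (Localization.AtPrime p))
      (ε.symm : FractionRing A →+* FractionRing (CAlg2.red (Localization.AtPrime p)))
      (by ext r; exact (hε' r).symm) hy
  let E : CAlg2.normRed (Localization.AtPrime p) ≃+*
      integralClosure (Localization.AtPrime p) (FractionRing A) :=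
    { toFun := fun x => ⟨ε x.1, hint1 x.1 x.2⟩
      invFun := fun y => ⟨ε.symm y.1, hint2 y.1 y.2⟩
      left_inv := fun x => Subtype.ext (ε.symm_apply_apply x.1)
      right_inv := fun y => Subtype.ext (ε.apply_symm_apply y.1)
      map_mul' := fun x y => Subtype.ext (map_mul ε x.1 y.1)
      map_add' := fun x y => Subtype.ext (map_add ε x.1 y.1) }
  exact RingEquiv.isLocalRing E

/-- **uniqueness of the prime of the normalization over a unibranch prime.** -/
theorem eq_of_comap_eq_of_isUnibranch (hU : CAlg2.IsUnibranch (Localization.AtPrime p))
    (P₁ P₂ : Ideal (integralClosure A (FractionRing A))) [P₁.IsPrime] [P₂.IsPrime]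
    (h₁ : P₁.comap (algebraMap A (integralClosure A (FractionRing A))) = p)
    (h₂ : P₂.comap (algebraMap A (integralClosure A (FractionRing A))) = p) : P₁ = P₂ := by
  haveI := isLocalRing_integralClosure_atPrime A p hU
  -- the map `A' → R'`
  let ψ : integralClosure A (FractionRing A) →+*
      integralClosure (Localization.AtPrime p) (FractionRing A) :=
    ((integralClosure A (FractionRing A)).val : _ →+* FractionRing A).codRestrict
      (integralClosure (Localization.AtPrime p) (FractionRing A)) (fun x => x.2.tower_top)
  let P₀ : Ideal (integralClosure A (FractionRing A)) :=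
    (IsLocalRing.maximalIdeal (integralClosure (Localization.AtPrime p) (FractionRing A))).comap ψ
  have key : ∀ (P : Ideal (integralClosure A (FractionRing A))) [P.IsPrime],
      P.comap (algebraMap A (integralClosure A (FractionRing A))) = p → P ≤ P₀ := by
    intro P _ hP x hx
    by_contra hx0
    have hunit : IsUnit (ψ x) := by
      by_contra hnu
      exact hx0 ((IsLocalRing.mem_maximalIdeal _).mpr hnu)
    obtain ⟨r, hr⟩ := hunit.exists_right_inv
    obtain ⟨s, hs⟩ := IsIntegral.exists_multiple_integral_of_isLocalization p.primeCompl
      (r : FractionRing A) r.2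
    let y : integralClosure A (FractionRing A) := ⟨s • (r : FractionRing A), hs⟩
    have hxy : x * y = algebraMap A (integralClosure A (FractionRing A)) (s : A) := by
      apply Subtype.ext
      show (x : FractionRing A) * (s • (r : FractionRing A)) = algebraMap A (FractionRing A) s
      have h1 : (x : FractionRing A) * (r : FractionRing A) = 1 := congrArg Subtype.val hr
      rw [Submonoid.smul_def, Algebra.smul_def, mul_left_comm, h1, mul_one]
    have hsP : algebraMap A (integralClosure A (FractionRing A)) (s : A) ∈ P := by
      rw [← hxy]; exact P.mul_mem_right _ hx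
    have : (s : A) ∈ P.comap (algebraMap A (integralClosure A (FractionRing A))) := hsP
    rw [hP] at this
    exact s.2 this
  have hP₀ : P₀.comap (algebraMap A (integralClosure A (FractionRing A))) = p := by
    have hmax : (IsLocalRing.maximalIdeal
        (integralClosure (Localization.AtPrime p) (FractionRing A))).comap
        (algebraMap (Localization.AtPrime p) _) = IsLocalRing.maximalIdeal _ := by
      haveI := Ideal.isMaximal_comap_of_isIntegral_of_isMaximal (R := Localization.AtPrime p)
        (IsLocalRing.maximalIdeal (integralClosure (Localization.AtPrime p) (FractionRing A)))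
      exact IsLocalRing.eq_maximalIdeal this
    have hcomm : ψ.comp (algebraMap A (integralClosure A (FractionRing A))) =
        (algebraMap (Localization.AtPrime p)
          (integralClosure (Localization.AtPrime p) (FractionRing A))).comp
          (algebraMap A (Localization.AtPrime p)) := by
      refine RingHom.ext fun a => ?_
      apply Subtype.ext
      show algebraMap A (FractionRing A) a =
        algebraMap (Localization.AtPrime p) (FractionRing A) (algebraMap A _ a)
      exact IsScalarTower.algebraMap_apply A (Localization.AtPrime p) (FractionRing A) a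
    show ((IsLocalRing.maximalIdeal _).comap ψ).comap _ = p
    rw [Ideal.comap_comap, hcomm, ← Ideal.comap_comap, hmax]
    exact IsLocalization.AtPrime.under_maximalIdeal (Localization.AtPrime p) p
  have heq : ∀ (P : Ideal (integralClosure A (FractionRing A))) [P.IsPrime],
      P.comap (algebraMap A (integralClosure A (FractionRing A))) = p → P = P₀ := by
    intro P _ hP
    refine le_antisymm (key P hP) ?_
    intro x hx
    by_contra hxP
    have hlt := Ideal.comap_lt_comap_of_integral_mem_sdiff (R := A) (key P hP) ⟨hx, hxP⟩
      (Algebra.IsIntegral.isIntegral x)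
    rw [hP, hP₀] at hlt
    exact lt_irrefl _ hlt
  rw [heq P₁ h₁, heq P₂ h₂]

end Unique

section OpenMap

/-- `Spec A'[β] → Spec A'` is open for `A'` integrally closed and `β` integral in a field. -/
theorem isOpenMap_comap_adjoin {A' L : Type u} [CommRing A'] [IsDomain A'] [IsIntegrallyClosed A']
    [Field L] [Algebra A' L] [FaithfulSMul A' L] (β : L) (hβ : IsIntegral A' β) :
    IsOpenMap (PrimeSpectrum.comap (algebraMap A' (Algebra.adjoin A' ({β} : Set L)))) := by
  haveI : Algebra.FinitePresentation A' (Algebra.adjoin A' ({β} : Set L)) :=
    Algebra.FinitePresentation.equiv (minpoly.equivAdjoin hβ)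
  haveI : Algebra.IsIntegral A' (Algebra.adjoin A' ({β} : Set L)) := by
    refine Algebra.IsIntegral.adjoin ?_
    rintro x ⟨rfl⟩
    exact hβ
  haveI : FaithfulSMul A' (Algebra.adjoin A' ({β} : Set L)) := by
    rw [faithfulSMul_iff_algebraMap_injective]
    intro a b hab
    apply FaithfulSMul.algebraMap_injective A' L
    exact congrArg Subtype.val hab
  exact PrimeSpectrum.isOpenMap_comap_of_hasGoingDown_of_finitePresentation

end OpenMap

section Top

/-- for a closed map, the points whose fibre lies in a given open set form an open set. -/
theorem isOpen_setOf_fibre_subset {X' X : Type*} [TopologicalSpace X'] [TopologicalSpace X]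
    (ν : X' → X) (hν : IsClosedMap ν) (W : Set X') (hW : IsOpen W) :
    IsOpen {x : X | ν ⁻¹' {x} ⊆ W} := by
  have : {x : X | ν ⁻¹' {x} ⊆ W} = (ν '' Wᶜ)ᶜ := by
    ext x
    simp only [Set.mem_ofPred_eq, Set.mem_compl_iff, Set.mem_image, not_exists, not_and]
    constructor
    · intro h x' hx' hxx
      exact hx' (h hxx)
    · intro h x' hx'
      by_contra hW'
      exact h x' hW' hx'
  rw [this]
  exact (hν _ hW.isClosed_compl).isOpen_compl

end Top

end Groth.Agent.H2.UniOp
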