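import Mathlib
import Groth.Agent.Lib.Helper2.UniOpA

/-! # An integral extension of domains is open at the points over a unibranch point (helper2) -/

set_option autoImplicit false
set_option linter.style.haveILetI false
universe u

namespace Groth.Agent.H2.UniOp

open PrimeSpectrum

set_option maxHeartbeats 1000000 in
/-- **SGA 3 VI_B 5.?/EGA IV 14.4.1.2**: `Spec B → Spec A` is open at `q` when `A ⊆ B` is an integral
extension of domains and `A` is unibranch at `q ∩ A`. -/
theorem isOpenAt_comap_of_isUnibranch (A B : Type u) [CommRing A] [IsDomain A] [CommRing B]
    [IsDomain B] [Algebra A B] (hinj : Function.Injective (algebraMap A B))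
    [Algebra.IsIntegral A B] (q : PrimeSpectrum B)
    (hU : CAlg2.IsUnibranch (Localization.AtPrime (q.asIdeal.comap (algebraMap A B)))) :
    EGA43.IsOpenAt (PrimeSpectrum.comap (algebraMap A B)) q := by
  classical
  haveI : FaithfulSMul A B := (faithfulSMul_iff_algebraMap_injective A B).mpr hinj
  haveI : FaithfulSMul A (FractionRing B) := by
    rw [faithfulSMul_iff_algebraMap_injective, IsScalarTower.algebraMap_eq A B (FractionRing B)]
    exact (IsFractionRing.injective B (FractionRing B)).comp hinj
  letI algKL : Algebra (FractionRing A) (FractionRing B) := FractionRing.liftAlgebra A _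
  haveI : IsScalarTower A (FractionRing A) (FractionRing B) :=
    FractionRing.isScalarTower_liftAlgebra A _
  -- the normalization `A'`
  haveI : IsIntegrallyClosed (integralClosure A (FractionRing A)) :=
    integralClosure.isIntegrallyClosedOfFiniteExtension (FractionRing A)
  haveI towA : IsScalarTower A (integralClosure A (FractionRing A)) (FractionRing B) :=
    IsScalarTower.of_algebraMap_eq fun a =>
      IsScalarTower.algebraMap_apply A (FractionRing A) (FractionRing B) a
  haveI : FaithfulSMul (integralClosure A (FractionRing A)) (FractionRing B) := by
    rw [faithfulSMul_iff_algebraMap_injective]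
    exact (algebraMap (FractionRing A) (FractionRing B)).injective.comp Subtype.val_injective
  intro N hN
  obtain ⟨_, ⟨_, ⟨b, rfl⟩, rfl⟩, hqb, hbN⟩ := (isBasis_basic_opens.mem_nhds_iff).mp hN
  have hβ : IsIntegral (integralClosure A (FractionRing A)) (algebraMap B (FractionRing B) b) :=
    ((Algebra.IsIntegral.isIntegral (R := A) b).map
      (IsScalarTower.toAlgHom A B (FractionRing B))).tower_top
  have hopen := isOpenMap_comap_adjoin (A' := integralClosure A (FractionRing A))
    (algebraMap B (FractionRing B) b) hβ
  -- the ring `C = A'[β]`
  let βC : Algebra.adjoin (integralClosure A (FractionRing A))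
      ({algebraMap B (FractionRing B) b} : Set (FractionRing B)) :=
    ⟨algebraMap B (FractionRing B) b, Algebra.subset_adjoin rfl⟩
  haveI hCint : Algebra.IsIntegral (integralClosure A (FractionRing A))
      (Algebra.adjoin (integralClosure A (FractionRing A))
        ({algebraMap B (FractionRing B) b} : Set (FractionRing B))) := by
    refine Algebra.IsIntegral.adjoin ?_
    rintro x ⟨rfl⟩
    exact hβ
  -- the big ring `D`
  let ιB : B →+* integralClosure A (FractionRing B) :=
    (algebraMap B (FractionRing B)).codRestrict (integralClosure A (FractionRing B))
      (fun x => (Algebra.IsIntegral.isIntegral (R := A) x).map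
        (IsScalarTower.toAlgHom A B (FractionRing B)))
  have hCA : ∀ c : Algebra.adjoin (integralClosure A (FractionRing A))
      ({algebraMap B (FractionRing B) b} : Set (FractionRing B)),
      IsIntegral A (c : FractionRing B) := by
    intro c
    have h1 : IsIntegral (integralClosure A (FractionRing A)) (c : FractionRing B) :=
      (Algebra.IsIntegral.isIntegral (R := integralClosure A (FractionRing A)) c).map
        (Subalgebra.val _)
    exact isIntegral_trans (R := A) (A := integralClosure A (FractionRing A)) _ h1
  let fC : Algebra.adjoin (integralClosure A (FractionRing A))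
      ({algebraMap B (FractionRing B) b} : Set (FractionRing B)) →+* FractionRing B :=
    (Subalgebra.val _).toRingHom
  let ιC : Algebra.adjoin (integralClosure A (FractionRing A))
      ({algebraMap B (FractionRing B) b} : Set (FractionRing B)) →+*
      integralClosure A (FractionRing B) :=
    fC.codRestrict (integralClosure A (FractionRing B)) (fun c => hCA c)
  have hιb : ιB b = ιC βC := Subtype.ext rfl
  have hcomm : ιB.comp (algebraMap A B) =
      (ιC.comp (algebraMap (integralClosure A (FractionRing A)) _)).comp
        (algebraMap A (integralClosure A (FractionRing A))) := by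
    refine RingHom.ext fun a => Subtype.ext ?_
    show algebraMap B (FractionRing B) (algebraMap A B a) =
      algebraMap (FractionRing A) (FractionRing B) (algebraMap A (FractionRing A) a)
    rw [← IsScalarTower.algebraMap_apply A B (FractionRing B),
      ← IsScalarTower.algebraMap_apply A (FractionRing A) (FractionRing B)]
  -- surjectivity on spectra
  have hsB : Function.Surjective (comap ιB) := by
    refine RingHom.IsIntegral.comap_surjective (f := ιB) ?_ ?_
    · refine RingHom.IsIntegral.tower_top (algebraMap A B) ιB ?_
      have : ιB.comp (algebraMap A B) = algebraMap A (integralClosure A (FractionRing B)) :=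
        RingHom.ext fun a => Subtype.ext
          (IsScalarTower.algebraMap_apply A B (FractionRing B) a).symm
      rw [this]
      exact algebraMap_isIntegral_iff.mpr inferInstance
    · intro x y hxy
      exact IsFractionRing.injective B (FractionRing B) (congrArg Subtype.val hxy)
  have hsC : Function.Surjective (comap ιC) := by
    refine @RingHom.IsIntegral.comap_surjective (Algebra.adjoin (integralClosure A (FractionRing A))
      ({algebraMap B (FractionRing B) b} : Set (FractionRing B)))
      (integralClosure A (FractionRing B)) _ _ ιC ?_ ?_
    · refine @RingHom.IsIntegral.tower_top A (Algebra.adjoin (integralClosure A (FractionRing A))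
        ({algebraMap B (FractionRing B) b} : Set (FractionRing B)))
        (integralClosure A (FractionRing B)) _ _ _
        ((algebraMap (integralClosure A (FractionRing A))
          (Algebra.adjoin (integralClosure A (FractionRing A))
            ({algebraMap B (FractionRing B) b} : Set (FractionRing B)))).comp
          (algebraMap A (integralClosure A (FractionRing A)))) ιC ?_
      have : ιC.comp ((algebraMap (integralClosure A (FractionRing A))
          (Algebra.adjoin (integralClosure A (FractionRing A))
            ({algebraMap B (FractionRing B) b} : Set (FractionRing B)))).comp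
          (algebraMap A (integralClosure A (FractionRing A)))) =
          algebraMap A (integralClosure A (FractionRing B)) := by
        refine RingHom.ext fun a => Subtype.ext ?_
        show algebraMap (FractionRing A) (FractionRing B) (algebraMap A (FractionRing A) a) =
          algebraMap A (FractionRing B) a
        rw [← IsScalarTower.algebraMap_apply A (FractionRing A) (FractionRing B)]
      rw [this]
      exact algebraMap_isIntegral_iff.mpr inferInstance
    · intro x y hxy
      have h := congrArg Subtype.val hxy
      exact Subtype.ext h
  have hsν : Function.Surjective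
      (comap (algebraMap A (integralClosure A (FractionRing A)))) := by
    refine RingHom.IsIntegral.comap_surjective
      (algebraMap_isIntegral_iff.mpr inferInstance) ?_
    intro x y hxy
    exact IsFractionRing.injective A (FractionRing A) (congrArg Subtype.val hxy)
  have hclν : IsClosedMap (comap (algebraMap A (integralClosure A (FractionRing A)))) :=
    isClosedMap_comap_of_isIntegral _ (algebraMap_isIntegral_iff.mpr inferInstance)
  -- the open sets
  have hWopen := hopen _ (basicOpen βC).2
  have hVopen := isOpen_setOf_fibre_subset _ hclν _ hWopen
  -- key: transport of points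
  have htrans : ∀ d : PrimeSpectrum (integralClosure A (FractionRing B)),
      comap (algebraMap A B) (comap ιB d) =
        comap (algebraMap A (integralClosure A (FractionRing A)))
          (comap (algebraMap (integralClosure A (FractionRing A)) _) (comap ιC d)) := by
    intro d
    have h := congrArg (fun φ => comap φ d) hcomm
    simp only [comap_comp_apply] at h
    exact h
  have hmem : ∀ d : PrimeSpectrum (integralClosure A (FractionRing B)),
      comap ιB d ∈ basicOpen b ↔ comap ιC d ∈ basicOpen βC := by
    intro d
    show ¬ (ιB b ∈ d.asIdeal) ↔ ¬ (ιC βC ∈ d.asIdeal)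
    rw [hιb]
  refine Filter.mem_of_superset (hVopen.mem_nhds ?_) ?_
  · -- `f q ∈ V`
    obtain ⟨d, hd⟩ := hsB q
    have hP'' : comap (algebraMap (integralClosure A (FractionRing A)) _) (comap ιC d) ∈
        comap (algebraMap (integralClosure A (FractionRing A))
          (Algebra.adjoin (integralClosure A (FractionRing A))
            ({algebraMap B (FractionRing B) b} : Set (FractionRing B)))) '' (basicOpen βC) :=
      ⟨comap ιC d, (hmem d).mp (hd ▸ hqb), rfl⟩
    intro P' hP'
    have h1 : comap (algebraMap A (integralClosure A (FractionRing A))) P' =
        comap (algebraMap A B) q := hP'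
    have h2 := htrans d
    rw [hd] at h2
    have h3 : P' = comap (algebraMap (integralClosure A (FractionRing A)) _) (comap ιC d) := by
      apply PrimeSpectrum.ext
      refine eq_of_comap_eq_of_isUnibranch A (q.asIdeal.comap (algebraMap A B)) hU _ _ ?_ ?_
      · exact congrArg PrimeSpectrum.asIdeal h1
      · exact (congrArg PrimeSpectrum.asIdeal h2).symm
    rw [h3]
    exact hP''
  · -- `V ⊆ f '' N`
    intro p₁ hp₁
    obtain ⟨P₁, hP₁⟩ := hsν p₁
    obtain ⟨c₁, hc₁, hc₁P⟩ := hp₁ (show P₁ ∈ _ ⁻¹' {p₁} from hP₁)
    obtain ⟨d₁, hd₁⟩ := hsC c₁
    refine ⟨comap ιB d₁, hbN ((hmem d₁).mpr (hd₁ ▸ hc₁)), ?_⟩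
    rw [htrans d₁, hd₁, hc₁P, hP₁]

end Groth.Agent.H2.UniOp
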