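import Mathlib
import Groth.Prelude.Def_CAlg2
import Groth.Agent.H4.Brn1

/-! # Unibranch local rings and nilpotent quotients (helper2) -/

set_option autoImplicit false
set_option linter.style.haveILetI false
universe u

namespace Groth.Agent.H2.UniOp

open Groth.Agent.H4.Brn

/-- a surjection of local rings with nil kernel preserves being unibranch. -/
theorem isUnibranch_of_surjective_of_ker_le_nilradical {R R' : Type u} [CommRing R] [IsLocalRing R]
    [CommRing R'] [IsLocalRing R'] (θ : R →+* R') (hθ : Function.Surjective θ)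
    (hker : RingHom.ker θ ≤ nilradical R) (hR : CAlg2.IsUnibranch R) : CAlg2.IsUnibranch R' := by
  have hnil : ∀ a ∈ nilradical R, ((Ideal.Quotient.mk (nilradical R')).comp θ) a = 0 := by
    intro a ha
    show Ideal.Quotient.mk (nilradical R') (θ a) = 0
    rw [Ideal.Quotient.eq_zero_iff_mem, mem_nilradical]
    exact (mem_nilradical.mp ha).map θ
  let θ' : CAlg2.red R →+* CAlg2.red R' :=
    Ideal.Quotient.lift (nilradical R) ((Ideal.Quotient.mk (nilradical R')).comp θ) hnil
  have hθ' : ∀ a : R, θ' (Ideal.Quotient.mk (nilradical R) a) =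
      Ideal.Quotient.mk (nilradical R') (θ a) := fun a => Ideal.Quotient.lift_mk _ _ _
  have hbij : Function.Bijective θ' := by
    constructor
    · rw [injective_iff_map_eq_zero]
      intro d hd
      obtain ⟨a, rfl⟩ := Ideal.Quotient.mk_surjective d
      rw [hθ', Ideal.Quotient.eq_zero_iff_mem, mem_nilradical] at hd
      obtain ⟨n, hn⟩ := hd
      rw [Ideal.Quotient.eq_zero_iff_mem, mem_nilradical]
      have h1 : a ^ n ∈ RingHom.ker θ := by rw [RingHom.mem_ker, map_pow]; exact hn
      obtain ⟨m, hm⟩ := mem_nilradical.mp (hker h1)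
      exact ⟨n * m, by rw [pow_mul]; exact hm⟩
    · intro d
      obtain ⟨a', rfl⟩ := Ideal.Quotient.mk_surjective d
      obtain ⟨a, rfl⟩ := hθ a'
      exact ⟨Ideal.Quotient.mk (nilradical R) a, hθ' a⟩
  let e : CAlg2.red R ≃+* CAlg2.red R' := RingEquiv.ofBijective θ' hbij
  haveI : IsDomain (CAlg2.red R) := hR.1
  haveI : IsLocalRing (CAlg2.normRed R) := hR.2
  refine ⟨e.toMulEquiv.isDomain_iff.mp inferInstance, ?_⟩
  exact RingEquiv.isLocalRing (icEquiv e)

/-- **transfer of unibranchness to the localization of the reduction.** -/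
theorem isUnibranch_localization_quotient {R O : Type u} [CommRing R] (p : Ideal R) [p.IsPrime]
    [CommRing O] [IsLocalRing O] [Algebra R O] [IsLocalization.AtPrime O p]
    (hO : CAlg2.IsUnibranch O) (I : Ideal R) (hI : I ≤ nilradical R) (p₀ : Ideal (R ⧸ I))
    [p₀.IsPrime] (hp₀ : p₀.comap (Ideal.Quotient.mk I) = p) :
    CAlg2.IsUnibranch (Localization.AtPrime p₀) := by
  have hunit : ∀ s : p.primeCompl, IsUnit (((algebraMap (R ⧸ I) (Localization.AtPrime p₀)).comp
      (Ideal.Quotient.mk I)) s) := by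
    intro s
    refine IsLocalization.map_units (Localization.AtPrime p₀)
      (⟨Ideal.Quotient.mk I s, ?_⟩ : p₀.primeCompl)
    intro hs
    have : (s : R) ∈ p₀.comap (Ideal.Quotient.mk I) := hs
    rw [hp₀] at this
    exact s.2 this
  let θ : O →+* Localization.AtPrime p₀ := IsLocalization.lift (M := p.primeCompl) hunit
  have hθalg : ∀ a : R, θ (algebraMap R O a) =
      algebraMap (R ⧸ I) (Localization.AtPrime p₀) (Ideal.Quotient.mk I a) :=
    fun a => IsLocalization.lift_eq hunit a
  refine isUnibranch_of_surjective_of_ker_le_nilradical θ ?_ ?_ hO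
  · intro y
    obtain ⟨a₁, s₁, rfl⟩ := IsLocalization.exists_mk'_eq p₀.primeCompl y
    obtain ⟨a, rfl⟩ := Ideal.Quotient.mk_surjective a₁
    obtain ⟨s, hs⟩ := Ideal.Quotient.mk_surjective (s₁ : R ⧸ I)
    have hsp : s ∈ p.primeCompl := by
      intro h
      rw [← hp₀] at h
      have : Ideal.Quotient.mk I s ∈ p₀ := h
      rw [hs] at this
      exact s₁.2 this
    refine ⟨IsLocalization.mk' O a (⟨s, hsp⟩ : p.primeCompl), ?_⟩
    rw [IsLocalization.eq_mk'_iff_mul_eq, ← hs, ← hθalg, ← map_mul,
      IsLocalization.mk'_spec, hθalg]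
  · intro x hx
    rw [RingHom.mem_ker] at hx
    obtain ⟨a, s, rfl⟩ := IsLocalization.exists_mk'_eq p.primeCompl x
    have h1 : θ (algebraMap R O a) = 0 := by
      have : algebraMap R O a = IsLocalization.mk' O a s * algebraMap R O s :=
        (IsLocalization.mk'_spec O a s).symm
      rw [this, map_mul, hx, zero_mul]
    rw [hθalg, IsLocalization.map_eq_zero_iff p₀.primeCompl] at h1
    obtain ⟨t₁, ht₁⟩ := h1
    obtain ⟨t, ht⟩ := Ideal.Quotient.mk_surjective (t₁ : R ⧸ I)
    have htp : t ∈ p.primeCompl := by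
      intro h
      rw [← hp₀] at h
      have : Ideal.Quotient.mk I t ∈ p₀ := h
      rw [ht] at this
      exact t₁.2 this
    have h2 : t * a ∈ I := by
      rw [← Ideal.Quotient.eq_zero_iff_mem, map_mul, ht]
      exact ht₁
    obtain ⟨n, hn⟩ := mem_nilradical.mp (hI h2)
    have h3 : algebraMap R O (a ^ n) = 0 := by
      rw [IsLocalization.map_eq_zero_iff p.primeCompl]
      refine ⟨⟨t ^ n, pow_mem htp n⟩, ?_⟩
      show t ^ n * a ^ n = 0
      rw [← mul_pow]; exact hn
    rw [mem_nilradical]
    refine ⟨n, ?_⟩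
    have h4 : IsLocalization.mk' O a s * algebraMap R O s = algebraMap R O a :=
      IsLocalization.mk'_spec O a s
    have hu : IsUnit (algebraMap R O (s : R)) := IsLocalization.map_units O s
    have h5 : (IsLocalization.mk' O a s) ^ n * (algebraMap R O (s : R)) ^ n = 0 := by
      rw [← mul_pow, h4, ← map_pow, h3]
    exact (hu.pow n).mul_left_eq_zero.mp h5

end Groth.Agent.H2.UniOp
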