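import Mathlib
import Groth.Agent.Lib.Helper2.UniOpB
import Groth.Agent.Lib.Helper2.UniOpC

/-! # Openness of a finite type algebra at a quasi-finite prime over a unibranch point (helper2) -/

set_option autoImplicit false
set_option linter.style.haveILetI false
universe u

namespace Groth.Agent.H2.UniOp

open PrimeSpectrum

/-- **Zariski's main theorem, topological form**: at a quasi-finite prime `q` of a finite type
algebra `S` over `R`, every neighbourhood of `q` contains the full preimage of a basic open subset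
of the spectrum of the integral closure of `R` in `S`, mapping bijectively onto it. -/
theorem exists_basicOpen_lift {R S : Type u} [CommRing R] [CommRing S] [Algebra R S]
    [Algebra.FiniteType R S] (q : PrimeSpectrum S) [Algebra.QuasiFiniteAt R q.asIdeal]
    (N : Set (PrimeSpectrum S)) (hN : N ∈ nhds q) :
    ∃ b' : integralClosure R S, (b' : S) ∉ q.asIdeal ∧
      ∀ 𝔟 : PrimeSpectrum (integralClosure R S), b' ∉ 𝔟.asIdeal →
        ∃ 𝔮' ∈ N, comap (integralClosure R S).val.toRingHom 𝔮' = 𝔟 := by
  obtain ⟨_, ⟨_, ⟨c, rfl⟩, rfl⟩, hqc, hcN⟩ := (isBasis_basic_opens.mem_nhds_iff).mp hN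
  obtain ⟨r', hr'q, hbij⟩ := Algebra.ZariskisMainProperty.of_finiteType (R := R) q.asIdeal
  obtain ⟨b, m, hbm⟩ := Localization.awayMap_surjective_iff.mp hbij.2 c
  have hbm' : (b : S) = (r' : S) ^ m * c := hbm
  refine ⟨r' * b, ?_, ?_⟩
  · show (r' : S) * (b : S) ∉ q.asIdeal
    rw [hbm']
    intro h
    rcases q.2.mem_or_mem h with h1 | h1
    · exact hr'q h1
    · rcases q.2.mem_or_mem h1 with h2 | h2
      · exact hr'q (q.2.mem_of_pow_mem m h2)
      · exact hqc h2
  · intro 𝔟 h𝔟
    have hr'𝔟 : r' ∉ 𝔟.asIdeal := fun h => h𝔟 (𝔟.asIdeal.mul_mem_right _ h)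
    -- lift to the localizations
    have hrange := localization_away_comap_range (Localization.Away r') r'
    have h𝔟mem : 𝔟 ∈ Set.range (comap (algebraMap (integralClosure R S) (Localization.Away r'))) := by
      rw [hrange]; exact hr'𝔟
    obtain ⟨𝔟₁, h𝔟₁⟩ := h𝔟mem
    let e : Localization.Away r' ≃+* Localization.Away ((integralClosure R S).val.toRingHom r') :=
      RingEquiv.ofBijective _ hbij
    let 𝔮₁ : PrimeSpectrum (Localization.Away ((integralClosure R S).val.toRingHom r')) :=
      comap (e.symm : _ →+* Localization.Away r') 𝔟₁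
    let 𝔮' : PrimeSpectrum S := comap (algebraMap S _) 𝔮₁
    have hcontr : comap (integralClosure R S).val.toRingHom 𝔮' = 𝔟 := by
      have hsq : (algebraMap S (Localization.Away ((integralClosure R S).val.toRingHom r'))).comp
          (integralClosure R S).val.toRingHom =
          (Localization.awayMap (integralClosure R S).val.toRingHom r').comp
            (algebraMap (integralClosure R S) (Localization.Away r')) :=
        (IsLocalization.map_comp _).symm
      show comap _ (comap _ (comap _ 𝔟₁)) = 𝔟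
      rw [← comap_comp_apply, ← comap_comp_apply, hsq, ← RingHom.comp_assoc]
      have hid : (e.symm : _ →+* Localization.Away r').comp
          (Localization.awayMap (integralClosure R S).val.toRingHom r') = RingHom.id _ :=
        RingHom.ext fun y => e.symm_apply_apply y
      rw [hid, RingHom.id_comp, h𝔟₁]
    refine ⟨𝔮', hcN ?_, hcontr⟩
    -- `c ∉ 𝔮'`
    show c ∉ 𝔮'.asIdeal
    intro hc
    apply h𝔟
    rw [← hcontr]
    show (r' : S) * (b : S) ∈ 𝔮'.asIdeal
    rw [hbm']
    exact 𝔮'.asIdeal.mul_mem_left _ (𝔮'.asIdeal.mul_mem_left _ hc)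

set_option maxHeartbeats 1000000 in
/-- **EGA IV 14.4.1.2 / SGA 3 VI_B**: a finite type algebra is open at a quasi-finite prime lying over
a unibranch point, when some prime below it contracts to the nilradical of the base. -/
theorem isOpenAt_comap_of_quasiFiniteAt {R S O : Type u} [CommRing R] [CommRing S] [Algebra R S]
    [Algebra.FiniteType R S] (q : PrimeSpectrum S) [Algebra.QuasiFiniteAt R q.asIdeal]
    (q₀ : Ideal S) [q₀.IsPrime] (hq₀q : q₀ ≤ q.asIdeal)
    (hq₀R : q₀.comap (algebraMap R S) ≤ nilradical R)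
    [CommRing O] [IsLocalRing O] [Algebra R O]
    [IsLocalization.AtPrime O (q.asIdeal.comap (algebraMap R S))]
    (hO : CAlg2.IsUnibranch O) :
    EGA43.IsOpenAt (comap (algebraMap R S)) q := by
  classical
  -- the nilradical of `R` is prime
  have hnil : nilradical R = q₀.comap (algebraMap R S) :=
    le_antisymm (nilradical_le_prime _) hq₀R
  haveI hnilp : (nilradical R).IsPrime := hnil ▸ inferInstance
  -- the prime `𝔮₀'` of the integral closure
  let 𝔮₀' : Ideal (integralClosure R S) := q₀.comap (integralClosure R S).val.toRingHom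
  haveI : 𝔮₀'.IsPrime := Ideal.comap_isPrime _ _
  have hkill : ∀ a ∈ nilradical R, ((Ideal.Quotient.mk 𝔮₀').comp
      (algebraMap R (integralClosure R S))) a = 0 := by
    intro a ha
    show Ideal.Quotient.mk 𝔮₀' (algebraMap R (integralClosure R S) a) = 0
    rw [Ideal.Quotient.eq_zero_iff_mem]
    show algebraMap R S a ∈ q₀
    rw [hnil] at ha
    exact ha
  let φ₀ : (R ⧸ nilradical R) →+* (integralClosure R S ⧸ 𝔮₀') :=
    Ideal.Quotient.lift (nilradical R) ((Ideal.Quotient.mk 𝔮₀').comp
      (algebraMap R (integralClosure R S))) hkill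
  have hφ₀ : ∀ a : R, φ₀ (Ideal.Quotient.mk _ a) =
      Ideal.Quotient.mk 𝔮₀' (algebraMap R (integralClosure R S) a) :=
    fun a => Ideal.Quotient.lift_mk _ _ _
  letI alg₀ : Algebra (R ⧸ nilradical R) (integralClosure R S ⧸ 𝔮₀') := φ₀.toAlgebra
  have hinj : Function.Injective (algebraMap (R ⧸ nilradical R) (integralClosure R S ⧸ 𝔮₀')) := by
    show Function.Injective φ₀
    rw [injective_iff_map_eq_zero]
    intro d hd
    obtain ⟨a, rfl⟩ := Ideal.Quotient.mk_surjective d
    rw [hφ₀, Ideal.Quotient.eq_zero_iff_mem] at hd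
    rw [Ideal.Quotient.eq_zero_iff_mem, hnil]
    exact hd
  haveI : IsScalarTower R (R ⧸ nilradical R) (integralClosure R S ⧸ 𝔮₀') :=
    IsScalarTower.of_algebraMap_eq fun a => (hφ₀ a).symm
  haveI : Algebra.IsIntegral R (integralClosure R S ⧸ 𝔮₀') :=
    Algebra.IsIntegral.trans (integralClosure R S)
  haveI : Algebra.IsIntegral (R ⧸ nilradical R) (integralClosure R S ⧸ 𝔮₀') :=
    Algebra.IsIntegral.tower_top (R := R)
  -- the point `qb`
  have hqmem : comap (integralClosure R S).val.toRingHom q ∈
      Set.range (comap (Ideal.Quotient.mk 𝔮₀')) := by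
    rw [range_comap_of_surjective _ _ Ideal.Quotient.mk_surjective, Ideal.mk_ker]
    intro y hy
    exact hq₀q hy
  obtain ⟨qb, hqb⟩ := hqmem
  -- the commutative square of spectra
  have hsquare : ∀ 𝔟₀ : PrimeSpectrum (integralClosure R S ⧸ 𝔮₀'),
      comap (Ideal.Quotient.mk (nilradical R)) (comap φ₀ 𝔟₀) =
        comap (algebraMap R (integralClosure R S)) (comap (Ideal.Quotient.mk 𝔮₀') 𝔟₀) := by
    intro 𝔟₀
    rw [← comap_comp_apply, ← comap_comp_apply]
    congr 1
  have hsquare' : ∀ 𝔮' : PrimeSpectrum S, comap (algebraMap R S) 𝔮' =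
      comap (algebraMap R (integralClosure R S)) (comap (integralClosure R S).val.toRingHom 𝔮') := by
    intro 𝔮'
    rw [← comap_comp_apply]
    rfl
  -- unibranch hypothesis for `(i)`
  have hU₀ : CAlg2.IsUnibranch (Localization.AtPrime
      (qb.asIdeal.comap (algebraMap (R ⧸ nilradical R) (integralClosure R S ⧸ 𝔮₀')))) := by
    refine isUnibranch_localization_quotient (q.asIdeal.comap (algebraMap R S)) hO (nilradical R)
      le_rfl _ ?_
    have h1 := hsquare qb
    rw [hqb, ← hsquare' q] at h1
    exact congrArg PrimeSpectrum.asIdeal h1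
  have hopen := isOpenAt_comap_of_isUnibranch (R ⧸ nilradical R) (integralClosure R S ⧸ 𝔮₀')
    hinj qb hU₀
  -- the homeomorphism `Spec (R/nil) ≅ Spec R`
  have hhomeo : IsOpenMap (comap (Ideal.Quotient.mk (nilradical R))) := by
    have hemb := isClosedEmbedding_comap_of_surjective (R ⧸ nilradical R)
      (Ideal.Quotient.mk (nilradical R)) Ideal.Quotient.mk_surjective
    have hsurj : Function.Surjective (comap (Ideal.Quotient.mk (nilradical R))) := by
      rw [← Set.range_eq_univ, range_comap_of_surjective _ _ Ideal.Quotient.mk_surjective,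
        Ideal.mk_ker]
      ext P
      simp only [mem_zeroLocus, Set.mem_univ, iff_true]
      exact nilradical_le_prime P.asIdeal
    exact (hemb.toIsEmbedding.toHomeomorphOfSurjective hsurj).isOpenMap
  -- assembly
  intro N hN
  obtain ⟨b', hb'q, hlift⟩ := exists_basicOpen_lift (R := R) q N hN
  have hW₀ : (comap (Ideal.Quotient.mk 𝔮₀')) ⁻¹' ((basicOpen b' :
      TopologicalSpace.Opens (PrimeSpectrum (integralClosure R S))) : Set _) ∈ nhds qb := by
    refine ((basicOpen b').2.preimage (continuous_comap (Ideal.Quotient.mk 𝔮₀'))).mem_nhds ?_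
    show comap (Ideal.Quotient.mk 𝔮₀') qb ∈ basicOpen b'
    rw [hqb]
    exact hb'q
  have h1 := hopen _ hW₀
  have h2 := hhomeo.image_mem_nhds h1
  have h3 : comap (Ideal.Quotient.mk (nilradical R)) (comap
      (algebraMap (R ⧸ nilradical R) (integralClosure R S ⧸ 𝔮₀')) qb) = comap (algebraMap R S) q := by
    have := hsquare qb
    rw [hqb, ← hsquare' q] at this
    exact this
  rw [h3] at h2
  refine Filter.mem_of_superset h2 ?_
  rintro _ ⟨_, ⟨𝔟₀, h𝔟₀, rfl⟩, rfl⟩
  obtain ⟨𝔮', h𝔮'N, h𝔮'⟩ := hlift (comap (Ideal.Quotient.mk 𝔮₀') 𝔟₀) h𝔟₀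
  refine ⟨𝔮', h𝔮'N, ?_⟩
  rw [hsquare' 𝔮', h𝔮']
  exact (hsquare 𝔟₀).symm

end Groth.Agent.H2.UniOp
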