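import Mathlib
import Groth.Agent.Lib.Helper2.UniOpD
import Groth.Agent.Lib.Helper1.UniOpen

/-! # Openness of a morphism at an isolated point of its fibre over a unibranch point (helper2) -/

set_option autoImplicit false
set_option linter.style.haveILetI false
universe u

namespace Groth.Agent.H2.UniOp

open AlgebraicGeometry CategoryTheory CategoryTheory.Limits TopologicalSpace Topology

variable {X Y : Scheme.{u}}

/-- a point isolated in its fibre is a quasi-finite point. -/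
theorem quasiFiniteAt_of_nhdsWithin_eq_pure (f : X ⟶ Y) [LocallyOfFiniteType f] (x : X)
    (hiso : nhdsWithin x (f.base ⁻¹' {f.base x}) = pure x) : f.QuasiFiniteAt x := by
  rw [Scheme.Hom.quasiFiniteAt_iff_isOpen_singleton_asFiber,
    ← (f.fiberHomeo (f x)).isOpen_image]
  simp only [Set.image_singleton, Scheme.Hom.asFiber, Homeomorph.apply_symm_apply]
  rw [isOpen_singleton_iff_nhds_eq_pure]
  apply Filter.map_injective Subtype.val_injective
  rw [Filter.map_pure]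
  exact (map_nhds_subtype_val _).trans hiso

set_option backward.isDefEq.respectTransparency false in
/-- **EGA IV 14.4.1.2 / SGA 3 VI_B 2.5.1 (ii)**. -/
theorem isOpenAt_of_isUnibranch [IrreducibleSpace X] [IrreducibleSpace Y] (f : X ⟶ Y)
    [LocallyOfFiniteType f] (hdense : DenseRange f.base) (x : X)
    (hiso : nhdsWithin x (f.base ⁻¹' {f.base x}) = pure x)
    (hy : CAlg2.IsUnibranch (Y.presheaf.stalk (f.base x))) :
    EGA43.IsOpenAt f.base x := by
  haveI : IsDominant f := ⟨hdense⟩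
  have hqfx : f.QuasiFiniteAt x := quasiFiniteAt_of_nhdsWithin_eq_pure f x hiso
  obtain ⟨V, hV, hxV⟩ : ∃ V : Y.Opens, IsAffineOpen V ∧ f.base x ∈ V := by
    obtain ⟨_, ⟨V, hV, rfl⟩, hx, -⟩ :=
      Y.isBasis_affineOpens.exists_subset_of_mem_open (Set.mem_univ (f.base x)) isOpen_univ
    exact ⟨V, hV, hx⟩
  obtain ⟨U, hU, hxU, hUV⟩ : ∃ U : X.Opens, IsAffineOpen U ∧ x ∈ U ∧ U ≤ f ⁻¹ᵁ V := by
    obtain ⟨_, ⟨U, hU, rfl⟩, hx, hsub⟩ := X.isBasis_affineOpens.exists_subset_of_mem_open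
      (hxV : x ∈ (f ⁻¹ᵁ V : Set X)) (f ⁻¹ᵁ V).isOpen
    exact ⟨U, hU, hx, hsub⟩
  have hξx : genericPoint X ⤳ x := genericPoint_specializes x
  have hξU : genericPoint X ∈ U := hξx.mem_open U.isOpen hxU
  letI alg : Algebra Γ(Y, V) Γ(X, U) := (f.appLE V U hUV).hom.toAlgebra
  haveI hft : Algebra.FiniteType Γ(Y, V) Γ(X, U) :=
    HasRingHomProperty.appLE (P := @LocallyOfFiniteType) (f := f) inferInstance
      ⟨V, hV⟩ ⟨U, hU⟩ hUV
  haveI hqf : Algebra.QuasiFiniteAt Γ(Y, V) (hU.primeIdealOf ⟨x, hxU⟩).asIdeal :=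
    hqfx.quasiFiniteAt hU hV hUV hxU
  have hq₀q : (hU.primeIdealOf ⟨genericPoint X, hξU⟩).asIdeal ≤
      (hU.primeIdealOf ⟨x, hxU⟩).asIdeal :=
    Groth.Agent.H1.DimLoc.primeIdealOf_le_of_specializes hU x (genericPoint X) hxU hξU hξx
  have hqp : (hU.primeIdealOf ⟨x, hxU⟩).asIdeal.under Γ(Y, V) =
      (hV.primeIdealOf ⟨f.base x, hxV⟩).asIdeal :=
    ((Groth.Agent.H1.DimIneq.liesOver_primeIdealOf f hU hV hUV x hxU).over).symm
  have hq₀p : (hU.primeIdealOf ⟨genericPoint X, hξU⟩).asIdeal.under Γ(Y, V) =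
      (hV.primeIdealOf ⟨f.base (genericPoint X), hUV hξU⟩).asIdeal :=
    ((Groth.Agent.H1.DimIneq.liesOver_primeIdealOf f hU hV hUV (genericPoint X) hξU).over).symm
  have hq₀R : (hU.primeIdealOf ⟨genericPoint X, hξU⟩).asIdeal.under Γ(Y, V) ≤
      nilradical Γ(Y, V) := by
    rw [hq₀p, nilradical_eq_sInf]
    refine le_sInf fun J hJ => ?_
    obtain ⟨y₁, hy₁V, hy₁⟩ := Groth.Agent.H5.CIcrit.exists_primeIdealOf_eq hV ⟨J, hJ⟩
    have hfξ : f.base (genericPoint X) = genericPoint Y :=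
      Groth.Agent.H1.IntBC.map_genericPoint_of_isDominant f
    have h1 : f.base (genericPoint X) ⤳ y₁ := by rw [hfξ]; exact genericPoint_specializes y₁
    have h2 := Groth.Agent.H1.DimLoc.primeIdealOf_le_of_specializes hV y₁
      (f.base (genericPoint X)) hy₁V (hUV hξU) h1
    rw [hy₁] at h2
    exact h2
  letI algO : Algebra Γ(Y, V) (Y.presheaf.stalk (f.base x)) :=
    TopCat.Presheaf.algebra_section_stalk Y.presheaf ⟨f.base x, hxV⟩
  haveI hloc : IsLocalization.AtPrime (Y.presheaf.stalk (f.base x))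
      ((hU.primeIdealOf ⟨x, hxU⟩).asIdeal.under Γ(Y, V)) := by
    have h0 := hV.isLocalization_stalk ⟨f.base x, hxV⟩
    have hM : (Ideal.under Γ(Y, V) (hU.primeIdealOf ⟨x, hxU⟩).asIdeal).primeCompl =
        (hV.primeIdealOf ⟨f.base x, hxV⟩).asIdeal.primeCompl := by
      ext r
      show r ∉ _ ↔ r ∉ _
      rw [hqp]
    show IsLocalization (Ideal.under Γ(Y, V) (hU.primeIdealOf ⟨x, hxU⟩).asIdeal).primeCompl _
    rw [hM]; exact h0
  have hring := isOpenAt_comap_of_quasiFiniteAt (R := Γ(Y, V)) (S := Γ(X, U))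
    (O := Y.presheaf.stalk (f.base x)) (hU.primeIdealOf ⟨x, hxU⟩)
    (hU.primeIdealOf ⟨genericPoint X, hξU⟩).asIdeal hq₀q hq₀R hy
  -- topological transfer
  have sqc := IsAffineOpen.SpecMap_appLE_fromSpec f hV hU hUV
  have hx₀ : hU.fromSpec.base (hU.primeIdealOf ⟨x, hxU⟩) = x := hU.fromSpec_primeIdealOf ⟨x, hxU⟩
  have hy₀ : hV.fromSpec.base ((Spec.map (f.appLE V U hUV)).base (hU.primeIdealOf ⟨x, hxU⟩)) =
      f.base x := by
    rw [← Scheme.Hom.comp_apply, sqc, Scheme.Hom.comp_apply, hx₀]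
  intro N hN
  have hN' : hU.fromSpec.base ⁻¹' N ∈ nhds (hU.primeIdealOf ⟨x, hxU⟩) := by
    apply hU.fromSpec.continuous.continuousAt
    rw [hx₀]; exact hN
  have h1 := hring _ hN'
  have h2 : ⇑hV.fromSpec.base '' (PrimeSpectrum.comap (algebraMap Γ(Y, V) Γ(X, U)) ''
      (hU.fromSpec.base ⁻¹' N)) ∈ nhds (f.base x) := by
    rw [← hy₀]
    exact hV.fromSpec.isOpenEmbedding.isOpenMap.image_mem_nhds h1
  refine Filter.mem_of_superset h2 ?_
  rintro _ ⟨_, ⟨z₀, hz₀, rfl⟩, rfl⟩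
  refine ⟨hU.fromSpec.base z₀, hz₀, ?_⟩
  rw [← Scheme.Hom.comp_apply, ← sqc, Scheme.Hom.comp_apply]
  rfl

end Groth.Agent.H2.UniOp
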