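import Mathlib

/-!
Unipotent actions: if `H₂` normalizes `H₁` and both act unipotently then so does `H₁ ⊔ H₂`.
Formulated with sub-`K`-modules of an algebra.
-/

namespace Groth.Agent.H2.Unip

universe u v

section algebra

variable {K : Type u} {E : Type v} [CommSemiring K] [Semiring E] [Algebra K E]

theorem list_prod_mem_pow (c : Submodule K E) (l : List E) (hl : ∀ x ∈ l, x ∈ c) :
    l.prod ∈ c ^ l.length := by
  induction l with
  | nil => simp [Submodule.one_le.mp le_rfl]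
  | cons a l ih =>
    rw [List.prod_cons, List.length_cons, pow_succ']
    exact Submodule.mul_mem_mul (hl a (by simp)) (ih fun x hx => hl x (by simp [hx]))

/-- nilpotency of the sum -/
theorem pow_eq_bot (a₁ a₂ : Submodule K E) (n₁ n₂ : ℕ) (h₁ : a₁ ^ n₁ = ⊥) (h₂ : a₂ ^ n₂ = ⊥)
    (h11 : a₁ * a₁ ≤ a₁) (h22 : a₂ * a₂ ≤ a₂) (h21 : a₂ * a₁ ≤ a₁ * a₂ ⊔ a₁) :
    (a₁ ⊔ a₂ ⊔ a₁ * a₂) ^ ((n₂ + 1) * (n₁ + 1)) = ⊥ := by
  have h₁' : a₁ ^ (n₁ + 1) = ⊥ := by rw [pow_succ, h₁, Submodule.bot_mul]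
  have h₂' : a₂ ^ (n₂ + 1) = ⊥ := by rw [pow_succ, h₂, Submodule.bot_mul]
  set B : Submodule K E := 1 ⊔ a₂ with hB
  set L : Submodule K E := a₁ * B with hL
  have ha₂B : a₂ ≤ B := le_sup_right
  have h1B : (1 : Submodule K E) ≤ B := le_sup_left
  have hBB : B * B ≤ B := by
    rw [hB, Submodule.mul_sup, Submodule.sup_mul, Submodule.sup_mul, one_mul, one_mul, mul_one]
    refine sup_le (sup_le le_sup_left le_sup_right) (sup_le le_sup_right (h22.trans le_sup_right))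
  have hBa : B * a₁ ≤ a₁ * B := by
    rw [hB, Submodule.sup_mul, one_mul, Submodule.mul_sup, mul_one]
    exact sup_le le_sup_left (h21.trans (sup_le le_sup_right le_sup_left))
  have hLB : L * B ≤ L := by
    rw [hL, mul_assoc]
    exact mul_le_mul' le_rfl hBB
  have hBL : B * L ≤ L := by
    calc B * L = B * a₁ * B := by rw [hL, mul_assoc]
      _ ≤ a₁ * B * B := mul_le_mul' hBa le_rfl
      _ = a₁ * (B * B) := mul_assoc _ _ _
      _ ≤ a₁ * B := mul_le_mul' le_rfl hBB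
  have hLL : L * L ≤ L := by
    calc L * L = a₁ * (B * L) := by rw [hL, mul_assoc]
      _ ≤ a₁ * L := mul_le_mul' le_rfl hBL
      _ = a₁ * a₁ * B := by rw [hL, mul_assoc]
      _ ≤ a₁ * B := mul_le_mul' h11 le_rfl
  have ha₂pow : ∀ m : ℕ, a₂ ^ (m + 1) ≤ a₂ := by
    intro m
    induction m with
    | zero => simp
    | succ m ih =>
      rw [pow_succ]
      exact (mul_le_mul' ih le_rfl).trans h22
  have hcle : a₁ ⊔ a₂ ⊔ a₁ * a₂ ≤ L ⊔ a₂ := by
    refine sup_le (sup_le ?_ le_sup_right) ?_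
    · calc a₁ = a₁ * 1 := (mul_one _).symm
        _ ≤ a₁ * B := mul_le_mul' le_rfl h1B
        _ ≤ L ⊔ a₂ := le_sup_left
    · exact (mul_le_mul' le_rfl ha₂B).trans le_sup_left
  have hpow : ∀ m : ℕ, (L ⊔ a₂) ^ (m + 1) ≤ L ⊔ a₂ ^ (m + 1) := by
    intro m
    induction m with
    | zero => simp
    | succ m ih =>
      rw [pow_succ]
      calc (L ⊔ a₂) ^ (m + 1) * (L ⊔ a₂) ≤ (L ⊔ a₂ ^ (m + 1)) * (L ⊔ a₂) := mul_le_mul' ih le_rfl
        _ = (L * L ⊔ a₂ ^ (m + 1) * L) ⊔ (L * a₂ ⊔ a₂ ^ (m + 1) * a₂) := by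
          rw [Submodule.mul_sup, Submodule.sup_mul, Submodule.sup_mul]
        _ ≤ L ⊔ a₂ ^ (m + 1 + 1) := by
          refine sup_le (sup_le (hLL.trans le_sup_left) ?_) (sup_le ?_ ?_)
          · exact ((mul_le_mul' ((ha₂pow m).trans ha₂B) le_rfl).trans hBL).trans le_sup_left
          · exact ((mul_le_mul' le_rfl ha₂B).trans hLB).trans le_sup_left
          · rw [← pow_succ]; exact le_sup_right
  have hLpow : ∀ m : ℕ, L ^ (m + 1) ≤ a₁ ^ (m + 1) * B := by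
    intro m
    induction m with
    | zero => simp [hL]
    | succ m ih =>
      rw [pow_succ]
      calc L ^ (m + 1) * L ≤ a₁ ^ (m + 1) * B * (a₁ * B) := mul_le_mul' ih le_rfl
        _ = a₁ ^ (m + 1) * (B * a₁) * B := by simp only [mul_assoc]
        _ ≤ a₁ ^ (m + 1) * (a₁ * B) * B := mul_le_mul' (mul_le_mul' le_rfl hBa) le_rfl
        _ = a₁ ^ (m + 1 + 1) * (B * B) := by rw [pow_succ a₁ (m + 1)]; simp only [mul_assoc]
        _ ≤ a₁ ^ (m + 1 + 1) * B := mul_le_mul' le_rfl hBB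
  rw [eq_bot_iff, pow_mul]
  calc ((a₁ ⊔ a₂ ⊔ a₁ * a₂) ^ (n₂ + 1)) ^ (n₁ + 1) ≤ ((L ⊔ a₂) ^ (n₂ + 1)) ^ (n₁ + 1) :=
        pow_le_pow_left' (pow_le_pow_left' hcle _) _
    _ ≤ (L ⊔ a₂ ^ (n₂ + 1)) ^ (n₁ + 1) := pow_le_pow_left' (hpow n₂) _
    _ = L ^ (n₁ + 1) := by rw [h₂', sup_bot_eq]
    _ ≤ a₁ ^ (n₁ + 1) * B := hLpow n₁
    _ = ⊥ := by rw [h₁', Submodule.bot_mul]

theorem c_mul_c_le (a₁ a₂ : Submodule K E)
    (h11 : a₁ * a₁ ≤ a₁) (h22 : a₂ * a₂ ≤ a₂) (h21 : a₂ * a₁ ≤ a₁ * a₂ ⊔ a₁) :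
    (a₁ ⊔ a₂ ⊔ a₁ * a₂) * (a₁ ⊔ a₂ ⊔ a₁ * a₂) ≤ a₁ ⊔ a₂ ⊔ a₁ * a₂ := by
  set c : Submodule K E := a₁ ⊔ a₂ ⊔ a₁ * a₂ with hc
  have h1c : a₁ ≤ c := le_sup_left.trans le_sup_left
  have h2c : a₂ ≤ c := le_sup_right.trans le_sup_left
  have h12c : a₁ * a₂ ≤ c := le_sup_right
  have h122 : a₁ * a₂ * a₂ ≤ a₁ * a₂ := by
    rw [mul_assoc]; exact mul_le_mul' le_rfl h22
  have h112 : a₁ * (a₁ * a₂) ≤ a₁ * a₂ := by
    rw [← mul_assoc]; exact mul_le_mul' h11 le_rfl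
  have hA1 : a₁ * c ≤ c := by
    rw [hc, Submodule.mul_sup, Submodule.mul_sup]
    exact sup_le (sup_le (h11.trans h1c) h12c) (h112.trans h12c)
  have hA2 : a₂ * c ≤ c := by
    rw [hc, Submodule.mul_sup, Submodule.mul_sup]
    refine sup_le (sup_le (h21.trans (sup_le h12c h1c)) (h22.trans h2c)) ?_
    calc a₂ * (a₁ * a₂) = a₂ * a₁ * a₂ := (mul_assoc _ _ _).symm
      _ ≤ (a₁ * a₂ ⊔ a₁) * a₂ := mul_le_mul' h21 le_rfl
      _ = a₁ * a₂ * a₂ ⊔ a₁ * a₂ := Submodule.sup_mul _ _ _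
      _ ≤ a₁ * a₂ := sup_le h122 le_rfl
      _ ≤ c := h12c
  calc c * c = a₁ * c ⊔ a₂ * c ⊔ a₁ * a₂ * c := by
        conv_lhs => rw [hc, Submodule.sup_mul, Submodule.sup_mul]
    _ ≤ c := by
      refine sup_le (sup_le hA1 hA2) ?_
      rw [mul_assoc]
      exact (mul_le_mul' le_rfl hA2).trans hA1

end algebra

section main

variable (K : Type u) (V : Type v) [Field K] [AddCommGroup V] [Module K V]

/-- the span of `h - 1`, `h ∈ H` -/
def aug (H : Subgroup (V ≃ₗ[K] V)) : Submodule K (Module.End K V) :=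
  Submodule.span K {x | ∃ h ∈ H, x = ((h : V ≃ₗ[K] V) : Module.End K V) - 1}

theorem coe_mul (g h : V ≃ₗ[K] V) :
    ((g * h : V ≃ₗ[K] V) : Module.End K V) = (g : Module.End K V) * (h : Module.End K V) := rfl

theorem sub_one_mem_aug (H : Subgroup (V ≃ₗ[K] V)) (h : V ≃ₗ[K] V) (hh : h ∈ H) :
    ((h : V ≃ₗ[K] V) : Module.End K V) - 1 ∈ aug K V H :=
  Submodule.subset_span ⟨h, hh, rfl⟩

theorem aug_mul_le (H : Subgroup (V ≃ₗ[K] V)) : aug K V H * aug K V H ≤ aug K V H := by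
  rw [aug, Submodule.span_mul_span, Submodule.span_le]
  rintro _ ⟨_, ⟨g, hg, rfl⟩, _, ⟨h, hh, rfl⟩, rfl⟩
  have : (((g : V ≃ₗ[K] V) : Module.End K V) - 1) * (((h : V ≃ₗ[K] V) : Module.End K V) - 1) =
      (((g * h : V ≃ₗ[K] V) : Module.End K V) - 1) - (((g : V ≃ₗ[K] V) : Module.End K V) - 1) -
        (((h : V ≃ₗ[K] V) : Module.End K V) - 1) := by
    rw [coe_mul]; noncomm_ring
  change _ * _ ∈ _
  rw [this]
  exact Submodule.sub_mem _ (Submodule.sub_mem _ (sub_one_mem_aug K V H _ (H.mul_mem hg hh))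
    (sub_one_mem_aug K V H _ hg)) (sub_one_mem_aug K V H _ hh)

theorem aug_pow_eq_bot (H : Subgroup (V ≃ₗ[K] V)) (n : ℕ)
    (h : ∀ f : Fin n → ↥H,
      (List.ofFn fun i => (((f i : ↥H) : V ≃ₗ[K] V) : Module.End K V) - 1).prod = 0) :
    aug K V H ^ n = ⊥ := by
  rw [aug, Submodule.span_pow, Submodule.span_eq_bot]
  intro x hx
  rw [Set.mem_pow] at hx
  obtain ⟨f, rfl⟩ := hx
  choose g hg hfg using fun i => (f i).2
  have := h (fun i => ⟨g i, hg i⟩)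
  rw [← this]
  congr 2
  funext i
  exact hfg i

theorem aug_comm (H₁ H₂ : Subgroup (V ≃ₗ[K] V)) (hnorm : ∀ g ∈ H₂, ∀ h ∈ H₁, g * h * g⁻¹ ∈ H₁) :
    aug K V H₂ * aug K V H₁ ≤ aug K V H₁ * aug K V H₂ ⊔ aug K V H₁ := by
  rw [Submodule.mul_le]
  intro x hx y hy
  -- linearity in x and y
  induction hx using Submodule.span_induction with
  | mem x hx =>
    obtain ⟨g, hg, rfl⟩ := hx
    induction hy using Submodule.span_induction with
    | mem y hy =>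
      obtain ⟨h, hh, rfl⟩ := hy
      have hconj := hnorm g hg h hh
      have hid : (((g : V ≃ₗ[K] V) : Module.End K V) - 1) * (((h : V ≃ₗ[K] V) : Module.End K V) - 1) =
          (((g * h * g⁻¹ : V ≃ₗ[K] V) : Module.End K V) - 1) *
              (((g : V ≃ₗ[K] V) : Module.End K V) - 1) +
            ((((g * h * g⁻¹ : V ≃ₗ[K] V) : Module.End K V) - 1) -
              (((h : V ≃ₗ[K] V) : Module.End K V) - 1)) := by
        have h1 : ((g * h * g⁻¹ : V ≃ₗ[K] V) : Module.End K V) * ((g : V ≃ₗ[K] V) : Module.End K V) =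
            ((g : V ≃ₗ[K] V) : Module.End K V) * ((h : V ≃ₗ[K] V) : Module.End K V) := by
          rw [← coe_mul, ← coe_mul]
          congr 1
          group
        have : (((g * h * g⁻¹ : V ≃ₗ[K] V) : Module.End K V) - 1) *
              (((g : V ≃ₗ[K] V) : Module.End K V) - 1) =
            ((g * h * g⁻¹ : V ≃ₗ[K] V) : Module.End K V) * ((g : V ≃ₗ[K] V) : Module.End K V) -
              ((g * h * g⁻¹ : V ≃ₗ[K] V) : Module.End K V) - ((g : V ≃ₗ[K] V) : Module.End K V) + 1 := by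
          noncomm_ring
        rw [this, h1]
        noncomm_ring
      rw [hid]
      refine Submodule.add_mem _ (Submodule.mem_sup_left (Submodule.mul_mem_mul
        (sub_one_mem_aug K V H₁ _ hconj) (sub_one_mem_aug K V H₂ _ hg))) (Submodule.mem_sup_right ?_)
      exact Submodule.sub_mem _ (sub_one_mem_aug K V H₁ _ hconj) (sub_one_mem_aug K V H₁ _ hh)
    | zero => rw [mul_zero]; exact Submodule.zero_mem _
    | add y z _ _ hy hz => rw [mul_add]; exact Submodule.add_mem _ hy hz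
    | smul c y _ hy => rw [mul_smul_comm]; exact Submodule.smul_mem _ c hy
  | zero => rw [zero_mul]; exact Submodule.zero_mem _
  | add x z _ _ hx hz => rw [add_mul]; exact Submodule.add_mem _ hx hz
  | smul c x _ hx => rw [smul_mul_assoc]; exact Submodule.smul_mem _ c hx

theorem sub_one_mem_of_mem_sup (H₁ H₂ : Subgroup (V ≃ₗ[K] V))
    (hnorm : ∀ g ∈ H₂, ∀ h ∈ H₁, g * h * g⁻¹ ∈ H₁) (x : V ≃ₗ[K] V) (hx : x ∈ H₁ ⊔ H₂) :
    ((x : V ≃ₗ[K] V) : Module.End K V) - 1 ∈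
      aug K V H₁ ⊔ aug K V H₂ ⊔ aug K V H₁ * aug K V H₂ := by
  have hcc := c_mul_c_le (aug K V H₁) (aug K V H₂) (aug_mul_le K V H₁) (aug_mul_le K V H₂)
    (aug_comm K V H₁ H₂ hnorm)
  rw [Subgroup.sup_eq_closure] at hx
  induction hx using Subgroup.closure_induction'' with
  | mem x hx =>
    rcases hx with hx | hx
    · exact Submodule.mem_sup_left (Submodule.mem_sup_left (sub_one_mem_aug K V H₁ x hx))
    · exact Submodule.mem_sup_left (Submodule.mem_sup_right (sub_one_mem_aug K V H₂ x hx))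
  | inv_mem x hx =>
    rcases hx with hx | hx
    · exact Submodule.mem_sup_left (Submodule.mem_sup_left
        (sub_one_mem_aug K V H₁ _ (H₁.inv_mem hx)))
    · exact Submodule.mem_sup_left (Submodule.mem_sup_right
        (sub_one_mem_aug K V H₂ _ (H₂.inv_mem hx)))
  | one =>
    have : (((1 : V ≃ₗ[K] V) : V ≃ₗ[K] V) : Module.End K V) - 1 = 0 := by
      rw [sub_eq_zero]; rfl
    rw [this]
    exact Submodule.zero_mem _
  | mul x y _ _ hx hy =>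
    have : ((x * y : V ≃ₗ[K] V) : Module.End K V) - 1 =
        (((x : V ≃ₗ[K] V) : Module.End K V) - 1) * (((y : V ≃ₗ[K] V) : Module.End K V) - 1) +
          (((x : V ≃ₗ[K] V) : Module.End K V) - 1) + (((y : V ≃ₗ[K] V) : Module.End K V) - 1) := by
      rw [coe_mul]; noncomm_ring
    rw [this]
    exact Submodule.add_mem _ (Submodule.add_mem _ (hcc (Submodule.mul_mem_mul hx hy)) hx) hy

theorem main (H₁ H₂ : Subgroup (V ≃ₗ[K] V)) (hnorm : ∀ g ∈ H₂, ∀ h ∈ H₁, g * h * g⁻¹ ∈ H₁)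
    (h₁ : ∃ n : ℕ, ∀ f : Fin n → ↥H₁,
      (List.ofFn fun i => (((f i : ↥H₁) : V ≃ₗ[K] V) : Module.End K V) - 1).prod = 0)
    (h₂ : ∃ n : ℕ, ∀ f : Fin n → ↥H₂,
      (List.ofFn fun i => (((f i : ↥H₂) : V ≃ₗ[K] V) : Module.End K V) - 1).prod = 0) :
    ∃ n : ℕ, ∀ f : Fin n → ↥(H₁ ⊔ H₂),
      (List.ofFn fun i => (((f i : ↥(H₁ ⊔ H₂)) : V ≃ₗ[K] V) : Module.End K V) - 1).prod = 0 := by
  obtain ⟨n₁, h₁⟩ := h₁
  obtain ⟨n₂, h₂⟩ := h₂
  have hbot := pow_eq_bot (aug K V H₁) (aug K V H₂) n₁ n₂ (aug_pow_eq_bot K V H₁ n₁ h₁)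
    (aug_pow_eq_bot K V H₂ n₂ h₂) (aug_mul_le K V H₁) (aug_mul_le K V H₂)
    (aug_comm K V H₁ H₂ hnorm)
  refine ⟨(n₂ + 1) * (n₁ + 1), fun f => ?_⟩
  have hmem := list_prod_mem_pow (aug K V H₁ ⊔ aug K V H₂ ⊔ aug K V H₁ * aug K V H₂)
    (List.ofFn fun i => (((f i : ↥(H₁ ⊔ H₂)) : V ≃ₗ[K] V) : Module.End K V) - 1) (by
      intro x hx
      rw [List.mem_ofFn] at hx
      obtain ⟨i, rfl⟩ := hx
      exact sub_one_mem_of_mem_sup K V H₁ H₂ hnorm _ (f i).2)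
  rw [List.length_ofFn, hbot] at hmem
  exact (Submodule.mem_bot K).mp hmem

end main

end Groth.Agent.H2.Unip
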