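import Mathlib
import Groth.Agent.Lib.Helper2.UnrLoc4

/-!
# Unramified morphisms to the spectrum of a field
-/

set_option autoImplicit false

universe u

open TensorProduct AlgebraicGeometry CategoryTheory CategoryTheory.Limits Topology

namespace Groth.Agent.H2.UnrLoc

variable {X Y : Scheme.{u}}

/-- A formally unramified morphism locally of finite type is locally quasi-finite. -/
theorem locallyQuasiFinite_of_formallyUnramified (f : X ⟶ Y) [FormallyUnramified f]
    [LocallyOfFiniteType f] : LocallyQuasiFinite f := by
  rw [HasRingHomProperty.iff_appLE (P := @LocallyQuasiFinite)]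
  intro U V e
  have h1 : (f.appLE U V e).hom.FormallyUnramified :=
    (HasRingHomProperty.iff_appLE (P := @FormallyUnramified)).1 inferInstance U V e
  have h2 : (f.appLE U V e).hom.FiniteType := f.finiteType_appLE U.2 V.2 e
  algebraize [(f.appLE U V e).hom]
  rw [← RingHom.algebraMap_toAlgebra (f.appLE U V e).hom, RingHom.quasiFinite_algebraMap]
  infer_instance

/-- The underlying space of a scheme unramified and locally of finite type over a field is
discrete. -/
theorem discreteTopology_of_formallyUnramified (K : Type u) [Field K]
    (g : X ⟶ Spec (CommRingCat.of K)) [FormallyUnramified g] [LocallyOfFiniteType g] :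
    DiscreteTopology X := by
  have := locallyQuasiFinite_of_formallyUnramified g
  have h := (locallyQuasiFinite_iff_isDiscrete_preimage_singleton (f := g)).1 inferInstance
  rw [← isDiscrete_univ_iff]
  have hpt : ∀ y : Spec (CommRingCat.of K), y = (⊥ : PrimeSpectrum K) := fun y =>
    Subsingleton.elim _ _
  convert h (⊥ : PrimeSpectrum K) using 1
  ext x
  simp only [Set.mem_univ, Set.mem_preimage, Set.mem_singleton_iff, true_iff]
  exact hpt _

end Groth.Agent.H2.UnrLoc

namespace Groth.Agent.H2.UnrLoc

variable {X : Scheme.{u}}

/-- A scheme unramified and locally of finite type over a field is reduced. -/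
theorem isReduced_of_formallyUnramified (K : Type u) [Field K]
    (g : X ⟶ Spec (CommRingCat.of K)) [FormallyUnramified g] [LocallyOfFiniteType g] :
    IsReduced X := by
  let 𝒰 := X.affineOpenCover
  have : ∀ i, IsReduced (𝒰.openCover.X i) := by
    intro i
    haveI : IsOpenImmersion (𝒰.f i) := 𝒰.openCover.map_prop i
    obtain ⟨φ, hφ⟩ := Spec.map_surjective (𝒰.f i ≫ g)
    have h1 : FormallyUnramified (Spec.map φ) := by
      rw [hφ]
      exact IsZariskiLocalAtSource.comp (P := @FormallyUnramified) inferInstance _
    have h2 : LocallyOfFiniteType (Spec.map φ) := by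
      rw [hφ]
      infer_instance
    rw [HasRingHomProperty.Spec_iff (P := @FormallyUnramified)] at h1
    rw [HasRingHomProperty.Spec_iff (P := @LocallyOfFiniteType)] at h2
    algebraize [φ.hom]
    have : _root_.IsReduced (𝒰.X i) :=
      Algebra.FormallyUnramified.isReduced_of_field K _
    change IsReduced (Spec _)
    infer_instance
  exact IsReduced.of_openCover X 𝒰.openCover

end Groth.Agent.H2.UnrLoc
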