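import Mathlib
import Groth.Agent.Lib.Helper2.UnrGeom1

/-!
# Reduced discrete schemes locally of finite type over an algebraically closed field are unramified
-/

set_option autoImplicit false

universe u

open TensorProduct AlgebraicGeometry CategoryTheory CategoryTheory.Limits Topology

namespace Groth.Agent.H2.UnrLoc

/-- A reduced ring with a single prime ideal is a field. -/
theorem isField_of_isReduced_of_subsingleton (B : Type*) [CommRing B] [IsReduced B] [Nontrivial B]
    [Subsingleton (PrimeSpectrum B)] : IsField B := by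
  rw [Ring.isField_iff_maximal_bot]
  obtain ⟨m, hm⟩ := Ideal.exists_maximal B
  have hnil : nilradical B = m := by
    rw [nilradical_eq_sInf]
    apply le_antisymm
    · exact sInf_le hm.isPrime
    · refine le_sInf ?_
      intro p hp
      have : (⟨p, hp⟩ : PrimeSpectrum B) = ⟨m, hm.isPrime⟩ := Subsingleton.elim _ _
      have h2 : p = m := congrArg PrimeSpectrum.asIdeal this
      rw [h2]
  rw [nilradical_eq_zero] at hnil
  have h3 : (⊥ : Ideal B) = m := hnil
  rw [h3]
  exact hm

variable {X : Scheme.{u}}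

theorem unrAt_of_isReduced_of_discrete (K : Type u) [Field K] [IsAlgClosed K]
    (g : X ⟶ Spec (CommRingCat.of K)) [LocallyOfFiniteType g] [IsReduced X] [DiscreteTopology X]
    (x : X) : UnrAt g x := by
  obtain ⟨_, ⟨W : X.Opens, hW, rfl⟩, hxW, hWx⟩ := X.isBasis_affineOpens.exists_subset_of_mem_open
    (Set.mem_singleton x) (isOpen_discrete ({x} : Set X))
  have e : W ≤ g ⁻¹ᵁ ⊤ := le_top
  have hft := g.finiteType_appLE (isAffineOpen_top _) hW e
  have hsub : Subsingleton (PrimeSpectrum Γ(X, W)) := by
    have hWs : Subsingleton W := ⟨fun a b => Subtype.ext ((hWx a.2).trans (hWx b.2).symm)⟩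
    exact (Scheme.homeoOfIso hW.isoSpec).symm.injective.subsingleton
  have hne : Nonempty W := ⟨⟨x, hxW⟩⟩
  have hnt : Nontrivial Γ(X, W) := inferInstance
  have hfield : IsField Γ(X, W) := isField_of_isReduced_of_subsingleton Γ(X, W)
  letI : Field Γ(X, W) := hfield.toField
  let ψ : K →+* Γ(Spec (CommRingCat.of K), ⊤) := (Scheme.ΓSpecIso (CommRingCat.of K)).inv.hom
  have hψ : Function.Surjective ψ :=
    (ConcreteCategory.bijective_of_isIso (Scheme.ΓSpecIso (CommRingCat.of K)).inv).2
  algebraize [(g.appLE ⊤ W e).hom, ψ, ((g.appLE ⊤ W e).hom.comp ψ)]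
  have : IsScalarTower K Γ(Spec (CommRingCat.of K), ⊤) Γ(X, W) :=
    IsScalarTower.of_algebraMap_eq (fun r => rfl)
  have : Algebra.FiniteType K Γ(X, W) := by
    have h1 : ψ.FiniteType := RingHom.FiniteType.of_surjective ψ hψ
    have h2 : ((g.appLE ⊤ W e).hom.comp ψ).FiniteType := hft.comp h1
    exact h2
  have : Module.Finite K Γ(X, W) := finite_of_finite_type_of_isJacobsonRing K Γ(X, W)
  have hbij : Function.Bijective (algebraMap K Γ(X, W)) :=
    IsAlgClosed.algebraMap_bijective_of_isIntegral
  have : Algebra.FormallyUnramified K Γ(X, W) :=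
    Algebra.FormallyUnramified.of_surjective (Algebra.ofId K Γ(X, W)) hbij.2
  have : Algebra.FormallyUnramified Γ(Spec (CommRingCat.of K), ⊤) Γ(X, W) :=
    Algebra.FormallyUnramified.of_restrictScalars K _ _
  rw [unrAt_iff_mem_unramifiedLocus ⊤ (isAffineOpen_top _) W hW e hxW,
    Algebra.unramifiedLocus_eq_univ_iff.2 inferInstance]
  trivial

end Groth.Agent.H2.UnrLoc
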