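import Mathlib
import Groth.Agent.Lib.Helper2.UnrGeom2

/-!
# Unramified iff geometric fibres are reduced and discrete
-/

set_option autoImplicit false

universe u

open TensorProduct AlgebraicGeometry CategoryTheory CategoryTheory.Limits Topology

namespace Groth.Agent.H2.UnrLoc

theorem main14352 {X S : Scheme.{u}} (f : X ⟶ S) [LocallyOfFinitePresentation f] :
    FormallyUnramified f ↔
      ∀ (K : Type u) [Field K] [IsAlgClosed K] (s : Spec (CommRingCat.of K) ⟶ S),
        IsReduced (pullback f s) ∧ DiscreteTopology ↥(pullback f s) := by
  constructor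
  · intro h K _ _ s
    haveI : FormallyUnramified (pullback.snd f s) :=
      MorphismProperty.pullback_snd (P := @FormallyUnramified) _ _ h
    exact ⟨isReduced_of_formallyUnramified K (pullback.snd f s),
      discreteTopology_of_formallyUnramified K (pullback.snd f s)⟩
  · intro h
    rw [formallyUnramified_iff_forall_unrAt]
    intro x
    let K := AlgebraicClosure (S.residueField (f x))
    let s : Spec (CommRingCat.of K) ⟶ S :=
      Spec.map (CommRingCat.ofHom (algebraMap (S.residueField (f x)) K)) ≫
        S.fromSpecResidueField (f x)
    obtain ⟨hred, hdisc⟩ := h K s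
    let pt : Spec (CommRingCat.of K) := (⊥ : PrimeSpectrum K)
    have hpt : f x = s pt := by
      have h1 : s pt ∈ Set.range (S.fromSpecResidueField (f x)) := by
        refine ⟨(Spec.map (CommRingCat.ofHom (algebraMap (S.residueField (f x)) K))) pt, ?_⟩
        rw [← Scheme.Hom.comp_apply]
      rw [Scheme.range_fromSpecResidueField] at h1
      exact h1.symm
    obtain ⟨x', hx'1, -⟩ := Scheme.Pullback.exists_preimage_pullback (f := f) (g := s) x pt hpt
    have hu : UnrAt (pullback.snd f s) x' :=
      unrAt_of_isReduced_of_discrete K (pullback.snd f s) x'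
    have := (unrAt_iff_of_isPullback (IsPullback.of_hasPullback f s) x').1 hu
    rwa [hx'1] at this

end Groth.Agent.H2.UnrLoc
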