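import Mathlib

/-!
# Value sets of subspaces of `k[[t]]` containing a power of `t`

For a `k`-subspace `V` of `k[[t]]` containing `t^c k[[t]]`, the codimension of `V` equals the
number of gaps of its value set.
-/

namespace Groth.Agent.H2.ValSemigroup

open PowerSeries

variable {k : Type*} [Field k]

/-- the gap monomials span the quotient -/
theorem mk_mem_span (V : Submodule k (PowerSeries k)) (c : ℕ)
    (hc : ∀ f : PowerSeries k, (c : ℕ∞) ≤ order f → f ∈ V)
    (Γ : Set ℕ) (hΓ : ∀ n : ℕ, n ∈ Γ ↔ ∃ f ∈ V, order f = n) :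
    ∀ (m : ℕ) (f : PowerSeries k), ((c - m : ℕ) : ℕ∞) ≤ order f →
      V.mkQ f ∈ Submodule.span k (Set.range fun n : {n : ℕ // n ∉ Γ} =>
        V.mkQ ((X : PowerSeries k) ^ (n : ℕ))) := by
  intro m
  induction m with
  | zero =>
    intro f hf
    have : f ∈ V := hc f (by simpa using hf)
    have h0 : V.mkQ f = 0 := by simpa using this
    rw [h0]; exact Submodule.zero_mem _
  | succ m ih =>
    intro f hf
    by_cases hcm : c ≤ m
    · apply ih f
      have : c - m = 0 := by omega
      rw [this]; simp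
    · set n := c - (m + 1) with hn
      have hn1 : c - m = n + 1 := by omega
      have hlow : ∀ i < n, coeff i f = 0 := fun i hi =>
        coeff_of_lt_order i (lt_of_lt_of_le (by exact_mod_cast hi) hf)
      by_cases hnΓ : n ∈ Γ
      · obtain ⟨g, hgV, hg⟩ := (hΓ n).1 hnΓ
        have hg0 : g ≠ 0 := by
          rintro rfl; simp at hg
        have hb : coeff n g ≠ 0 := by
          have := coeff_order hg0
          rwa [hg] at this
        have hglow : ∀ i < n, coeff i g = 0 := fun i hi =>
          coeff_of_lt_order i (by rw [hg]; exact_mod_cast hi)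
        set a := coeff n f / coeff n g with ha
        have hf' : ((c - m : ℕ) : ℕ∞) ≤ order (f - a • g) := by
          rw [hn1]
          apply nat_le_order
          intro i hi
          rcases Nat.lt_succ_iff_lt_or_eq.1 hi with h | h
          · simp [hlow i h, hglow i h]
          · subst h
            simp only [map_sub, map_smul, smul_eq_mul, ha]
            field_simp
            ring
        have := ih _ hf'
        have hq : V.mkQ (f - a • g) = V.mkQ f := by
          rw [map_sub, map_smul]
          have : V.mkQ g = 0 := by simpa using hgV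
          rw [this]; simp
        rwa [hq] at this
      · set a := coeff n f with ha
        have hf' : ((c - m : ℕ) : ℕ∞) ≤ order (f - a • (X : PowerSeries k) ^ n) := by
          rw [hn1]
          apply nat_le_order
          intro i hi
          rcases Nat.lt_succ_iff_lt_or_eq.1 hi with h | h
          · have : i ≠ n := h.ne
            simp [hlow i h, coeff_X_pow, this]
          · subst h
            simp [coeff_X_pow, ha]
        have h1 := ih _ hf'
        have h2 : V.mkQ f = V.mkQ (f - a • (X : PowerSeries k) ^ n)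
            + a • V.mkQ ((X : PowerSeries k) ^ n) := by
          rw [map_sub, map_smul]; abel
        rw [h2]
        refine Submodule.add_mem _ h1 (Submodule.smul_mem _ _ (Submodule.subset_span ?_))
        exact ⟨⟨n, hnΓ⟩, rfl⟩

theorem gaps_finite (V : Submodule k (PowerSeries k)) (c : ℕ)
    (hc : ∀ f : PowerSeries k, (c : ℕ∞) ≤ order f → f ∈ V)
    (Γ : Set ℕ) (hΓ : ∀ n : ℕ, n ∈ Γ ↔ ∃ f ∈ V, order f = n) :
    Γᶜ.Finite := by
  apply Set.Finite.subset (Set.finite_lt_nat c)
  intro n hn
  by_contra hlt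
  apply hn
  rw [hΓ]
  have : c ≤ n := by simpa using hlt
  refine ⟨(X : PowerSeries k) ^ n, hc _ ?_, order_X_pow n⟩
  rw [order_X_pow]; exact_mod_cast this

theorem linearIndependent_gaps (V : Submodule k (PowerSeries k))
    (Γ : Set ℕ) (hΓ : ∀ n : ℕ, n ∈ Γ ↔ ∃ f ∈ V, order f = n) :
    LinearIndependent k (fun n : {n : ℕ // n ∉ Γ} => V.mkQ ((X : PowerSeries k) ^ (n : ℕ))) := by
  rw [linearIndependent_iff]
  intro l hl
  rw [Finsupp.linearCombination_apply, Finsupp.sum] at hl
  set g : PowerSeries k := ∑ n ∈ l.support, l n • (X : PowerSeries k) ^ (n : ℕ) with hg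
  have hgV : g ∈ V := by
    have : V.mkQ g = 0 := by
      rw [hg, map_sum]
      simpa [map_smul] using hl
    simpa using this
  have hcoeff : ∀ n : {n : ℕ // n ∉ Γ}, coeff (n : ℕ) g = l n := by
    intro n
    rw [hg, map_sum]
    simp only [map_smul, coeff_X_pow, smul_eq_mul, mul_ite, mul_one, mul_zero]
    rw [Finset.sum_eq_single n]
    · simp
    · intro b _ hb
      have : ¬ ((n : ℕ) = (b : ℕ)) := fun h => hb (Subtype.ext h.symm)
      simp [this]
    · intro hn
      have : l n = 0 := by simpa using hn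
      simp [this]
  have hcoeff' : ∀ m : ℕ, m ∈ Γ → coeff m g = 0 := by
    intro m hm
    rw [hg, map_sum]
    apply Finset.sum_eq_zero
    intro b _
    have : ¬ (m = (b : ℕ)) := fun h => b.2 (h ▸ hm)
    simp [coeff_X_pow, this]
  by_contra hl0
  have hg0 : g ≠ 0 := by
    intro h0
    apply hl0
    ext n
    rw [← hcoeff n, h0]; simp
  have hmem : g.order.toNat ∈ Γ := by
    rw [hΓ]
    exact ⟨g, hgV, (coe_toNat_order hg0).symm⟩
  exact coeff_order hg0 (hcoeff' _ hmem)

theorem finrank_quotient_eq_ncard_gaps (V : Submodule k (PowerSeries k)) (c : ℕ)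
    (hc : ∀ f : PowerSeries k, (c : ℕ∞) ≤ order f → f ∈ V)
    (Γ : Set ℕ) (hΓ : ∀ n : ℕ, n ∈ Γ ↔ ∃ f ∈ V, order f = n) :
    Γᶜ.Finite ∧ Module.finrank k (PowerSeries k ⧸ V) = Γᶜ.ncard := by
  have hfin := gaps_finite V c hc Γ hΓ
  refine ⟨hfin, ?_⟩
  have hspan : ⊤ ≤ Submodule.span k (Set.range fun n : {n : ℕ // n ∉ Γ} =>
        V.mkQ ((X : PowerSeries k) ^ (n : ℕ))) := by
    intro x _
    obtain ⟨f, rfl⟩ := V.mkQ_surjective x
    apply mk_mem_span V c hc Γ hΓ c f
    simp
  let b := Module.Basis.mk (linearIndependent_gaps V Γ hΓ) hspan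
  haveI : Finite {n : ℕ // n ∉ Γ} := hfin.to_subtype
  haveI : Fintype {n : ℕ // n ∉ Γ} := Fintype.ofFinite _
  rw [Module.finrank_eq_card_basis b]
  rw [← Nat.card_eq_fintype_card]
  rfl

end Groth.Agent.H2.ValSemigroup

namespace Groth.Agent.H2.ValSemigroup

open PowerSeries

variable {k : Type*} [Field k]

/-- a finite birational overring has a conductor -/
theorem exists_conductor (A : Subalgebra k (PowerSeries k))
    (hA : Module.Finite ↥A (PowerSeries k))
    (hbir : ∀ f : PowerSeries k, ∃ a ∈ A, a ≠ 0 ∧ a * f ∈ A) :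
    ∃ c : ℕ, ∀ f : PowerSeries k, (c : ℕ∞) ≤ order f → f ∈ A := by
  classical
  obtain ⟨S, hS⟩ := hA.fg_top
  choose a haA ha0 haf using hbir
  set d : PowerSeries k := ∏ s ∈ S, a s with hd
  have hdA : d ∈ A := Subalgebra.prod_mem _ (fun s _ => haA s)
  have hd0 : d ≠ 0 := Finset.prod_ne_zero_iff.2 (fun s _ => ha0 s)
  have hdS : ∀ s ∈ S, d * s ∈ A := by
    intro s hs
    rw [hd, ← Finset.mul_prod_erase S a hs]
    have : (a s * ∏ x ∈ S.erase s, a x) * s = (∏ x ∈ S.erase s, a x) * (a s * s) := by ring
    rw [this]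
    exact A.mul_mem (Subalgebra.prod_mem _ (fun s _ => haA s)) (haf s)
  have hall : ∀ f : PowerSeries k, d * f ∈ A := by
    intro f
    have hf : f ∈ Submodule.span ↥A (S : Set (PowerSeries k)) := by rw [hS]; trivial
    induction hf using Submodule.span_induction with
    | mem x hx => exact hdS x hx
    | zero => simp
    | add x y _ _ hx hy => rw [mul_add]; exact A.add_mem hx hy
    | smul r x _ hx =>
      have : d * (r • x) = (r : PowerSeries k) * (d * x) := by
        rw [Algebra.smul_def]
        show d * ((r : PowerSeries k) * x) = _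
        ring
      rw [this]
      exact A.mul_mem r.2 hx
  refine ⟨d.order.toNat, fun f hf => ?_⟩
  have hdvd : (X : PowerSeries k) ^ d.order.toNat ∣ f := by
    rw [X_pow_dvd_iff]
    intro m hm
    exact coeff_of_lt_order m (lt_of_lt_of_le (by exact_mod_cast hm) hf)
  obtain ⟨f1, rfl⟩ := hdvd
  have hu : IsUnit (divXPowOrder d) := by
    rw [isUnit_iff_constantCoeff]
    rw [isUnit_iff_ne_zero]
    rw [Ne, constantCoeff_divXPowOrder_eq_zero_iff]
    exact hd0
  obtain ⟨u, hu⟩ := hu
  have hdeq : d = X ^ d.order.toNat * (u : PowerSeries k) := by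
    rw [hu]; exact X_pow_order_mul_divXPowOrder.symm
  have : (X : PowerSeries k) ^ d.order.toNat * f1 = d * (((u⁻¹ : (PowerSeries k)ˣ) : PowerSeries k) * f1) := by
    conv_rhs => rw [hdeq]
    rw [mul_assoc, ← mul_assoc (u : PowerSeries k), Units.mul_inv, one_mul]
  rw [this]
  exact hall _

end Groth.Agent.H2.ValSemigroup
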