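import Mathlib

/-!
# Objects killed by a Verdier localization lie in the thick subcategory
-/

namespace Groth.Agent.H2.VerdierZero

open CategoryTheory Limits Pretriangulated Triangulated

universe w v u v' u'

variable {T : Type u} [Category.{v} T] [Preadditive T] [HasZeroObject T] [HasShift T ℤ]
  [∀ n : ℤ, (shiftFunctor T n).Additive] [Pretriangulated T] [IsTriangulated T]
  (U : ObjectProperty T) [U.IsTriangulated] [U.IsClosedUnderIsomorphisms]
  [U.IsStableUnderRetracts]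
  {E : Type u'} [Category.{v'} E]
  (Q : T ⥤ E) [Q.IsLocalization U.trW]

include Q in
lemma prop_of_map_id_eq {X : T} (h : Q.map (𝟙 X) = Q.map (0 : X ⟶ X)) : U X := by
  rw [MorphismProperty.map_eq_iff_postcomp Q U.trW] at h
  obtain ⟨Z, s, hs, fac⟩ := h
  rw [Category.id_comp, zero_comp] at fac
  subst fac
  rw [ObjectProperty.trW_iff] at hs
  obtain ⟨C, g, k, hT, hC⟩ := hs
  obtain ⟨σ, hσ⟩ : ∃ σ : X⟦(1 : ℤ)⟧ ⟶ C, 𝟙 (X⟦(1 : ℤ)⟧) = σ ≫ k :=
    Triangle.coyoneda_exact₁ _ hT (𝟙 (X⟦(1 : ℤ)⟧)) (by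
      change 𝟙 _ ≫ (0 : X ⟶ Z)⟦(1 : ℤ)⟧' = 0
      rw [Functor.map_zero, comp_zero])
  have hX1 : U (X⟦(1 : ℤ)⟧) := U.prop_of_retract ⟨σ, k, hσ.symm⟩ hC
  exact (U.prop_shift_iff_of_isStableUnderShift X (1 : ℤ)).1 hX1

variable {A : Type w} [CommRing A] [Linear A T] [Preadditive E] [Linear A E] [Q.Additive]

include Q in
theorem prop_iff (X : T) :
    U X ↔ ∀ m : Ideal A, m.IsMaximal → ∃ s : A, s ∉ m ∧ s • 𝟙 (Q.obj X) = 0 := by
  constructor
  · intro hX m hm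
    refine ⟨1, fun h => hm.ne_top ((Ideal.eq_top_iff_one m).2 h), ?_⟩
    rw [one_smul]
    obtain ⟨Z, hZ⟩ := HasZeroObject.zero (C := T)
    have hiso : IsIso (Q.map (0 : Z ⟶ X)) := by
      apply Localization.inverts Q U.trW
      rw [ObjectProperty.trW_iff]
      refine ⟨X, 𝟙 X, 0, ?_, hX⟩
      refine isomorphic_distinguished _ (contractible_distinguished₁ X) _ ?_
      exact Triangle.isoMk _ _ (hZ.iso (isZero_zero T)) (Iso.refl _) (Iso.refl _)
        (hZ.eq_of_src _ _) (by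
          change 𝟙 X ≫ 𝟙 X = 𝟙 X ≫ 𝟙 X
          rfl) (by
          change (0 : X ⟶ Z⟦(1 : ℤ)⟧) ≫ _ = 𝟙 X ≫ 0
          rw [zero_comp, comp_zero])
    have h0 : Q.map (0 : Z ⟶ X) = 0 := Q.map_zero _ _
    have : 𝟙 (Q.obj X) = inv (Q.map (0 : Z ⟶ X)) ≫ Q.map (0 : Z ⟶ X) := by
      rw [IsIso.inv_hom_id]
    have h2 : inv (Q.map (0 : Z ⟶ X)) ≫ Q.map (0 : Z ⟶ X) = inv (Q.map (0 : Z ⟶ X)) ≫ 0 :=
      congrArg (fun φ => inv (Q.map (0 : Z ⟶ X)) ≫ φ) h0
    rw [this, h2, comp_zero]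
  · intro h
    let I : Ideal A :=
      { carrier := {s | s • 𝟙 (Q.obj X) = 0}
        add_mem' := fun {a b} ha hb => by
          change (a + b) • 𝟙 (Q.obj X) = 0
          rw [add_smul, ha, hb, add_zero]
        zero_mem' := zero_smul _ _
        smul_mem' := fun c {a} ha => by
          change (c • a) • 𝟙 (Q.obj X) = 0
          rw [smul_eq_mul, mul_smul, ha, smul_zero] }
    have hI : I = ⊤ := by
      by_contra hI
      obtain ⟨m, hm, hIm⟩ := Ideal.exists_le_maximal I hI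
      obtain ⟨s, hs, hs'⟩ := h m hm
      exact hs (hIm hs')
    have h1 : (1 : A) ∈ I := by
      rw [hI]
      trivial
    have h1' : 𝟙 (Q.obj X) = 0 := by
      have : (1 : A) • 𝟙 (Q.obj X) = 0 := h1
      rwa [one_smul] at this
    apply prop_of_map_id_eq U Q
    rw [Q.map_id, h1', Q.map_zero]

end Groth.Agent.H2.VerdierZero
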