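import Mathlib

/-! Veronese subrings generated in degree one (S14053). -/

namespace Groth.Agent.H2.Veronese
open MvPolynomial
universe u

section
variable {k : Type u} [Field k] {R : Type u} [CommRing R] [Algebra k R]
  (ℛ : ℕ → Submodule k R) [GradedAlgebra ℛ]

theorem pow_le (d m : ℕ) : ℛ d ^ m ≤ ℛ (m * d) := by
  induction m with
  | zero =>
    rw [pow_zero, zero_mul, Submodule.one_le]
    exact SetLike.GradedOne.one_mem
  | succ m ih =>
    rw [pow_succ, Submodule.mul_le]
    intro x hx y hy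
    have := SetLike.GradedMul.mul_mem (ih hx) hy
    rwa [show m * d + d = (m + 1) * d by ring] at this

variable {ι : Type} [Fintype ι] (g : ι → R) (w : ι → ℕ)

theorem mono_mem (hg : ∀ i, g i ∈ ℛ (w i)) (a : ι → ℕ) :
    ∏ i, g i ^ a i ∈ ℛ (∑ i, a i * w i) := by
  have := SetLike.prod_pow_mem_graded ℛ w g a (F := Finset.univ) (fun i _ => hg i)
  simpa [smul_eq_mul] using this

theorem mem_span_monomials (hg : ∀ i, g i ∈ ℛ (w i))
    (hsurj : Algebra.adjoin k (Set.range g) = ⊤) (N : ℕ) (r : R) (hr : r ∈ ℛ N) :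
    r ∈ Submodule.span k {x | ∃ a : ι → ℕ, ∑ i, a i * w i = N ∧ x = ∏ i, g i ^ a i} := by
  classical
  set T := Submodule.span k {x | ∃ a : ι → ℕ, ∑ i, a i * w i = N ∧ x = ∏ i, g i ^ a i} with hT
  have key : ∀ P : MvPolynomial ι k, GradedAlgebra.proj ℛ N (aeval g P) ∈ T := by
    intro P
    induction P using MvPolynomial.induction_on' with
    | monomial a c =>
      rw [aeval_monomial, Finsupp.prod_fintype _ _ (fun i => pow_zero _), ← Algebra.smul_def,
        map_smul]
      apply T.smul_mem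
      have hmem := mono_mem ℛ g w hg (fun i => a i)
      rw [GradedAlgebra.proj_apply]
      by_cases hN : ∑ i, a i * w i = N
      · rw [hN] at hmem
        rw [DirectSum.decompose_of_mem_same ℛ hmem]
        exact Submodule.subset_span ⟨fun i => a i, hN, rfl⟩
      · rw [DirectSum.decompose_of_mem_ne ℛ hmem hN]
        exact T.zero_mem
    | add p q hp hq =>
      rw [map_add, map_add]
      exact T.add_mem hp hq
  have hr' : r ∈ (aeval g : MvPolynomial ι k →ₐ[k] R).range := by
    rw [← Algebra.adjoin_range_eq_range_aeval, hsurj]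
    trivial
  obtain ⟨P, hP⟩ := hr'
  have hP' : aeval g P = r := hP
  have := key P
  rw [hP'] at this
  rwa [GradedAlgebra.proj_apply, DirectSum.decompose_of_mem_same ℛ hr] at this

theorem list_prod_mem (L : List R) (hL : ∀ y ∈ L, y ∈ ℛ 6) : L.prod ∈ ℛ (6 * L.length) := by
  induction L with
  | nil =>
    simp only [List.prod_nil, List.length_nil, mul_zero]
    exact SetLike.GradedOne.one_mem
  | cons y L ih =>
    rw [List.prod_cons, List.length_cons, show 6 * (L.length + 1) = 6 + 6 * L.length by ring]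
    exact SetLike.GradedMul.mul_mem (hL y List.mem_cons_self)
      (ih fun z hz => hL z (List.mem_cons_of_mem _ hz))

theorem claimC (e : ℕ) : ∀ m, 1 ≤ m → ∀ (s : ℕ) (x : R) (L : List R), s ≤ e → x ∈ ℛ (6 * s) →
    (∀ y ∈ L, y ∈ ℛ 6) → s + L.length = e * m → x * L.prod ∈ ℛ (6 * e) ^ m := by
  intro m hm
  induction m, hm using Nat.le_induction with
  | base =>
    intro s x L hs hx hL hlen
    rw [pow_one]
    have h1 := SetLike.GradedMul.mul_mem hx (list_prod_mem ℛ L hL)
    rwa [show 6 * s + 6 * L.length = 6 * e by rw [← mul_add, hlen, mul_one]] at h1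
  | succ m hm ih =>
    intro s x L hs hx hL hlen
    have hlen1 : e - s ≤ L.length := by
      have : e * (m + 1) = e * m + e := by ring
      have : e ≤ e * m := Nat.le_mul_of_pos_right e hm
      omega
    have h1 : x * (L.take (e - s)).prod ∈ ℛ (6 * e) := by
      have h2 := SetLike.GradedMul.mul_mem hx
        (list_prod_mem ℛ (L.take (e - s)) fun y hy => hL y (List.mem_of_mem_take hy))
      rw [List.length_take, min_eq_left hlen1] at h2
      rwa [show 6 * s + 6 * (e - s) = 6 * e by omega] at h2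
    have h3 : (1 : R) * (L.drop (e - s)).prod ∈ ℛ (6 * e) ^ m := by
      apply ih 0 1 (L.drop (e - s)) (Nat.zero_le _)
      · rw [mul_zero]; exact SetLike.GradedOne.one_mem
      · intro y hy; exact hL y (List.mem_of_mem_drop hy)
      · rw [List.length_drop, zero_add]
        have : e * (m + 1) = e * m + e := by ring
        omega
    rw [one_mul] at h3
    have h4 : x * L.prod = (x * (L.take (e - s)).prod) * (L.drop (e - s)).prod := by
      rw [mul_assoc, ← List.prod_append, List.take_append_drop]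
    rw [h4, pow_succ']
    exact Submodule.mul_mem_mul h1 h3

theorem mono_mem_pow (hg : ∀ i, g i ∈ ℛ (w i)) (hw : ∀ i, 0 < w i ∧ w i ∣ 6) (e m : ℕ)
    (hm : 1 ≤ m) (he : ∑ i, (6 - w i) ≤ e) (a : ι → ℕ) (ha : ∑ i, a i * w i = m * (6 * e)) :
    ∏ i, g i ^ a i ∈ ℛ (6 * e) ^ m := by
  classical
  set π : ι → ℕ := fun i => 6 / w i with hπ
  have hπw : ∀ i, π i * w i = 6 := fun i => Nat.div_mul_cancel (hw i).2
  have hπpos : ∀ i, 0 < π i := fun i => by
    have := hπw i
    rcases Nat.eq_zero_or_pos (π i) with h | h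
    · rw [h, zero_mul] at this; omega
    · exact h
  set q : ι → ℕ := fun i => a i / π i with hq
  set r : ι → ℕ := fun i => a i % π i with hr
  have har : ∀ i, a i = π i * q i + r i := fun i => (Nat.div_add_mod (a i) (π i)).symm
  have hprod : ∏ i, g i ^ a i = (∏ i, g i ^ r i) * ∏ i, (g i ^ π i) ^ q i := by
    rw [← Finset.prod_mul_distrib]
    refine Finset.prod_congr rfl fun i _ => ?_
    rw [← pow_mul, ← pow_add, add_comm, ← har i]
  -- degrees
  have hdegr : ∑ i, r i * w i ≤ e := by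
    refine le_trans (Finset.sum_le_sum fun i _ => ?_) he
    have h1 : r i ≤ π i - 1 := by
      have := Nat.mod_lt (a i) (hπpos i)
      simp only [hr]; omega
    calc r i * w i ≤ (π i - 1) * w i := Nat.mul_le_mul_right _ h1
      _ = 6 - w i := by rw [Nat.sub_mul, hπw i, one_mul]
  have hsum : ∑ i, r i * w i + 6 * ∑ i, q i = m * (6 * e) := by
    rw [← ha, Finset.mul_sum, ← Finset.sum_add_distrib]
    refine Finset.sum_congr rfl fun i _ => ?_
    rw [har i, add_mul, add_comm, mul_right_comm, hπw i]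
  have hdvd : 6 ∣ ∑ i, r i * w i := by
    have h1 : 6 ∣ m * (6 * e) := ⟨m * e, by ring⟩
    rw [← hsum] at h1
    exact (Nat.dvd_add_left (dvd_mul_right 6 _)).1 h1
  obtain ⟨ρ, hρ⟩ := hdvd
  -- blocks
  set M : Multiset R := ∑ i, Multiset.replicate (q i) (g i ^ π i) with hM
  have hMprod : M.prod = ∏ i, (g i ^ π i) ^ q i := by
    rw [hM, Multiset.prod_sum]
    refine Finset.prod_congr rfl fun i _ => ?_
    rw [Multiset.prod_replicate]
  have hMcard : Multiset.card M = ∑ i, q i := by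
    rw [hM, Multiset.card_sum]
    refine Finset.sum_congr rfl fun i _ => ?_
    rw [Multiset.card_replicate]
  have hMmem : ∀ y ∈ M, y ∈ ℛ 6 := by
    intro y hy
    rw [hM, Multiset.mem_sum] at hy
    obtain ⟨i, -, hi⟩ := hy
    rw [Multiset.eq_of_mem_replicate hi]
    have := SetLike.pow_mem_graded (A := ℛ) (π i) (hg i)
    rwa [smul_eq_mul, hπw i] at this
  have hx : ∏ i, g i ^ r i ∈ ℛ (6 * ρ) := by
    rw [← hρ]; exact mono_mem ℛ g w hg r
  have hρe : ρ ≤ e := by omega
  have hlen : ρ + M.toList.length = e * m := by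
    rw [Multiset.length_toList, hMcard]
    have : 6 * (ρ + ∑ i, q i) = 6 * (e * m) := by
      rw [mul_add, ← hρ, hsum]; ring
    omega
  have := claimC ℛ e m hm ρ (∏ i, g i ^ r i) M.toList hρe hx
    (fun y hy => hMmem y (Multiset.mem_toList.1 hy)) hlen
  rw [Multiset.prod_toList, hMprod] at this
  rw [hprod]
  exact this

end

theorem S14053
    (k : Type u) [Field k] (R : Type u) [CommRing R] [Algebra k R]
    (ℛ : ℕ → Submodule k R) [GradedAlgebra ℛ]
    (h0 : ℛ 0 = 1)
    (hgen : Algebra.adjoin k ((ℛ 1 : Set R) ∪ (ℛ 2 : Set R) ∪ (ℛ 3 : Set R)) = ⊤)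
    [Module.Finite k (ℛ 1)] [Module.Finite k (ℛ 2)] [Module.Finite k (ℛ 3)]
    (e : ℕ) (he : 5 * Module.finrank k (ℛ 1) + 4 * Module.finrank k (ℛ 2) + 3 * Module.finrank k (ℛ 3) ≤ e)
    (m : ℕ) (hm : 0 < m) :
    ℛ (m * (6 * e)) = ℛ (6 * e) ^ m := by
  classical
  apply le_antisymm _ (pow_le ℛ (6 * e) m)
  let b₁ := Module.finBasis k (ℛ 1)
  let b₂ := Module.finBasis k (ℛ 2)
  let b₃ := Module.finBasis k (ℛ 3)
  set d₁ := Module.finrank k (ℛ 1)
  set d₂ := Module.finrank k (ℛ 2)
  set d₃ := Module.finrank k (ℛ 3)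
  let g : Fin d₁ ⊕ (Fin d₂ ⊕ Fin d₃) → R :=
    Sum.elim (fun j => (b₁ j : R)) (Sum.elim (fun j => (b₂ j : R)) (fun j => (b₃ j : R)))
  let w : Fin d₁ ⊕ (Fin d₂ ⊕ Fin d₃) → ℕ :=
    Sum.elim (fun _ => 1) (Sum.elim (fun _ => 2) (fun _ => 3))
  have hg : ∀ i, g i ∈ ℛ (w i) := by
    rintro (j | j | j)
    · exact (b₁ j).2
    · exact (b₂ j).2
    · exact (b₃ j).2
  have hw : ∀ i, 0 < w i ∧ w i ∣ 6 := by
    rintro (j | j | j) <;> simp [w] <;> decide
  have hsumw : ∑ i, (6 - w i) = 5 * d₁ + 4 * d₂ + 3 * d₃ := by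
    simp [w, Fintype.sum_sum_type]
    ring
  -- generation
  have hmemspan : ∀ (d : ℕ) (nd : ℕ) (b : Module.Basis (Fin nd) k (ℛ d)) (x : R), x ∈ ℛ d →
      (∀ j, (b j : R) ∈ Algebra.adjoin k (Set.range g)) → x ∈ Algebra.adjoin k (Set.range g) := by
    intro d nd b x hx hb
    have h1 := b.sum_repr ⟨x, hx⟩
    have h2 := congrArg (Subtype.val) h1
    simp only [Submodule.coe_sum, Submodule.coe_smul] at h2
    rw [← h2]
    exact Subalgebra.sum_mem _ fun j _ => Subalgebra.smul_mem _ (hb j) _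
  have hsurj : Algebra.adjoin k (Set.range g) = ⊤ := by
    rw [eq_top_iff, ← hgen]
    apply Algebra.adjoin_le
    rintro x ((hx | hx) | hx)
    · exact hmemspan 1 d₁ b₁ x hx fun j => Algebra.subset_adjoin ⟨Sum.inl j, rfl⟩
    · exact hmemspan 2 d₂ b₂ x hx fun j => Algebra.subset_adjoin ⟨Sum.inr (Sum.inl j), rfl⟩
    · exact hmemspan 3 d₃ b₃ x hx fun j => Algebra.subset_adjoin ⟨Sum.inr (Sum.inr j), rfl⟩
  intro r hr
  have h1 := mem_span_monomials ℛ g w hg hsurj (m * (6 * e)) r hr
  refine Submodule.span_le.2 ?_ h1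
  rintro x ⟨a, ha, rfl⟩
  exact mono_mem_pow ℛ g w hg hw e m hm (by rw [hsumw]; exact he) a ha

end Groth.Agent.H2.Veronese
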