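import Mathlib.Algebra.Homology.DerivedCategory.HomologySequence
import Mathlib.CategoryTheory.Triangulated.Subcategory
import Mathlib.CategoryTheory.ObjectProperty.Retract
import Mathlib.Algebra.Homology.ExactSequence

/-!
# Weak Serre classes give saturated triangulated subcategories of the derived category
-/

universe w v u

open CategoryTheory CategoryTheory.Limits Pretriangulated

namespace Groth.Agent.H2.WSerre

variable {A : Type u} [Category.{v} A] [Abelian A]

/-- A weak Serre class is closed under retracts. -/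
lemma prop_of_retract (P : ObjectProperty A) (h0 : ∃ Z : A, IsZero Z ∧ P Z)
    (hP : ∀ S : ComposableArrows A 4, S.Exact → P (S.obj 0) → P (S.obj 1) → P (S.obj 3) →
      P (S.obj 4) → P (S.obj 2))
    {Y X : A} (r : Retract Y X) (hX : P X) : P Y := by
  obtain ⟨Z, hZ, hPZ⟩ := h0
  have hzero : r.i ≫ (𝟙 X - r.r ≫ r.i) = 0 := by
    rw [Preadditive.comp_sub, Category.comp_id, ← Category.assoc, r.retract, Category.id_comp,
      sub_self]
  have hker : IsLimit (KernelFork.ofι r.i hzero) :=
    KernelFork.IsLimit.ofι' _ _ (fun {W} g hg => by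
      refine ⟨g ≫ r.r, ?_⟩
      rw [Preadditive.comp_sub, Category.comp_id, sub_eq_zero] at hg
      rw [Category.assoc, ← hg])
  have e3 : (ShortComplex.mk r.i (𝟙 X - r.r ≫ r.i) hzero).Exact :=
    ShortComplex.exact_of_f_is_kernel _ hker
  have e2 : (ShortComplex.mk (0 : Z ⟶ Y) r.i zero_comp).Exact := by
    rw [ShortComplex.exact_iff_mono _ rfl]
    exact inferInstanceAs (Mono r.i)
  have e1 : (ShortComplex.mk (0 : Z ⟶ Z) (0 : Z ⟶ Y) zero_comp).Exact :=
    ShortComplex.exact_of_isZero_X₂ _ hZ
  have hS : (ComposableArrows.mk₄ (0 : Z ⟶ Z) (0 : Z ⟶ Y) r.i (𝟙 X - r.r ≫ r.i)).Exact :=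
    ComposableArrows.exact_of_δ₀ e1.exact_toComposableArrows
      (ComposableArrows.exact_of_δ₀ e2.exact_toComposableArrows e3.exact_toComposableArrows)
  exact hP _ hS hPZ hPZ hX hX

variable [HasDerivedCategory.{w} A]

open DerivedCategory

/-- Objects of the derived category whose cohomology lies in `P`. -/
def Coh (P : ObjectProperty A) : ObjectProperty (DerivedCategory A) :=
  fun X => ∀ n : ℤ, P ((homologyFunctor A n).obj X)

variable (P : ObjectProperty A) [P.IsClosedUnderIsomorphisms]

instance : (Coh P).IsClosedUnderIsomorphisms where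
  of_iso e h n := P.prop_of_iso ((homologyFunctor A n).mapIso e) (h n)

lemma coh_zero (h0 : ∃ Z : A, IsZero Z ∧ P Z) : (Coh P).ContainsZero where
  exists_zero := by
    obtain ⟨Z, hZ, hPZ⟩ := h0
    obtain ⟨O, hO⟩ := HasZeroObject.zero (C := DerivedCategory A)
    refine ⟨O, hO, fun n => ?_⟩
    have : IsZero ((homologyFunctor A n).obj O) := Functor.map_isZero _ hO
    exact P.prop_of_iso (hZ.iso this) hPZ

instance : (Coh P).IsStableUnderShift ℤ where
  isStableUnderShiftBy a := ObjectProperty.IsStableUnderShiftBy.mk (fun X hX => by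
    rw [ObjectProperty.prop_shift_iff]
    intro n
    exact P.prop_of_iso (((homologyFunctor A 0).shiftIso a n (a + n) rfl).app X).symm
      (hX (a + n)))

lemma coh_closed₂
    (hP : ∀ S : ComposableArrows A 4, S.Exact → P (S.obj 0) → P (S.obj 1) → P (S.obj 3) →
      P (S.obj 4) → P (S.obj 2)) : (Coh P).IsTriangulatedClosed₂ :=
  ObjectProperty.IsTriangulatedClosed₂.mk' (fun T hT h₁ h₃ n => by
    have hS : (ComposableArrows.mk₄ (HomologySequence.δ T (n - 1) n (by omega))
        ((homologyFunctor A n).map T.mor₁) ((homologyFunctor A n).map T.mor₂)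
        (HomologySequence.δ T n (n + 1) rfl)).Exact :=
      ComposableArrows.exact_of_δ₀
        (HomologySequence.exact₁ T hT (n - 1) n (by omega)).exact_toComposableArrows
        (ComposableArrows.exact_of_δ₀ (HomologySequence.exact₂ T hT n).exact_toComposableArrows
          (HomologySequence.exact₃ T hT n (n + 1) rfl).exact_toComposableArrows)
    exact hP _ hS (h₃ (n - 1)) (h₁ n) (h₃ n) (h₁ (n + 1)))

theorem coh_isTriangulated (h0 : ∃ Z : A, IsZero Z ∧ P Z)
    (hP : ∀ S : ComposableArrows A 4, S.Exact → P (S.obj 0) → P (S.obj 1) → P (S.obj 3) →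
      P (S.obj 4) → P (S.obj 2)) : (Coh P).IsTriangulated := by
  haveI := coh_zero P h0
  haveI := coh_closed₂ P hP
  exact { }

theorem coh_isStableUnderRetracts (h0 : ∃ Z : A, IsZero Z ∧ P Z)
    (hP : ∀ S : ComposableArrows A 4, S.Exact → P (S.obj 0) → P (S.obj 1) → P (S.obj 3) →
      P (S.obj 4) → P (S.obj 2)) : (Coh P).IsStableUnderRetracts where
  of_retract := by
    intro X' X r hX n
    exact prop_of_retract P h0 hP (r.map (homologyFunctor A n)) (hX n)

end Groth.Agent.H2.WSerre
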