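import Mathlib

/-!
# Way-out functors: morphisms of long exact sequences
-/

open CategoryTheory CategoryTheory.Limits CategoryTheory.Pretriangulated

namespace Groth.Agent.H2.WayOut

section General

variable {C D : Type*} [Category C] [Category D] [HasShift C ℤ] [HasShift D ℤ]
  [Preadditive C] [Preadditive D] [HasZeroObject C] [HasZeroObject D]
  [∀ n : ℤ, (shiftFunctor C n).Additive] [∀ n : ℤ, (shiftFunctor D n).Additive]
  [Pretriangulated C] [Pretriangulated D]
  {F G : C ⥤ D} [F.CommShift ℤ] [G.CommShift ℤ] (η : F ⟶ G) [NatTrans.CommShift η ℤ]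

set_option backward.isDefEq.respectTransparency.types false in
set_option backward.defeqAttrib.useBackward true in
/-- the morphism of triangles induced by a natural transformation commuting with shifts -/
@[simps]
def triHom (T : Triangle C) : F.mapTriangle.obj T ⟶ G.mapTriangle.obj T where
  hom₁ := η.app _
  hom₂ := η.app _
  hom₃ := η.app _
  comm₁ := by simp
  comm₂ := by simp
  comm₃ := by
    dsimp
    simp only [Category.assoc, NatTrans.shift_app_comm η (1 : ℤ) T.obj₁,
      NatTrans.naturality_assoc]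

variable [F.IsTriangulated] [G.IsTriangulated]

include η in
lemma isIso₂ (T : Triangle C) (hT : T ∈ distTriang C) (h₁ : IsIso (η.app T.obj₁))
    (h₃ : IsIso (η.app T.obj₃)) : IsIso (η.app T.obj₂) :=
  isIso₂_of_isIso₁₃ (triHom η T) (F.map_distinguished T hT) (G.map_distinguished T hT) h₁ h₃

variable {𝒜 : Type*} [Category 𝒜] [Abelian 𝒜] (H : D ⥤ 𝒜) [H.IsHomological] [H.ShiftSequence ℤ]

open ComposableArrows

lemma epi_step (T : Triangle C) (hT : T ∈ distTriang C) (j j' : ℤ) (h : j + 1 = j')
    (h₀ : Epi ((H.shift j).map (η.app T.obj₃))) (h₂ : Epi ((H.shift j').map (η.app T.obj₂)))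
    (h₃ : Mono ((H.shift j').map (η.app T.obj₃))) : Epi ((H.shift j').map (η.app T.obj₁)) := by
  have hF := F.map_distinguished T hT
  have hG := G.map_distinguished T hT
  let R₁ : ComposableArrows 𝒜 3 := mk₃ (H.homologySequenceδ (F.mapTriangle.obj T) j j' h)
    ((H.shift j').map (F.mapTriangle.obj T).mor₁) ((H.shift j').map (F.mapTriangle.obj T).mor₂)
  let R₂ : ComposableArrows 𝒜 3 := mk₃ (H.homologySequenceδ (G.mapTriangle.obj T) j j' h)
    ((H.shift j').map (G.mapTriangle.obj T).mor₁) ((H.shift j').map (G.mapTriangle.obj T).mor₂)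
  have hR₁ : R₁.Exact :=
    exact_of_δ₀ (H.homologySequence_exact₁ _ hF j j' h).exact_toComposableArrows
      (H.homologySequence_exact₂ _ hF j').exact_toComposableArrows
  have hR₂ : R₂.Exact :=
    exact_of_δ₀ (H.homologySequence_exact₁ _ hG j j' h).exact_toComposableArrows
      (H.homologySequence_exact₂ _ hG j').exact_toComposableArrows
  have c₁ : (H.shift j').map (F.mapTriangle.obj T).mor₁ ≫ (H.shift j').map (triHom η T).hom₂ =
      (H.shift j').map (triHom η T).hom₁ ≫ (H.shift j').map (G.mapTriangle.obj T).mor₁ := by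
    rw [← Functor.map_comp, ← Functor.map_comp, (triHom η T).comm₁]
  have c₂ : (H.shift j').map (F.mapTriangle.obj T).mor₂ ≫ (H.shift j').map (triHom η T).hom₃ =
      (H.shift j').map (triHom η T).hom₂ ≫ (H.shift j').map (G.mapTriangle.obj T).mor₂ := by
    rw [← Functor.map_comp, ← Functor.map_comp, (triHom η T).comm₂]
  let φ : R₁ ⟶ R₂ := homMk₃ ((H.shift j).map (triHom η T).hom₃)
    ((H.shift j').map (triHom η T).hom₁)
    ((H.shift j').map (triHom η T).hom₂) ((H.shift j').map (triHom η T).hom₃)
    (H.homologySequenceδ_naturality _ _ (triHom η T) j j' h).symm c₁ c₂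
  exact Abelian.epi_of_epi_of_epi_of_mono φ hR₁ hR₂ h₀ h₂ h₃

lemma mono_step (T : Triangle C) (hT : T ∈ distTriang C) (j j' : ℤ) (h : j + 1 = j')
    (h₀ : Epi ((H.shift j).map (η.app T.obj₂))) (h₁ : Mono ((H.shift j).map (η.app T.obj₃)))
    (h₃ : Mono ((H.shift j').map (η.app T.obj₂))) : Mono ((H.shift j').map (η.app T.obj₁)) := by
  have hF := F.map_distinguished T hT
  have hG := G.map_distinguished T hT
  let R₁ : ComposableArrows 𝒜 3 := mk₃ ((H.shift j).map (F.mapTriangle.obj T).mor₂)
    (H.homologySequenceδ (F.mapTriangle.obj T) j j' h)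
    ((H.shift j').map (F.mapTriangle.obj T).mor₁)
  let R₂ : ComposableArrows 𝒜 3 := mk₃ ((H.shift j).map (G.mapTriangle.obj T).mor₂)
    (H.homologySequenceδ (G.mapTriangle.obj T) j j' h)
    ((H.shift j').map (G.mapTriangle.obj T).mor₁)
  have hR₁ : R₁.Exact :=
    exact_of_δ₀ (H.homologySequence_exact₃ _ hF j j' h).exact_toComposableArrows
      (H.homologySequence_exact₁ _ hF j j' h).exact_toComposableArrows
  have hR₂ : R₂.Exact :=
    exact_of_δ₀ (H.homologySequence_exact₃ _ hG j j' h).exact_toComposableArrows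
      (H.homologySequence_exact₁ _ hG j j' h).exact_toComposableArrows
  have c₁ : (H.shift j').map (F.mapTriangle.obj T).mor₁ ≫ (H.shift j').map (triHom η T).hom₂ =
      (H.shift j').map (triHom η T).hom₁ ≫ (H.shift j').map (G.mapTriangle.obj T).mor₁ := by
    rw [← Functor.map_comp, ← Functor.map_comp, (triHom η T).comm₁]
  have c₂ : (H.shift j).map (F.mapTriangle.obj T).mor₂ ≫ (H.shift j).map (triHom η T).hom₃ =
      (H.shift j).map (triHom η T).hom₂ ≫ (H.shift j).map (G.mapTriangle.obj T).mor₂ := by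
    rw [← Functor.map_comp, ← Functor.map_comp, (triHom η T).comm₂]
  let φ : R₁ ⟶ R₂ := homMk₃ ((H.shift j).map (triHom η T).hom₂)
    ((H.shift j).map (triHom η T).hom₃)
    ((H.shift j').map (triHom η T).hom₁) ((H.shift j').map (triHom η T).hom₂)
    c₂ (H.homologySequenceδ_naturality _ _ (triHom η T) j j' h).symm c₁
  exact Abelian.mono_of_epi_of_mono_of_mono φ hR₁ hR₂ h₀ h₁ h₃

end General

end Groth.Agent.H2.WayOut
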