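import Groth.Agent.Lib.Helper2.WayOut1

/-!
# Way-out right functors: the lemma on way-out functors, part (iv)
-/

universe w w' v v' u u'

open CategoryTheory CategoryTheory.Limits CategoryTheory.Pretriangulated

namespace Groth.Agent.H2.WayOut

variable {A : Type u} [Category.{v} A] [Abelian A] [HasDerivedCategory.{w} A]
    {B : Type u'} [Category.{v'} B] [Abelian B] [HasDerivedCategory.{w'} B]
    (F G : DerivedCategory A ⥤ DerivedCategory B) [F.CommShift ℤ] [G.CommShift ℤ]

/-- a way-out right functor sends all objects in degree `0` to objects which are uniformly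
bounded below -/
lemma exists_uniform_bound
    (hF : ∀ n₁ : ℤ, ∃ n₂ : ℤ, ∀ Y : DerivedCategory A, Y.IsGE n₂ → (F.obj Y).IsGE n₁) :
    ∃ m : ℤ, ∀ X : A, (F.obj ((DerivedCategory.singleFunctor A 0).obj X)).IsGE m := by
  obtain ⟨n₂, h⟩ := hF 0
  refine ⟨-n₂, fun X => ?_⟩
  have h1 := h ((DerivedCategory.singleFunctor A n₂).obj X) inferInstance
  let e : ((DerivedCategory.singleFunctor A n₂).obj X)⟦n₂⟧ ≅
      (DerivedCategory.singleFunctor A 0).obj X :=
    ((DerivedCategory.singleFunctors A).shiftIso n₂ 0 n₂ (by simp)).app X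
  have h2 : ((F.obj ((DerivedCategory.singleFunctor A n₂).obj X))⟦n₂⟧).IsGE (-n₂) :=
    DerivedCategory.TStructure.t.isGE_shift _ 0 n₂ (-n₂) (by simp)
  let e' : (F.obj ((DerivedCategory.singleFunctor A n₂).obj X))⟦n₂⟧ ≅
      F.obj ((DerivedCategory.singleFunctor A 0).obj X) :=
    ((F.commShiftIso n₂).app _).symm ≪≫ F.mapIso e
  exact DerivedCategory.TStructure.t.isGE_of_iso e' (-n₂)

lemma isIso_of_isZero' {𝒞 : Type*} [Category 𝒞] [HasZeroMorphisms 𝒞] {X Y : 𝒞} (f : X ⟶ Y)
    (h₁ : IsZero X) (h₂ : IsZero Y) : IsIso f :=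
  ⟨0, h₁.eq_of_src _ _, h₂.eq_of_src _ _⟩

lemma mono_of_isZero' {𝒞 : Type*} [Category 𝒞] [HasZeroMorphisms 𝒞] {X Y : 𝒞} (f : X ⟶ Y)
    (h₁ : IsZero X) : Mono f :=
  ⟨fun _ _ _ => h₁.eq_of_tgt _ _⟩

variable {F G}
variable [F.IsTriangulated] [G.IsTriangulated] (η : F ⟶ G) [NatTrans.CommShift η ℤ]

/-- the map induced by `η` on `H^j` -/
noncomputable abbrev hMap (j : ℤ) (Y : DerivedCategory A) :
    (DerivedCategory.homologyFunctor B j).obj (F.obj Y) ⟶
      (DerivedCategory.homologyFunctor B j).obj (G.obj Y) :=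
  (DerivedCategory.homologyFunctor B j).map (η.app Y)

lemma hMap_epi_step (T : Triangle (DerivedCategory A)) (hT : T ∈ distTriang (DerivedCategory A))
    (j j' : ℤ) (h : j + 1 = j')
    (h₀ : Epi (hMap η j T.obj₃)) (h₂ : Epi (hMap η j' T.obj₂))
    (h₃ : Mono (hMap η j' T.obj₃)) : Epi (hMap η j' T.obj₁) :=
  epi_step η (DerivedCategory.homologyFunctor B 0) T hT j j' h h₀ h₂ h₃

lemma hMap_mono_step (T : Triangle (DerivedCategory A)) (hT : T ∈ distTriang (DerivedCategory A))
    (j j' : ℤ) (h : j + 1 = j')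
    (h₀ : Epi (hMap η j T.obj₂)) (h₁ : Mono (hMap η j T.obj₃))
    (h₃ : Mono (hMap η j' T.obj₂)) : Mono (hMap η j' T.obj₁) :=
  mono_step η (DerivedCategory.homologyFunctor B 0) T hT j j' h h₀ h₁ h₃

theorem isIso_of_wayOutRight (P : ObjectProperty A)
    (hP : ∀ X : A, ∃ (Y : A) (i : X ⟶ Y), P Y ∧ Mono i)
    (hF : ∀ n₁ : ℤ, ∃ n₂ : ℤ, ∀ Y : DerivedCategory A, Y.IsGE n₂ → (F.obj Y).IsGE n₁)
    (hG : ∀ n₁ : ℤ, ∃ n₂ : ℤ, ∀ Y : DerivedCategory A, Y.IsGE n₂ → (G.obj Y).IsGE n₁)
    (hη : ∀ X : A, P X → IsIso (η.app ((DerivedCategory.singleFunctor A 0).obj X)))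
    (X : A) :
    IsIso (η.app ((DerivedCategory.singleFunctor A 0).obj X)) := by
  obtain ⟨m₁, h₁⟩ := exists_uniform_bound F hF
  obtain ⟨m₂, h₂⟩ := exists_uniform_bound G hG
  have key : ∀ j : ℤ, min m₁ m₂ - 1 ≤ j → ∀ X : A,
      (∀ i : ℤ, i < j → IsIso (hMap η i ((DerivedCategory.singleFunctor A 0).obj X))) ∧
        Mono (hMap η j ((DerivedCategory.singleFunctor A 0).obj X)) := by
    intro j hj
    induction j, hj using Int.le_induction with
    | base =>
      intro X
      have := h₁ X
      have := h₂ X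
      refine ⟨fun i hi => ?_, ?_⟩
      · exact isIso_of_isZero' _
          (DerivedCategory.isZero_of_isGE _ m₁ i (by have := min_le_left m₁ m₂; omega))
          (DerivedCategory.isZero_of_isGE _ m₂ i (by have := min_le_right m₁ m₂; omega))
      · exact mono_of_isZero' _
          (DerivedCategory.isZero_of_isGE _ m₁ _ (by have := min_le_left m₁ m₂; omega))
    | succ j hj ih =>
      have hiso : ∀ X : A, IsIso (hMap η j ((DerivedCategory.singleFunctor A 0).obj X)) := by
        intro X
        obtain ⟨I, i, hI, _⟩ := hP X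
        have hS : (ShortComplex.mk i (cokernel.π i) (cokernel.condition i)).ShortExact :=
          { exact := ShortComplex.exact_cokernel i }
        have := hη I hI
        have hC := ih (cokernel i)
        have e₀ : Epi (hMap η (j - 1) ((DerivedCategory.singleFunctor A 0).obj (cokernel i))) := by
          have := (hC.1 (j - 1) (by omega))
          infer_instance
        have e₂ : Epi (hMap η j ((DerivedCategory.singleFunctor A 0).obj I)) := by
          infer_instance
        have := (ih X).2
        have : Epi (hMap η j ((DerivedCategory.singleFunctor A 0).obj X)) :=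
          hMap_epi_step η hS.singleTriangle hS.singleTriangle_distinguished (j - 1) j (by omega)
            e₀ e₂ hC.2
        exact isIso_of_mono_of_epi _
      intro X
      refine ⟨fun i hi => ?_, ?_⟩
      · obtain hi | rfl := (Int.lt_add_one_iff.1 hi).lt_or_eq
        · exact (ih X).1 i hi
        · exact hiso X
      · obtain ⟨I, i, hI, _⟩ := hP X
        have hS : (ShortComplex.mk i (cokernel.π i) (cokernel.condition i)).ShortExact :=
          { exact := ShortComplex.exact_cokernel i }
        have := hη I hI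
        have := hiso (cokernel i)
        have e₀ : Epi (hMap η j ((DerivedCategory.singleFunctor A 0).obj I)) := by
          infer_instance
        have e₁ : Mono (hMap η j ((DerivedCategory.singleFunctor A 0).obj (cokernel i))) := by
          infer_instance
        have e₃ : Mono (hMap η (j + 1) ((DerivedCategory.singleFunctor A 0).obj I)) := by
          infer_instance
        exact hMap_mono_step η hS.singleTriangle hS.singleTriangle_distinguished j (j + 1) rfl
          e₀ e₁ e₃
  rw [DerivedCategory.isIso_iff]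
  intro n
  exact (key (max (n + 1) (min m₁ m₂ - 1)) (le_max_right _ _) X).1 n
    (lt_of_lt_of_le (by omega) (le_max_left _ _))

end Groth.Agent.H2.WayOut
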