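import Groth.Agent.Lib.Helper2.WayOut2

/-!
# The lemma on way-out functors, parts (i)-(iii)
-/

universe w w' v v' u u'

open CategoryTheory CategoryTheory.Limits CategoryTheory.Pretriangulated

namespace Groth.Agent.H2.WayOut

section General

variable {D : Type*} [Category D] [HasShift D ℤ] [Preadditive D] [HasZeroObject D]
  [∀ n : ℤ, (shiftFunctor D n).Additive] [Pretriangulated D]
  {𝒜 : Type*} [Category 𝒜] [Abelian 𝒜] (H : D ⥤ 𝒜) [H.IsHomological] [H.ShiftSequence ℤ]

lemma isIso_shift_map_mor₁ (T : Triangle D) (hT : T ∈ distTriang D) (n₀ n₁ : ℤ) (h : n₀ + 1 = n₁)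
    (h0 : IsZero ((H.shift n₀).obj T.obj₃)) (h1 : IsZero ((H.shift n₁).obj T.obj₃)) :
    IsIso ((H.shift n₁).map T.mor₁) := by
  have : Mono ((H.shift n₁).map T.mor₁) := by
    rw [H.homologySequence_mono_shift_map_mor₁_iff T hT n₀ n₁ h]
    exact h0.eq_of_src _ _
  have : Epi ((H.shift n₁).map T.mor₁) := by
    rw [H.homologySequence_epi_shift_map_mor₁_iff T hT n₁]
    exact h1.eq_of_tgt _ _
  exact isIso_of_mono_of_epi _

lemma isIso_shift_map_mor₂ (T : Triangle D) (hT : T ∈ distTriang D) (n₀ n₁ : ℤ) (h : n₀ + 1 = n₁)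
    (h0 : IsZero ((H.shift n₀).obj T.obj₁)) (h1 : IsZero ((H.shift n₁).obj T.obj₁)) :
    IsIso ((H.shift n₀).map T.mor₂) := by
  have : Mono ((H.shift n₀).map T.mor₂) := by
    rw [H.homologySequence_mono_shift_map_mor₂_iff T hT n₀]
    exact h0.eq_of_src _ _
  have : Epi ((H.shift n₀).map T.mor₂) := by
    rw [H.homologySequence_epi_shift_map_mor₂_iff T hT n₀ n₁ h]
    exact h1.eq_of_tgt _ _
  exact isIso_of_mono_of_epi _

end General

variable {A : Type u} [Category.{v} A] [Abelian A] [HasDerivedCategory.{w} A]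
    {B : Type u'} [Category.{v'} B] [Abelian B] [HasDerivedCategory.{w'} B]

open DerivedCategory

lemma isIso_homologyFunctor_map_mor₁ (T : Triangle (DerivedCategory A))
    (hT : T ∈ distTriang (DerivedCategory A)) (n₀ n₁ : ℤ) (h : n₀ + 1 = n₁)
    (h0 : IsZero ((homologyFunctor A n₀).obj T.obj₃))
    (h1 : IsZero ((homologyFunctor A n₁).obj T.obj₃)) :
    IsIso ((homologyFunctor A n₁).map T.mor₁) :=
  isIso_shift_map_mor₁ (homologyFunctor A 0) T hT n₀ n₁ h h0 h1

lemma isIso_homologyFunctor_map_mor₂ (T : Triangle (DerivedCategory A))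
    (hT : T ∈ distTriang (DerivedCategory A)) (n₀ n₁ : ℤ) (h : n₀ + 1 = n₁)
    (h0 : IsZero ((homologyFunctor A n₀).obj T.obj₁))
    (h1 : IsZero ((homologyFunctor A n₁).obj T.obj₁)) :
    IsIso ((homologyFunctor A n₀).map T.mor₂) :=
  isIso_shift_map_mor₂ (homologyFunctor A 0) T hT n₀ n₁ h h0 h1

lemma isIso_homology_truncLEι (X : DerivedCategory A) (n i : ℤ) (hi : i ≤ n) :
    IsIso ((homologyFunctor A i).map ((TStructure.t.truncLEι n).app X)) :=
  isIso_homologyFunctor_map_mor₁ _ (TStructure.t.triangleLEGT_distinguished n X) (i - 1) i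
    (by omega) (isZero_of_isGE ((TStructure.t.truncGT n).obj X) (n + 1) (i - 1) (by omega))
    (isZero_of_isGE ((TStructure.t.truncGT n).obj X) (n + 1) i (by omega))

lemma isIso_homology_truncGTπ (X : DerivedCategory A) (n i : ℤ) (hi : n < i) :
    IsIso ((homologyFunctor A i).map ((TStructure.t.truncGTπ n).app X)) :=
  isIso_homologyFunctor_map_mor₂ _ (TStructure.t.triangleLEGT_distinguished n X) i (i + 1)
    rfl (isZero_of_isLE ((TStructure.t.truncLE n).obj X) n i hi)
    (isZero_of_isLE ((TStructure.t.truncLE n).obj X) n (i + 1) (by omega))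

/-- all cohomology objects lie in `P` -/
def Good (P : ObjectProperty A) (X : DerivedCategory A) : Prop :=
  ∀ i : ℤ, P ((homologyFunctor A i).obj X)

section

variable {P : ObjectProperty A} [P.IsClosedUnderIsomorphisms] (hP : ∀ Z : A, IsZero Z → P Z)

include hP

lemma Good.truncLE {X : DerivedCategory A} (hX : Good P X) (n : ℤ) :
    Good P ((TStructure.t.truncLE n).obj X) := by
  intro i
  by_cases hi : i ≤ n
  · have := isIso_homology_truncLEι X n i hi
    exact P.prop_of_iso (asIso ((homologyFunctor A i).map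
      ((TStructure.t.truncLEι n).app X))).symm (hX i)
  · exact hP _ (isZero_of_isLE _ n i (by omega))

lemma Good.truncGT {X : DerivedCategory A} (hX : Good P X) (n : ℤ) :
    Good P ((TStructure.t.truncGT n).obj X) := by
  intro i
  by_cases hi : n < i
  · have := isIso_homology_truncGTπ X n i hi
    exact P.prop_of_iso (asIso ((homologyFunctor A i).map
      ((TStructure.t.truncGTπ n).app X))) (hX i)
  · exact hP _ (isZero_of_isGE _ (n + 1) i (by omega))

end

variable {F G : DerivedCategory A ⥤ DerivedCategory B} [F.CommShift ℤ] [G.CommShift ℤ]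
  [F.IsTriangulated] [G.IsTriangulated] (η : F ⟶ G) [NatTrans.CommShift η ℤ]

variable {P : ObjectProperty A} [P.IsClosedUnderIsomorphisms]
  (hη : ∀ X : A, P X → IsIso (η.app ((DerivedCategory.singleFunctor A 0).obj X)))

include hη

omit [F.IsTriangulated] [G.IsTriangulated] in
lemma isIso_of_single (X : DerivedCategory A) (n : ℤ) [X.IsGE n] [X.IsLE n] (hX : Good P X) :
    IsIso (η.app X) := by
  obtain ⟨Y, ⟨e⟩⟩ := exists_iso_singleFunctor_obj_of_isGE_of_isLE X n
  have hY : P Y := P.prop_of_iso ((homologyFunctor A n).mapIso e ≪≫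
    (singleFunctorCompHomologyFunctorIso A n).app Y) (hX n)
  rw [NatTrans.isIso_app_iff_of_iso η e]
  let e' : ((singleFunctor A 0).obj Y)⟦-n⟧ ≅ (singleFunctor A n).obj Y :=
    ((singleFunctors A).shiftIso (-n) n 0 (by simp)).app Y
  rw [← NatTrans.isIso_app_iff_of_iso η e', NatTrans.app_shift η (-n)]
  have := hη Y hY
  infer_instance

variable (hP : ∀ Z : A, IsZero Z → P Z)

include hP

lemma isIso_of_bounded : ∀ (d : ℕ) (X : DerivedCategory A) (a : ℤ), X.IsGE a → X.IsLE (a + d) →
    Good P X → IsIso (η.app X) := by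
  intro d
  induction d with
  | zero =>
    intro X a h1 h2 hX
    have : X.IsLE a := by simpa using h2
    exact isIso_of_single η hη X a hX
  | succ d ih =>
    intro X a h1 h2 hX
    have hT := TStructure.t.triangleLEGT_distinguished a X
    have i1 : IsIso (η.app ((TStructure.t.truncLE a).obj X)) :=
      isIso_of_single η hη _ a (hX.truncLE hP a)
    have : X.IsLE (a + 1 + d) := TStructure.t.isLE_of_le X (a + ((d + 1 : ℕ) : ℤ)) _
      (by push_cast; omega)
    have i3 : IsIso (η.app ((TStructure.t.truncGT a).obj X)) :=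
      ih _ (a + 1) inferInstance inferInstance (hX.truncGT hP a)
    exact isIso₂ η _ hT i1 i3

lemma isIso_of_isGE_of_isLE (X : DerivedCategory A) (a b : ℤ) [X.IsGE a] [X.IsLE b]
    (hX : Good P X) : IsIso (η.app X) := by
  have : X.IsLE (a + ((b - a).toNat : ℤ)) := TStructure.t.isLE_of_le X b _ (by omega)
  exact isIso_of_bounded η hη hP (b - a).toNat X a inferInstance inferInstance hX

omit hη hP [P.IsClosedUnderIsomorphisms] in
lemma hMap_isIso_iff_of_mor₁ (T : Triangle (DerivedCategory A)) (j : ℤ)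
    (hF : IsIso ((homologyFunctor B j).map (F.map T.mor₁)))
    (hG : IsIso ((homologyFunctor B j).map (G.map T.mor₁))) :
    IsIso (hMap η j T.obj₁) ↔ IsIso (hMap η j T.obj₂) := by
  have sq : (homologyFunctor B j).map (F.map T.mor₁) ≫ hMap η j T.obj₂ =
      hMap η j T.obj₁ ≫ (homologyFunctor B j).map (G.map T.mor₁) := by
    dsimp only [hMap]
    rw [← Functor.map_comp, ← Functor.map_comp, η.naturality]
  constructor
  · intro h
    have : hMap η j T.obj₂ = inv ((homologyFunctor B j).map (F.map T.mor₁)) ≫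
        hMap η j T.obj₁ ≫ (homologyFunctor B j).map (G.map T.mor₁) := by
      rw [← sq, IsIso.inv_hom_id_assoc]
    rw [this]
    infer_instance
  · intro h
    have : hMap η j T.obj₁ = ((homologyFunctor B j).map (F.map T.mor₁) ≫ hMap η j T.obj₂) ≫
        inv ((homologyFunctor B j).map (G.map T.mor₁)) := by
      rw [sq, Category.assoc, IsIso.hom_inv_id, Category.comp_id]
    rw [this]
    infer_instance

omit hη hP [P.IsClosedUnderIsomorphisms] in
lemma hMap_isIso_iff_of_mor₂ (T : Triangle (DerivedCategory A)) (j : ℤ)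
    (hF : IsIso ((homologyFunctor B j).map (F.map T.mor₂)))
    (hG : IsIso ((homologyFunctor B j).map (G.map T.mor₂))) :
    IsIso (hMap η j T.obj₂) ↔ IsIso (hMap η j T.obj₃) := by
  have sq : (homologyFunctor B j).map (F.map T.mor₂) ≫ hMap η j T.obj₃ =
      hMap η j T.obj₂ ≫ (homologyFunctor B j).map (G.map T.mor₂) := by
    dsimp only [hMap]
    rw [← Functor.map_comp, ← Functor.map_comp, η.naturality]
  constructor
  · intro h
    have : hMap η j T.obj₃ = inv ((homologyFunctor B j).map (F.map T.mor₂)) ≫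
        hMap η j T.obj₂ ≫ (homologyFunctor B j).map (G.map T.mor₂) := by
      rw [← sq, IsIso.inv_hom_id_assoc]
    rw [this]
    infer_instance
  · intro h
    have : hMap η j T.obj₂ = ((homologyFunctor B j).map (F.map T.mor₂) ≫ hMap η j T.obj₃) ≫
        inv ((homologyFunctor B j).map (G.map T.mor₂)) := by
      rw [sq, Category.assoc, IsIso.hom_inv_id, Category.comp_id]
    rw [this]
    infer_instance

variable
    (hF' : ∀ n₁ : ℤ, ∃ n₂ : ℤ, ∀ Y : DerivedCategory A, Y.IsLE n₂ → (F.obj Y).IsLE n₁)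
    (hG' : ∀ n₁ : ℤ, ∃ n₂ : ℤ, ∀ Y : DerivedCategory A, Y.IsLE n₂ → (G.obj Y).IsLE n₁)

include hF' hG'

/-- bounded above case -/
lemma hMap_isIso_of_isLE (X : DerivedCategory A) (b : ℤ) [X.IsLE b] (hX : Good P X) (j : ℤ) :
    IsIso (hMap η j X) := by
  obtain ⟨m₁, h₁⟩ := hF' (j - 1)
  obtain ⟨m₂, h₂⟩ := hG' (j - 1)
  let m := min m₁ m₂
  have hT := TStructure.t.triangleLEGT_distinguished m X
  have l₁ : ((TStructure.t.truncLE m).obj X).IsLE m₁ :=
    TStructure.t.isLE_of_le _ m m₁ (min_le_left _ _)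
  have l₂ : ((TStructure.t.truncLE m).obj X).IsLE m₂ :=
    TStructure.t.isLE_of_le _ m m₂ (min_le_right _ _)
  have := h₁ _ l₁
  have := h₂ _ l₂
  have i3 : IsIso (η.app ((TStructure.t.truncGT m).obj X)) :=
    isIso_of_isGE_of_isLE η hη hP _ (m + 1) b (hX.truncGT hP m)
  have i3' : IsIso (hMap η j ((TStructure.t.truncGT m).obj X)) := by
    dsimp only [hMap]; infer_instance
  refine (hMap_isIso_iff_of_mor₂ η ((TStructure.t.triangleLEGT m).obj X) j ?_ ?_).2 i3'
  · exact isIso_homologyFunctor_map_mor₂ _ (F.map_distinguished _ hT) j (j + 1) rfl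
      (isZero_of_isLE (F.obj ((TStructure.t.truncLE m).obj X)) (j - 1) j (by omega))
      (isZero_of_isLE (F.obj ((TStructure.t.truncLE m).obj X)) (j - 1) (j + 1) (by omega))
  · exact isIso_homologyFunctor_map_mor₂ _ (G.map_distinguished _ hT) j (j + 1) rfl
      (isZero_of_isLE (G.obj ((TStructure.t.truncLE m).obj X)) (j - 1) j (by omega))
      (isZero_of_isLE (G.obj ((TStructure.t.truncLE m).obj X)) (j - 1) (j + 1) (by omega))

variable
    (hF : ∀ n₁ : ℤ, ∃ n₂ : ℤ, ∀ Y : DerivedCategory A, Y.IsGE n₂ → (F.obj Y).IsGE n₁)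
    (hG : ∀ n₁ : ℤ, ∃ n₂ : ℤ, ∀ Y : DerivedCategory A, Y.IsGE n₂ → (G.obj Y).IsGE n₁)

include hF hG

theorem isIso_of_wayOut (X : DerivedCategory A) (hX : Good P X) : IsIso (η.app X) := by
  rw [DerivedCategory.isIso_iff]
  intro j
  obtain ⟨m₁, h₁⟩ := hF (j + 1)
  obtain ⟨m₂, h₂⟩ := hG (j + 1)
  let m := max m₁ m₂
  have hT := TStructure.t.triangleLEGT_distinguished (m - 1) X
  have g₀ : ((TStructure.t.truncGT (m - 1)).obj X).IsGE m := inferInstance
  have l₁ : ((TStructure.t.truncGT (m - 1)).obj X).IsGE m₁ :=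
    TStructure.t.isGE_of_ge _ m₁ m (le_max_left _ _)
  have l₂ : ((TStructure.t.truncGT (m - 1)).obj X).IsGE m₂ :=
    TStructure.t.isGE_of_ge _ m₂ m (le_max_right _ _)
  have := h₁ _ l₁
  have := h₂ _ l₂
  have i1 : IsIso (hMap η j ((TStructure.t.truncLE (m - 1)).obj X)) :=
    hMap_isIso_of_isLE η hη hP hF' hG' _ (m - 1) (hX.truncLE hP (m - 1)) j
  refine (hMap_isIso_iff_of_mor₁ η ((TStructure.t.triangleLEGT (m - 1)).obj X) j ?_ ?_).1 i1
  · exact isIso_homologyFunctor_map_mor₁ _ (F.map_distinguished _ hT) (j - 1) j (by omega)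
      (isZero_of_isGE (F.obj ((TStructure.t.truncGT (m - 1)).obj X)) (j + 1) (j - 1) (by omega))
      (isZero_of_isGE (F.obj ((TStructure.t.truncGT (m - 1)).obj X)) (j + 1) j (by omega))
  · exact isIso_homologyFunctor_map_mor₁ _ (G.map_distinguished _ hT) (j - 1) j (by omega)
      (isZero_of_isGE (G.obj ((TStructure.t.truncGT (m - 1)).obj X)) (j + 1) (j - 1) (by omega))
      (isZero_of_isGE (G.obj ((TStructure.t.truncGT (m - 1)).obj X)) (j + 1) j (by omega))

end Groth.Agent.H2.WayOut
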