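import Groth.Agent.Lib.Helper2.WeylTrans

/-! Conjugacy of simple roots through rank-two parabolic subgroups (S2957). -/

namespace Groth.Agent.H2

open RootPairing

variable {ι R M N : Type*} [CommRing R] [AddCommGroup M] [Module R M] [AddCommGroup N] [Module R N]

lemma aut_smul_zsmul (P : RootPairing ι R M N) (g : P.Aut) (n : ℤ) (x : M) :
    g • (n • x) = n • (g • x) := by
  rw [aut_smul_def, aut_smul_def, map_zsmul]

lemma equivReflection_smul_weight (P : RootPairing ι R M N) (a : ι) (x : M) :
    Equiv.reflection P a • x = P.reflection a x := rfl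

variable [CharZero R] [IsDomain R]

section
variable (P : RootPairing ι R M N) [Finite ι] [P.IsCrystallographic] [P.IsReduced]

omit [IsDomain R] [P.IsReduced] [Finite ι] [P.IsCrystallographic] in
lemma height_linear (b : P.Base) {i j k : ι} {x y : ℤ}
    (hk : P.root k = x • P.root i + y • P.root j) :
    b.height k = x * b.height i + y * b.height j := by
  obtain ⟨fi, -, -, hfi⟩ := b.exists_root_eq_sum_int i
  obtain ⟨fj, -, -, hfj⟩ := b.exists_root_eq_sum_int j
  have hk' : P.root k = ∑ l ∈ b.support, (x * fi l + y * fj l) • P.root l := by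
    rw [hk, hfi, hfj, Finset.smul_sum, Finset.smul_sum, ← Finset.sum_add_distrib]
    refine Finset.sum_congr rfl fun l _ => ?_
    rw [add_smul, mul_smul, mul_smul]
  rw [RootPairing.Base.height_eq_sum hk', RootPairing.Base.height_eq_sum hfi,
    RootPairing.Base.height_eq_sum hfj, Finset.sum_add_distrib, Finset.mul_sum, Finset.mul_sum]

/-- the lattice spanned by two roots is stable under the group generated by their reflections -/
lemma smul_mem_span_pair (α γ : ι) (v : P.Aut)
    (hv : v ∈ Subgroup.closure {Equiv.reflection P α, Equiv.reflection P γ}) :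
    ∀ z ∈ Submodule.span ℤ {P.root α, P.root γ},
      v • z ∈ Submodule.span ℤ {P.root α, P.root γ} := by
  set Λ := Submodule.span ℤ {P.root α, P.root γ} with hΛ
  have hαΛ : P.root α ∈ Λ := Submodule.subset_span (by simp)
  have hγΛ : P.root γ ∈ Λ := Submodule.subset_span (by simp)
  have hgen : ∀ c : ι, c = α ∨ c = γ → ∀ z ∈ Λ, Equiv.reflection P c • z ∈ Λ := by
    intro c hc z hz
    have hcΛ : P.root c ∈ Λ := by rcases hc with rfl | rfl <;> assumption
    induction hz using Submodule.span_induction with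
    | mem z hz =>
      have hz' : z = P.root α ∨ z = P.root γ := by simpa using hz
      rw [equivReflection_smul_weight]
      rcases hz' with rfl | rfl
      · rw [P.reflection_apply_root' ℤ]
        exact Λ.sub_mem hαΛ (Λ.smul_mem _ hcΛ)
      · rw [P.reflection_apply_root' ℤ]
        exact Λ.sub_mem hγΛ (Λ.smul_mem _ hcΛ)
    | zero =>
      rw [aut_smul_def, map_zero]; exact Λ.zero_mem
    | add x y _ _ hx hy =>
      rw [aut_smul_add]; exact Λ.add_mem hx hy
    | smul n x _ hx =>
      rw [aut_smul_zsmul]; exact Λ.smul_mem n hx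
  have key : (∀ z ∈ Λ, v • z ∈ Λ) ∧ (∀ z ∈ Λ, v⁻¹ • z ∈ Λ) := by
    induction hv using Subgroup.closure_induction with
    | mem g hg =>
      have hg' : g = Equiv.reflection P α ∨ g = Equiv.reflection P γ := by simpa using hg
      rcases hg' with rfl | rfl
      · refine ⟨hgen α (Or.inl rfl), ?_⟩
        rw [Equiv.reflection_inv]; exact hgen α (Or.inl rfl)
      · refine ⟨hgen γ (Or.inr rfl), ?_⟩
        rw [Equiv.reflection_inv]; exact hgen γ (Or.inr rfl)
    | one => simp
    | mul g₁ g₂ _ _ h₁ h₂ =>
      refine ⟨fun z hz => ?_, fun z hz => ?_⟩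
      · rw [mul_smul]; exact h₁.1 _ (h₂.1 z hz)
      · rw [mul_inv_rev, mul_smul]; exact h₂.2 _ (h₁.2 z hz)
    | inv g _ h =>
      refine ⟨h.2, ?_⟩
      rw [inv_inv]; exact h.1
  exact key.1

/-- key rank-two lemma -/
lemma smul_eq_or_of_isPos (b : P.Base) (α γ β : ι) (hα : α ∈ b.support) (hγ : γ ∈ b.support)
    (hβ : β ∈ b.support) (hαγ : α ≠ γ) (w' v : P.Aut)
    (hv : v ∈ Subgroup.closure {Equiv.reflection P α, Equiv.reflection P γ})
    (hposα : b.IsPos (w' • α)) (hposγ : b.IsPos (w' • γ)) (hβeq : w' • (v • α) = β) :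
    v • α = α ∨ v • α = γ := by
  have h1 : P.root (v • α) ∈ Submodule.span ℤ {P.root α, P.root γ} := by
    rw [root_aut_smul]
    exact smul_mem_span_pair P α γ v hv _ (Submodule.subset_span (by simp))
  obtain ⟨x, y, hxy⟩ := Submodule.mem_span_pair.1 h1
  -- signs
  classical
  let f : ι → ℤ := fun l => if l = α then x else if l = γ then y else 0
  have hfα : f α = x := by simp [f]
  have hfγ : f γ = y := by simp [f, hαγ.symm]
  have hsum : ∑ l ∈ b.support, f l • P.root l = x • P.root α + y • P.root γ := by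
    rw [Finset.sum_eq_add α γ hαγ, hfα, hfγ]
    · intro c _ hc
      simp [f, hc.1, hc.2]
    · intro h; exact absurd hα h
    · intro h; exact absurd hγ h
  have hsupp : f.support ⊆ b.support := by
    intro l hl
    simp only [Function.mem_support, f] at hl
    by_cases h1 : l = α
    · rw [h1]; exact hα
    · by_cases h2 : l = γ
      · rw [h2]; exact hγ
      · simp [h1, h2] at hl
  have hsign := b.pos_or_neg_of_sum_smul_root_mem f (by rw [hsum, hxy]; exact ⟨_, rfl⟩) hsupp
  -- heights
  have hroot : P.root β = x • P.root (w' • α) + y • P.root (w' • γ) := by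
    rw [← hβeq, root_aut_smul, ← hxy, aut_smul_add, aut_smul_zsmul, aut_smul_zsmul,
      root_aut_smul, root_aut_smul]
  have hht := height_linear P b hroot
  rw [RootPairing.Base.height_one_of_mem_support hβ] at hht
  rw [RootPairing.Base.isPos_iff] at hposα hposγ
  set h₁ := b.height (w' • α)
  set h₂ := b.height (w' • γ)
  rcases hsign with hpos | hneg
  · have hx0 : 0 ≤ x := by have := hpos.le α; simpa [hfα] using this
    have hy0 : 0 ≤ y := by have := hpos.le γ; simpa [hfγ] using this
    have e1 : x ≤ x * h₁ := le_mul_of_one_le_right hx0 hposα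
    have e2 : y ≤ y * h₂ := le_mul_of_one_le_right hy0 hposγ
    have hcases : (x = 1 ∧ y = 0) ∨ (x = 0 ∧ y = 1) := by
      have hne : ¬ (x = 0 ∧ y = 0) := by
        rintro ⟨rfl, rfl⟩
        simp at hht
      omega
    rcases hcases with ⟨rfl, rfl⟩ | ⟨rfl, rfl⟩
    · left
      apply P.root.injective
      rw [← hxy]; simp
    · right
      apply P.root.injective
      rw [← hxy]; simp
  · exfalso
    have hx0 : x ≤ 0 := by have := hneg.le α; simpa [hfα] using this
    have hy0 : y ≤ 0 := by have := hneg.le γ; simpa [hfγ] using this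
    have e1 : x * h₁ ≤ 0 := mul_nonpos_of_nonpos_of_nonneg hx0 hposα.le
    have e2 : y * h₂ ≤ 0 := mul_nonpos_of_nonpos_of_nonneg hy0 hposγ.le
    omega

lemma closure_pair_le_weylGroup (α γ : ι) :
    Subgroup.closure {Equiv.reflection P α, Equiv.reflection P γ} ≤ P.weylGroup := by
  rw [Subgroup.closure_le]
  intro g hg
  have hg' : g = Equiv.reflection P α ∨ g = Equiv.reflection P γ := by simpa using hg
  rcases hg' with rfl | rfl <;> exact reflection_mem_weylGroup P _

lemma exists_coset_min (b : P.Base) (α γ : ι) (hα : α ∈ b.support) (hγ : γ ∈ b.support)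
    (w : P.Aut) :
    ∃ u ∈ Subgroup.closure {Equiv.reflection P α, Equiv.reflection P γ},
      badCount P b b (w * u) ≤ badCount P b b w ∧ b.IsPos ((w * u) • α) ∧
        b.IsPos ((w * u) • γ) := by
  induction hn : badCount P b b w using Nat.strong_induction_on generalizing w with
  | _ n ih =>
    have hsα : Equiv.reflection P α ∈
        Subgroup.closure {Equiv.reflection P α, Equiv.reflection P γ} :=
      Subgroup.subset_closure (by simp)
    have hsγ : Equiv.reflection P γ ∈
        Subgroup.closure {Equiv.reflection P α, Equiv.reflection P γ} :=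
      Subgroup.subset_closure (by simp)
    by_cases hα' : b.IsPos (w • α)
    · by_cases hγ' : b.IsPos (w • γ)
      · exact ⟨1, one_mem _, by simp [hn], by simpa using hα', by simpa using hγ'⟩
      · have hlt := badCount_lt P b b w γ hγ hγ'
        obtain ⟨u, hu, hle, h1, h2⟩ := ih _ (hn ▸ hlt) (w * Equiv.reflection P γ) rfl
        refine ⟨Equiv.reflection P γ * u, mul_mem hsγ hu, ?_, ?_, ?_⟩
        · rw [← mul_assoc, ← hn]; exact hle.trans hlt.le
        · rw [← mul_assoc]; exact h1
        · rw [← mul_assoc]; exact h2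
    · have hlt := badCount_lt P b b w α hα hα'
      obtain ⟨u, hu, hle, h1, h2⟩ := ih _ (hn ▸ hlt) (w * Equiv.reflection P α) rfl
      refine ⟨Equiv.reflection P α * u, mul_mem hsα hu, ?_, ?_, ?_⟩
      · rw [← mul_assoc, ← hn]; exact hle.trans hlt.le
      · rw [← mul_assoc]; exact h1
      · rw [← mul_assoc]; exact h2

/-- chains of simple roots connected through rank-two parabolic subgroups -/
inductive Chain (b : P.Base) : ι → ι → P.Aut → Prop
  | nil (α : ι) : Chain b α α 1
  | cons (α α₁ β γ : ι) (v w' : P.Aut) (hγ : γ ∈ b.support) (hα₁ : α₁ ∈ b.support)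
      (hv : v ∈ Subgroup.closure {Equiv.reflection P α, Equiv.reflection P γ})
      (hvα : v • α = α₁) (hne : α ≠ α₁ → γ = α₁) (h : Chain b α₁ β w') : Chain b α β (w' * v)

theorem exists_chain (b : P.Base) (w : P.Aut) :
    w ∈ P.weylGroup → ∀ α ∈ b.support, ∀ β ∈ b.support, w • α = β → Chain P b α β w := by
  induction hn : badCount P b b w using Nat.strong_induction_on generalizing w with
  | _ n ih =>
    intro hw α hα β hβ hwα
    by_cases hall : ∀ c ∈ b.support, b.IsPos (w • c)
    · have h1 : w = 1 := eq_one_of_isPos_preserving P b w hw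
        (fun i hi => isPos_smul_of_simple P b b w hall hi)
      subst h1
      rw [one_smul] at hwα
      subst hwα
      exact Chain.nil α
    · push Not at hall
      obtain ⟨γ, hγ, hγneg⟩ := hall
      have hαγ : α ≠ γ := by
        rintro rfl
        apply hγneg
        rw [hwα]
        exact RootPairing.Base.isPos_of_mem_support hβ
      have hlt := badCount_lt P b b w γ hγ hγneg
      obtain ⟨u, hu, hle, h1, h2⟩ :=
        exists_coset_min P b α γ hα hγ (w * Equiv.reflection P γ)
      have hsγ : Equiv.reflection P γ ∈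
          Subgroup.closure {Equiv.reflection P α, Equiv.reflection P γ} :=
        Subgroup.subset_closure (by simp)
      have hu' : Equiv.reflection P γ * u ∈
          Subgroup.closure {Equiv.reflection P α, Equiv.reflection P γ} := mul_mem hsγ hu
      rw [mul_assoc] at hle h1 h2
      set u' := Equiv.reflection P γ * u with hu'def
      have hw'lt : badCount P b b (w * u') < n := hn ▸ lt_of_le_of_lt hle hlt
      have hv : u'⁻¹ ∈ Subgroup.closure {Equiv.reflection P α, Equiv.reflection P γ} :=
        inv_mem hu'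
      have hβeq : (w * u') • (u'⁻¹ • α) = β := by
        rw [← mul_smul, mul_assoc, mul_inv_cancel, mul_one, hwα]
      have hor := smul_eq_or_of_isPos P b α γ β hα hγ hβ hαγ (w * u') u'⁻¹ hv h1 h2 hβeq
      have hα₁ : u'⁻¹ • α ∈ b.support := by
        rcases hor with h | h <;> rw [h] <;> assumption
      have hw' : w * u' ∈ P.weylGroup :=
        mul_mem hw (closure_pair_le_weylGroup P α γ hu')
      have hchain := ih _ hw'lt (w * u') rfl hw' (u'⁻¹ • α) hα₁ β hβ hβeq
      have hfin := Chain.cons α (u'⁻¹ • α) β γ u'⁻¹ (w * u') hγ hα₁ hv rfl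
        (fun hne => (hor.resolve_left (Ne.symm hne)).symm) hchain
      rwa [mul_assoc, mul_inv_cancel, mul_one] at hfin

theorem chain_to_fin (b : P.Base) {α β : ι} {w : P.Aut} (hα : α ∈ b.support)
    (h : Chain P b α β w) :
    ∃ (m : ℕ) (a : Fin (m + 1) → ι) (ws : Fin m → P.Aut),
      (∀ i, a i ∈ b.support) ∧ a 0 = α ∧ a (Fin.last m) = β ∧
      (∀ i, ws i ∈ P.weylGroup) ∧
      w = (List.ofFn fun i : Fin m => ws (Fin.rev i)).prod ∧
      (∀ i : Fin m, ws i • a (Fin.castSucc i) = a (Fin.succ i)) ∧
      ∀ i : Fin m, ∃ γ ∈ b.support,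
        ws i ∈ Subgroup.closure {Equiv.reflection P (a (Fin.castSucc i)), Equiv.reflection P γ} ∧
        (a (Fin.castSucc i) ≠ a (Fin.succ i) → γ = a (Fin.succ i)) := by
  induction h with
  | nil α =>
    refine ⟨0, fun _ => α, fun i => i.elim0, fun _ => hα, rfl, rfl, fun i => i.elim0, ?_,
      fun i => i.elim0, fun i => i.elim0⟩
    simp
  | cons α α₁ β γ v w' hγ hα₁ hv hvα hne _ ih =>
    obtain ⟨m, a', ws', ha', ha'0, ha'l, hws', hprod, hstep, hpar⟩ := ih hα₁
    refine ⟨m + 1, Fin.cons α a', Fin.cons v ws', ?_, ?_, ?_, ?_, ?_, ?_, ?_⟩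
    · intro i
      refine Fin.cases ?_ (fun j => ?_) i
      · simpa using hα
      · simpa using ha' j
    · simp
    · rw [← Fin.succ_last, Fin.cons_succ]; exact ha'l
    · intro i
      refine Fin.cases ?_ (fun j => ?_) i
      · simpa using closure_pair_le_weylGroup P α γ hv
      · simpa using hws' j
    · rw [List.ofFn_succ', List.concat_eq_append, List.prod_append, List.prod_singleton]
      simp only [Fin.rev_castSucc, Fin.cons_succ, Fin.rev_last, Fin.cons_zero]
      rw [← hprod]
    · intro i
      refine Fin.cases ?_ (fun j => ?_) i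
      · simp only [Fin.castSucc_zero, Fin.cons_zero, Fin.succ_zero_eq_one]
        rw [hvα, ← ha'0]
        rfl
      · rw [Fin.cons_succ, ← Fin.succ_castSucc, Fin.cons_succ, Fin.cons_succ]
        exact hstep j
    · intro i
      refine Fin.cases ?_ (fun j => ?_) i
      · refine ⟨γ, hγ, ?_, ?_⟩
        · simpa using hv
        · have e1 : (Fin.cons α a' : Fin (m + 1 + 1) → ι) (Fin.succ 0) = α₁ := by
            rw [Fin.cons_succ]; exact ha'0
          simp only [Fin.castSucc_zero, Fin.cons_zero]
          rw [e1]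
          exact hne
      · obtain ⟨γ', hγ', h1, h2⟩ := hpar j
        refine ⟨γ', hγ', ?_, ?_⟩
        · rw [Fin.cons_succ, ← Fin.succ_castSucc, Fin.cons_succ]; exact h1
        · rw [← Fin.succ_castSucc, Fin.cons_succ, Fin.cons_succ]; exact h2

theorem S2957 (b : P.Base) (α β : ι) (hα : α ∈ b.support) (hβ : β ∈ b.support) (w : P.Aut)
    (hw : w ∈ P.weylGroup) (hwα : w • α = β) :
    ∃ (m : ℕ) (a : Fin (m + 1) → ι) (ws : Fin m → P.Aut),
      (∀ i, a i ∈ b.support) ∧ a 0 = α ∧ a (Fin.last m) = β ∧
      (∀ i, ws i ∈ P.weylGroup) ∧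
      w = (List.ofFn fun i : Fin m => ws (Fin.rev i)).prod ∧
      (∀ i : Fin m, ws i • a (Fin.castSucc i) = a (Fin.succ i)) ∧
      ∀ i : Fin m, ∃ γ ∈ b.support,
        ws i ∈ Subgroup.closure {Equiv.reflection P (a (Fin.castSucc i)), Equiv.reflection P γ} ∧
        (a (Fin.castSucc i) ≠ a (Fin.succ i) → γ = a (Fin.succ i)) :=
  chain_to_fin P b hα (exists_chain P b w hw α hα β hβ hwα)

end

end Groth.Agent.H2
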