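import Groth.Agent.Lib.Helper2.WeylSimple

namespace Groth.Agent.H2

open RootPairing

variable {ι R M N : Type*} [CommRing R] [AddCommGroup M] [Module R M] [AddCommGroup N] [Module R N]

lemma aut_smul_def (P : RootPairing ι R M N) (g : P.Aut) (x : M) : g • x = g.weightMap x := rfl

lemma aut_smul_idx_def (P : RootPairing ι R M N) (g : P.Aut) (a : ι) : g • a = g.indexEquiv a := rfl

lemma root_aut_smul (P : RootPairing ι R M N) (g : P.Aut) (a : ι) :
    P.root (g • a) = g • P.root a := Equiv.root_indexEquiv_eq_smul (P := P) a g

lemma pairing_aut_smul (P : RootPairing ι R M N) (g : P.Aut) (a : ι) (y : M) :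
    P.coroot' (g • a) (g • y) = P.coroot' a y := by
  change P.toLinearMap (g • y) (P.coroot (g • a)) = P.toLinearMap y (P.coroot a)
  have h1 := Hom.weight_coweight_transpose_apply P P (P.coroot (g • a)) g.toHom
  have h2 := LinearMap.congr_fun h1 y
  have h3 : g.coweightMap (P.coroot (g • a)) = P.coroot a := by
    rw [Hom.coroot_coweightMap_apply, aut_smul_idx_def, Equiv.symm_apply_apply]
  simp only [LinearMap.dualMap_apply] at h2
  rw [h3] at h2
  exact h2

lemma reflection_aut_smul (P : RootPairing ι R M N) (g : P.Aut) (a : ι) (y : M) :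
    P.reflection (g • a) (g • y) = g • P.reflection a y := by
  rw [reflection_apply, reflection_apply, pairing_aut_smul, root_aut_smul, smul_sub, ← smul_comm]

lemma equivReflection_aut_smul (P : RootPairing ι R M N) (g : P.Aut) (a : ι) :
    Equiv.reflection P (g • a) = g * Equiv.reflection P a * g⁻¹ := by
  rw [eq_mul_inv_iff_mul_eq]
  apply Equiv.weightHom_injective P
  apply LinearEquiv.ext
  intro y
  rw [map_mul, map_mul]
  exact reflection_aut_smul P g a y

lemma aut_smul_neg (P : RootPairing ι R M N) (g : P.Aut) (a : ι) :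
    g • (P.reflectionPerm a a) = P.reflectionPerm (g • a) (g • a) := by
  apply P.root.injective
  rw [root_aut_smul, root_reflectionPerm, root_reflectionPerm, reflection_apply_self,
    reflection_apply_self, root_aut_smul, smul_neg]

/-- product of reflections along a list of indices -/
noncomputable def reflProd (P : RootPairing ι R M N) (l : List ι) : P.Aut :=
  (l.map (Equiv.reflection P)).prod

@[simp] lemma reflProd_nil (P : RootPairing ι R M N) : reflProd P [] = 1 := rfl
@[simp] lemma reflProd_cons (P : RootPairing ι R M N) (c : ι) (l : List ι) :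
    reflProd P (c :: l) = Equiv.reflection P c * reflProd P l := by
  simp [reflProd]
lemma reflProd_append (P : RootPairing ι R M N) (l₁ l₂ : List ι) :
    reflProd P (l₁ ++ l₂) = reflProd P l₁ * reflProd P l₂ := by
  simp [reflProd]
lemma reflProd_reverse (P : RootPairing ι R M N) (l : List ι) :
    reflProd P l.reverse = (reflProd P l)⁻¹ := by
  induction l with
  | nil => simp
  | cons c l ih =>
    rw [List.reverse_cons, reflProd_append, reflProd_cons, reflProd_cons, reflProd_nil, mul_one, ih,
      mul_inv_rev, Equiv.reflection_inv]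

variable [CharZero R] [IsDomain R]

omit [IsDomain R] in
lemma isPos_neg_iff (P : RootPairing ι R M N) [Finite ι] (b : P.Base) (i : ι) :
    b.IsPos (P.reflectionPerm i i) ↔ ¬ b.IsPos i := by
  have := (RootPairing.Base.IsPos.neg_iff_not b i)
  simpa only [RootPairing.indexNeg_neg] using this

/-- deletion lemma -/
theorem deletion (P : RootPairing ι R M N) [Finite ι] [P.IsCrystallographic] [P.IsReduced]
    (b : P.Base) (l : List ι) :
    (∀ c ∈ l, c ∈ b.support) → ∀ a ∈ b.support, ¬ b.IsPos (reflProd P l • a) →
      ∃ l' : List ι, (∀ c ∈ l', c ∈ b.support) ∧ l'.length + 1 = l.length ∧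
        reflProd P l * Equiv.reflection P a = reflProd P l' := by
  induction l with
  | nil =>
    intro _ a ha hneg
    exact absurd (by simpa using RootPairing.Base.isPos_of_mem_support ha) hneg
  | cons c m ih =>
    intro hl a ha hneg
    have hc : c ∈ b.support := hl c List.mem_cons_self
    have hm : ∀ c ∈ m, c ∈ b.support := fun x hx => hl x (List.mem_cons_of_mem _ hx)
    rw [reflProd_cons, mul_smul, equivReflection_smul] at hneg
    by_cases hβ : b.IsPos (reflProd P m • a)
    · have hβc : reflProd P m • a = c := by
        by_contra hne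
        exact hneg (hβ.reflectionPerm hc hne)
      refine ⟨m, hm, rfl, ?_⟩
      rw [reflProd_cons, ← hβc, equivReflection_aut_smul]
      rw [mul_assoc, mul_assoc, mul_assoc, inv_mul_cancel_left, equivReflection_mul_self, mul_one]
    · obtain ⟨m', hm', hlen, hprod⟩ := ih hm a ha hβ
      refine ⟨c :: m', ?_, by simp [hlen], ?_⟩
      · intro x hx
        rcases List.mem_cons.mp hx with rfl | hx
        · exact hc
        · exact hm' x hx
      · rw [reflProd_cons, reflProd_cons, mul_assoc, hprod]

theorem exists_list_of_mem_weylGroup (P : RootPairing ι R M N) [Finite ι] [P.IsCrystallographic]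
    [P.IsReduced] (b : P.Base) (g : P.Aut) (hg : g ∈ P.weylGroup) :
    ∃ l : List ι, (∀ c ∈ l, c ∈ b.support) ∧ reflProd P l = g := by
  rw [← closure_simple_eq_weylGroup P b] at hg
  induction hg using Subgroup.closure_induction with
  | mem x hx =>
    obtain ⟨i, hi, rfl⟩ := hx
    exact ⟨[i], by simpa using hi, by simp⟩
  | one => exact ⟨[], by simp, rfl⟩
  | mul x y _ _ hx hy =>
    obtain ⟨l₁, h₁, rfl⟩ := hx
    obtain ⟨l₂, h₂, rfl⟩ := hy
    refine ⟨l₁ ++ l₂, ?_, reflProd_append P l₁ l₂⟩
    intro c hc
    rcases List.mem_append.mp hc with h | h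
    · exact h₁ c h
    · exact h₂ c h
  | inv x _ hx =>
    obtain ⟨l, h, rfl⟩ := hx
    exact ⟨l.reverse, fun c hc => h c (List.mem_reverse.mp hc), reflProd_reverse P l⟩

theorem eq_one_of_isPos_preserving (P : RootPairing ι R M N) [Finite ι] [P.IsCrystallographic]
    [P.IsReduced] (b : P.Base) (g : P.Aut) (hg : g ∈ P.weylGroup)
    (hpos : ∀ i, b.IsPos i → b.IsPos (g • i)) : g = 1 := by
  obtain ⟨l, hl, hlg⟩ := exists_list_of_mem_weylGroup P b g hg
  induction hn : l.length using Nat.strong_induction_on generalizing l with
  | _ n ih =>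
    rcases List.eq_nil_or_concat l with rfl | ⟨m, a, rfl⟩
    · rw [← hlg, reflProd_nil]
    · rw [List.concat_eq_append] at hl hlg hn
      have ha : a ∈ b.support := hl a (by simp)
      have hm : ∀ c ∈ m, c ∈ b.support := fun c hc => hl c (by simp [hc])
      have hga := hpos a (RootPairing.Base.isPos_of_mem_support ha)
      rw [← hlg, reflProd_append, reflProd_cons, reflProd_nil, mul_one, mul_smul,
        equivReflection_smul, aut_smul_neg, isPos_neg_iff] at hga
      obtain ⟨l', hl', hlen, hprod⟩ := deletion P b m hm a ha hga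
      refine ih l'.length ?_ l' hl' ?_ rfl
      · rw [← hn, List.length_append, ← hlen]; simp
      · rw [← hprod, ← hlg, reflProd_append, reflProd_cons, reflProd_nil, mul_one]

end Groth.Agent.H2
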