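import Mathlib.LinearAlgebra.RootSystem.Base
import Mathlib.LinearAlgebra.RootSystem.WeylGroup

/-! Weyl group generated by simple reflections. -/

namespace Groth.Agent.H2

open RootPairing

variable {ι R M N : Type*} [CommRing R] [AddCommGroup M] [Module R M] [AddCommGroup N] [Module R N]

/-- Conjugating a reflection by a reflection, at the level of automorphisms. -/
lemma equivReflection_reflectionPerm (P : RootPairing ι R M N) (i j : ι) :
    Equiv.reflection P (P.reflectionPerm j i) =
      Equiv.reflection P j * Equiv.reflection P i * Equiv.reflection P j := by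
  apply Equiv.weightHom_injective P
  rw [map_mul, map_mul]
  simp only [Equiv.weightHom_apply, Equiv.reflection_weightEquiv]
  exact P.reflection_reflectionPerm

lemma equivReflection_mul_self (P : RootPairing ι R M N) (i : ι) :
    Equiv.reflection P i * Equiv.reflection P i = 1 := by
  rw [mul_eq_one_iff_inv_eq, Equiv.reflection_inv]

lemma equivReflection_smul (P : RootPairing ι R M N) (i j : ι) :
    Equiv.reflection P j • i = P.reflectionPerm j i := rfl

variable [CharZero R] [IsDomain R]

theorem weyl_simple (P : RootPairing ι R M N) [Finite ι] [P.IsCrystallographic] [P.IsReduced]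
    (b : P.Base) (i : ι) :
    Equiv.reflection P i ∈
        Subgroup.closure ((fun i : ι => Equiv.reflection P i) '' (b.support : Set ι)) ∧
      ∃ g ∈ Subgroup.closure ((fun i : ι => Equiv.reflection P i) '' (b.support : Set ι)),
        ∃ j ∈ b.support, g • j = i := by
  set W' := Subgroup.closure ((fun i : ι => Equiv.reflection P i) '' (b.support : Set ι)) with hW'
  have hsimple : ∀ j ∈ b.support, Equiv.reflection P j ∈ W' := fun j hj =>
    Subgroup.subset_closure ⟨j, hj, rfl⟩
  refine b.induction_reflect i (p := fun i => Equiv.reflection P i ∈ W' ∧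
      ∃ g ∈ W', ∃ j ∈ b.support, g • j = i) ?_ ?_ ?_
  · rintro i ⟨hi, g, hg, j, hj, rfl⟩
    refine ⟨?_, Equiv.reflection P (g • j) * g, mul_mem hi hg, j, hj, ?_⟩
    · rw [equivReflection_reflectionPerm, mul_assoc, equivReflection_mul_self, mul_one]
      exact hi
    · rw [mul_smul, equivReflection_smul]
  · intro i hi
    exact ⟨hsimple i hi, 1, one_mem _, i, hi, one_smul _ _⟩
  · rintro i j ⟨hi, g, hg, k, hk, rfl⟩ hj
    refine ⟨?_, Equiv.reflection P j * g, mul_mem (hsimple j hj) hg, k, hk, ?_⟩
    · rw [equivReflection_reflectionPerm]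
      exact mul_mem (mul_mem (hsimple j hj) hi) (hsimple j hj)
    · rw [mul_smul, equivReflection_smul]

theorem closure_simple_eq_weylGroup (P : RootPairing ι R M N) [Finite ι] [P.IsCrystallographic]
    [P.IsReduced] (b : P.Base) :
    Subgroup.closure ((fun i : ι => Equiv.reflection P i) '' (b.support : Set ι)) = P.weylGroup := by
  apply le_antisymm
  · exact Subgroup.closure_mono (Set.image_subset_range _ _)
  · rw [RootPairing.weylGroup, Subgroup.closure_le]
    rintro _ ⟨i, rfl⟩
    exact (weyl_simple P b i).1

end Groth.Agent.H2
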