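import Groth.Agent.Lib.Helper2.WeylPos

/-! The Weyl group acts simply transitively on bases (S2954). -/

namespace Groth.Agent.H2

open RootPairing

variable {ι R M N : Type*} [CommRing R] [AddCommGroup M] [Module R M] [AddCommGroup N] [Module R N]
variable [CharZero R] [IsDomain R]

section
variable (P : RootPairing ι R M N) [Finite ι] [P.IsCrystallographic] [P.IsReduced]

lemma aut_smul_add (g : P.Aut) (x y : M) : g • (x + y) = g • x + g • y := by
  rw [aut_smul_def, aut_smul_def, aut_smul_def, map_add]

/-- if `g` maps the simple roots of `b` to `b'`-positive roots, it maps `b`-positive roots to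
`b'`-positive roots. -/
lemma isPos_smul_of_simple (b b' : P.Base) (g : P.Aut)
    (h : ∀ a ∈ b.support, b'.IsPos (g • a)) {i : ι} (hi : b.IsPos i) : b'.IsPos (g • i) := by
  refine hi.induction_on_add (p := fun i => b'.IsPos (g • i)) h ?_
  intro i j k hk hpi hj
  refine RootPairing.Base.IsPos.add hpi (h j hj) ?_
  rw [root_aut_smul, root_aut_smul, root_aut_smul, hk, aut_smul_add]

open Classical in
/-- the number of `b`-positive roots sent by `g` to `b'`-negative roots -/
noncomputable def badCount (b b' : P.Base) (g : P.Aut) : ℕ :=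
  letI := Fintype.ofFinite ι
  (Finset.univ.filter fun i => b.IsPos i ∧ ¬ b'.IsPos (g • i)).card

lemma badCount_lt (b b' : P.Base) (g : P.Aut) (a : ι) (ha : a ∈ b.support)
    (hga : ¬ b'.IsPos (g • a)) :
    badCount P b b' (g * Equiv.reflection P a) < badCount P b b' g := by
  classical
  letI := Fintype.ofFinite ι
  unfold badCount
  set A' := Finset.univ.filter fun i => b.IsPos i ∧ ¬ b'.IsPos ((g * Equiv.reflection P a) • i)
  set A := Finset.univ.filter fun i => b.IsPos i ∧ ¬ b'.IsPos (g • i)
  have haA : a ∈ A := by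
    simp only [A, Finset.mem_filter, Finset.mem_univ, true_and]
    exact ⟨RootPairing.Base.isPos_of_mem_support ha, hga⟩
  have hinj : Function.Injective (fun i => P.reflectionPerm a i) := (P.reflectionPerm a).injective
  have hsub : A'.image (fun i => P.reflectionPerm a i) ⊆ A.erase a := by
    intro j hj
    obtain ⟨i, hi, rfl⟩ := Finset.mem_image.1 hj
    simp only [A', Finset.mem_filter, Finset.mem_univ, true_and, mul_smul,
      equivReflection_smul] at hi
    obtain ⟨hipos, hineg⟩ := hi
    have hia : i ≠ a := by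
      rintro rfl
      apply hineg
      rw [aut_smul_neg, isPos_neg_iff]
      exact hga
    rw [Finset.mem_erase]
    refine ⟨?_, ?_⟩
    · intro heq
      have h1 : i = P.reflectionPerm a a := by
        have := congrArg (P.reflectionPerm a) heq
        simpa using this
      have h2 : ¬ b.IsPos a := by
        rw [← isPos_neg_iff, ← h1]
        exact hipos
      exact h2 (RootPairing.Base.isPos_of_mem_support ha)
    · simp only [A, Finset.mem_filter, Finset.mem_univ, true_and]
      exact ⟨hipos.reflectionPerm ha hia, hineg⟩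
  calc A'.card = (A'.image (fun i => P.reflectionPerm a i)).card :=
        (Finset.card_image_of_injective _ hinj).symm
    _ ≤ (A.erase a).card := Finset.card_le_card hsub
    _ < A.card := Finset.card_erase_lt_of_mem haA

lemma exists_pos_preserving (b b' : P.Base) :
    ∃ g ∈ P.weylGroup, ∀ i, b.IsPos i → b'.IsPos (g • i) := by
  suffices h : ∀ n : ℕ, ∀ g ∈ P.weylGroup, badCount P b b' g = n →
      ∃ g' ∈ P.weylGroup, ∀ i, b.IsPos i → b'.IsPos (g' • i) from
    h _ 1 (one_mem _) rfl
  intro n
  induction n using Nat.strong_induction_on with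
  | _ n ih =>
    intro g hg hn
    by_cases h : ∀ a ∈ b.support, b'.IsPos (g • a)
    · exact ⟨g, hg, fun i hi => isPos_smul_of_simple P b b' g h hi⟩
    · push Not at h
      obtain ⟨a, ha, hga⟩ := h
      exact ih _ (hn ▸ badCount_lt P b b' g a ha hga) (g * Equiv.reflection P a)
        (mul_mem hg (reflection_mem_weylGroup P a)) rfl

lemma isPos_smul_iff (b b' : P.Base) (g : P.Aut) (h : ∀ i, b.IsPos i → b'.IsPos (g • i)) (i : ι) :
    b'.IsPos (g • i) ↔ b.IsPos i := by
  refine ⟨fun hgi => ?_, h i⟩
  by_contra hi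
  have h1 : b.IsPos (P.reflectionPerm i i) := (isPos_neg_iff P b i).2 hi
  have h2 := h _ h1
  rw [aut_smul_neg, isPos_neg_iff] at h2
  exact h2 hgi

omit [P.IsReduced] in
lemma mem_support_iff (b : P.Base) (i : ι) :
    i ∈ b.support ↔
      b.IsPos i ∧ ¬ ∃ k j, b.IsPos k ∧ b.IsPos j ∧ P.root i = P.root k + P.root j := by
  constructor
  · intro hi
    refine ⟨RootPairing.Base.isPos_of_mem_support hi, ?_⟩
    rintro ⟨k, j, hk, hj, hkj⟩
    have h1 := b.height_add hkj
    rw [RootPairing.Base.height_one_of_mem_support hi] at h1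
    rw [RootPairing.Base.isPos_iff] at hk hj
    omega
  · rintro ⟨hi, hno⟩
    have key : b.IsPos i ∧
        (i ∈ b.support ∨ ∃ k j, b.IsPos k ∧ b.IsPos j ∧ P.root i = P.root k + P.root j) := by
      refine hi.induction_on_add
        (p := fun i => b.IsPos i ∧
          (i ∈ b.support ∨ ∃ k j, b.IsPos k ∧ b.IsPos j ∧ P.root i = P.root k + P.root j)) ?_ ?_
      · intro i hi
        exact ⟨RootPairing.Base.isPos_of_mem_support hi, Or.inl hi⟩
      · rintro i j k hk ⟨hpi, -⟩ hj
        exact ⟨hpi.add (RootPairing.Base.isPos_of_mem_support hj) hk,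
          Or.inr ⟨i, j, hpi, RootPairing.Base.isPos_of_mem_support hj, hk⟩⟩
    exact key.2.resolve_right hno

lemma smul_mem_support_iff (b b' : P.Base) (g : P.Aut)
    (h : ∀ i, b.IsPos i → b'.IsPos (g • i)) (i : ι) :
    g • i ∈ b'.support ↔ i ∈ b.support := by
  rw [mem_support_iff P b', mem_support_iff P b, isPos_smul_iff P b b' g h]
  refine and_congr Iff.rfl (not_congr ?_)
  constructor
  · rintro ⟨k', j', hk', hj', hkj⟩
    refine ⟨g⁻¹ • k', g⁻¹ • j', ?_, ?_, ?_⟩
    · rw [← isPos_smul_iff P b b' g h, smul_inv_smul]; exact hk'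
    · rw [← isPos_smul_iff P b b' g h, smul_inv_smul]; exact hj'
    · have hinj : Function.Injective (fun x : M => g • x) := MulAction.injective g
      apply hinj
      simp only
      rw [aut_smul_add, ← root_aut_smul, ← root_aut_smul, ← root_aut_smul, smul_inv_smul,
        smul_inv_smul, hkj]
  · rintro ⟨k, j, hk, hj, hkj⟩
    refine ⟨g • k, g • j, h k hk, h j hj, ?_⟩
    rw [root_aut_smul, root_aut_smul, root_aut_smul, hkj, aut_smul_add]

theorem S2954 (b b' : P.Base) :
    ∃! g : P.weylGroup,
      (fun i : ι => (g : P.Aut) • i) '' (b.support : Set ι) = (b'.support : Set ι) := by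
  obtain ⟨g, hg, hpos⟩ := exists_pos_preserving P b b'
  refine ⟨⟨g, hg⟩, ?_, ?_⟩
  · ext j
    simp only [Set.mem_image, Finset.mem_coe]
    constructor
    · rintro ⟨i, hi, rfl⟩
      exact (smul_mem_support_iff P b b' g hpos i).2 hi
    · intro hj
      refine ⟨g⁻¹ • j, ?_, smul_inv_smul g j⟩
      rw [← smul_mem_support_iff P b b' g hpos, smul_inv_smul]
      exact hj
  · rintro ⟨g₂, hg₂⟩ himg
    simp only at himg
    have hstab : ∀ a ∈ b.support, (g₂⁻¹ * g) • a ∈ b.support := by
      intro a ha
      have h1 : g • a ∈ (b'.support : Set ι) :=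
        Finset.mem_coe.2 ((smul_mem_support_iff P b b' g hpos a).2 ha)
      rw [← himg] at h1
      obtain ⟨c, hc, hca⟩ := h1
      simp only at hca
      rw [mul_smul, ← hca, inv_smul_smul]
      exact Finset.mem_coe.1 hc
    have hone : g₂⁻¹ * g = 1 := by
      refine eq_one_of_isPos_preserving P b (g₂⁻¹ * g) (mul_mem (inv_mem hg₂) hg) ?_
      intro i hi
      exact isPos_smul_of_simple P b b (g₂⁻¹ * g)
        (fun a ha => RootPairing.Base.isPos_of_mem_support (hstab a ha)) hi
    apply Subtype.ext
    simp only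
    exact (inv_mul_eq_one.1 hone)

end

end Groth.Agent.H2
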