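import Mathlib

/-!
# Pullbacks in `WithTerminal C`

If `C` has pullbacks and binary products then `WithTerminal C` has pullbacks.
(Requested by helper7 for S10736.)
-/

namespace Groth.Agent.H2.WithTermPB

open CategoryTheory Limits

universe v u

section general

variable {D : Type*} [Category D]

/-- A commutative square is a pullback square as soon as it has the universal property in
`∃!` form. -/
theorem isPullback_of_existsUnique {P X Y Z : D} {fst : P ⟶ X} {snd : P ⟶ Y}
    {f : X ⟶ Z} {g : Y ⟶ Z} (w : fst ≫ f = snd ≫ g)
    (h : ∀ (W : D) (a : W ⟶ X) (b : W ⟶ Y), a ≫ f = b ≫ g →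
      ∃! l : W ⟶ P, l ≫ fst = a ∧ l ≫ snd = b) :
    IsPullback fst snd f g :=
  ⟨⟨w⟩, ⟨PullbackCone.IsLimit.mk w
    (fun s => (h s.pt s.fst s.snd s.condition).choose)
    (fun s => (h s.pt s.fst s.snd s.condition).choose_spec.1.1)
    (fun s => (h s.pt s.fst s.snd s.condition).choose_spec.1.2)
    (fun s m h1 h2 => (h s.pt s.fst s.snd s.condition).choose_spec.2 m ⟨h1, h2⟩)⟩⟩

end general

variable {C : Type u} [Category.{v} C]

open WithTerminal

/-- `incl` reflects equality of morphisms (as `down`). -/
theorem down_injective {x y : C} {f g : (of x : WithTerminal C) ⟶ of y} (h : down f = down g) :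
    f = g := h

/-- Pullbacks over an object of `C`. -/
theorem hasPullback_of_of {x y z : C} (f : (of x : WithTerminal C) ⟶ of z) (g : of y ⟶ of z)
    [HasPullback (down f) (down g)] : HasPullback f g := by
  have sq : IsPullback
      (incl.map (pullback.fst (down f) (down g)) : (of _ : WithTerminal C) ⟶ of x)
      (incl.map (pullback.snd (down f) (down g))) f g := by
    refine isPullback_of_existsUnique ?_ ?_
    · exact (pullback.condition : pullback.fst (down f) (down g) ≫ down f = _)
    · rintro (w | _) a b hab
      · refine ⟨(pullback.lift (f := down f) (g := down g) (down a) (down b) hab : w ⟶ _), ⟨?_, ?_⟩, ?_⟩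
        · exact pullback.lift_fst (f := down f) (g := down g) (down a) (down b) hab
        · exact pullback.lift_snd (f := down f) (g := down g) (down a) (down b) hab
        · rintro l ⟨h1, h2⟩
          refine pullback.hom_ext (f := down f) (g := down g) ?_ ?_
          · exact h1.trans (pullback.lift_fst (f := down f) (g := down g) (down a) (down b) hab).symm
          · exact h2.trans (pullback.lift_snd (f := down f) (g := down g) (down a) (down b) hab).symm
      · exact (false_of_from_star a).elim
  exact sq.hasPullback

/-- Pullbacks over `star` of two objects of `C`: the binary product. -/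
theorem hasPullback_star_of_of {x y : C} (f : (of x : WithTerminal C) ⟶ star) (g : of y ⟶ star)
    [HasBinaryProduct x y] : HasPullback f g := by
  have sq : IsPullback
      (incl.map (prod.fst : x ⨯ y ⟶ x) : (of _ : WithTerminal C) ⟶ of x)
      (incl.map (prod.snd : x ⨯ y ⟶ y)) f g := by
    refine isPullback_of_existsUnique (Subsingleton.elim _ _) ?_
    rintro (w | _) a b -
    · refine ⟨(prod.lift (down a) (down b) : w ⟶ _), ⟨?_, ?_⟩, ?_⟩
      · exact prod.lift_fst (down a) (down b)
      · exact prod.lift_snd (down a) (down b)
      · rintro l ⟨h1, h2⟩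
        refine Limits.prod.hom_ext (f := (l : w ⟶ x ⨯ y)) ?_ ?_
        · exact h1.trans (prod.lift_fst (down a) (down b)).symm
        · exact h2.trans (prod.lift_snd (down a) (down b)).symm
    · exact (false_of_from_star a).elim
  exact sq.hasPullback

/-- Pullbacks over `star` when the left object is `star`. -/
theorem hasPullback_star_left (Y : WithTerminal C) (f : (star : WithTerminal C) ⟶ star)
    (g : Y ⟶ star) : HasPullback f g := by
  have sq : IsPullback (starTerminal.from Y) (𝟙 Y) f g := by
    refine isPullback_of_existsUnique (Subsingleton.elim _ _) ?_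
    intro W a b _
    refine ⟨b, ⟨Subsingleton.elim _ _, Category.comp_id _⟩, ?_⟩
    rintro l ⟨-, h2⟩
    rw [← h2, Category.comp_id]
  exact sq.hasPullback

/-- Pullbacks over `star` when the right object is `star`. -/
theorem hasPullback_star_right (X : WithTerminal C) (f : X ⟶ star)
    (g : (star : WithTerminal C) ⟶ star) : HasPullback f g := by
  have sq : IsPullback (𝟙 X) (starTerminal.from X) f g := by
    refine isPullback_of_existsUnique (Subsingleton.elim _ _) ?_
    intro W a b _
    refine ⟨a, ⟨Category.comp_id _, Subsingleton.elim _ _⟩, ?_⟩
    rintro l ⟨h1, -⟩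
    rw [← h1, Category.comp_id]
  exact sq.hasPullback

/-- **Main result**: `WithTerminal C` has pullbacks if `C` has pullbacks and binary products. -/
instance hasPullbacks_withTerminal [HasPullbacks C] [HasBinaryProducts C] :
    HasPullbacks (WithTerminal C) := by
  refine @hasPullbacks_of_hasLimit_cospan _ _ (fun {X Y Z} {f g} => ?_)
  change HasPullback f g
  rcases Z with z | _
  · rcases X with x | _
    · rcases Y with y | _
      · exact hasPullback_of_of f g
      · exact (false_of_from_star g).elim
    · exact (false_of_from_star f).elim
  · rcases X with x | _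
    · rcases Y with y | _
      · exact hasPullback_star_of_of f g
      · exact hasPullback_star_right _ f g
    · exact hasPullback_star_left _ f g

end Groth.Agent.H2.WithTermPB
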