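import Mathlib
import Groth.Agent.Lib.Helper2.ZarD
import Groth.Agent.Lib.Helper2.LocExtA

/-! # Étale-acyclicity on affine étale schemes implies Zariski-acyclicity. -/

set_option autoImplicit false
set_option linter.style.haveILetI false
set_option linter.unusedVariables false
set_option linter.unusedSectionVars false
universe u
open CategoryTheory CategoryTheory.Limits AlgebraicGeometry Opposite Abelian TopologicalSpace

namespace Groth.Agent.H2.Zar
open Groth.Agent.H2.EtSmall Groth.Agent.LD.SC Groth.Agent.H2.LocExt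

variable (S : Scheme.{u}) [EtZar.ZarCont S] (G : EtCoh.Ab S)

/-- if the étale cohomology of `G` vanishes on affine opens, then `R^q ε_* G = 0`. -/
theorem isZero_Rres_of_affine
    (hG : ∀ (U : S.Opens), IsAffineOpen U → ∀ i : ℕ, 1 ≤ i →
      Subsingleton (EtCoh.H ((EtZar.zarToEt S).obj U).left
        ((EtCoh.pull ((EtZar.zarToEt S).obj U).hom).obj G) i)) (q : ℕ) :
    IsZero (((EtZar.resZar S).rightDerived (q + 1)).obj G) := by
  apply isZero_Rres_of_forall
  intro U β x hx
  obtain ⟨_, ⟨U₁, hU₁ : IsAffineOpen U₁, rfl⟩, hx₁, hle⟩ :=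
    S.isBasis_affineOpens.exists_subset_of_mem_open hx U.isOpen
  refine ⟨U₁, hle, hx₁, ?_⟩
  obtain ⟨e⟩ := nonempty_ext_equiv_H ((EtZar.zarToEt S).obj U₁) G (q + 1)
  haveI := hG U₁ hU₁ (q + 1) (Nat.le_add_left 1 q)
  apply e.injective
  exact Subsingleton.elim _ _

theorem subsingleton_H_of_top (i : ℕ)
    (h : Subsingleton (EtCoh.H (EtCoh.top S).left ((EtCoh.pull (EtCoh.top S).hom).obj G) i)) :
    Subsingleton (EtCoh.H S G i) := by
  obtain ⟨e1⟩ := nonempty_ext_equiv S G i
  obtain ⟨e2⟩ := nonempty_ext_equiv_H (EtCoh.top S) G i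
  exact (e1.trans e2).toEquiv.subsingleton

end Groth.Agent.H2.Zar
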