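import Mathlib
import Groth.Agent.Lib.Helper2.ZarD
import Groth.Agent.Lib.Helper2.ZeroDimEtA
import Groth.Agent.Lib.Helper2.EtSmallB

/-! # Schemes all of whose local rings are strictly henselian: `R^q ε_* = 0`. -/

set_option autoImplicit false
set_option linter.style.haveILetI false
set_option linter.unusedVariables false
set_option linter.unusedSectionVars false
universe u
open CategoryTheory CategoryTheory.Limits AlgebraicGeometry Opposite Abelian TopologicalSpace

namespace Groth.Agent.H2.Zar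
open Groth.Agent.H2.EtSmall Groth.Agent.LD.SC

variable (S : Scheme.{u}) [EtZar.ZarCont S] (F : EtCoh.Ab S)

set_option backward.isDefEq.respectTransparency.types false in
/-- a morphism from an open to an étale scheme, from a local section. -/
noncomputable def secHom {U₁ : S.Opens} (V₀ : S.Etale) (τ : U₁.toScheme ⟶ V₀.left)
    (hτ : τ ≫ V₀.hom = U₁.ι) : (EtZar.zarToEt S).obj U₁ ⟶ V₀ :=
  MorphismProperty.Over.homMk τ hτ

set_option backward.isDefEq.respectTransparency.types false in
lemma hom_zarToEt_ext {T : S.Etale} {U : S.Opens} (a b : T ⟶ (EtZar.zarToEt S).obj U) : a = b := by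
  apply MorphismProperty.Over.Hom.ext
  have ha : a.left ≫ U.ι = T.hom := MorphismProperty.Over.w a
  have hb : b.left ≫ U.ι = T.hom := MorphismProperty.Over.w b
  exact (cancel_mono U.ι).1 (ha.trans hb.symm)

set_option backward.isDefEq.respectTransparency.types false in
theorem isZero_Rres_of_strictlyHenselian
    (hS : ∀ s : S, EtCoh.IsStrictlyHenselianLocalRing (S.presheaf.stalk s)) (q : ℕ) :
    IsZero (((EtZar.resZar S).rightDerived (q + 1)).obj F) := by
  apply isZero_Rres_of_forall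
  intro U β x hx
  obtain ⟨T, hT, hT0⟩ := exists_sieve_Hres_eq_zero q ((Φ S).functor.obj F) β
  rw [mem_topo_iff] at hT
  obtain ⟨V, f, y, hf, hy⟩ := hT (⟨x, hx⟩ : U.toScheme)
  let V₀ : S.Etale := (eqv S).inverse.obj V
  let f₀ : V₀ ⟶ (EtZar.zarToEt S).obj U := (eqv S).inverse.map f
  haveI : Etale V₀.hom := V₀.prop
  have hpy : V₀.hom y = x := by
    have h1 : f₀.left ≫ U.ι = V₀.hom := MorphismProperty.Over.w f₀
    rw [← h1, Scheme.Hom.comp_apply]
    have h2 : f₀.left y = (⟨x, hx⟩ : U.toScheme) := hy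
    rw [h2]
    rfl
  obtain ⟨hH, hC⟩ := hS x
  haveI := hH
  haveI := hC
  obtain ⟨N, hxN, σ, hσ⟩ := Groth.Agent.H2.ZeroDimEt.exists_local_section x V₀.hom y hpy
  let U₁ : S.Opens := N ⊓ U
  have hle : U₁ ≤ U := inf_le_right
  let τ : U₁.toScheme ⟶ V₀.left := S.homOfLE (inf_le_left : U₁ ≤ N) ≫ σ
  have hτ : τ ≫ V₀.hom = U₁.ι := by
    change (S.homOfLE _ ≫ σ) ≫ V₀.hom = U₁.ι
    rw [Category.assoc, hσ, S.homOfLE_ι]
  let g : (EtZar.zarToEt S).obj U₁ ⟶ V₀ := secHom S V₀ τ hτ
  have hg : g ≫ f₀ = (EtZar.zarToEt S).map (homOfLE hle) := hom_zarToEt_ext S _ _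
  refine ⟨U₁, hle, ⟨hxN, hx⟩, ?_⟩
  have e1 : opMap S hle = (eqv S).functor.map g ≫ f := by
    change (eqv S).functor.map ((EtZar.zarToEt S).map (homOfLE hle)) = _
    rw [← hg, Functor.map_comp]
    rfl
  rw [e1, Hres_comp]
  exact (congrArg (Hres ((eqv S).functor.map g)) (hT0 f hf)).trans (Hres_zero _)

/-- étale and Zariski cohomology agree on schemes with strictly henselian local rings. -/
theorem nonempty_H_equiv_of_strictlyHenselian
    (hS : ∀ s : S, EtCoh.IsStrictlyHenselianLocalRing (S.presheaf.stalk s)) (i : ℕ) :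
    Nonempty (EtCoh.H S F i ≃+ EtZar.H ((EtZar.resZar S).obj F) i) :=
  nonempty_H_equiv S F (fun q => isZero_Rres_of_strictlyHenselian S F hS q) i

end Groth.Agent.H2.Zar
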