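import Mathlib
import Groth.Prelude.Def_EtCore
import Groth.Agent.Lib.Helper2.ZeroDimEtA
import Groth.Agent.Lib.Helper2.FinStalkE
import Groth.Agent.Lib.Helper7.ST12

set_option autoImplicit false
set_option linter.style.haveILetI false
set_option linter.unusedVariables false
universe u
open CategoryTheory CategoryTheory.Limits AlgebraicGeometry Opposite

namespace Groth.Agent.H2.ZeroDimEt

section Dim

variable {S : Scheme.{u}} (h1 : ∀ s : S, IsClosed ({s} : Set S))

include h1 in
lemma subsingleton_primeSpectrum_stalk (s : S) :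
    Subsingleton (PrimeSpectrum (S.presheaf.stalk s)) := by
  constructor
  intro a b
  have hinj : Function.Injective (S.fromSpecStalk s) :=
    (S.fromSpecStalk s).isEmbedding.injective
  have hr : ∀ c : ↥(Spec (S.presheaf.stalk s)), S.fromSpecStalk s c = s := by
    intro c
    have hc : S.fromSpecStalk s c ∈ Set.range (S.fromSpecStalk s) := ⟨c, rfl⟩
    rw [Scheme.range_fromSpecStalk] at hc
    have hc' : S.fromSpecStalk s c ⤳ s := hc
    have : s ∈ closure ({S.fromSpecStalk s c} : Set S) := hc'.mem_closure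
    rw [(h1 _).closure_eq] at this
    exact this.symm
  exact hinj ((hr a).trans (hr b).symm)

include h1 in
lemma henselianLocalRing_stalk (s : S) : HenselianLocalRing (S.presheaf.stalk s) := by
  haveI := subsingleton_primeSpectrum_stalk h1 s
  have hk : Ring.KrullDimLE 0 (S.presheaf.stalk s) := by
    refine Ring.KrullDimLE.mk₀ fun I hI => ?_
    have : (⟨I, hI⟩ : PrimeSpectrum (S.presheaf.stalk s)) = IsLocalRing.closedPoint _ :=
      Subsingleton.elim _ _
    have h2 : I = IsLocalRing.maximalIdeal _ := congrArg PrimeSpectrum.asIdeal this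
    rw [h2]
    infer_instance
  exact Groth.Agent.H1.henselianLocalRing_of_ringKrullDim_eq_zero _
    (ringKrullDimZero_iff_ringKrullDim_eq_zero.mp hk)

include h1 in
lemma topologicalKrullDim_le_zero : topologicalKrullDim S ≤ 0 := by
  rw [topologicalKrullDim, Order.krullDim_nonpos_iff_forall_isMax]
  intro Z Z' hZZ'
  -- both are singletons
  have hsing : ∀ Z : TopologicalSpace.IrreducibleCloseds S, ∃ g : S, (Z : Set S) = {g} := by
    intro Z
    obtain ⟨g, hg⟩ := QuasiSober.sober Z.isIrreducible' Z.isClosed'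
    refine ⟨g, ?_⟩
    have hg' : closure ({g} : Set S) = (Z : Set S) := hg
    rw [(h1 g).closure_eq] at hg'
    exact hg'.symm
  obtain ⟨g, hg⟩ := hsing Z
  obtain ⟨g', hg'⟩ := hsing Z'
  have hle : (Z : Set S) ⊆ (Z' : Set S) := hZZ'
  rw [hg, hg', Set.singleton_subset_iff, Set.mem_singleton_iff] at hle
  change (Z' : Set S) ⊆ (Z : Set S)
  rw [hg, hg', hle]

include h1 in
lemma isTopologicalBasis_clopen [QuasiSeparatedSpace S] :
    TopologicalSpace.IsTopologicalBasis {s : Set S | IsClopen s} := by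
  apply TopologicalSpace.IsTopologicalBasis.of_isOpen_of_subset (fun s hs => hs.isOpen)
    S.isBasis_affineOpens
  rintro _ ⟨U, hU, rfl⟩
  exact ⟨Groth.Agent.H1.DimZero.isClosed_of_isCompact (topologicalKrullDim_le_zero h1) U
    hU.isCompact, U.isOpen⟩

end Dim

section Main

open Groth.Agent.H2.FinStalk

variable (S : Scheme.{u}) [IsAffine S] (h1 : ∀ s : S, IsClosed ({s} : Set S))
  (h2 : ∀ s : S, IsSepClosed (S.residueField s))

/-- the open subscheme `N` of `S`, as an object of the small étale site -/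
noncomputable abbrev opObj (N : S.Opens) : S.Etale := openObj (EtCoh.top S) N

/-- its inclusion into the terminal object -/
noncomputable abbrev opIncl (N : S.Opens) : opObj S N ⟶ EtCoh.top S := openIncl (EtCoh.top S) N

include h1 h2 in
set_option backward.isDefEq.respectTransparency.types false in
lemma exists_local_lift {F G : EtCoh.Ab S} (a : F ⟶ G) [Epi a]
    (t : ToType (G.obj.obj (op (EtCoh.top S)))) (s : S) :
    ∃ N : S.Opens, s ∈ N ∧ ∀ N' : S.Opens, N' ≤ N →
      ∃ z : ToType (F.obj.obj (op (opObj S N'))),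
        a.hom.app (op (opObj S N')) z = G.obj.map (opIncl S N').op t := by
  haveI : Sheaf.IsLocallySurjective a :=
    (Sheaf.isLocallySurjective_iff_epi' (φ := a)).2 inferInstance
  have hS := Presheaf.imageSieve_mem S.smallEtaleTopology a.hom t
  obtain ⟨W, p, y, ⟨z, hz⟩, hy⟩ :=
    Groth.Agent.H7.PropABC.exists_of_sieve_mem _ hS (s : (EtCoh.top S).left)
  haveI := henselianLocalRing_stalk h1 s
  haveI : IsSepClosed (IsLocalRing.ResidueField (S.presheaf.stalk s)) := h2 s
  haveI : Etale W.hom := W.prop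
  have hpw : p.left ≫ 𝟙 S = W.hom := MorphismProperty.Over.w p
  have hpl : p.left = W.hom := (Category.comp_id _).symm.trans hpw
  have hWy : W.hom y = s :=
    (congrArg (fun m : W.left ⟶ S => m y) hpl).symm.trans hy
  obtain ⟨N, hsN, σ, hσ⟩ := exists_local_section s W.hom y hWy
  refine ⟨N, hsN, fun N' hN' => ?_⟩
  obtain ⟨τ, hτ⟩ : ∃ τ : opObj S N' ⟶ W, τ.left = S.homOfLE hN' ≫ σ :=
    ⟨MorphismProperty.Over.homMk (S.homOfLE hN' ≫ σ)
      ((Category.assoc _ _ _).trans ((congrArg (fun m => S.homOfLE hN' ≫ m) hσ).trans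
        ((Scheme.homOfLE_ι S hN').trans (Category.comp_id _).symm))), rfl⟩
  refine ⟨F.obj.map τ.op z, ?_⟩
  have hτp : τ ≫ p = opIncl S N' := (EtCore.topIsTerminal S).hom_ext _ _
  have n1 := ConcreteCategory.congr_hom (a.hom.naturality τ.op) z
  simp only [ConcreteCategory.comp_apply] at n1
  rw [n1, hz, ← hτp]
  simp only [op_comp, Functor.map_comp, ConcreteCategory.comp_apply]

include h1 h2 in
set_option backward.isDefEq.respectTransparency.types false in
theorem gsec_map_surjective_of_epi {F G : EtCoh.Ab S} (a : F ⟶ G) [Epi a] :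
    Function.Surjective ((EtCore.gsec S).map a) := by
  intro t₀
  obtain ⟨t, ht⟩ : ∃ t : ToType (G.obj.obj (op (EtCoh.top S))), t = t₀ := ⟨t₀, rfl⟩
  rw [← ht]
  have hloc := exists_local_lift S h1 h2 a t
  choose N hsN hN using hloc
  obtain ⟨μ, D, hDo, hDN, hDcov, hDdisj⟩ := exists_clopen_partition
    (isTopologicalBasis_clopen h1) (fun s => ((N s : S.Opens) : Set S)) (fun s => (N s).2)
    (fun x => ⟨x, hsN x⟩)
  choose i hi using hDN
  let Do : μ → S.Opens := fun m => ⟨D m, hDo m⟩
  have hle : ∀ m, Do m ≤ N (i m) := fun m => hi m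
  choose z hz using fun m => hN (i m) (Do m) (hle m)
  -- glue
  obtain ⟨z', hz'⟩ := Groth.Agent.H7.PropABC.exists_glue_disjoint (toSh F)
    (B := EtCoh.top S) (fun m => opObj S (Do m)) (fun m => opIncl S (Do m))
    (fun m => by
      change Mono (Do m).ι
      infer_instance)
    (fun b => by
      obtain ⟨m, hm⟩ := hDcov b
      exact ⟨m, (⟨b, hm⟩ : ↥(Do m)), rfl⟩)
    (fun m m' hne w1 w2 heq => by
      have h3 : ((Do m).ι w1 : S) ∈ D m := w1.2
      have h4 : ((Do m').ι w2 : S) ∈ D m' := w2.2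
      have h5 : ((Do m).ι w1 : S) = (Do m').ι w2 := heq
      exact Set.disjoint_left.mp (hDdisj m m' hne) h3 (h5 ▸ h4))
    z
  obtain ⟨z'', hz''⟩ : ∃ z'' : ToType (F.obj.obj (op (EtCoh.top S))),
      ∀ m, F.obj.map (opIncl S (Do m)).op z'' = z m := ⟨z', hz'⟩
  refine ⟨z'', ?_⟩
  change a.hom.app (op (EtCoh.top S)) z'' = t
  rw [← sub_eq_zero]
  -- the difference vanishes on every piece
  have hzero : ∀ m, G.obj.map (opIncl S (Do m)).op (a.hom.app (op (EtCoh.top S)) z'' - t) = 0 := by
    intro m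
    rw [map_sub, sub_eq_zero]
    have n1 := ConcreteCategory.congr_hom (a.hom.naturality (opIncl S (Do m)).op) z''
    simp only [ConcreteCategory.comp_apply] at n1
    rw [← n1, hz'' m, hz m]
  have hall : ∀ b : (EtCoh.top S).left,
      b ∈ Groth.Agent.H7.Sup.vanOpen G (EtCoh.top S) (a.hom.app (op (EtCoh.top S)) z'' - t) := by
    intro b
    obtain ⟨m, hm⟩ := hDcov b
    exact (Groth.Agent.H7.Sup.mem_vanOpen G).2 ⟨opObj S (Do m), opIncl S (Do m), hzero m,
      (⟨b, hm⟩ : ↥(Do m)), rfl⟩
  have hid := (Groth.Agent.H7.Sup.map_eq_zero_iff G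
    (a.hom.app (op (EtCoh.top S)) z'' - t) (EtCoh.top S) (𝟙 _)).2 (fun b _ => hall b)
  rw [op_id, G.obj.map_id] at hid
  exact hid

include h1 h2 in
lemma gsec_preservesEpimorphisms : (EtCore.gsec S).PreservesEpimorphisms :=
  ⟨fun a _ => (AddCommGrpCat.epi_iff_surjective _).2 (gsec_map_surjective_of_epi S h1 h2 a)⟩

include h1 h2 in
lemma projective_const :
    Projective ((constantSheaf S.smallEtaleTopology
      AddCommGrpCat.{u + 1}).obj (AddCommGrpCat.of (ULift.{u + 1} ℤ))) := by
  haveI := gsec_preservesEpimorphisms S h1 h2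
  exact (EtCore.constAdj S).map_projective _ inferInstance

include h1 h2 in
theorem S0088_main (F : EtCoh.Ab S) (i : ℕ) (hi : 1 ≤ i) :
    Subsingleton (EtCoh.H S F i) := by
  obtain ⟨n, rfl⟩ : ∃ n, i = n + 1 := ⟨i - 1, by omega⟩
  haveI := projective_const S h1 h2
  refine ⟨fun a b => ?_⟩
  rw [Abelian.Ext.eq_zero_of_projective a, Abelian.Ext.eq_zero_of_projective b]

end Main

end Groth.Agent.H2.ZeroDimEt
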