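import Mathlib
import Groth.Prelude.Def_W4c1etcurveeff2TopGrp

/-!
# `ℤ/n`-duality for topologically finitely generated groups (helper2)
-/

set_option autoImplicit false
set_option linter.unusedSectionVars false

namespace Groth.Agent.H2.ZnDual
open W4c1etcurveeff2
open scoped commutatorElement

section Fin
variable (n : ℕ) [NeZero n]

instance hasEnough : HasEnoughRootsOfUnity (Multiplicative (ZMod n)) n where
  prim := by
    refine ⟨Multiplicative.ofAdd 1, ?_⟩
    rw [IsPrimitiveRoot.iff_def]
    constructor
    · rw [← ofAdd_nsmul]; simp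
    · intro l hl
      rw [← ofAdd_nsmul, ofAdd_eq_one] at hl
      simpa [ZMod.natCast_eq_zero_iff] using hl
  cyc := by
    have : IsCyclic (Multiplicative (ZMod n))ˣ :=
      isCyclic_of_surjective (toUnits (G := Multiplicative (ZMod n))) (toUnits.surjective)
    infer_instance

variable (A : Type*) [CommGroup A] [Finite A]

lemma hasEnough_exponent (hA : ∀ a : A, a ^ n = 1) :
    HasEnoughRootsOfUnity (Multiplicative (ZMod n)) (Monoid.exponent A) :=
  HasEnoughRootsOfUnity.of_dvd _ (Monoid.exponent_dvd_of_forall_pow_eq_one hA)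

lemma exists_apply_ne_one (hA : ∀ a : A, a ^ n = 1) {a : A} (ha : a ≠ 1) :
    ∃ φ : A →* Multiplicative (ZMod n), φ a ≠ 1 := by
  have := hasEnough_exponent n A hA
  obtain ⟨φ, hφ⟩ := CommGroup.exists_apply_ne_one_of_hasEnoughRootsOfUnity A (Multiplicative (ZMod n)) ha
  refine ⟨(toUnits (G := Multiplicative (ZMod n))).symm.toMonoidHom.comp φ, ?_⟩
  intro h
  apply hφ
  have : (toUnits (G := Multiplicative (ZMod n))).symm (φ a) = 1 := h
  simpa using this

/-- homs into the units of a group are homs into the group -/
noncomputable def homUnitsEquiv : (A →* (Multiplicative (ZMod n))ˣ) ≃ (A →* Multiplicative (ZMod n)) where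
  toFun φ := (toUnits (G := Multiplicative (ZMod n))).symm.toMonoidHom.comp φ
  invFun φ := (toUnits (G := Multiplicative (ZMod n))).toMonoidHom.comp φ
  left_inv φ := by ext a; simp
  right_inv φ := by ext a; simp

lemma card_hom (hA : ∀ a : A, a ^ n = 1) :
    Nat.card (A →* Multiplicative (ZMod n)) = Nat.card A := by
  have := hasEnough_exponent n A hA
  rw [← Nat.card_congr (homUnitsEquiv n A),
    CommGroup.card_monoidHom_of_hasEnoughRootsOfUnity A (Multiplicative (ZMod n))]

lemma zn_pow (z : Multiplicative (ZMod n)) : z ^ n = 1 := by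
  rw [← ofAdd_toAdd z, ← ofAdd_nsmul]; simp

instance : Finite (A →* Multiplicative (ZMod n)) :=
  Finite.of_injective (fun φ => (φ : A → Multiplicative (ZMod n))) DFunLike.coe_injective

lemma eval_surjective (hA : ∀ a : A, a ^ n = 1)
    (F : (A →* Multiplicative (ZMod n)) →* Multiplicative (ZMod n)) :
    ∃ a : A, ∀ φ, F φ = φ a := by
  have hD : ∀ φ : A →* Multiplicative (ZMod n), φ ^ n = 1 := fun φ => by
    ext a; simp [zn_pow]
  let ev : A → ((A →* Multiplicative (ZMod n)) →* Multiplicative (ZMod n)) := fun a =>
    { toFun := fun φ => φ a, map_one' := rfl, map_mul' := fun _ _ => rfl }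
  have hinj : Function.Injective ev := by
    intro a b hab
    by_contra hne
    have hne' : a * b⁻¹ ≠ 1 := fun h => hne (mul_inv_eq_one.mp h)
    obtain ⟨φ, hφ⟩ := exists_apply_ne_one n A hA hne'
    apply hφ
    have := DFunLike.congr_fun hab φ
    change φ a = φ b at this
    rw [map_mul, map_inv, this, mul_inv_cancel]
  have hcard : Nat.card A = Nat.card ((A →* Multiplicative (ZMod n)) →* Multiplicative (ZMod n)) := by
    rw [card_hom n _ hD, card_hom n A hA]
  have hbij := (Nat.bijective_iff_injective_and_card ev).mpr ⟨hinj, hcard⟩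
  obtain ⟨a, ha⟩ := hbij.2 F
  exact ⟨a, fun φ => by rw [← ha]; rfl⟩

end Fin

section Top

universe u
variable {G : Type u} [Group G] [TopologicalSpace G] [IsTopologicalGroup G] (n : ℕ)

lemma map_topologicalClosure (φ : G ≃* G) (hφ : Continuous φ) (hφ' : Continuous φ.symm)
    (K : Subgroup G) :
    K.topologicalClosure.map φ.toMonoidHom = (K.map φ.toMonoidHom).topologicalClosure := by
  apply SetLike.coe_injective
  rw [Subgroup.coe_map, Subgroup.topologicalClosure_coe, Subgroup.topologicalClosure_coe,
    Subgroup.coe_map]
  let h : G ≃ₜ G := { φ.toEquiv with continuous_toFun := hφ, continuous_invFun := hφ' }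
  exact h.image_closure _

lemma map_powComm (φ : G ≃* G) :
    (Subgroup.closure (Set.range fun g : G => g ^ n) ⊔ commutator G).map φ.toMonoidHom =
      Subgroup.closure (Set.range fun g : G => g ^ n) ⊔ commutator G := by
  rw [Subgroup.map_sup, MonoidHom.map_closure]
  congr 1
  · congr 1
    ext x
    constructor
    · rintro ⟨_, ⟨g, rfl⟩, rfl⟩
      exact ⟨φ g, by simp⟩
    · rintro ⟨g, rfl⟩
      exact ⟨(φ.symm g) ^ n, ⟨_, rfl⟩, by simp⟩
  · rw [commutator_def, Subgroup.map_commutator,
      Subgroup.map_top_of_surjective _ (by exact φ.surjective)]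

theorem map_powCommClosure (φ : G ≃* G) (hφ : Continuous φ) (hφ' : Continuous φ.symm) :
    (powCommClosure G n).map φ.toMonoidHom = powCommClosure G n := by
  unfold powCommClosure
  rw [map_topologicalClosure φ hφ hφ', map_powComm]

instance normal_powCommClosure : (powCommClosure G n).Normal := by
  refine ⟨fun x hx g => ?_⟩
  have h := map_powCommClosure n (MulAut.conj g) (by
    change Continuous fun x => g * x * g⁻¹
    fun_prop) (by
    change Continuous fun x => g⁻¹ * x * g
    fun_prop)
  rw [← h]
  exact ⟨x, hx, by simp⟩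

lemma isClosed_powCommClosure : IsClosed ((powCommClosure G n : Subgroup G) : Set G) :=
  Subgroup.isClosed_topologicalClosure _

lemma pow_mem (g : G) : g ^ n ∈ powCommClosure G n :=
  Subgroup.le_topologicalClosure _ (Subgroup.mem_sup_left (Subgroup.subset_closure ⟨g, rfl⟩))

lemma comm_mem (a b : G) : ⁅a, b⁆ ∈ powCommClosure G n :=
  Subgroup.le_topologicalClosure _ (Subgroup.mem_sup_right
    (by rw [commutator_def]; exact Subgroup.commutator_mem_commutator (Subgroup.mem_top _) (Subgroup.mem_top _)))

/-- a closed subgroup containing `n`-th powers and commutators contains `powCommClosure` -/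
lemma powCommClosure_le (H : Subgroup G) (hH : IsClosed (H : Set G)) (hpow : ∀ g : G, g ^ n ∈ H)
    (hcomm : ∀ a b : G, ⁅a, b⁆ ∈ H) : powCommClosure G n ≤ H := by
  refine Subgroup.topologicalClosure_minimal _ ?_ hH
  refine sup_le ?_ ?_
  · rw [Subgroup.closure_le]
    rintro _ ⟨g, rfl⟩
    exact hpow g
  · rw [commutator_def, Subgroup.commutator_le]
    intro a _ b _
    exact hcomm a b

section Quot
variable [NeZero n]

/-- the abelian group structure on `G ⧸ powCommClosure G n` -/
@[reducible] noncomputable def commGroupQuot : CommGroup (G ⧸ powCommClosure G n) :=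
  { (inferInstance : Group (G ⧸ powCommClosure G n)) with
    mul_comm := by
      intro a b
      induction a using QuotientGroup.induction_on with | _ a => ?_
      induction b using QuotientGroup.induction_on with | _ b => ?_
      rw [← QuotientGroup.mk_mul, ← QuotientGroup.mk_mul, QuotientGroup.eq]
      have := comm_mem n b⁻¹ a⁻¹
      rw [commutatorElement_def] at this
      simpa [mul_assoc] using this }

lemma quot_pow (a : G ⧸ powCommClosure G n) : a ^ n = 1 := by
  induction a using QuotientGroup.induction_on with | _ a => ?_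
  rw [← QuotientGroup.mk_pow, QuotientGroup.eq_one_iff]
  exact pow_mem n a

theorem finite_quot (s : Finset G) (hs : Dense ((Subgroup.closure (s : Set G) : Subgroup G) : Set G)) :
    Finite (G ⧸ powCommClosure G n) := by
  let _ := commGroupQuot (G := G) n
  have : IsClosed ((powCommClosure G n : Subgroup G) : Set G) := isClosed_powCommClosure n
  let T : Subgroup (G ⧸ powCommClosure G n) :=
    (Subgroup.closure (s : Set G)).map (QuotientGroup.mk' (powCommClosure G n))
  have hTfg : T.FG := by
    rw [Subgroup.fg_iff]
    exact ⟨QuotientGroup.mk' (powCommClosure G n) '' (s : Set G), (MonoidHom.map_closure _ _).symm,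
      (Finset.finite_toSet s).image _⟩
  have : Group.FG T := (Group.fg_iff_subgroup_fg T).mpr hTfg
  have htors : IsMulTorsion T := fun t =>
    isOfFinOrder_iff_pow_eq_one.mpr ⟨n, Nat.pos_of_ne_zero (NeZero.ne n), by
      apply Subtype.ext
      simpa using quot_pow n t.1⟩
  have hfin : Finite T := CommGroup.finite_of_fg_isMulTorsion T htors
  have hTfin : (T : Set (G ⧸ powCommClosure G n)).Finite := Set.toFinite _
  have hTclosed : IsClosed (T : Set (G ⧸ powCommClosure G n)) := hTfin.isClosed
  have hTdense : Dense (T : Set (G ⧸ powCommClosure G n)) := by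
    have : (T : Set (G ⧸ powCommClosure G n)) =
        (QuotientGroup.mk : G → G ⧸ powCommClosure G n) '' (Subgroup.closure (s : Set G) : Set G) := rfl
    rw [this]
    exact (QuotientGroup.mk_surjective.denseRange).dense_image QuotientGroup.continuous_mk hs
  have huniv : (T : Set (G ⧸ powCommClosure G n)) = Set.univ := by
    rw [← hTclosed.closure_eq]; exact hTdense.closure_eq
  rw [← Set.finite_univ_iff, ← huniv]
  exact hTfin

theorem isOpen_powCommClosure (s : Finset G)
    (hs : Dense ((Subgroup.closure (s : Set G) : Subgroup G) : Set G)) :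
    IsOpen ((powCommClosure G n : Subgroup G) : Set G) := by
  have : IsClosed ((powCommClosure G n : Subgroup G) : Set G) := isClosed_powCommClosure n
  have := finite_quot n s hs
  rw [← QuotientGroup.discreteTopology_iff]
  infer_instance

end Quot


section Main
variable [NeZero n]

/-- continuous characters kill `powCommClosure` -/
lemma le_ker_of_isOpen (χ : G →* Multiplicative (ZMod n))
    (hχ : IsOpen ((χ.ker : Subgroup G) : Set G)) : powCommClosure G n ≤ χ.ker := by
  refine powCommClosure_le n _ (Subgroup.isClosed_of_isOpen _ hχ) ?_ ?_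
  · intro g
    rw [MonoidHom.mem_ker, map_pow, zn_pow]
  · intro a b
    rw [MonoidHom.mem_ker, commutatorElement_def]
    simp [mul_comm]

lemma isOpen_ker_of_le (s : Finset G)
    (hs : Dense ((Subgroup.closure (s : Set G) : Subgroup G) : Set G))
    (χ : G →* Multiplicative (ZMod n)) (hχ : powCommClosure G n ≤ χ.ker) :
    IsOpen ((χ.ker : Subgroup G) : Set G) :=
  Subgroup.isOpen_mono hχ (isOpen_powCommClosure n s hs)

theorem mem_iff (s : Finset G) (hs : Dense ((Subgroup.closure (s : Set G) : Subgroup G) : Set G))
    (g : G) : g ∈ powCommClosure G n ↔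
      ∀ χ : G →* Multiplicative (ZMod n), IsOpen ((χ.ker : Subgroup G) : Set G) → χ g = 1 := by
  constructor
  · intro hg χ hχ
    exact le_ker_of_isOpen n χ hχ hg
  · intro h
    by_contra hg
    let _ := commGroupQuot (G := G) n
    have := finite_quot n s hs
    have hne : (QuotientGroup.mk g : G ⧸ powCommClosure G n) ≠ 1 := by
      rwa [Ne, QuotientGroup.eq_one_iff]
    obtain ⟨φ, hφ⟩ := exists_apply_ne_one n (G ⧸ powCommClosure G n) (quot_pow n) hne
    apply hφ
    have hk : powCommClosure G n ≤ (φ.comp (QuotientGroup.mk' (powCommClosure G n))).ker := by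
      intro x hx
      rw [MonoidHom.mem_ker, MonoidHom.comp_apply, QuotientGroup.mk'_apply,
        (QuotientGroup.eq_one_iff x).mpr hx, map_one]
    exact h (φ.comp (QuotientGroup.mk' (powCommClosure G n))) (isOpen_ker_of_le n s hs _ hk)

theorem eval_surj (s : Finset G) (hs : Dense ((Subgroup.closure (s : Set G) : Subgroup G) : Set G))
    (F : ContChar G n →* Multiplicative (ZMod n)) :
    ∃ g : G, ∀ χ : ContChar G n, F χ = (χ.1 : G →* Multiplicative (ZMod n)) g := by
  let _ := commGroupQuot (G := G) n
  have := finite_quot n s hs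
  let c : ((G ⧸ powCommClosure G n) →* Multiplicative (ZMod n)) →* ContChar G n :=
    { toFun := fun φ => ⟨φ.comp (QuotientGroup.mk' (powCommClosure G n)), by
        refine isOpen_ker_of_le n s hs _ ?_
        intro x hx
        rw [MonoidHom.mem_ker, MonoidHom.comp_apply, QuotientGroup.mk'_apply,
          (QuotientGroup.eq_one_iff x).mpr hx, map_one]⟩
      map_one' := by
        apply Subtype.ext
        ext x
        rfl
      map_mul' := by
        intro φ ψ
        apply Subtype.ext
        ext x
        rfl }
  obtain ⟨a, ha⟩ := eval_surjective n (G ⧸ powCommClosure G n) (quot_pow n) (F.comp c)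
  obtain ⟨g, rfl⟩ := QuotientGroup.mk_surjective a
  refine ⟨g, fun χ => ?_⟩
  have hχ : powCommClosure G n ≤ (χ.1 : G →* Multiplicative (ZMod n)).ker :=
    le_ker_of_isOpen n χ.1 χ.2
  have hc : c (QuotientGroup.lift (powCommClosure G n) χ.1 hχ) = χ := by
    apply Subtype.ext
    ext x
    rfl
  have := ha (QuotientGroup.lift (powCommClosure G n) χ.1 hχ)
  rw [MonoidHom.comp_apply, hc] at this
  rw [this]
  rfl

/-- evaluation `G → D^∨` -/
def evHom : G →* (ContChar G n →* Multiplicative (ZMod n)) where
  toFun g := { toFun := fun χ => (χ.1 : G →* Multiplicative (ZMod n)) g, map_one' := rfl,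
               map_mul' := fun _ _ => rfl }
  map_one' := by ext χ; simp
  map_mul' := by intro a b; ext χ; simp

theorem evHom_ker (s : Finset G) (hs : Dense ((Subgroup.closure (s : Set G) : Subgroup G) : Set G)) :
    (evHom (G := G) n).ker = powCommClosure G n := by
  ext g
  rw [MonoidHom.mem_ker, mem_iff n s hs]
  constructor
  · intro h χ hχ
    exact DFunLike.congr_fun h (⟨χ, hχ⟩ : ContChar G n)
  · intro h
    ext χ
    exact h χ.1 χ.2

theorem eq_of_quot_equiv (s : Finset G)
    (hs : Dense ((Subgroup.closure (s : Set G) : Subgroup G) : Set G))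
    (H : Subgroup G) [H.Normal] (hH : IsClosed (H : Set G))
    (e : G ⧸ H ≃* (ContChar G n →* Multiplicative (ZMod n))) : H = powCommClosure G n := by
  have hle : powCommClosure G n ≤ H := by
    refine powCommClosure_le n H hH ?_ ?_
    · intro g
      rw [← QuotientGroup.eq_one_iff, QuotientGroup.mk_pow]
      apply e.injective
      rw [map_pow, map_one]
      ext χ
      simp [zn_pow]
    · intro a b
      rw [← QuotientGroup.eq_one_iff]
      apply e.injective
      rw [map_one, commutatorElement_def, QuotientGroup.mk_mul, QuotientGroup.mk_mul,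
        QuotientGroup.mk_mul, QuotientGroup.mk_inv, QuotientGroup.mk_inv, map_mul, map_mul, map_mul,
        map_inv, map_inv]
      simp [mul_comm]
  have hsurj : Function.Surjective (evHom (G := G) n) := fun F => by
    obtain ⟨g, hg⟩ := eval_surj n s hs F
    exact ⟨g, by ext χ; exact (hg χ).symm⟩
  have e2 : G ⧸ (evHom (G := G) n).ker ≃* (ContChar G n →* Multiplicative (ZMod n)) :=
    QuotientGroup.quotientKerEquivOfSurjective _ hsurj
  have hidx : H.index = (powCommClosure G n).index := by
    rw [← evHom_ker n s hs, Subgroup.index_eq_card, Subgroup.index_eq_card]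
    exact Nat.card_congr (e.trans e2.symm).toEquiv
  have := finite_quot n s hs
  have hne : (powCommClosure G n).index ≠ 0 := by
    rw [Subgroup.index_eq_card]
    exact Nat.card_pos.ne'
  have hrel := Subgroup.relIndex_mul_index hle
  rw [hidx] at hrel
  have h1 : (powCommClosure G n).relIndex H = 1 := by
    have : (powCommClosure G n).relIndex H * (powCommClosure G n).index =
        1 * (powCommClosure G n).index := by rw [hrel, one_mul]
    exact Nat.eq_of_mul_eq_mul_right (Nat.pos_of_ne_zero hne) this
  exact le_antisymm (Subgroup.relIndex_eq_one.mp h1) hle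

end Main

end Top

end Groth.Agent.H2.ZnDual
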